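import Mathlib.AlgebraicGeometry.Morphisms.Separated
import Mathlib.AlgebraicGeometry.PullbackCarrier

set_option autoImplicit false
universe u
open CategoryTheory CategoryTheory.Limits AlgebraicGeometry

namespace Groth.Agent.Lib.Helper69

/-- If any two points of `X` with the same image in `S` lie in a common affine open of `X`, then
`X ⟶ S` is separated. -/
theorem isSeparated_of_forall_exists_isAffineOpen {X S : Scheme.{u}} (f : X ⟶ S)
    (h : ∀ x y : X, f.base x = f.base y → ∃ U : X.Opens, IsAffineOpen U ∧ x ∈ U ∧ y ∈ U) :
    IsSeparated f := by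
  constructor
  apply IsZariskiLocalAtTarget.of_forall_exists_morphismRestrict (P := @IsClosedImmersion)
  intro z
  have hxy : f.base ((pullback.fst f f).base z) = f.base ((pullback.snd f f).base z) := by
    rw [← Scheme.Hom.comp_apply, ← Scheme.Hom.comp_apply, pullback.condition]
  obtain ⟨U, hU, hxU, hyU⟩ := h _ _ hxy
  have : IsAffine U := hU
  let g : (U : Scheme.{u}) ⟶ S := U.ι ≫ f
  let j : pullback g g ⟶ pullback f f :=
    pullback.map g g f f U.ι U.ι (𝟙 S) (by simp [g]) (by simp [g])
  have hj : IsOpenImmersion j := inferInstance
  have hrange : Set.range j.base =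
      (pullback.fst f f).base ⁻¹' (U : Set X) ∩ (pullback.snd f f).base ⁻¹' (U : Set X) := by
    have := Scheme.Pullback.range_map (f := g) (g := g) f f U.ι U.ι (𝟙 S) (by simp [g]) (by simp [g])
    rw [Scheme.Opens.range_ι] at this
    exact this
  refine ⟨j.opensRange, ?_, ?_⟩
  · change z ∈ Set.range j.base
    rw [hrange]
    exact ⟨hxU, hyU⟩
  · rw [MorphismProperty.arrow_mk_iso_iff @IsClosedImmersion
      (morphismRestrictOpensRange (pullback.diagonal f) j)]
    have H : U.ι ≫ pullback.diagonal f = pullback.diagonal g ≫ j := by
      apply pullback.hom_ext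
      · simp only [Category.assoc, pullback.diagonal_fst, Category.comp_id, j]
        rw [pullback.lift_fst, ← Category.assoc, pullback.diagonal_fst, Category.id_comp]
      · simp only [Category.assoc, pullback.diagonal_snd, Category.comp_id, j]
        rw [pullback.lift_snd, ← Category.assoc, pullback.diagonal_snd, Category.id_comp]
    have H' : pullback.diagonal f ⁻¹ᵁ j.opensRange = U.ι.opensRange := by
      apply TopologicalSpace.Opens.ext
      rw [Scheme.Opens.opensRange_ι]
      change (pullback.diagonal f).base ⁻¹' (Set.range j.base) = (U : Set X)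
      rw [hrange]
      ext x
      simp only [Set.mem_preimage, Set.mem_inter_iff, ← Scheme.Hom.comp_apply,
        pullback.diagonal_fst, pullback.diagonal_snd]
      simp
    have sq : IsPullback (pullback.diagonal g) U.ι j (pullback.diagonal f) :=
      IsOpenImmersion.isPullback _ _ _ _ H H'
    have h3 := sq.flip.isoPullback_hom_snd
    rw [← MorphismProperty.cancel_left_of_respectsIso (P := @IsClosedImmersion)
      sq.flip.isoPullback.hom, h3]
    infer_instance

end Groth.Agent.Lib.Helper69
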