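import Groth.Agent.Lib.Helper69.UnivHomeo

set_option autoImplicit false
universe u
open CategoryTheory CategoryTheory.Limits AlgebraicGeometry

namespace Groth.Agent.Lib.Helper69

/-- Two `Y`-morphisms into an unramified (diagonal an open immersion, not necessarily separated)
`Y`-scheme that agree after precomposition with a surjective morphism agree. -/
theorem eq_of_comp_eq_of_surjective {T X Y W : Scheme.{u}} (p : X ⟶ Y)
    [IsOpenImmersion (pullback.diagonal p)]
    (f g : T ⟶ X) (h : f ≫ p = g ≫ p) (ξ : W ⟶ T) [Surjective ξ]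
    (hξ : ξ ≫ f = ξ ≫ g) : f = g := by
  let X' : Over Y := Over.mk (f ≫ p)
  let Y' : Over Y := Over.mk p
  let U' : Over Y := Over.mk (ξ ≫ f ≫ p)
  let f' : X' ⟶ Y' := Over.homMk f
  let g' : X' ⟶ Y' := Over.homMk g h.symm
  let ξ' : U' ⟶ X' := Over.homMk ξ
  have : IsOpenImmersion (pullback.diagonal Y'.hom) := ‹_›
  have hopen : IsOpenImmersion (equalizer.ι f' g').left := isOpenImmersion_equalizer_ι_left f' g'
  have hfac : (equalizer.lift ξ' (by ext1; exact hξ) : U' ⟶ equalizer f' g').left ≫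
      (equalizer.ι f' g').left = ξ := by
    rw [← Over.comp_left, equalizer.lift_ι]; rfl
  have hsurj : Function.Surjective (equalizer.ι f' g').left := by
    intro t
    obtain ⟨w, rfl⟩ := ξ.surjective t
    refine ⟨(equalizer.lift ξ' (by ext1; exact hξ) : U' ⟶ equalizer f' g').left w, ?_⟩
    rw [← Scheme.Hom.comp_apply, hfac]
  have : IsIso (equalizer.ι f' g').left :=
    (isIso_iff_isOpenImmersion_and_surjective _).mpr ⟨hopen, ⟨hsurj⟩⟩
  rw [← cancel_epi (equalizer.ι f' g').left]
  exact congr($(equalizer.condition f' g').left)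

/-- Plain-scheme form of the equalizer of two `Y`-morphisms into an unramified
`Y`-scheme (not necessarily separated): it is an open subscheme of the source. -/
theorem exists_open_equalizer {T X Y : Scheme.{u}} (p : X ⟶ Y)
    [IsOpenImmersion (pullback.diagonal p)] (f g : T ⟶ X) (h : f ≫ p = g ≫ p) :
    ∃ (E : Scheme.{u}) (ι : E ⟶ T), IsOpenImmersion ι ∧ ι ≫ f = ι ≫ g ∧
      ∀ (W : Scheme.{u}) (z : W ⟶ T), z ≫ f = z ≫ g → ∃ z' : W ⟶ E, z' ≫ ι = z := by
  let X' : Over Y := Over.mk (f ≫ p)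
  let Y' : Over Y := Over.mk p
  let f' : X' ⟶ Y' := Over.homMk f
  let g' : X' ⟶ Y' := Over.homMk g h.symm
  have : IsOpenImmersion (pullback.diagonal Y'.hom) := ‹_›
  refine ⟨(equalizer f' g').left, (equalizer.ι f' g').left,
    isOpenImmersion_equalizer_ι_left f' g',
    congr($(equalizer.condition f' g').left), ?_⟩
  intro W z hz
  let U' : Over Y := Over.mk (z ≫ f ≫ p)
  let z' : U' ⟶ X' := Over.homMk z
  refine ⟨(equalizer.lift z' (by ext1; exact hz) : U' ⟶ equalizer f' g').left, ?_⟩
  rw [← Over.comp_left, equalizer.lift_ι]; rfl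

/-- Topological invariance of étale morphisms, morphism part: if `q : T' ⟶ T` is a universal
homeomorphism (integral, universally injective, surjective) and `B` is étale over
`Y` (not necessarily separated), every `Y`-morphism `T' ⟶ B` descends uniquely to `T`. Existence part. -/
theorem exists_desc_of_universalHomeo' {T T' B Y : Scheme.{u}} (q : T' ⟶ T) [IsIntegralHom q]
    [UniversallyInjective q] [Surjective q]
    (b : B ⟶ Y) [Etale b] (a : T ⟶ Y) (u : T' ⟶ B) (hu : u ≫ b = q ≫ a) :
    ∃ φ : T ⟶ B, φ ≫ b = a ∧ q ≫ φ = u := by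
  -- P = T ×_Y B
  let π : pullback a b ⟶ T := pullback.fst a b
  let prB : pullback a b ⟶ B := pullback.snd a b
  -- P' = T' ×_T P
  let π' : pullback q π ⟶ T' := pullback.fst q π
  let r : pullback q π ⟶ pullback a b := pullback.snd q π
  have hrinj : UniversallyInjective r := MorphismProperty.of_isPullback (P := @UniversallyInjective) (IsPullback.of_hasPullback q π) ‹_›
  have hrsurj : Surjective r := inferInstance
  have hrint : IsIntegralHom r := inferInstance
  have hsq : π' ≫ q = r ≫ π := pullback.condition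
  have hsq2 : π ≫ a = prB ≫ b := pullback.condition
  have hcomp : (r ≫ prB) ≫ b = (π' ≫ u) ≫ b := by
    rw [Category.assoc, ← hsq2, ← Category.assoc, ← hsq, Category.assoc, Category.assoc, hu]
  obtain ⟨E, ι, hιo, hιeq, hιlift⟩ := exists_open_equalizer b (r ≫ prB) (π' ≫ u) hcomp
  -- the section
  let σ' : T' ⟶ pullback q π := pullback.lift (𝟙 T') (pullback.lift q u hu.symm)
    (by rw [Category.id_comp]; exact (pullback.lift_fst _ _ _).symm)
  have hσπ' : σ' ≫ π' = 𝟙 T' := pullback.lift_fst _ _ _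
  have hσr : σ' ≫ r = pullback.lift q u hu.symm := pullback.lift_snd _ _ _
  have hσrB : σ' ≫ r ≫ prB = u := by
    rw [← Category.assoc, hσr]; exact pullback.lift_snd _ _ _
  have hσrπ : σ' ≫ r ≫ π = q := by
    rw [← Category.assoc, hσr]; exact pullback.lift_fst _ _ _
  have hσ' : σ' ≫ (r ≫ prB) = σ' ≫ (π' ≫ u) := by
    rw [hσrB, ← Category.assoc, hσπ', Category.id_comp]
  obtain ⟨σ'', hσ''⟩ := hιlift T' σ' hσ'
  -- Γ
  have hΓopen : IsOpen (r.base '' (Set.range ι.base)) := by
    have hbij : Function.Bijective r.base := ⟨r.injective, r.surjective⟩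
    have h1 : IsClosed (r.base '' (Set.range ι.base)ᶜ) :=
      r.isClosedMap _ ι.isOpenEmbedding.isOpen_range.isClosed_compl
    rw [Set.image_compl_eq hbij] at h1
    exact isClosed_compl_iff.mp h1
  let Γ : (pullback a b).Opens := ⟨r.base '' (Set.range ι.base), hΓopen⟩
  let γ : (Γ : Scheme.{u}) ⟶ T := Γ.ι ≫ π
  -- τ : T' → Γ
  have hτrange : Set.range (σ' ≫ r).base ⊆ Set.range Γ.ι.base := by
    rintro _ ⟨t', rfl⟩
    rw [Scheme.Opens.range_ι]
    refine ⟨ι.base (σ''.base t'), ⟨_, rfl⟩, ?_⟩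
    rw [← hσ'']
    rfl
  let τ : T' ⟶ (Γ : Scheme.{u}) := IsOpenImmersion.lift Γ.ι (σ' ≫ r) hτrange
  have hτ : τ ≫ Γ.ι = σ' ≫ r := IsOpenImmersion.lift_fac _ _ _
  have hτγ : τ ≫ γ = q := by
    rw [← Category.assoc, hτ, Category.assoc, hσrπ]
  have hγsurj : Surjective γ := by
    constructor
    intro t
    obtain ⟨t', rfl⟩ := q.surjective t
    refine ⟨τ.base t', ?_⟩
    rw [← Scheme.Hom.comp_apply, hτγ]
  have hγmono : Mono γ := by
    constructor
    intro W w1 w2 hw
    obtain ⟨wT, hwT⟩ : ∃ wT : W ⟶ T, wT = w1 ≫ γ := ⟨_, rfl⟩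
    have hwT2 : wT = w2 ≫ γ := hwT.trans hw
    let pr : pullback wT q ⟶ W := pullback.fst wT q
    let c : pullback wT q ⟶ T' := pullback.snd wT q
    have hprc : pr ≫ wT = c ≫ q := pullback.condition
    have key : ∀ w : W ⟶ (Γ : Scheme.{u}), wT = w ≫ γ → pr ≫ w ≫ Γ.ι ≫ prB = c ≫ u := by
      intro w hw'
      have hzc : c ≫ q = (pr ≫ w ≫ Γ.ι) ≫ π := by
        calc c ≫ q = pr ≫ wT := hprc.symm
          _ = pr ≫ (w ≫ γ) := congrArg (pr ≫ ·) hw'
          _ = (pr ≫ w ≫ Γ.ι) ≫ π := by simp only [γ, Category.assoc]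
      let z : pullback wT q ⟶ pullback q π := pullback.lift c (pr ≫ w ≫ Γ.ι) hzc
      have hzπ' : z ≫ π' = c := pullback.lift_fst _ _ _
      have hzr : z ≫ r = pr ≫ w ≫ Γ.ι := pullback.lift_snd _ _ _
      have hz : Set.range z.base ⊆ Set.range ι.base := by
        rintro _ ⟨w', rfl⟩
        have h1 : r.base (z.base w') ∈ r.base '' (Set.range ι.base) := by
          have h2 : r.base (z.base w') = Γ.ι.base (w.base (pr.base w')) := by
            rw [← Scheme.Hom.comp_apply, hzr]; rfl
          rw [h2]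
          exact (w.base (pr.base w')).2
        obtain ⟨e, he, hre⟩ := h1
        rwa [← r.injective hre]
      have hfac : IsOpenImmersion.lift ι z hz ≫ ι = z := IsOpenImmersion.lift_fac _ _ _
      calc pr ≫ w ≫ Γ.ι ≫ prB = z ≫ r ≫ prB := by
            rw [← Category.assoc z, hzr]; simp only [Category.assoc]
        _ = IsOpenImmersion.lift ι z hz ≫ ι ≫ r ≫ prB := by rw [← Category.assoc _ ι, hfac]
        _ = IsOpenImmersion.lift ι z hz ≫ ι ≫ π' ≫ u := by rw [hιeq]
        _ = z ≫ π' ≫ u := by rw [← Category.assoc _ ι, hfac]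
        _ = c ≫ u := by rw [← Category.assoc, hzπ']
    have h1 : pr ≫ w1 = pr ≫ w2 := by
      rw [← cancel_mono Γ.ι]
      apply pullback.hom_ext
      · have : (pr ≫ w1) ≫ γ = (pr ≫ w2) ≫ γ := by rw [Category.assoc, Category.assoc, hw]
        simpa only [γ, Category.assoc] using this
      · have e1 := key w1 hwT
        have e2 := key w2 hwT2
        simp only [Category.assoc]
        exact e1.trans e2.symm
    exact eq_of_comp_eq_of_surjective γ w1 w2 hw pr h1
  have hγoi : IsOpenImmersion γ := IsOpenImmersion.of_flat_of_mono γ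
  have hγiso : IsIso γ := (isIso_iff_isOpenImmersion_and_surjective _).mpr ⟨hγoi, hγsurj⟩
  refine ⟨inv γ ≫ Γ.ι ≫ prB, ?_, ?_⟩
  · rw [Category.assoc, Category.assoc, ← hsq2, IsIso.inv_comp_eq]
    exact (Category.assoc _ _ _).symm
  · have : q ≫ inv γ = τ := by rw [← hτγ, Category.assoc, IsIso.hom_inv_id, Category.comp_id]
    rw [← Category.assoc, this, ← Category.assoc, hτ, Category.assoc, hσrB]

end Groth.Agent.Lib.Helper69
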