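import Mathlib

set_option autoImplicit false
universe u
open CategoryTheory AlgebraicGeometry TopologicalSpace

namespace Groth.Agent.Lib.Helper69


section alg
variable {R A R' A' : Type*} [CommRing R] [CommRing A] [CommRing R'] [CommRing A']
  [Algebra R R'] [Algebra A A']

theorem algebraMap_mem_range_of_closure_eq_top (φ : R →+* A) (ψ : R' →+* A')
    (hψ : ψ.comp (algebraMap R R') = (algebraMap A A').comp φ) (G : Set A)
    (hG : Subring.closure (Set.range φ ∪ G) = ⊤)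
    (h : ∀ g ∈ G, algebraMap A A' g ∈ ψ.range) (a : A) : algebraMap A A' a ∈ ψ.range := by
  have : (⊤ : Subring A) ≤ ψ.range.comap (algebraMap A A') := by
    rw [← hG, Subring.closure_le]
    rintro x (⟨r, rfl⟩ | hx)
    · exact ⟨algebraMap R R' r, RingHom.congr_fun hψ r⟩
    · exact h x hx
  exact this trivial

theorem algebraMap_mem_range_of_mul_eq_zero (φ : R →+* A) (ψ : R' →+* A')
    (hψ : ψ.comp (algebraMap R R') = (algebraMap A A').comp φ) {g : A} {b s : R} {t : A}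
    (h : t * (φ s * g - φ b) = 0) (hs : IsUnit (algebraMap R R' s))
    (ht : IsUnit (algebraMap A A' t)) : algebraMap A A' g ∈ ψ.range := by
  have h1 : algebraMap A A' (φ s) * algebraMap A A' g = algebraMap A A' (φ b) := by
    have := congrArg (algebraMap A A') h
    rw [map_mul, map_zero, map_sub, map_mul] at this
    exact sub_eq_zero.mp (ht.mul_right_eq_zero.mp this)
  have e : ∀ r, algebraMap A A' (φ r) = ψ (algebraMap R R' r) :=
    fun r => (RingHom.congr_fun hψ r).symm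
  obtain ⟨v, hv⟩ := hs
  refine ⟨↑v⁻¹ * algebraMap R R' b, ?_⟩
  rw [map_mul, ← e b, ← h1, e s, ← hv, ← mul_assoc, ← map_mul, Units.inv_mul, map_one, one_mul]

theorem algebraMap_mem_range_away (φ : R →+* A) (G : Finset A)
    (hG : Subring.closure (Set.range φ ∪ (G : Set A)) = ⊤) (b s : A → R) (t : A → A)
    (h : ∀ g ∈ G, t g * (φ (s g) * g - φ (b g)) = 0) (s₀ : R) (u : A)
    [IsLocalization.Away s₀ R'] [IsLocalization.Away u A'] (ψ : R' →+* A')
    (hψ : ψ.comp (algebraMap R R') = (algebraMap A A').comp φ)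
    (hs₀ : ∀ g ∈ G, s g ∣ s₀) (hu : ∀ g ∈ G, t g ∣ u) (a : A) :
    algebraMap A A' a ∈ ψ.range := by
  refine algebraMap_mem_range_of_closure_eq_top φ ψ hψ G hG (fun g hg => ?_) a
  refine algebraMap_mem_range_of_mul_eq_zero φ ψ hψ (h g hg) ?_ ?_
  · exact isUnit_of_dvd_unit (map_dvd (algebraMap R R') (hs₀ g hg))
      (IsLocalization.Away.algebraMap_isUnit s₀)
  · exact isUnit_of_dvd_unit (map_dvd (algebraMap A A') (hu g hg))
      (IsLocalization.Away.algebraMap_isUnit u)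

theorem exists_finset_closure_eq_top_of_finiteType (φ : R →+* A) (hφ : φ.FiniteType) :
    ∃ G : Finset A, Subring.closure (Set.range φ ∪ (G : Set A)) = ⊤ := by
  let _ := φ.toAlgebra
  obtain ⟨G, hG⟩ := (hφ : Algebra.FiniteType R A).out
  refine ⟨G, ?_⟩
  have := Algebra.adjoin_eq_ring_closure (R := R) (G : Set A)
  rw [hG, Algebra.top_toSubring] at this
  exact this.symm

end alg


theorem exists_surjective_away_of_surjective_localRingHom {R A : Type u} [CommRing R] [CommRing A]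
    (φ : R →+* A) (hφ : φ.FiniteType) (p : Ideal A) [p.IsPrime] (q : Ideal R) [q.IsPrime]
    (hq : q = p.comap φ) (hsurj : Function.Surjective (Localization.localRingHom q p φ hq)) :
    ∃ (s : R) (t : A), s ∉ q ∧ t ∉ p ∧ ∀ (R' A' : Type u) [CommRing R'] [CommRing A']
      [Algebra R R'] [Algebra A A'] [IsLocalization.Away s R'] [IsLocalization.Away (φ s * t) A']
      (ψ : R' →+* A'), ψ.comp (algebraMap R R') = (algebraMap A A').comp φ →
      Function.Surjective ψ := by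
  classical
  have key : ∀ a : A, ∃ (b s : R) (t : A), s ∉ q ∧ t ∉ p ∧ t * (φ s * a - φ b) = 0 := by
    intro a
    obtain ⟨β, hβ⟩ := hsurj (algebraMap A (Localization.AtPrime p) a)
    obtain ⟨b, ⟨s, hs⟩, rfl⟩ := IsLocalization.exists_mk'_eq q.primeCompl β
    rw [Localization.localRingHom_mk', IsLocalization.mk'_eq_iff_eq_mul, ← map_mul,
      IsLocalization.eq_iff_exists p.primeCompl] at hβ
    obtain ⟨⟨t, ht⟩, h⟩ := hβ
    refine ⟨b, s, t, hs, ht, ?_⟩
    simp only at h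
    rw [mul_sub, mul_comm (φ s) a, ← h, sub_self]
  choose b s t hs ht h using key
  obtain ⟨G, hG⟩ := exists_finset_closure_eq_top_of_finiteType φ hφ
  have hφq : ∀ r, r ∉ q → φ r ∉ p := fun r hr hr' => hr (hq ▸ hr')
  set s' := ∏ g ∈ G, s g with hs'def
  set t' := ∏ g ∈ G, t g with ht'def
  have hs' : s' ∉ q := fun hmem => by
    obtain ⟨g, -, hg'⟩ := (Ideal.IsPrime.prod_mem_iff).mp hmem
    exact hs g hg'
  have ht' : t' ∉ p := fun hmem => by
    obtain ⟨g, -, hg'⟩ := (Ideal.IsPrime.prod_mem_iff).mp hmem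
    exact ht g hg'
  have hdvds : ∀ g ∈ G, s g ∣ s' := fun g hg => Finset.dvd_prod_of_mem s hg
  have hdvdt : ∀ g ∈ G, t g ∣ t' := fun g hg => Finset.dvd_prod_of_mem t hg
  -- Stage 1
  let R₁ := Localization.Away s'
  let A₁ := Localization.Away (φ s' * t')
  have hunit₁ : IsUnit (((algebraMap A A₁).comp φ) s') :=
    isUnit_of_dvd_unit (map_dvd (algebraMap A A₁) (dvd_mul_right (φ s') t'))
      (IsLocalization.Away.algebraMap_isUnit (φ s' * t'))
  let ψ₁ : R₁ →+* A₁ := IsLocalization.Away.lift s' hunit₁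
  have hψ₁ : ψ₁.comp (algebraMap R R₁) = (algebraMap A A₁).comp φ :=
    IsLocalization.Away.lift_comp s' hunit₁
  obtain ⟨ρ, hρ⟩ := algebraMap_mem_range_away φ G hG b s t (fun g _ => h g) s' (φ s' * t') ψ₁ hψ₁
    hdvds (fun g hg => (hdvdt g hg).trans (dvd_mul_left _ _)) t'
  obtain ⟨k, β, hβ⟩ := IsLocalization.Away.surj s' ρ
  have e₁ : ∀ r, algebraMap A A₁ (φ r) = ψ₁ (algebraMap R R₁ r) :=
    fun r => (RingHom.congr_fun hψ₁ r).symm
  have h1 : algebraMap A A₁ (t' * φ s' ^ k) = algebraMap A A₁ (φ β) := by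
    rw [map_mul, map_pow, e₁, e₁, ← hβ, map_mul, map_pow, hρ]
  obtain ⟨⟨_, m, rfl⟩, hc⟩ := (IsLocalization.eq_iff_exists (Submonoid.powers (φ s' * t')) A₁).mp h1
  simp only at hc
  have hβq : β ∉ q := by
    intro hβq
    have h2 : φ β ∈ p := by rw [hq] at hβq; exact hβq
    have h3 : (φ s' * t') ^ m * (t' * φ s' ^ k) ∈ p := by
      rw [hc]; exact p.mul_mem_left _ h2
    have hφs' : φ s' ∉ p := hφq s' hs'
    rcases ‹p.IsPrime›.mem_or_mem h3 with h4 | h4
    · rcases ‹p.IsPrime›.mem_or_mem (‹p.IsPrime›.mem_of_pow_mem m h4) with h5 | h5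
      · exact hφs' h5
      · exact ht' h5
    · rcases ‹p.IsPrime›.mem_or_mem h4 with h5 | h5
      · exact ht' h5
      · exact hφs' (‹p.IsPrime›.mem_of_pow_mem k h5)
  -- Stage 2
  refine ⟨s' * β, t', fun hmem => ?_, ht', ?_⟩
  · rcases ‹q.IsPrime›.mem_or_mem hmem with h5 | h5
    · exact hs' h5
    · exact hβq h5
  intro R' A' _ _ _ _ _ _ ψ hψ
  have hA := algebraMap_mem_range_away φ G hG b s t (fun g _ => h g) (s' * β) (φ (s' * β) * t') ψ hψ
    (fun g hg => (hdvds g hg).trans (dvd_mul_right _ _))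
    (fun g hg => (hdvdt g hg).trans (dvd_mul_left _ _))
  have e : ∀ r, algebraMap A A' (φ r) = ψ (algebraMap R R' r) :=
    fun r => (RingHom.congr_fun hψ r).symm
  have hu_s' : IsUnit (algebraMap R R' s') :=
    isUnit_of_dvd_unit (map_dvd _ (dvd_mul_right s' β))
      (IsLocalization.Away.algebraMap_isUnit (s' * β))
  have hu_β : IsUnit (algebraMap R R' β) :=
    isUnit_of_dvd_unit (map_dvd _ (dvd_mul_left β s'))
      (IsLocalization.Away.algebraMap_isUnit (s' * β))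
  have hu_u : IsUnit (algebraMap A A' (φ s' * t')) := by
    refine isUnit_of_dvd_unit (map_dvd _ ?_)
      (IsLocalization.Away.algebraMap_isUnit (φ (s' * β) * t'))
    exact ⟨φ β, by rw [map_mul]; ring⟩
  have e1 : algebraMap A A' t' * algebraMap A A' (φ s') ^ k = algebraMap A A' (φ β) := by
    have := congrArg (algebraMap A A') hc
    simp only [map_mul, map_pow] at this
    rw [← map_pow, ← map_mul] at this
    exact (hu_u.pow m).mul_left_cancel (by simpa only [map_mul, map_pow] using this)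
  obtain ⟨σ, hσ⟩ := hu_s'
  obtain ⟨βu, hβu⟩ := hu_β
  have e2 : algebraMap A A' t' = ψ ((βu * σ⁻¹ ^ k : R'ˣ) : R') := by
    rw [e, e, ← hσ, ← hβu] at e1
    rw [Units.val_mul, map_mul, ← e1, Units.val_pow_eq_pow_val, map_pow, mul_assoc, ← mul_pow,
      ← map_mul, Units.mul_inv, map_one, one_pow, mul_one]
  have e3 : ψ (((σ * βu) * (βu * σ⁻¹ ^ k) : R'ˣ) : R') = algebraMap A A' (φ (s' * β) * t') := by
    rw [map_mul (algebraMap A A'), e2, e, map_mul (algebraMap R R'), ← hσ, ← hβu]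
    simp only [Units.val_mul, map_mul]
  intro z
  obtain ⟨N, a, hz⟩ := IsLocalization.Away.surj (φ (s' * β) * t') z
  obtain ⟨y, hy⟩ := hA a
  set ω : R'ˣ := (σ * βu) * (βu * σ⁻¹ ^ k) with hω
  refine ⟨y * ((ω⁻¹ ^ N : R'ˣ) : R'), ?_⟩
  rw [map_mul, hy, ← hz, ← e3, mul_assoc, ← map_pow, ← map_mul, Units.val_pow_eq_pow_val,
    ← mul_pow, Units.mul_inv, one_pow, map_one, mul_one]


theorem mem_basicOpen_iff_notMem_primeIdealOf {X : Scheme.{u}} {U : X.Opens} (hU : IsAffineOpen U)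
    (x : X) (hx : x ∈ U) (t : Γ(X, U)) :
    x ∈ X.basicOpen t ↔ t ∉ (hU.primeIdealOf ⟨x, hx⟩).asIdeal := by
  have h1 : hU.fromSpec (hU.primeIdealOf ⟨x, hx⟩) = x := hU.fromSpec_primeIdealOf ⟨x, hx⟩
  have h2 := hU.fromSpec_preimage_basicOpen t
  constructor
  · intro hxt
    have : hU.primeIdealOf ⟨x, hx⟩ ∈ hU.fromSpec ⁻¹ᵁ X.basicOpen t := by
      change hU.fromSpec (hU.primeIdealOf ⟨x, hx⟩) ∈ X.basicOpen t
      rw [h1]; exact hxt
    rw [h2] at this
    exact this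
  · intro hxt
    have : hU.primeIdealOf ⟨x, hx⟩ ∈ hU.fromSpec ⁻¹ᵁ X.basicOpen t := by
      rw [h2]; exact hxt
    have h3 : hU.fromSpec (hU.primeIdealOf ⟨x, hx⟩) ∈ X.basicOpen t := this
    rwa [h1] at h3

set_option backward.isDefEq.respectTransparency.types false in
theorem exists_isClosedImmersion_resLE_of_surjective_stalkMap {X Y : Scheme.{u}} (f : X ⟶ Y)
    [LocallyOfFiniteType f] (x : X) (hx : Function.Surjective (f.stalkMap x)) :
    ∃ (U : X.Opens) (V : Y.Opens) (h : U ≤ f ⁻¹ᵁ V), x ∈ U ∧ IsAffineOpen U ∧ IsAffineOpen V ∧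
      Function.Surjective (f.appLE V U h) ∧ IsClosedImmersion (f.resLE V U h) := by
  obtain ⟨_, ⟨V₀, hV₀ : IsAffineOpen V₀, rfl⟩, hxV₀, -⟩ :=
    Y.isBasis_affineOpens.exists_subset_of_mem_open (Set.mem_univ (f.base x)) isOpen_univ
  obtain ⟨_, ⟨U₀, hU₀ : IsAffineOpen U₀, rfl⟩, hxU₀, h₀⟩ :=
    X.isBasis_affineOpens.exists_subset_of_mem_open
      (show x ∈ ((f ⁻¹ᵁ V₀ : X.Opens) : Set X) from hxV₀) (f ⁻¹ᵁ V₀).2
  have h₀' : U₀ ≤ f ⁻¹ᵁ V₀ := h₀
  have hφ : (f.appLE V₀ U₀ h₀').hom.FiniteType :=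
    HasRingHomProperty.appLE (P := @LocallyOfFiniteType) f inferInstance ⟨V₀, hV₀⟩ ⟨U₀, hU₀⟩ h₀'
  have hq := congr($(IsAffineOpen.comap_primeIdealOf_appLE V₀ hV₀ U₀ hU₀ h₀' hxU₀).1).symm
  have e := IsAffineOpen.arrowStalkMapIso f V₀ hV₀ U₀ hU₀ h₀' hxU₀
  have hsurj := (RingHom.surjective_respectsIso.arrow_mk_iso_iff e).mp hx
  obtain ⟨s, t, hs, ht, H⟩ := exists_surjective_away_of_surjective_localRingHom
    (f.appLE V₀ U₀ h₀').hom hφ _ _ hq hsurj
  have hUV : X.basicOpen ((f.appLE V₀ U₀ h₀').hom s * t) ≤ f ⁻¹ᵁ Y.basicOpen s := by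
    rw [Scheme.basicOpen_mul]
    refine inf_le_left.trans ?_
    have := Scheme.basicOpen_appLE f U₀ V₀ h₀' s
    rw [show (f.appLE V₀ U₀ h₀').hom s = f.appLE V₀ U₀ h₀' s from rfl, this]
    exact inf_le_right
  have hVaff : IsAffineOpen (Y.basicOpen s) := hV₀.basicOpen s
  have hUaff : IsAffineOpen (X.basicOpen ((f.appLE V₀ U₀ h₀').hom s * t)) := hU₀.basicOpen _
  have hxU : x ∈ X.basicOpen ((f.appLE V₀ U₀ h₀').hom s * t) := by
    rw [mem_basicOpen_iff_notMem_primeIdealOf hU₀ x hxU₀]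
    intro hmem
    rcases (hU₀.primeIdealOf ⟨x, hxU₀⟩).2.mem_or_mem hmem with h5 | h5
    · exact hs (hq ▸ h5)
    · exact ht h5
  haveI := hV₀.isLocalization_basicOpen s
  haveI := hU₀.isLocalization_basicOpen ((f.appLE V₀ U₀ h₀').hom s * t)
  have hψ := H Γ(Y, Y.basicOpen s) Γ(X, X.basicOpen ((f.appLE V₀ U₀ h₀').hom s * t))
    (f.appLE (Y.basicOpen s) _ hUV).hom (by
      ext a
      simp only [RingHom.comp_apply, RingHom.algebraMap_toAlgebra]
      rw [← CommRingCat.comp_apply, ← CommRingCat.comp_apply, Scheme.Hom.map_appLE,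
        Scheme.Hom.appLE_map])
  refine ⟨_, _, hUV, hxU, hUaff, hVaff, hψ, ?_⟩
  haveI : IsAffine (Y.basicOpen s : Scheme) := hVaff
  haveI : IsAffine (X.basicOpen ((f.appLE V₀ U₀ h₀').hom s * t) : Scheme) := hUaff
  apply IsClosedImmersion.of_surjective_of_isAffine
  exact (RingHom.surjective_respectsIso.arrow_mk_iso_iff (arrowResLEAppIso f _ _ hUV)).mpr hψ

end Groth.Agent.Lib.Helper69
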