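import Mathlib
import Groth.Agent.Lib.Helper69.LocalImm

set_option autoImplicit false
universe u
open CategoryTheory AlgebraicGeometry TopologicalSpace

namespace Groth.Agent.Lib.Helper69

theorem exists_injective_away_of_injective_localRingHom {R A : Type u} [CommRing R] [CommRing A]
    (ψ : R →+* A) (hker : (RingHom.ker ψ).FG) (p : Ideal A) [p.IsPrime] (q : Ideal R) [q.IsPrime]
    (hq : q = p.comap ψ) (hinj : Function.Injective (Localization.localRingHom q p ψ hq)) :
    ∃ r : R, r ∉ q ∧ ∀ (R' A' : Type u) [CommRing R'] [CommRing A'] [Algebra R R'] [Algebra A A']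
      [IsLocalization.Away r R'] [IsLocalization.Away (ψ r) A'] (ψ' : R' →+* A'),
      ψ'.comp (algebraMap R R') = (algebraMap A A').comp ψ → Function.Injective ψ' := by
  classical
  obtain ⟨K, hK⟩ := hker
  have h1 : ∀ k ∈ K, ∃ r : R, r ∉ q ∧ r * k = 0 := by
    intro k hk
    have hk' : ψ k = 0 := by
      have : k ∈ RingHom.ker ψ := hK ▸ Ideal.subset_span hk
      exact this
    have h2 : algebraMap R (Localization.AtPrime q) k = 0 := by
      apply hinj
      rw [Localization.localRingHom_to_map, hk', map_zero, map_zero]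
    obtain ⟨⟨m, hm⟩, hmk⟩ := (IsLocalization.map_eq_zero_iff q.primeCompl _ k).mp h2
    exact ⟨m, hm, hmk⟩
  choose! r hr hrk using h1
  refine ⟨∏ k ∈ K, r k, fun hmem => ?_, ?_⟩
  · obtain ⟨k, hk, hk'⟩ := (Ideal.IsPrime.prod_mem_iff).mp hmem
    exact hr k hk hk'
  intro R' A' _ _ _ _ _ _ ψ' hψ'
  set r₀ := ∏ k ∈ K, r k with hr₀
  have hle : RingHom.ker ψ ≤ RingHom.ker (algebraMap R R') := by
    rw [← hK, Ideal.span_le]
    intro k hk
    have h3 : r₀ * k = 0 := by
      rw [hr₀, ← Finset.prod_erase_mul K r hk, mul_assoc, hrk k hk, mul_zero]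
    have h4 : algebraMap R R' r₀ * algebraMap R R' k = 0 := by rw [← map_mul, h3, map_zero]
    exact ((IsLocalization.Away.algebraMap_isUnit (S := R') r₀).mul_right_eq_zero).mp h4
  rw [injective_iff_map_eq_zero]
  intro z hz
  obtain ⟨n, b, hb⟩ := IsLocalization.Away.surj r₀ z
  have h5 : algebraMap A A' (ψ b) = algebraMap A A' 0 := by
    have := RingHom.congr_fun hψ' b
    simp only [RingHom.comp_apply] at this
    rw [← this, ← hb, map_mul, hz, zero_mul, map_zero]
  obtain ⟨m, hm⟩ := IsLocalization.Away.exists_of_eq (ψ r₀) h5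
  have h6 : r₀ ^ m * b ∈ RingHom.ker ψ := by
    change ψ (r₀ ^ m * b) = 0
    rw [map_mul, map_pow, hm, mul_zero]
  have h7 : algebraMap R R' r₀ ^ m * algebraMap R R' b = 0 := by
    have := hle h6
    rwa [RingHom.mem_ker, map_mul, map_pow] at this
  have h8 : algebraMap R R' b = 0 :=
    (((IsLocalization.Away.algebraMap_isUnit (S := R') r₀).pow m).mul_right_eq_zero).mp h7
  rw [h8] at hb
  exact (((IsLocalization.Away.algebraMap_isUnit (S := R') r₀).pow n).mul_left_eq_zero).mp hb

theorem surjective_away_of_surjective {R A R' A' : Type*} [CommRing R] [CommRing A] [CommRing R']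
    [CommRing A'] [Algebra R R'] [Algebra A A'] (ψ : R →+* A) (hψs : Function.Surjective ψ) (r : R)
    [IsLocalization.Away r R'] [IsLocalization.Away (ψ r) A'] (ψ' : R' →+* A')
    (hψ' : ψ'.comp (algebraMap R R') = (algebraMap A A').comp ψ) : Function.Surjective ψ' := by
  intro z
  obtain ⟨n, a, ha⟩ := IsLocalization.Away.surj (ψ r) z
  obtain ⟨b, rfl⟩ := hψs a
  have e : ∀ c, algebraMap A A' (ψ c) = ψ' (algebraMap R R' c) :=
    fun c => (RingHom.congr_fun hψ' c).symm
  obtain ⟨v, hv⟩ := IsLocalization.Away.algebraMap_isUnit (S := R') r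
  refine ⟨algebraMap R R' b * ((v⁻¹ ^ n : R'ˣ) : R'), ?_⟩
  rw [e, e, ← hv] at ha
  rw [map_mul, ← ha, mul_assoc, ← map_pow, ← map_mul, Units.val_pow_eq_pow_val, ← mul_pow,
    Units.mul_inv, one_pow, map_one, mul_one]

set_option backward.isDefEq.respectTransparency.types false in
theorem exists_isIso_resLE_of_injective_stalkMap {X Y : Scheme.{u}} (f : X ⟶ Y)
    (U : X.Opens) (V : Y.Opens) (hU : IsAffineOpen U) (hV : IsAffineOpen V) (h : U ≤ f ⁻¹ᵁ V)
    (x : X) (hxU : x ∈ U) (hs : Function.Surjective (f.appLE V U h))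
    (hker : (RingHom.ker (f.appLE V U h).hom).FG) (hinj : Function.Injective (f.stalkMap x)) :
    ∃ (U' : X.Opens) (V' : Y.Opens) (h' : U' ≤ f ⁻¹ᵁ V'), x ∈ U' ∧ U' ≤ U ∧ V' ≤ V ∧
      IsAffineOpen U' ∧ IsAffineOpen V' ∧ IsIso (f.resLE V' U' h') := by
  have hq := congr($(IsAffineOpen.comap_primeIdealOf_appLE V hV U hU h hxU).1).symm
  have e := IsAffineOpen.arrowStalkMapIso f V hV U hU h hxU
  have hinj' := (RingHom.injective_respectsIso.arrow_mk_iso_iff e).mp hinj
  obtain ⟨r, hr, H⟩ := exists_injective_away_of_injective_localRingHom (f.appLE V U h).hom hker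
    _ _ hq hinj'
  have hUV : X.basicOpen ((f.appLE V U h).hom r) ≤ f ⁻¹ᵁ Y.basicOpen r := by
    have := Scheme.basicOpen_appLE f U V h r
    rw [show (f.appLE V U h).hom r = f.appLE V U h r from rfl, this]
    exact inf_le_right
  have hVaff : IsAffineOpen (Y.basicOpen r) := hV.basicOpen r
  have hUaff : IsAffineOpen (X.basicOpen ((f.appLE V U h).hom r)) := hU.basicOpen _
  have hxU' : x ∈ X.basicOpen ((f.appLE V U h).hom r) := by
    rw [mem_basicOpen_iff_notMem_primeIdealOf hU x hxU]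
    intro hmem
    exact hr (hq ▸ hmem)
  haveI := hV.isLocalization_basicOpen r
  haveI := hU.isLocalization_basicOpen ((f.appLE V U h).hom r)
  have hcompat : (f.appLE (Y.basicOpen r) _ hUV).hom.comp (algebraMap Γ(Y, V) Γ(Y, Y.basicOpen r)) =
      (algebraMap Γ(X, U) Γ(X, X.basicOpen ((f.appLE V U h).hom r))).comp (f.appLE V U h).hom := by
    ext a
    simp only [RingHom.comp_apply, RingHom.algebraMap_toAlgebra]
    rw [← CommRingCat.comp_apply, ← CommRingCat.comp_apply, Scheme.Hom.map_appLE,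
      Scheme.Hom.appLE_map]
  have hbij : Function.Bijective (f.appLE (Y.basicOpen r) _ hUV).hom :=
    ⟨H _ _ _ hcompat, surjective_away_of_surjective (f.appLE V U h).hom hs r _ hcompat⟩
  refine ⟨_, _, hUV, hxU', X.basicOpen_le _, Y.basicOpen_le _, hUaff, hVaff, ?_⟩
  haveI : IsAffine (Y.basicOpen r : Scheme) := hVaff
  haveI : IsAffine (X.basicOpen ((f.appLE V U h).hom r) : Scheme) := hUaff
  have h1 : IsIso (f.appLE (Y.basicOpen r) _ hUV) :=
    (ConcreteCategory.isIso_iff_bijective _).mpr hbij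
  have h2 : IsIso (f.resLE (Y.basicOpen r) _ hUV).appTop :=
    ((MorphismProperty.isomorphisms CommRingCat).arrow_mk_iso_iff
      (arrowResLEAppIso f _ _ hUV)).mpr h1
  exact ((MorphismProperty.isomorphisms Scheme).arrow_mk_iso_iff
    (arrowIsoSpecΓOfIsAffine (f.resLE (Y.basicOpen r) _ hUV))).mpr
    (inferInstanceAs (IsIso (Spec.map (f.resLE (Y.basicOpen r) _ hUV).appTop)))

end Groth.Agent.Lib.Helper69
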