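import Mathlib
import Groth.Agent.Lib.Helper69.LocalIso

set_option autoImplicit false
universe u
open CategoryTheory AlgebraicGeometry TopologicalSpace

namespace Groth.Agent.Lib.Helper69


section topo
variable {T : Type*} [TopologicalSpace T]

/-- The complement of the union of the irreducible components other than `closure {ξ}`. -/
def genOpen (ξ : T) : Set T := (⋃₀ (irreducibleComponents T \ {closure {ξ}}))ᶜ

theorem isOpen_genOpen (hfin : (irreducibleComponents T).Finite) (ξ : T) : IsOpen (genOpen ξ) := by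
  rw [genOpen, Set.sUnion_eq_biUnion, isOpen_compl_iff]
  exact hfin.sdiff.isClosed_biUnion fun W hW ↦ isClosed_of_mem_irreducibleComponents W hW.1

theorem genOpen_subset (ξ : T) (hξ : closure {ξ} ∈ irreducibleComponents T) :
    genOpen ξ ⊆ closure {ξ} := by
  rw [genOpen, Set.compl_subset_iff_union, ← Set.sUnion_singleton (closure {ξ}), ← Set.sUnion_union,
    Set.sUnion_singleton, Set.sdiff_union_of_subset, sUnion_irreducibleComponents]
  rwa [Set.singleton_subset_iff]

theorem mem_genOpen (ξ : T) (hξ : closure {ξ} ∈ irreducibleComponents T) : ξ ∈ genOpen ξ := by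
  rintro ⟨W, ⟨hW, hWne⟩, hξW⟩
  apply hWne
  have h1 : closure {ξ} ⊆ W :=
    (isClosed_of_mem_irreducibleComponents W hW).closure_subset_iff.mpr
      (Set.singleton_subset_iff.mpr hξW)
  exact (Set.Subset.antisymm h1 (hξ.2 hW.1 h1)).symm ▸ rfl

theorem disjoint_genOpen [T0Space T] (ξ ξ' : T) (hξ : closure {ξ} ∈ irreducibleComponents T)
    (hne : ξ ≠ ξ') :
    Disjoint (genOpen ξ) (genOpen ξ') := by
  rw [Set.disjoint_left]
  intro y hy hy'
  apply hy'
  refine ⟨closure {ξ}, ⟨hξ, fun h => hne ?_⟩, genOpen_subset ξ hξ hy⟩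
  have h' : closure {ξ} = closure {ξ'} := h
  exact ((specializes_iff_closure_subset.mpr h'.ge).antisymm
    (specializes_iff_closure_subset.mpr h'.le)).eq

theorem dense_of_forall_generic_mem [QuasiSober T] (U : Set T)
    (hU : ∀ η : T, closure {η} ∈ irreducibleComponents T → η ∈ U) : Dense U := by
  rw [dense_iff_inter_open]
  rintro W hW ⟨w, hw⟩
  have hZ := irreducibleComponent_mem_irreducibleComponents w
  have hirr : IsIrreducible (irreducibleComponent w) := isIrreducible_irreducibleComponent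
  have hcl : IsClosed (irreducibleComponent w) := isClosed_irreducibleComponent
  obtain ⟨η, hη⟩ := QuasiSober.sober hirr hcl
  have hη' : closure {η} = irreducibleComponent w := hη.def
  have hηW : η ∈ W := by
    have : w ∈ closure {η} := hη' ▸ mem_irreducibleComponent
    have h2 := mem_closure_iff.mp this W hW hw
    obtain ⟨z, hzW, hz⟩ := h2
    rw [Set.mem_singleton_iff] at hz
    exact hz ▸ hzW
  exact ⟨η, hηW, hU η (hη' ▸ hZ)⟩

end topo




set_option backward.isDefEq.respectTransparency.types false in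
theorem exists_isClosedImmersion_resLE_of_surjective_stalkMap' {X Y : Scheme.{u}} (f : X ⟶ Y)
    [LocallyOfFiniteType f] (x : X) (hx : Function.Surjective (f.stalkMap x)) (O : Y.Opens)
    (hxO : f.base x ∈ O) :
    ∃ (U : X.Opens) (V : Y.Opens) (h : U ≤ f ⁻¹ᵁ V), x ∈ U ∧ V ≤ O ∧ IsAffineOpen U ∧
      IsAffineOpen V ∧ Function.Surjective (f.appLE V U h) := by
  obtain ⟨_, ⟨V₀, hV₀ : IsAffineOpen V₀, rfl⟩, hxV₀, hV₀O⟩ :=
    Y.isBasis_affineOpens.exists_subset_of_mem_open hxO O.2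
  obtain ⟨_, ⟨U₀, hU₀ : IsAffineOpen U₀, rfl⟩, hxU₀, h₀⟩ :=
    X.isBasis_affineOpens.exists_subset_of_mem_open
      (show x ∈ ((f ⁻¹ᵁ V₀ : X.Opens) : Set X) from hxV₀) (f ⁻¹ᵁ V₀).2
  have h₀' : U₀ ≤ f ⁻¹ᵁ V₀ := h₀
  have hφ : (f.appLE V₀ U₀ h₀').hom.FiniteType :=
    HasRingHomProperty.appLE (P := @LocallyOfFiniteType) f inferInstance ⟨V₀, hV₀⟩ ⟨U₀, hU₀⟩ h₀'
  have hq := congr($(IsAffineOpen.comap_primeIdealOf_appLE V₀ hV₀ U₀ hU₀ h₀' hxU₀).1).symm
  have e := IsAffineOpen.arrowStalkMapIso f V₀ hV₀ U₀ hU₀ h₀' hxU₀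
  have hsurj := (RingHom.surjective_respectsIso.arrow_mk_iso_iff e).mp hx
  obtain ⟨s, t, hs, ht, H⟩ := exists_surjective_away_of_surjective_localRingHom
    (f.appLE V₀ U₀ h₀').hom hφ _ _ hq hsurj
  have hUV : X.basicOpen ((f.appLE V₀ U₀ h₀').hom s * t) ≤ f ⁻¹ᵁ Y.basicOpen s := by
    rw [Scheme.basicOpen_mul]
    refine inf_le_left.trans ?_
    have := Scheme.basicOpen_appLE f U₀ V₀ h₀' s
    rw [show (f.appLE V₀ U₀ h₀').hom s = f.appLE V₀ U₀ h₀' s from rfl, this]
    exact inf_le_right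
  have hVaff : IsAffineOpen (Y.basicOpen s) := hV₀.basicOpen s
  have hUaff : IsAffineOpen (X.basicOpen ((f.appLE V₀ U₀ h₀').hom s * t)) := hU₀.basicOpen _
  have hxU : x ∈ X.basicOpen ((f.appLE V₀ U₀ h₀').hom s * t) := by
    rw [mem_basicOpen_iff_notMem_primeIdealOf hU₀ x hxU₀]
    intro hmem
    rcases (hU₀.primeIdealOf ⟨x, hxU₀⟩).2.mem_or_mem hmem with h5 | h5
    · exact hs (hq ▸ h5)
    · exact ht h5
  haveI := hV₀.isLocalization_basicOpen s
  haveI := hU₀.isLocalization_basicOpen ((f.appLE V₀ U₀ h₀').hom s * t)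
  have hψ := H Γ(Y, Y.basicOpen s) Γ(X, X.basicOpen ((f.appLE V₀ U₀ h₀').hom s * t))
    (f.appLE (Y.basicOpen s) _ hUV).hom (by
      ext a
      simp only [RingHom.comp_apply, RingHom.algebraMap_toAlgebra]
      rw [← CommRingCat.comp_apply, ← CommRingCat.comp_apply, Scheme.Hom.map_appLE,
        Scheme.Hom.appLE_map])
  exact ⟨_, _, hUV, hxU, (Y.basicOpen_le s).trans hV₀O, hUaff, hVaff, hψ⟩

/-- Sections over an affine open contained in the closure of a point of a reduced scheme form a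
domain, hence inject into the stalk. -/
theorem germ_injective_of_le_closure {Y : Scheme.{u}} [IsReduced Y] (V : Y.Opens)
    (hV : IsAffineOpen V) (ξ : Y) (hξV : ξ ∈ V) (hVξ : (V : Set Y) ⊆ closure {ξ}) :
    Function.Injective (Y.presheaf.germ V ξ hξV) := by
  have hirr : IsIrreducible (V : Set Y) := by
    refine ⟨⟨ξ, hξV⟩, ?_⟩
    exact (isIrreducible_singleton.closure.isPreirreducible).open_subset V.2 hVξ
  haveI : IrreducibleSpace (V : Scheme) := Subtype.irreducibleSpace hirr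
  haveI : IsIntegral (V : Scheme) := isIntegral_of_irreducibleSpace_of_isReduced _
  haveI : IsDomain Γ(Y, V) := (V.topIso.commRingCatIsoToRingEquiv).symm.toMulEquiv.isDomain
  let _ := Y.presheaf.algebra_section_stalk ⟨ξ, hξV⟩
  haveI := hV.isLocalization_stalk ⟨ξ, hξV⟩
  exact IsLocalization.injective (Y.presheaf.stalk ξ)
    (Ideal.primeCompl_le_nonZeroDivisors (hV.primeIdealOf ⟨ξ, hξV⟩).asIdeal)


theorem stalkMap_germ_appLE {X Y : Scheme.{u}} (f : X ⟶ Y) (U : X.Opens) (V : Y.Opens)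
    (h : U ≤ f ⁻¹ᵁ V) (x : X) (hxU : x ∈ U) (hxV : f x ∈ V) (a : Γ(Y, V)) :
    f.stalkMap x (Y.presheaf.germ V (f x) hxV a) =
      X.presheaf.germ U x hxU (f.appLE V U h a) := by
  rw [Scheme.Hom.germ_stalkMap_apply, Scheme.Hom.appLE, CommRingCat.comp_apply,
    X.presheaf.germ_res_apply]

theorem ker_fg_of_finitePresentation_of_surjective {B A : Type u} [CommRing B] [CommRing A]
    (ψ : B →+* A) (hfp : ψ.FinitePresentation) (hs : Function.Surjective ψ) :
    (RingHom.ker ψ).FG := by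
  let _ := ψ.toAlgebra
  haveI : Algebra.FinitePresentation B A := hfp
  exact Algebra.FinitePresentation.ker_fG_of_surjective (Algebra.ofId B A) hs

theorem exists_isIso_resLE_of_generic {X Y : Scheme.{u}} (f : X ⟶ Y) (η : X)
    (hiso : IsIso (f.stalkMap η)) (O : Y.Opens) (hηO : f.base η ∈ O)
    (hf : (LocallyOfFiniteType f ∧ IsReduced Y ∧ (O : Set Y) ⊆ closure {f.base η}) ∨
      LocallyOfFinitePresentation f) :
    ∃ (U : X.Opens) (V : Y.Opens) (h : U ≤ f ⁻¹ᵁ V), η ∈ U ∧ V ≤ O ∧ IsIso (f.resLE V U h) := by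
  have hbij : Function.Bijective (f.stalkMap η) :=
    (ConcreteCategory.isIso_iff_bijective _).mp hiso
  rcases hf with ⟨hlft, hred, hO⟩ | hlfp
  · obtain ⟨U, V, h, hηU, hVO, hU, hV, hs⟩ :=
      exists_isClosedImmersion_resLE_of_surjective_stalkMap' f η hbij.2 O hηO
    have hinj : Function.Injective (f.appLE V U h).hom := by
      rw [injective_iff_map_eq_zero]
      intro a ha
      have h1 := stalkMap_germ_appLE f U V h η hηU (h hηU) a
      have ha' : f.appLE V U h a = 0 := ha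
      rw [ha', map_zero] at h1
      have h2 : Y.presheaf.germ V (f η) (h hηU) a = 0 := by
        apply hbij.1
        rw [h1, map_zero]
      apply germ_injective_of_le_closure V hV (f η) (h hηU)
        (fun y hy => hO (hVO hy))
      rw [h2, map_zero]
    have hker : (RingHom.ker (f.appLE V U h).hom).FG := by
      rw [(RingHom.injective_iff_ker_eq_bot _).mp hinj]
      exact Submodule.fg_bot
    obtain ⟨U', V', h', hηU', -, hV'V, -, -, hiso'⟩ :=
      exists_isIso_resLE_of_injective_stalkMap f U V hU hV h η hηU hs hker hbij.1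
    exact ⟨U', V', h', hηU', hV'V.trans hVO, hiso'⟩
  · obtain ⟨U, V, h, hηU, hVO, hU, hV, hs⟩ :=
      exists_isClosedImmersion_resLE_of_surjective_stalkMap' f η hbij.2 O hηO
    have hfp : (f.appLE V U h).hom.FinitePresentation :=
      HasRingHomProperty.appLE (P := @LocallyOfFinitePresentation) f inferInstance ⟨V, hV⟩
        ⟨U, hU⟩ h
    have hker := ker_fg_of_finitePresentation_of_surjective _ hfp hs
    obtain ⟨U', V', h', hηU', -, hV'V, -, -, hiso'⟩ :=
      exists_isIso_resLE_of_injective_stalkMap f U V hU hV h η hηU hs hker hbij.1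
    exact ⟨U', V', h', hηU', hV'V.trans hVO, hiso'⟩


theorem exists_dense_opens_isIso_resLE {X Y : Scheme.{u}} (f : X ⟶ Y)
    (hYfin : (irreducibleComponents ↥Y).Finite)
    (hbij : Set.BijOn (fun x : X => f.base x) {x : X | closure {x} ∈ irreducibleComponents ↥X}
      {y : Y | closure {y} ∈ irreducibleComponents ↥Y})
    (hiso : ∀ x : X, closure {x} ∈ irreducibleComponents ↥X → IsIso (f.stalkMap x))
    (hf : (LocallyOfFiniteType f ∧ IsReduced Y) ∨ LocallyOfFinitePresentation f) :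
    ∃ (U : X.Opens) (V : Y.Opens) (hUV : U ≤ f ⁻¹ᵁ V), Dense (U : Set ↥X) ∧ Dense (V : Set ↥Y) ∧
      IsIso (f.resLE V U hUV) := by
  classical
  have H : ∀ η : X, closure {η} ∈ irreducibleComponents ↥X → ∃ (U : X.Opens) (V : Y.Opens)
      (h : U ≤ f ⁻¹ᵁ V), η ∈ U ∧ (V : Set Y) ⊆ genOpen (f.base η) ∧ IsIso (f.resLE V U h) := by
    intro η hη
    have hξ : closure {f.base η} ∈ irreducibleComponents Y := hbij.mapsTo hη
    let O : Y.Opens := ⟨genOpen (f.base η), isOpen_genOpen hYfin _⟩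
    obtain ⟨U, V, h, hηU, hVO, hi⟩ := exists_isIso_resLE_of_generic f η (hiso η hη) O
      (mem_genOpen _ hξ) (hf.imp (fun ⟨h1, h2⟩ => ⟨h1, h2, genOpen_subset _ hξ⟩) id)
    exact ⟨U, V, h, hηU, hVO, hi⟩
  let G := {η : X // closure {η} ∈ irreducibleComponents ↥X}
  choose U V h hηU hVO hi using fun η : G => H η.1 η.2
  have hUV : (⨆ η, U η) ≤ f ⁻¹ᵁ (⨆ η, V η) := by
    rw [iSup_le_iff]
    intro η
    exact (h η).trans (f.preimage_mono (le_iSup V η))
  refine ⟨⨆ η, U η, ⨆ η, V η, hUV, ?_, ?_, ?_⟩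
  · apply dense_of_forall_generic_mem
    intro η hη
    exact Opens.mem_iSup.mpr ⟨⟨η, hη⟩, hηU ⟨η, hη⟩⟩
  · apply dense_of_forall_generic_mem
    intro ξ hξ
    obtain ⟨η, hη, rfl⟩ := hbij.surjOn hξ
    exact Opens.mem_iSup.mpr ⟨⟨η, hη⟩, h _ (hηU ⟨η, hη⟩)⟩
  · have hinjOn : ∀ x x' : X, x ∈ (⨆ η, U η) → x' ∈ (⨆ η, U η) → f.base x = f.base x' →
        x = x' := by
      intro x x' hx hx' hxx'
      obtain ⟨η, hxη⟩ := Opens.mem_iSup.mp hx
      obtain ⟨η', hxη'⟩ := Opens.mem_iSup.mp hx'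
      have h1 : f.base x ∈ genOpen (f.base η.1) := hVO η (h η hxη)
      have h2 : f.base x ∈ genOpen (f.base η'.1) := hxx' ▸ hVO η' (h η' hxη')
      have h3 : f.base η.1 = f.base η'.1 := by
        by_contra hne
        exact Set.disjoint_left.mp (disjoint_genOpen _ _ (hbij.mapsTo η.2) hne) h1 h2
      have h4 : η = η' := Subtype.ext (hbij.injOn η.2 η'.2 h3)
      subst h4
      haveI := hi η
      have hinj : Function.Injective (f.resLE (V η) (U η) (h η)) :=
        (ConcreteCategory.bijective_of_isIso (f.resLE (V η) (U η) (h η)).base).1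
      have := @hinj ⟨x, hxη⟩ ⟨x', hxη'⟩ (Subtype.ext (by
        rw [Scheme.Hom.coe_resLE_apply, Scheme.Hom.coe_resLE_apply]; exact hxx'))
      exact congrArg Subtype.val this
    have hopen : IsOpenImmersion ((⨆ η, U η).ι ≫ f) := by
      apply IsOpenImmersion.of_forall_source_exists
      · intro a b hab
        exact Subtype.ext (hinjOn a.1 b.1 a.2 b.2 hab)
      · intro x
        obtain ⟨η, hxη⟩ := Opens.mem_iSup.mp x.2
        refine ⟨(U η : Scheme), X.homOfLE (le_iSup U η), inferInstance, ?_, ?_⟩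
        · rw [Scheme.opensRange_homOfLE]
          exact hxη
        · haveI := hi η
          rw [← Category.assoc, Scheme.homOfLE_ι, ← Scheme.Hom.resLE_comp_ι f (h η)]
          infer_instance
    have hopen' : IsOpenImmersion (f.resLE (⨆ η, V η) (⨆ η, U η) hUV) := by
      have : IsOpenImmersion (f.resLE (⨆ η, V η) (⨆ η, U η) hUV ≫ (⨆ η, V η).ι) := by
        rw [Scheme.Hom.resLE_comp_ι]; exact hopen
      exact IsOpenImmersion.of_comp _ (⨆ η, V η).ι
    have hsurj : Surjective (f.resLE (⨆ η, V η) (⨆ η, U η) hUV) := by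
      constructor
      intro y
      obtain ⟨η, hyη⟩ := Opens.mem_iSup.mp y.2
      haveI := hi η
      obtain ⟨x, hx⟩ := (ConcreteCategory.bijective_of_isIso
        (f.resLE (V η) (U η) (h η)).base).2 ⟨y.1, hyη⟩
      refine ⟨⟨x.1, le_iSup U η x.2⟩, Subtype.ext ?_⟩
      rw [Scheme.Hom.coe_resLE_apply]
      exact (Scheme.Hom.coe_resLE_apply f (h η) x).symm.trans (congrArg Subtype.val hx)
    exact (isIso_iff_isOpenImmersion_and_surjective _).mpr ⟨hopen', hsurj⟩

end Groth.Agent.Lib.Helper69
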