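import Mathlib
import Groth.Agent.Lib.Helper69.Birational

set_option autoImplicit false
universe u
open CategoryTheory AlgebraicGeometry TopologicalSpace

namespace Groth.Agent.Lib.Helper69


/-- Elementwise form of surjectivity of a local ring hom between localizations. -/
theorem exists_of_surjective_localRingHom {R A : Type*} [CommRing R] [CommRing A]
    (φ : R →+* A) (p : Ideal A) [p.IsPrime] (q : Ideal R) [q.IsPrime]
    (hq : q = p.comap φ) (hsurj : Function.Surjective (Localization.localRingHom q p φ hq))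
    (a : A) : ∃ (b s : R) (t : A), s ∉ q ∧ t ∉ p ∧ t * (φ s * a - φ b) = 0 := by
  obtain ⟨β, hβ⟩ := hsurj (algebraMap A (Localization.AtPrime p) a)
  obtain ⟨b, ⟨s, hs⟩, rfl⟩ := IsLocalization.exists_mk'_eq q.primeCompl β
  rw [Localization.localRingHom_mk', IsLocalization.mk'_eq_iff_eq_mul, ← map_mul,
    IsLocalization.eq_iff_exists p.primeCompl] at hβ
  obtain ⟨⟨t, ht⟩, h⟩ := hβ
  refine ⟨b, s, t, hs, ht, ?_⟩
  simp only at h
  rw [mul_sub, mul_comm (φ s) a, ← h, sub_self]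

theorem le_of_surjective_localRingHom {R A : Type*} [CommRing R] [CommRing A] (φ : R →+* A)
    (p m : Ideal A) [p.IsPrime] [m.IsPrime] (q : Ideal R) [q.IsPrime] (hq : q = p.comap φ)
    (hqm : q = m.comap φ) (hpm : p ≤ m)
    (hsurj : Function.Surjective (Localization.localRingHom q p φ hq)) : m ≤ p := by
  intro a ha
  obtain ⟨b, s, t, hs, ht, h⟩ := exists_of_surjective_localRingHom φ p q hq hsurj a
  have h1 : φ s * a - φ b ∈ p :=
    (‹p.IsPrime›.mem_or_mem (h ▸ p.zero_mem : t * (φ s * a - φ b) ∈ p)).resolve_left ht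
  have h2 : φ b ∈ m := by
    have := m.sub_mem (m.mul_mem_left (φ s) ha) (hpm h1)
    simpa using this
  have h3 : b ∈ q := by rw [hqm]; exact h2
  have h4 : φ b ∈ p := by rw [hq] at h3; exact h3
  have h5 : φ s * a ∈ p := by
    have := p.add_mem h1 h4
    simpa using this
  exact (‹p.IsPrime›.mem_or_mem h5).resolve_left (fun h => hs (by rw [hq]; exact h))

/-- If `η ⤳ z` lie in the same fibre and the stalk map at `η` is surjective, then `η = z`. -/
theorem eq_of_specializes_of_surjective_stalkMap {X Y : Scheme.{u}} (f : X ⟶ Y) (η z : X)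
    (hηz : η ⤳ z) (hfz : f η = f z) (hs : Function.Surjective (f.stalkMap η)) : η = z := by
  obtain ⟨_, ⟨V₀, hV₀ : IsAffineOpen V₀, rfl⟩, hzV₀, -⟩ :=
    Y.isBasis_affineOpens.exists_subset_of_mem_open (Set.mem_univ (f z)) isOpen_univ
  obtain ⟨_, ⟨U₀, hU₀ : IsAffineOpen U₀, rfl⟩, hzU₀, h₀⟩ :=
    X.isBasis_affineOpens.exists_subset_of_mem_open
      (show z ∈ ((f ⁻¹ᵁ V₀ : X.Opens) : Set X) from hzV₀) (f ⁻¹ᵁ V₀).2
  have h₀' : U₀ ≤ f ⁻¹ᵁ V₀ := h₀
  have hηU₀ : η ∈ U₀ := hηz.mem_open U₀.2 hzU₀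
  have hq := congr($(IsAffineOpen.comap_primeIdealOf_appLE V₀ hV₀ U₀ hU₀ h₀' hηU₀).1).symm
  have hqm' := congr($(IsAffineOpen.comap_primeIdealOf_appLE V₀ hV₀ U₀ hU₀ h₀' hzU₀).1).symm
  have hpts : hV₀.primeIdealOf ⟨f η, h₀' hηU₀⟩ = hV₀.primeIdealOf ⟨f z, h₀' hzU₀⟩ := by
    congr 1
    exact Subtype.ext hfz
  have hqm : (hV₀.primeIdealOf ⟨f η, h₀' hηU₀⟩).asIdeal =
      Ideal.comap (f.appLE V₀ U₀ h₀').hom (hU₀.primeIdealOf ⟨z, hzU₀⟩).asIdeal := by
    rw [hpts]; exact hqm'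
  have e := IsAffineOpen.arrowStalkMapIso f V₀ hV₀ U₀ hU₀ h₀' hηU₀
  have hsurj := (RingHom.surjective_respectsIso.arrow_mk_iso_iff e).mp hs
  have hpm : (hU₀.primeIdealOf ⟨η, hηU₀⟩) ≤ (hU₀.primeIdealOf ⟨z, hzU₀⟩) := by
    rw [PrimeSpectrum.le_iff_specializes]
    have h1 : (⟨η, hηU₀⟩ : U₀) ⤳ ⟨z, hzU₀⟩ := (subtype_specializes_iff _ _).mpr hηz
    exact h1.map hU₀.isoSpec.hom.continuous
  have hmp := le_of_surjective_localRingHom (f.appLE V₀ U₀ h₀').hom _ _ _ hq hqm hpm hsurj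
  have heq : hU₀.primeIdealOf ⟨η, hηU₀⟩ = hU₀.primeIdealOf ⟨z, hzU₀⟩ :=
    le_antisymm hpm hmp
  have h1 := hU₀.fromSpec_primeIdealOf ⟨η, hηU₀⟩
  have h2 := hU₀.fromSpec_primeIdealOf ⟨z, hzU₀⟩
  rw [heq] at h1
  exact h1.symm.trans h2




theorem exists_specializes_of_mem_closure_image_comap {R S : Type*} [CommRing R] [CommRing S]
    (φ : R →+* S) (C : Set (PrimeSpectrum S)) (hC : IsClosed C) (x : PrimeSpectrum R)
    (hx : x ∈ closure (PrimeSpectrum.comap φ '' C)) :
    ∃ p ∈ C, PrimeSpectrum.comap φ p ⤳ x := by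
  obtain ⟨I, rfl⟩ := (PrimeSpectrum.isClosed_iff_zeroLocus_ideal C).mp hC
  rw [PrimeSpectrum.closure_image_comap_zeroLocus] at hx
  have hx' : I.comap φ ≤ x.asIdeal := hx
  obtain ⟨q, hq₁, hq₂⟩ := Ideal.exists_minimalPrimes_le hx'
  obtain ⟨p', hp', hp'', hpq⟩ := Ideal.exists_comap_eq_of_mem_minimalPrimes φ _ hq₁
  refine ⟨⟨p', hp'⟩, hp'', ?_⟩
  rw [← PrimeSpectrum.le_iff_specializes]
  change Ideal.comap φ p' ≤ x.asIdeal
  rw [hpq]; exact hq₂

theorem exists_specializes_of_mem_closure_image {Z Y : Scheme.{u}} (g : Z ⟶ Y) [QuasiCompact g]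
    (C : Set Z) (hC : IsClosed C) (y : Y) (hy : y ∈ closure (g '' C)) :
    ∃ z ∈ C, g z ⤳ y := by
  obtain ⟨_, ⟨V₀, hV₀ : IsAffineOpen V₀, rfl⟩, hyV₀, -⟩ :=
    Y.isBasis_affineOpens.exists_subset_of_mem_open (Set.mem_univ y) isOpen_univ
  have hcomp : IsCompact ((g ⁻¹ᵁ V₀ : Z.Opens) : Set Z) :=
    QuasiCompact.isCompact_preimage (f := g) _ V₀.2 hV₀.isCompact
  obtain ⟨R, h, hh⟩ := isCompact_iff_exists.mp hcomp
  have hk : Set.range (h ≫ g) ⊆ Set.range hV₀.fromSpec := by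
    rw [hV₀.range_fromSpec]
    rintro _ ⟨a, rfl⟩
    have : h a ∈ ((g ⁻¹ᵁ V₀ : Z.Opens) : Set Z) := hh ▸ ⟨a, rfl⟩
    exact this
  let l : Spec R ⟶ Spec Γ(Y, V₀) := IsOpenImmersion.lift hV₀.fromSpec (h ≫ g) hk
  have hl : l ≫ hV₀.fromSpec = h ≫ g := IsOpenImmersion.lift_fac _ _ _
  obtain ⟨φ, hφ⟩ : ∃ φ, Spec.map φ = l := ⟨Spec.preimage l, Spec.map_preimage l⟩
  have hlapp : ∀ a, hV₀.fromSpec (l a) = g (h a) := fun a => by
    rw [← Scheme.Hom.comp_apply, hl, Scheme.Hom.comp_apply]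
  -- the closed subset of `Spec R`
  let C' : Set (Spec R) := h ⁻¹' C
  have hC' : IsClosed C' := hC.preimage h.continuous
  have himg : (V₀ : Set Y) ∩ g '' C ⊆ hV₀.fromSpec '' (l '' C') := by
    rintro _ ⟨hv, z, hzC, rfl⟩
    have : z ∈ Set.range h := hh ▸ hv
    obtain ⟨a, rfl⟩ := this
    exact ⟨l a, ⟨a, hzC, rfl⟩, hlapp a⟩
  set q := hV₀.primeIdealOf ⟨y, hyV₀⟩ with hqdef
  have hq : hV₀.fromSpec q = y := hV₀.fromSpec_primeIdealOf ⟨y, hyV₀⟩
  have hq2 : q ∈ closure (l '' C') := by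
    have hind := hV₀.fromSpec.isOpenEmbedding.isInducing
    rw [hind.closure_eq_preimage_closure_image]
    change hV₀.fromSpec q ∈ closure (hV₀.fromSpec '' (l '' C'))
    rw [hq]
    exact closure_mono himg (V₀.2.inter_closure ⟨hyV₀, hy⟩)
  rw [← hφ] at hq2
  obtain ⟨p, hpC, hp⟩ := exists_specializes_of_mem_closure_image_comap φ.hom C' hC' q hq2
  refine ⟨h p, hpC, ?_⟩
  have h3 := hp.map hV₀.fromSpec.continuous
  rw [hq] at h3
  have h4 : hV₀.fromSpec (PrimeSpectrum.comap φ.hom p) = g (h p) := by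
    rw [← hlapp p, ← hφ]
    rfl
  rwa [h4] at h3


section topo
variable {T : Type*} [TopologicalSpace T]

/-- A dense open subset contains every generic point of an irreducible component when there are
finitely many components. -/
theorem generic_mem_of_dense_of_isOpen (hfin : (irreducibleComponents T).Finite) (V : Set T)
    (hV : IsOpen V) (hd : Dense V) (ξ : T) (hξ : closure {ξ} ∈ irreducibleComponents T) :
    ξ ∈ V := by
  obtain ⟨y, hyO, hyV⟩ := hd.inter_open_nonempty (genOpen ξ) (isOpen_genOpen hfin ξ)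
    ⟨ξ, mem_genOpen ξ hξ⟩
  have h1 : ξ ⤳ y := specializes_iff_mem_closure.mpr (genOpen_subset ξ hξ hyO)
  exact h1.mem_open hV hyV

/-- A point specializing to a generic point of an irreducible component equals it. -/
theorem eq_of_specializes_generic [T0Space T] (x ξ : T) (hξ : closure {ξ} ∈ irreducibleComponents T)
    (h : x ⤳ ξ) : x = ξ := by
  have h1 : closure {ξ} ⊆ closure {x} := specializes_iff_closure_subset.mp h
  have h2 : closure {x} ⊆ closure {ξ} :=
    hξ.2 isIrreducible_singleton.closure h1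
  exact (h.antisymm (specializes_iff_closure_subset.mpr h2)).eq

theorem exists_generic_specializes [QuasiSober T] (z : T) :
    ∃ η : T, closure {η} ∈ irreducibleComponents T ∧ η ⤳ z := by
  have hZ := irreducibleComponent_mem_irreducibleComponents z
  have hirr : IsIrreducible (irreducibleComponent z) := isIrreducible_irreducibleComponent
  have hcl : IsClosed (irreducibleComponent z) := isClosed_irreducibleComponent
  obtain ⟨η, hη⟩ := QuasiSober.sober hirr hcl
  have hη' : closure {η} = irreducibleComponent z := hη.def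
  refine ⟨η, hη' ▸ hZ, ?_⟩
  rw [specializes_iff_mem_closure, hη']
  exact mem_irreducibleComponent

end topo

theorem exists_dense_open_isIso_restrict {X Y : Scheme.{u}} (f : X ⟶ Y)
    (hXfin : (irreducibleComponents ↥X).Finite) (hYfin : (irreducibleComponents ↥Y).Finite)
    (hbij : Set.BijOn (fun x : X => f.base x) {x : X | closure {x} ∈ irreducibleComponents ↥X}
      {y : Y | closure {y} ∈ irreducibleComponents ↥Y})
    (hiso : ∀ x : X, closure {x} ∈ irreducibleComponents ↥X → IsIso (f.stalkMap x))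
    (hf₁ : QuasiCompact f ∨ IsSeparated f)
    (hf₂ : (LocallyOfFiniteType f ∧ IsReduced Y) ∨ LocallyOfFinitePresentation f) :
    ∃ V : Y.Opens, Dense (V : Set ↥Y) ∧ IsIso (f ∣_ V) := by
  obtain ⟨U, V, hUV, hUd, hVd, hi⟩ := exists_dense_opens_isIso_resLE f hYfin hbij hiso hf₂
  rcases hf₁ with hqc | hsep
  · -- quasi-compact case
    let W : Y.Opens := V ⊓ ⟨(closure (f '' ((U : Set X)ᶜ)))ᶜ, isClosed_closure.isOpen_compl⟩
    have hWU : f ⁻¹ᵁ W ≤ U := by
      intro x hx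
      by_contra hxU
      exact hx.2 (subset_closure ⟨x, hxU, rfl⟩)
    have hWV : W ≤ V := inf_le_left
    refine ⟨W, ?_, ?_⟩
    · apply dense_of_forall_generic_mem
      intro ξ hξ
      refine ⟨generic_mem_of_dense_of_isOpen hYfin _ V.2 hVd ξ hξ, ?_⟩
      intro hmem
      obtain ⟨z, hzU, hz⟩ := exists_specializes_of_mem_closure_image f _
        U.2.isClosed_compl ξ hmem
      have hfz : f z = ξ := eq_of_specializes_generic _ _ hξ hz
      obtain ⟨η, hη, hηz⟩ := exists_generic_specializes z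
      have hfη : f η = ξ := by
        apply eq_of_specializes_generic _ _ hξ
        rw [← hfz]
        exact hηz.map f.continuous
      have hηz' : η = z := eq_of_specializes_of_surjective_stalkMap f η z hηz (hfη.trans hfz.symm)
        ((ConcreteCategory.isIso_iff_bijective _).mp (hiso η hη)).2
      have hηU : η ∈ U := generic_mem_of_dense_of_isOpen hXfin _ U.2 hUd η hη
      exact hzU (hηz' ▸ hηU)
    · -- iso
      have hopen : IsOpenImmersion ((f ∣_ W) ≫ W.ι) := by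
        have : (f ∣_ W) ≫ W.ι = X.homOfLE hWU ≫ f.resLE V U hUV ≫ V.ι := by
          rw [morphismRestrict_ι, Scheme.Hom.resLE_comp_ι, ← Category.assoc, Scheme.homOfLE_ι]
        rw [this]
        infer_instance
      have hopen' : IsOpenImmersion (f ∣_ W) := IsOpenImmersion.of_comp _ W.ι
      have hsurj : Surjective (f ∣_ W) := by
        constructor
        intro y
        obtain ⟨x, hx⟩ := (ConcreteCategory.bijective_of_isIso
          (f.resLE V U hUV).base).2 ⟨y.1, hWV y.2⟩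
        have hfx : f x.1 = y.1 :=
          (Scheme.Hom.coe_resLE_apply f hUV x).symm.trans (congrArg Subtype.val hx)
        refine ⟨⟨x.1, ?_⟩, Subtype.ext ?_⟩
        · change f x.1 ∈ W
          rw [hfx]; exact y.2
        · exact (morphismRestrict_base_coe f W _).trans hfx
      exact (isIso_iff_isOpenImmersion_and_surjective _).mpr ⟨hopen', hsurj⟩
  · -- separated case
    refine ⟨V, hVd, ?_⟩
    let σ : (V : Scheme) ⟶ (f ⁻¹ᵁ V : X.Opens) := inv (f.resLE V U hUV) ≫ X.homOfLE hUV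
    have hσ : σ ≫ (f ∣_ V) = 𝟙 _ := by
      rw [← Scheme.Hom.resLE_eq_morphismRestrict, Category.assoc, Scheme.Hom.map_resLE,
        IsIso.inv_hom_id]
    haveI : IsClosedImmersion (σ ≫ (f ∣_ V)) := by rw [hσ]; infer_instance
    have hσc : IsClosedImmersion σ := IsClosedImmersion.of_comp σ (f ∣_ V)
    have hrange : Set.range σ = {w : (f ⁻¹ᵁ V : X.Opens) | w.1 ∈ U} := by
      ext w
      constructor
      · rintro ⟨v, rfl⟩
        change (X.homOfLE hUV (inv (f.resLE V U hUV) v)).1 ∈ U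
        have h1 := Scheme.homOfLE_apply hUV (inv (f.resLE V U hUV) v)
        exact h1 ▸ (inv (f.resLE V U hUV) v).2
      · intro hw
        refine ⟨f.resLE V U hUV ⟨w.1, hw⟩, ?_⟩
        change X.homOfLE hUV ((f.resLE V U hUV ≫ inv (f.resLE V U hUV)) ⟨w.1, hw⟩) = w
        rw [IsIso.hom_inv_id]
        exact Subtype.ext (Scheme.homOfLE_apply _ _)
    have hclosed : IsClosed {w : (f ⁻¹ᵁ V : X.Opens) | w.1 ∈ U} :=
      hrange ▸ σ.isClosedEmbedding.isClosed_range
    have hle : f ⁻¹ᵁ V ≤ U := by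
      intro x hx
      by_contra hxU
      have hO : IsOpen (Subtype.val '' {w : (f ⁻¹ᵁ V : X.Opens) | w.1 ∈ U}ᶜ) :=
        (f ⁻¹ᵁ V).2.isOpenMap_subtype_val _ hclosed.isOpen_compl
      obtain ⟨y, ⟨w, hw, rfl⟩, hyU⟩ := hUd.inter_open_nonempty _ hO ⟨x, ⟨x, hx⟩, hxU, rfl⟩
      exact hw hyU
    obtain rfl : U = f ⁻¹ᵁ V := le_antisymm hUV hle
    rw [← Scheme.Hom.resLE_eq_morphismRestrict]
    exact hi

end Groth.Agent.Lib.Helper69
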