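import Mathlib
import Groth.Agent.Lib.Helper69.LocalImm

set_option autoImplicit false
universe u
open TensorProduct Polynomial

namespace Groth.Agent.Lib.Helper69


theorem finite_fiber_of_finite_preimage {A B : Type u} [CommRing A] [CommRing B] [Algebra A B]
    [Algebra.FiniteType A B] (q : Ideal A) [q.IsPrime]
    (hfin : (PrimeSpectrum.comap (algebraMap A B) ⁻¹' {⟨q, inferInstance⟩}).Finite) :
    Module.Finite q.ResidueField (q.Fiber B) := by
  have h1 : Finite (PrimeSpectrum (q.Fiber B)) :=
    (PrimeSpectrum.preimageEquivFiber A B ⟨q, ‹_›⟩).finite_iff.mp hfin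
  have h2 : Algebra.QuasiFinite q.ResidueField (q.Fiber B) :=
    Algebra.QuasiFinite.iff_finite_comap_preimage_singleton.mpr (fun x => Set.toFinite _)
  exact Module.Finite.of_quasiFinite

attribute [local instance] Algebra.TensorProduct.rightAlgebra in
theorem isIntegral_localization_of_finite_fiber {A B : Type u} [CommRing A] [CommRing B]
    [Algebra A B] (q : Ideal A) [q.IsPrime] (hq : q ∈ minimalPrimes A)
    [Module.Finite q.ResidueField (q.Fiber B)] (b : B) :
    IsIntegral (Localization.AtPrime q)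
      (algebraMap B (Localization (Algebra.algebraMapSubmonoid B q.primeCompl)) b) := by
  set Rp := Localization.AtPrime q
  set Sp := Localization (Algebra.algebraMapSubmonoid B q.primeCompl)
  -- integrality in the fibre
  have h1 : IsIntegral q.ResidueField ((1 : q.ResidueField) ⊗ₜ[A] b : q.Fiber B) :=
    Algebra.IsIntegral.isIntegral _
  obtain ⟨Pb, hPbm, hPb⟩ := h1
  -- lift to a monic polynomial over `Rp`
  obtain ⟨P, hPmap, -, hPm⟩ := Polynomial.lifts_and_natDegree_eq_and_monic
    ((Polynomial.mem_lifts _).mpr (Polynomial.map_surjective _ IsLocalRing.residue_surjective Pb))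
    hPbm
  let e := Ideal.Fiber.algEquivQuotient (S := B) q
  set pSp : Ideal Sp := (IsLocalRing.maximalIdeal Rp).map (algebraMap Rp Sp) with hpSp
  -- (i)
  have hi : e ((1 : q.ResidueField) ⊗ₜ[A] b) = Ideal.Quotient.mk pSp (algebraMap B Sp b) := by
    have : ((1 : q.ResidueField) ⊗ₜ[A] b : q.Fiber B) = algebraMap B (q.Fiber B) b := rfl
    rw [this, e.commutes]
    rfl
  -- (ii)
  have hii : (e : q.Fiber B →+* Sp ⧸ pSp).comp ((algebraMap q.ResidueField (q.Fiber B)).comp
      (IsLocalRing.residue Rp)) = (Ideal.Quotient.mk pSp).comp (algebraMap Rp Sp) := by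
    apply IsLocalization.ringHom_ext q.primeCompl
    ext a
    simp only [RingHom.comp_apply]
    have h2 : algebraMap q.ResidueField (q.Fiber B) (IsLocalRing.residue Rp (algebraMap A Rp a)) =
        algebraMap B (q.Fiber B) (algebraMap A B a) := by
      have : IsLocalRing.residue Rp (algebraMap A Rp a) = algebraMap A q.ResidueField a := rfl
      rw [this]
      change (algebraMap A q.ResidueField a) ⊗ₜ[A] (1 : B) = (1 : q.ResidueField) ⊗ₜ[A] (algebraMap A B a)
      rw [Algebra.algebraMap_eq_smul_one, Algebra.algebraMap_eq_smul_one, TensorProduct.smul_tmul]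
    rw [h2]
    change e (algebraMap B (q.Fiber B) (algebraMap A B a)) = _
    rw [e.commutes]
    change Ideal.Quotient.mk pSp (algebraMap B Sp (algebraMap A B a)) = _
    rw [← IsScalarTower.algebraMap_apply A B Sp, IsScalarTower.algebraMap_apply A Rp Sp]
  have h3 : Ideal.Quotient.mk pSp (aeval (algebraMap B Sp b) P) = 0 := by
    rw [aeval_def, Polynomial.hom_eval₂, ← hii, ← hi]
    change Polynomial.eval₂ ((e : q.Fiber B →+* Sp ⧸ pSp).comp _)
      ((e : q.Fiber B →+* Sp ⧸ pSp) _) P = 0
    rw [← Polynomial.hom_eval₂, ← Polynomial.eval₂_map, hPmap, hPb, map_zero]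
  have hnil : pSp ≤ nilradical Sp := by
    rw [hpSp, Ideal.map_le_iff_le_comap]
    haveI : Ring.KrullDimLE 0 Rp := .of_isLocalization _ hq _
    rw [← Ring.KrullDimLE.nilradical_eq_maximalIdeal]
    exact fun x hx => IsNilpotent.map hx _
  have h4 : IsNilpotent (aeval (algebraMap B Sp b) P) :=
    hnil (Ideal.Quotient.eq_zero_iff_mem.mp h3)
  obtain ⟨N, hN⟩ := h4
  exact ⟨P ^ N, hPm.pow N, by rw [← aeval_def, map_pow, hN]⟩

theorem exists_isIntegral_smul_of_finite_fiber {A B : Type u} [CommRing A] [CommRing B]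
    [Algebra A B] (q : Ideal A) [q.IsPrime] (hq : q ∈ minimalPrimes A)
    [Module.Finite q.ResidueField (q.Fiber B)] (b : B) :
    ∃ m : A, m ∉ q ∧ IsIntegral A (m • b) := by
  have h1 := isIntegral_localization_of_finite_fiber q hq b
  obtain ⟨⟨m, hm⟩, hm'⟩ := IsIntegral.exists_multiple_integral_of_isLocalization q.primeCompl _ h1
  have h2 : IsIntegral A (algebraMap B (Localization (Algebra.algebraMapSubmonoid B q.primeCompl))
      (m • b)) := by
    rw [Algebra.smul_def, map_mul, ← IsScalarTower.algebraMap_apply, ← Algebra.smul_def]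
    exact hm'
  obtain ⟨m', hm'M, h3⟩ := IsLocalization.exists_isIntegral_smul_of_isIntegral_map q.primeCompl h2
  refine ⟨m' * m, ?_, by rwa [mul_smul]⟩
  exact fun h => (‹q.IsPrime›.mem_or_mem h).elim hm'M hm


section
variable {A B A' B' : Type*} [CommRing A] [CommRing B] [CommRing A'] [CommRing B']
  [Algebra A A'] [Algebra B B']

theorem algebraMap_mem_subring_of_closure_eq_top (φ : A →+* B) (T : Subring B') (G : Set B)
    (hG : Subring.closure (Set.range φ ∪ G) = ⊤)
    (hφT : ∀ r, algebraMap B B' (φ r) ∈ T)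
    (h : ∀ g ∈ G, algebraMap B B' g ∈ T) (b : B) : algebraMap B B' b ∈ T := by
  have : (⊤ : Subring B) ≤ T.comap (algebraMap B B') := by
    rw [← hG, Subring.closure_le]
    rintro x (⟨r, rfl⟩ | hx)
    · exact hφT r
    · exact h x hx
  exact this trivial

theorem isIntegralElem_algebraMap_of_isIntegralElem (φ : A →+* B) (φ' : A' →+* B')
    (hφ' : φ'.comp (algebraMap A A') = (algebraMap B B').comp φ) (x : B)
    (hx : φ.IsIntegralElem x) : φ'.IsIntegralElem (algebraMap B B' x) := by
  obtain ⟨P, hPm, hP⟩ := hx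
  refine ⟨P.map (algebraMap A A'), hPm.map _, ?_⟩
  rw [Polynomial.eval₂_map, hφ', ← Polynomial.hom_eval₂, hP, map_zero]

end

theorem exists_finite_away_of_finite_fiber {A B : Type u} [CommRing A] [CommRing B] (φ : A →+* B)
    (hφ : φ.FiniteType) (q : Ideal A) [q.IsPrime] (hq : q ∈ minimalPrimes A)
    (hfin : (PrimeSpectrum.comap φ ⁻¹' {⟨q, inferInstance⟩}).Finite) :
    ∃ s : A, s ∉ q ∧ ∀ (t : A) (A' B' : Type u) [CommRing A'] [CommRing B'] [Algebra A A']
      [Algebra B B'] [IsLocalization.Away (s * t) A'] [IsLocalization.Away (φ (s * t)) B']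
      (φ' : A' →+* B'), φ'.comp (algebraMap A A') = (algebraMap B B').comp φ → φ'.Finite := by
  classical
  obtain ⟨G, hG⟩ := exists_finset_closure_eq_top_of_finiteType φ hφ
  let _ := φ.toAlgebra
  haveI : Algebra.FiniteType A B := hφ
  haveI : Module.Finite q.ResidueField (q.Fiber B) := finite_fiber_of_finite_preimage q hfin
  choose m hm hint using exists_isIntegral_smul_of_finite_fiber (B := B) q hq
  refine ⟨∏ g ∈ G, m g, fun hmem => ?_, ?_⟩
  · obtain ⟨g, -, hg'⟩ := (Ideal.IsPrime.prod_mem_iff).mp hmem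
    exact hm g hg'
  intro t A' B' _ _ _ _ _ _ φ' hφ'
  set s := ∏ g ∈ G, m g with hs
  have hft : φ'.FiniteType := by
    have h1 : (algebraMap B B').FiniteType := by
      have : Algebra.FinitePresentation B B' := IsLocalization.Away.finitePresentation (φ (s * t))
      exact RingHom.finiteType_algebraMap.mpr inferInstance
    have h2 : ((algebraMap B B').comp φ).FiniteType := h1.comp hφ
    rw [← hφ'] at h2
    exact RingHom.FiniteType.of_comp_finiteType h2
  refine RingHom.IsIntegral.to_finite ?_ hft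
  let _ := φ'.toAlgebra
  let T : Subring B' := (integralClosure A' B').toSubring
  have hT : ∀ z, z ∈ T ↔ φ'.IsIntegralElem z := fun z => Iff.rfl
  have e : ∀ r, algebraMap B B' (φ r) = φ' (algebraMap A A' r) :=
    fun r => (RingHom.congr_fun hφ' r).symm
  have hunit : ∀ g ∈ G, IsUnit (algebraMap A A' (m g)) := fun g hg =>
    isUnit_of_dvd_unit (map_dvd _ ((Finset.dvd_prod_of_mem m hg).trans (dvd_mul_right s t)))
      (IsLocalization.Away.algebraMap_isUnit (s * t))
  have h1 : ∀ b, algebraMap B B' b ∈ T := by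
    apply algebraMap_mem_subring_of_closure_eq_top φ T G hG
    · intro r
      rw [e]
      exact (integralClosure A' B').algebraMap_mem _
    · intro g hg
      have h2 : φ'.IsIntegralElem (algebraMap B B' (m g • g)) :=
        isIntegralElem_algebraMap_of_isIntegralElem φ φ' hφ' _ (hint g)
      obtain ⟨v, hv⟩ := hunit g hg
      have h3 : algebraMap B B' g = φ' ((v⁻¹ : A'ˣ) : A') * algebraMap B B' (m g • g) := by
        rw [Algebra.smul_def, map_mul, show algebraMap A B (m g) = φ (m g) from rfl, e, ← hv,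
          ← mul_assoc, ← map_mul, Units.inv_mul, map_one, one_mul]
      rw [h3]
      exact T.mul_mem ((integralClosure A' B').algebraMap_mem _) h2
  intro z
  obtain ⟨N, b, hz⟩ := IsLocalization.Away.surj (φ (s * t)) z
  obtain ⟨σ, hσ⟩ := IsLocalization.Away.algebraMap_isUnit (S := A') (s * t)
  have h4 : z = algebraMap B B' b * φ' (((σ⁻¹ : A'ˣ) : A') ^ N) := by
    rw [← hz, e, ← hσ, mul_assoc, ← map_pow, ← map_mul, ← mul_pow, Units.mul_inv, one_pow, map_one,
      mul_one]
  rw [h4]
  exact T.mul_mem (h1 b) ((integralClosure A' B').algebraMap_mem _)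

end Groth.Agent.Lib.Helper69
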