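import Mathlib.AlgebraicGeometry.Morphisms.Basic
import Mathlib.AlgebraicGeometry.Restrict

set_option autoImplicit false
universe u
open CategoryTheory CategoryTheory.Limits AlgebraicGeometry

namespace Groth.Agent.Lib.Helper69

/-- For `W ≤ W'`, the restriction `f ∣_ W` is a base change of `f ∣_ W'` along the open immersion
`W ⟶ W'`. -/
theorem isPullback_morphismRestrict_of_le {X Y : Scheme.{u}} (f : X ⟶ Y) {W W' : Y.Opens}
    (hle : W ≤ W') :
    IsPullback (X.homOfLE (f.preimage_mono hle)) (f ∣_ W) (f ∣_ W') (Y.homOfLE hle) := by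
  refine IsPullback.of_right ?_ ?_ (isPullback_morphismRestrict f W').flip
  · rw [Scheme.homOfLE_ι, Scheme.homOfLE_ι]
    exact (isPullback_morphismRestrict f W).flip
  · rw [← cancel_mono W'.ι, Category.assoc, Category.assoc, morphismRestrict_ι, Scheme.homOfLE_ι,
      Scheme.homOfLE_ι_assoc, morphismRestrict_ι]

/-- A property local at the target passes from `f ∣_ W'` to `f ∣_ W` for `W ≤ W'`. -/
theorem restrict_of_le {P : MorphismProperty Scheme.{u}} [IsZariskiLocalAtTarget P]
    {X Y : Scheme.{u}} (f : X ⟶ Y) {W W' : Y.Opens} (hle : W ≤ W') (h : P (f ∣_ W')) :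
    P (f ∣_ W) :=
  IsZariskiLocalAtTarget.of_isPullback (isPullback_morphismRestrict_of_le f hle) h

/-- A property local at the target holds for `f ∣_ W` as soon as every point of `W` has an open
neighbourhood `W'` with `P (f ∣_ W')`. -/
theorem restrict_of_forall_exists {P : MorphismProperty Scheme.{u}} [IsZariskiLocalAtTarget P]
    {X Y : Scheme.{u}} (f : X ⟶ Y) (W : Y.Opens)
    (H : ∀ y ∈ W, ∃ W' : Y.Opens, y ∈ W' ∧ P (f ∣_ W')) : P (f ∣_ W) := by
  apply IsZariskiLocalAtTarget.of_forall_exists_morphismRestrict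
  intro x
  obtain ⟨W', hxW', hW'⟩ := H x.1 x.2
  refine ⟨W.ι ⁻¹ᵁ W', hxW', ?_⟩
  rw [P.arrow_mk_iso_iff (morphismRestrictRestrict f W (W.ι ⁻¹ᵁ W'))]
  refine restrict_of_le f ?_ hW'
  rw [Scheme.Hom.image_preimage_eq_opensRange_inf]
  exact inf_le_right

end Groth.Agent.Lib.Helper69
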