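import Mathlib
import Groth.Agent.Lib.Helper69.GenericFinite
import Groth.Agent.Lib.Helper69.Birational2
import Groth.Agent.Lib.Helper69.LocalTarget

set_option autoImplicit false
universe u
open CategoryTheory AlgebraicGeometry TopologicalSpace

namespace Groth.Agent.Lib.Helper69

theorem primeIdealOf_mem_minimalPrimes {Y : Scheme.{u}} (V : Y.Opens) (hV : IsAffineOpen V)
    (η : Y) (hηV : η ∈ V) (hη : closure {η} ∈ irreducibleComponents Y) :
    (hV.primeIdealOf ⟨η, hηV⟩).asIdeal ∈ minimalPrimes Γ(Y, V) := by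
  refine ⟨⟨(hV.primeIdealOf ⟨η, hηV⟩).2, bot_le⟩, ?_⟩
  rintro p' ⟨hp', -⟩ hle
  have h1 : (⟨p', hp'⟩ : PrimeSpectrum Γ(Y, V)) ⤳ hV.primeIdealOf ⟨η, hηV⟩ :=
    (PrimeSpectrum.le_iff_specializes _ _).mp hle
  have h2 := h1.map hV.fromSpec.continuous
  rw [hV.fromSpec_primeIdealOf ⟨η, hηV⟩] at h2
  have h3 : hV.fromSpec ⟨p', hp'⟩ = η := eq_of_specializes_generic _ _ hη h2
  have h4 : (⟨p', hp'⟩ : PrimeSpectrum Γ(Y, V)) = hV.primeIdealOf ⟨η, hηV⟩ := by
    apply hV.fromSpec.isOpenEmbedding.injective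
    rw [h3, hV.fromSpec_primeIdealOf ⟨η, hηV⟩]
  exact (congrArg PrimeSpectrum.asIdeal h4).ge

set_option backward.isDefEq.respectTransparency.types false in
theorem exists_finite_appLE_of_finite_fiber {X Y : Scheme.{u}} (f : X ⟶ Y)
    [LocallyOfFiniteType f] (U : X.Opens) (V : Y.Opens) (hU : IsAffineOpen U)
    (hV : IsAffineOpen V) (h : U ≤ f ⁻¹ᵁ V) (η : Y) (hηV : η ∈ V)
    (hη : closure {η} ∈ irreducibleComponents Y)
    (hfin : ((U : Set X) ∩ f ⁻¹' {η}).Finite) :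
    ∃ (s : Γ(Y, V)), η ∈ Y.basicOpen s ∧ ∀ (t : Γ(Y, V))
      (h' : X.basicOpen ((f.appLE V U h).hom (s * t)) ≤ f ⁻¹ᵁ Y.basicOpen (s * t)),
      (f.appLE (Y.basicOpen (s * t)) (X.basicOpen ((f.appLE V U h).hom (s * t))) h').hom.Finite := by
  have hφ : (f.appLE V U h).hom.FiniteType :=
    HasRingHomProperty.appLE (P := @LocallyOfFiniteType) f inferInstance ⟨V, hV⟩ ⟨U, hU⟩ h
  have hq := primeIdealOf_mem_minimalPrimes V hV η hηV hη
  have hcomm := IsAffineOpen.SpecMap_appLE_fromSpec f hV hU h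
  have hfin' : (PrimeSpectrum.comap (f.appLE V U h).hom ⁻¹'
      {⟨(hV.primeIdealOf ⟨η, hηV⟩).asIdeal, inferInstance⟩}).Finite := by
    refine (hfin.preimage (hU.fromSpec.isOpenEmbedding.injective.injOn)).subset ?_
    intro P hP
    refine ⟨?_, ?_⟩
    · have : hU.fromSpec P ∈ Set.range hU.fromSpec := ⟨P, rfl⟩
      rw [hU.range_fromSpec] at this
      exact this
    · change f (hU.fromSpec P) = η
      have h1 : f (hU.fromSpec P) = hV.fromSpec (Spec.map (f.appLE V U h) P) := by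
        rw [← Scheme.Hom.comp_apply, ← hcomm, Scheme.Hom.comp_apply]
      rw [h1]
      have h2 : Spec.map (f.appLE V U h) P = hV.primeIdealOf ⟨η, hηV⟩ := hP
      rw [h2, hV.fromSpec_primeIdealOf ⟨η, hηV⟩]
  obtain ⟨s, hs, H⟩ := exists_finite_away_of_finite_fiber (f.appLE V U h).hom hφ _ hq hfin'
  refine ⟨s, (mem_basicOpen_iff_notMem_primeIdealOf hV η hηV s).mpr hs, ?_⟩
  intro t hUV
  have := hV.isLocalization_basicOpen (s * t)
  have := hU.isLocalization_basicOpen ((f.appLE V U h).hom (s * t))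
  have hcompat : (f.appLE (Y.basicOpen (s * t)) _ hUV).hom.comp
      (algebraMap Γ(Y, V) Γ(Y, Y.basicOpen (s * t))) =
      (algebraMap Γ(X, U) Γ(X, X.basicOpen ((f.appLE V U h).hom (s * t)))).comp
        (f.appLE V U h).hom := by
    ext a
    simp only [RingHom.comp_apply, RingHom.algebraMap_toAlgebra]
    rw [← CommRingCat.comp_apply, ← CommRingCat.comp_apply, Scheme.Hom.map_appLE,
      Scheme.Hom.appLE_map]
  exact H t _ _ _ hcompat

set_option backward.isDefEq.respectTransparency.types false in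
theorem isFinite_morphismRestrict_of_disjoint_cover {X Y : Scheme.{u}} (f : X ⟶ Y)
    [LocallyOfFiniteType f] (V : Y.Opens) (hV : IsAffineOpen V) {ι : Type*} [Finite ι]
    (W : ι → X.Opens) (hW : ∀ i, IsAffineOpen (W i))
    (hdisj : Pairwise (Function.onFun Disjoint W)) (hcover : ⨆ i, W i = f ⁻¹ᵁ V)
    (hle : ∀ i, W i ≤ f ⁻¹ᵁ V)
    (hfin : ∀ i, (f.appLE V (W i) (hle i)).hom.Finite) : IsFinite (f ∣_ V) := by
  have hU : IsAffineOpen (f ⁻¹ᵁ V) := hcover ▸ IsAffineOpen.iSup_of_disjoint hW hdisj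
  have : IsAffine (V : Scheme) := hV
  have : IsAffine ((f ⁻¹ᵁ V : X.Opens) : Scheme) := hU
  rw [HasAffineProperty.iff_of_isAffine (P := @IsFinite)]
  refine ⟨hU, ?_⟩
  have key : (f.appLE V (f ⁻¹ᵁ V) le_rfl).hom.Finite := by
    have hft : (f.appLE V (f ⁻¹ᵁ V) le_rfl).hom.FiniteType :=
      HasRingHomProperty.appLE (P := @LocallyOfFiniteType) f inferInstance ⟨V, hV⟩ ⟨_, hU⟩ le_rfl
    refine RingHom.IsIntegral.to_finite ?_ hft
    intro b
    have hint : ∀ i, ∃ P : Polynomial Γ(Y, V), P.Monic ∧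
        Polynomial.eval₂ (f.appLE V (W i) (hle i)).hom
          ((X.presheaf.map (homOfLE (hle i)).op).hom b) P = 0 := fun i =>
      (hfin i).to_isIntegral _
    choose P hPm hP using hint
    cases nonempty_fintype ι
    refine ⟨∏ i, P i, Polynomial.monic_prod_of_monic _ _ (fun i _ => hPm i), ?_⟩
    refine TopCat.Sheaf.eq_of_locally_eq' X.sheaf W (f ⁻¹ᵁ V) (fun i => homOfLE (hle i))
      hcover.ge _ 0 ?_
    intro j
    show (X.presheaf.map (homOfLE (hle j)).op).hom _ = (X.presheaf.map (homOfLE (hle j)).op).hom 0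
    rw [map_zero]
    rw [Polynomial.hom_eval₂]
    have hcomp : (X.presheaf.map (homOfLE (hle j)).op).hom.comp (f.appLE V (f ⁻¹ᵁ V) le_rfl).hom =
        (f.appLE V (W j) (hle j)).hom := by
      rw [← CommRingCat.hom_comp, Scheme.Hom.appLE_map]
    rw [hcomp, Polynomial.eval₂_finsetProd]
    exact Finset.prod_eq_zero (Finset.mem_univ j) (hP j)
  have e := arrowResLEAppIso f V (f ⁻¹ᵁ V) le_rfl
  rw [Scheme.Hom.resLE_eq_morphismRestrict] at e
  exact (RingHom.finite_respectsIso.arrow_mk_iso_iff e).mpr key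

set_option backward.isDefEq.respectTransparency.types false in
theorem exists_isFinite_morphismRestrict_of_cover {X Y : Scheme.{u}} (f : X ⟶ Y)
    [LocallyOfFiniteType f] [QuasiCompact f] (η : Y)
    (hη : closure {η} ∈ irreducibleComponents Y)
    (V₀ : Y.Opens) (hV₀ : IsAffineOpen V₀) (hηV₀ : η ∈ V₀)
    {ι : Type*} [Finite ι] (U : ι → X.Opens) (hU : ∀ i, IsAffineOpen (U i))
    (hle : ∀ i, U i ≤ f ⁻¹ᵁ V₀)
    (hfin : ∀ i, ((U i : Set X) ∩ f ⁻¹' {η}).Finite)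
    (hcov : f ⁻¹' {η} ⊆ ⋃ i, (U i : Set X))
    (hsep : ∀ i j, i ≠ j → η ∉ closure (f '' ((U i : Set X) ∩ U j))) :
    ∃ V : Y.Opens, IsAffineOpen V ∧ η ∈ V ∧ V ≤ V₀ ∧ IsFinite (f ∣_ V) := by
  classical
  cases nonempty_fintype ι
  have H := fun i => exists_finite_appLE_of_finite_fiber f (U i) V₀ (hU i) hV₀ (hle i) η hηV₀ hη
    (hfin i)
  choose s hs Hs using H
  -- the closed complement of the cover
  set C : Set X := (⋃ i, (U i : Set X))ᶜ with hCdef
  have hC : IsClosed C := (isOpen_iUnion fun i => (U i).2).isClosed_compl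
  have hηC : η ∉ closure (f '' C) := by
    intro hmem
    obtain ⟨z, hzC, hz⟩ := exists_specializes_of_mem_closure_image f C hC η hmem
    have hzη : f z = η := eq_of_specializes_generic _ _ hη hz
    exact hzC (hcov hzη)
  -- the bad closed set
  let Z : Set Y := closure (f '' C) ∪
    ⋃ p : {p : ι × ι // p.1 ≠ p.2}, closure (f '' ((U p.1.1 : Set X) ∩ U p.1.2))
  have hZ : IsClosed Z := isClosed_closure.union (isClosed_iUnion_of_finite fun _ => isClosed_closure)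
  have hηZ : η ∉ Z := by
    rintro (h | h)
    · exact hηC h
    · obtain ⟨p, hp⟩ := Set.mem_iUnion.mp h
      exact hsep _ _ p.2 hp
  let N : Y.Opens := ⟨Zᶜ, hZ.isOpen_compl⟩
  obtain ⟨t, htN, hηt⟩ := hV₀.exists_basicOpen_le (V := N) ⟨η, hηZ⟩ hηV₀
  set S : Γ(Y, V₀) := ∏ i, s i with hSdef
  have hηS : η ∈ Y.basicOpen S := by
    rw [mem_basicOpen_iff_notMem_primeIdealOf hV₀ η hηV₀]
    intro hmem
    obtain ⟨i, -, hi⟩ := (Ideal.IsPrime.prod_mem_iff (hp := (hV₀.primeIdealOf ⟨η, hηV₀⟩).2)).mp hmem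
    exact (mem_basicOpen_iff_notMem_primeIdealOf hV₀ η hηV₀ _).mp (hs i) hi
  refine ⟨Y.basicOpen (S * t), hV₀.basicOpen _, ?_, Y.basicOpen_le _, ?_⟩
  · rw [Scheme.basicOpen_mul]
    exact ⟨hηS, hηt⟩
  have hVN : ∀ y ∈ Y.basicOpen (S * t), y ∉ Z := by
    intro y hy
    rw [Scheme.basicOpen_mul] at hy
    exact htN hy.2
  have hWeq : ∀ i, X.basicOpen ((f.appLE V₀ (U i) (hle i)).hom (S * t)) =
      U i ⊓ f ⁻¹ᵁ (Y.basicOpen (S * t)) := fun i => Scheme.basicOpen_appLE f (U i) V₀ (hle i) _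
  refine isFinite_morphismRestrict_of_disjoint_cover f _ (hV₀.basicOpen _)
    (fun i => X.basicOpen ((f.appLE V₀ (U i) (hle i)).hom (S * t)))
    (fun i => (hU i).basicOpen _) ?_ ?_ (fun i => (hWeq i).le.trans inf_le_right) ?_
  · intro i j hij
    show Disjoint (X.basicOpen ((f.appLE V₀ (U i) (hle i)).hom (S * t)))
      (X.basicOpen ((f.appLE V₀ (U j) (hle j)).hom (S * t)))
    rw [hWeq, hWeq, ← Opens.coe_disjoint, Set.disjoint_left]
    rintro x ⟨hxi, hxV⟩ ⟨hxj, -⟩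
    refine hVN (f x) hxV (Or.inr ?_)
    exact Set.mem_iUnion.mpr ⟨⟨(i, j), hij⟩, subset_closure ⟨x, ⟨hxi, hxj⟩, rfl⟩⟩
  · apply le_antisymm
    · exact iSup_le fun i => (hWeq i).le.trans inf_le_right
    · intro x hx
      have hxC : x ∉ C := fun hxC => hVN (f x) hx (Or.inl (subset_closure ⟨x, hxC, rfl⟩))
      rw [hCdef, Set.notMem_compl_iff] at hxC
      obtain ⟨i, hi⟩ := Set.mem_iUnion.mp hxC
      refine Opens.mem_iSup.mpr ⟨i, ?_⟩
      rw [hWeq]
      exact ⟨hi, hx⟩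
  · intro i
    have hSt : S * t = s i * ((∏ j ∈ Finset.univ.erase i, s j) * t) := by
      rw [hSdef, ← mul_assoc, Finset.mul_prod_erase _ _ (Finset.mem_univ i)]
    have gen : ∀ r : Γ(Y, V₀), r = s i * ((∏ j ∈ Finset.univ.erase i, s j) * t) →
        ∀ h' : X.basicOpen ((f.appLE V₀ (U i) (hle i)).hom r) ≤ f ⁻¹ᵁ Y.basicOpen r,
        (f.appLE (Y.basicOpen r) (X.basicOpen ((f.appLE V₀ (U i) (hle i)).hom r)) h').hom.Finite := by
      rintro r rfl h'
      exact Hs i _ h'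
    exact gen _ hSt _


theorem finite_setOf_generic {T : Type*} [TopologicalSpace T] [T0Space T]
    (hT : (irreducibleComponents T).Finite) :
    {x : T | closure {x} ∈ irreducibleComponents T}.Finite := by
  refine hT.preimage (f := fun x : T => closure {x}) ?_
  intro x _ y _ h
  exact (inseparable_iff_closure_eq.mpr h).eq

theorem exists_isFinite_morphismRestrict_of_generic {X Y : Scheme.{u}} (f : X ⟶ Y)
    [LocallyOfFiniteType f] [QuasiCompact f]
    (hX : (irreducibleComponents X).Finite)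
    (ξ : Y) (hξ : closure {ξ} ∈ irreducibleComponents Y)
    (hgen : ∀ x : X, f x = ξ → closure {x} ∈ irreducibleComponents X) :
    ∃ V : Y.Opens, IsAffineOpen V ∧ ξ ∈ V ∧ IsFinite (f ∣_ V) := by
  obtain ⟨_, ⟨V₀, hV₀ : IsAffineOpen V₀, rfl⟩, hξV₀, -⟩ :=
    Y.isBasis_affineOpens.exists_subset_of_mem_open (Set.mem_univ ξ) isOpen_univ
  have hFfin : (f ⁻¹' {ξ}).Finite := (finite_setOf_generic hX).subset fun x hx => hgen x hx
  have : Finite (f ⁻¹' {ξ}) := hFfin.to_subtype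
  have hex : ∀ x : f ⁻¹' {ξ}, ∃ U : X.Opens, IsAffineOpen U ∧ x.1 ∈ U ∧
      (U : Set X) ⊆ genOpen x.1 ∩ (f ⁻¹ᵁ V₀ : X.Opens) := by
    intro x
    have hxV₀ : x.1 ∈ (f ⁻¹ᵁ V₀ : X.Opens) := by
      show f x.1 ∈ V₀
      rw [x.2]; exact hξV₀
    obtain ⟨_, ⟨U, hU : IsAffineOpen U, rfl⟩, hxU, hUsub⟩ :=
      X.isBasis_affineOpens.exists_subset_of_mem_open
        (⟨mem_genOpen x.1 (hgen x.1 x.2), hxV₀⟩ : x.1 ∈ genOpen x.1 ∩ (f ⁻¹ᵁ V₀ : X.Opens))
        ((isOpen_genOpen hX x.1).inter (f ⁻¹ᵁ V₀).2)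
    exact ⟨U, hU, hxU, hUsub⟩
  choose U hU hxU hUsub using hex
  have hsep : ∀ x y : f ⁻¹' {ξ}, x ≠ y → ξ ∉ closure (f '' ((U x : Set X) ∩ U y)) := by
    intro x y hxy
    have hdisj : Disjoint (genOpen x.1) (genOpen y.1) :=
      disjoint_genOpen x.1 y.1 (hgen x.1 x.2) (fun h => hxy (Subtype.ext h))
    have hemp : (U x : Set X) ∩ U y = ∅ := by
      rw [← Set.disjoint_iff_inter_eq_empty]
      exact hdisj.mono (fun z hz => (hUsub x hz).1) (fun z hz => (hUsub y hz).1)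
    rw [hemp, Set.image_empty, closure_empty]
    exact Set.notMem_empty _
  obtain ⟨V, hV, hξV, -, hfinV⟩ := exists_isFinite_morphismRestrict_of_cover f ξ hξ V₀ hV₀ hξV₀ U hU
    (fun x y hy => (hUsub x hy).2) (fun x => hFfin.subset Set.inter_subset_right)
    (fun x hx => Set.mem_iUnion.mpr ⟨⟨x, hx⟩, hxU ⟨x, hx⟩⟩) hsep
  exact ⟨V, hV, hξV, hfinV⟩

set_option backward.isDefEq.respectTransparency.types false in
theorem exists_dense_isFinite_morphismRestrict {X Y : Scheme.{u}} (f : X ⟶ Y)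
    [LocallyOfFiniteType f] [QuasiCompact f]
    (hX : (irreducibleComponents X).Finite)
    (hgen : ∀ x : X, closure {f x} ∈ irreducibleComponents Y →
      closure {x} ∈ irreducibleComponents X) :
    ∃ V : Y.Opens, Dense (V : Set Y) ∧ IsFinite (f ∣_ V) := by
  have hex : ∀ ξ : {y : Y | closure {y} ∈ irreducibleComponents Y}, ∃ V : Y.Opens,
      IsAffineOpen V ∧ ξ.1 ∈ V ∧ IsFinite (f ∣_ V) := fun ξ =>
    exists_isFinite_morphismRestrict_of_generic f hX ξ.1 ξ.2 (fun x hx => hgen x (hx ▸ ξ.2))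
  choose V hV hξV hfinV using hex
  refine ⟨⨆ ξ, V ξ, ?_, ?_⟩
  · apply dense_of_forall_generic_mem
    intro η hη
    exact Opens.mem_iSup.mpr ⟨⟨η, hη⟩, hξV ⟨η, hη⟩⟩
  · apply restrict_of_forall_exists (P := @IsFinite)
    intro y hy
    obtain ⟨ξ, hξ⟩ := Opens.mem_iSup.mp hy
    exact ⟨V ξ, hξ, hfinV ξ⟩

end Groth.Agent.Lib.Helper69
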