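import Mathlib

/-!
# Flatness up to torsion (helper69)

For a submonoid `S` of a commutative ring `R` and an `R`-module `Q`, `TorsFlat S Q` is an element-wise
reformulation of "the localization `S⁻¹Q` is flat": for every ideal `I`, every element of `Q ⊗ I` that dies
in `Q ⊗ R` is `S`-torsion. This formulation is monotone in `S`, stable under extensions and directed unions,
which makes it convenient for generic flatness arguments.

Also: subquotients `SQ X Y = Y / (X ∩ Y)` of a fixed module and the corresponding stability lemmas.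
-/

set_option autoImplicit false
universe u v w

open TensorProduct

namespace Groth.Agent.Lib.Helper69

section TorsFlat

variable {R : Type u} [CommRing R]

/-- `Q` is flat up to `S`-torsion. -/
def TorsFlat (S : Submonoid R) (Q : Type v) [AddCommGroup Q] [Module R Q] : Prop :=
  ∀ I : Ideal R, ∀ x : Q ⊗[R] I, (I.subtype.lTensor Q) x = 0 → ∃ s ∈ S, s • x = 0

variable {S : Submonoid R} {Q : Type v} [AddCommGroup Q] [Module R Q]

theorem TorsFlat.mono {S' : Submonoid R} (h : S ≤ S') (hQ : TorsFlat S Q) : TorsFlat S' Q :=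
  fun I x hx => let ⟨s, hs, hsx⟩ := hQ I x hx; ⟨s, h hs, hsx⟩

theorem TorsFlat.of_dvd {S' : Submonoid R} (h : ∀ s ∈ S, ∃ s' ∈ S', s ∣ s')
    (hQ : TorsFlat S Q) : TorsFlat S' Q := fun I x hx => by
  obtain ⟨s, hs, hsx⟩ := hQ I x hx
  obtain ⟨s', hs', t, rfl⟩ := h s hs
  exact ⟨_, hs', by rw [mul_comm, mul_smul, hsx, smul_zero]⟩

theorem TorsFlat.powers_of_dvd {f g : R} (h : f ∣ g)
    (hQ : TorsFlat (Submonoid.powers f) Q) : TorsFlat (Submonoid.powers g) Q :=
  hQ.of_dvd (by
    rintro _ ⟨n, rfl⟩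
    exact ⟨g ^ n, ⟨n, rfl⟩, pow_dvd_pow_of_dvd h n⟩)

theorem TorsFlat.of_flat (S : Submonoid R) [Module.Flat R Q] : TorsFlat S Q := by
  intro I x hx
  refine ⟨1, S.one_mem, ?_⟩
  have := Module.Flat.lTensor_preserves_injective_linearMap (M := Q) I.subtype
    Subtype.val_injective
  rw [one_smul]
  exact this (by rw [hx, map_zero])

theorem TorsFlat.of_torsion (h : ∀ q : Q, ∃ s ∈ S, s • q = 0) : TorsFlat S Q := by
  intro I x _
  have key : ∀ x : Q ⊗[R] I, ∃ s ∈ S, s • x = 0 := by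
    intro x
    induction x using TensorProduct.induction_on with
    | zero => exact ⟨1, S.one_mem, smul_zero _⟩
    | tmul q i =>
      obtain ⟨s, hs, hsq⟩ := h q
      exact ⟨s, hs, by rw [TensorProduct.smul_tmul', hsq, TensorProduct.zero_tmul]⟩
    | add x y hx hy =>
      obtain ⟨s, hs, hsx⟩ := hx
      obtain ⟨t, ht, hty⟩ := hy
      exact ⟨s * t, S.mul_mem hs ht, by
        rw [smul_add, mul_smul s t y, hty, smul_zero, add_zero, mul_comm, mul_smul, hsx, smul_zero]⟩
  exact key x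

theorem TorsFlat.of_subsingleton [Subsingleton Q] : TorsFlat S Q :=
  TorsFlat.of_torsion fun _ => ⟨1, S.one_mem, Subsingleton.elim _ _⟩

theorem TorsFlat.of_linearEquiv {Q' : Type w} [AddCommGroup Q'] [Module R Q'] (e : Q ≃ₗ[R] Q')
    (hQ : TorsFlat S Q) : TorsFlat S Q' := by
  intro I x hx
  have h1 : (I.subtype.lTensor Q) ((e.symm.toLinearMap.rTensor I) x) = 0 := by
    rw [← LinearMap.comp_apply, LinearMap.lTensor_comp_rTensor, ← LinearMap.rTensor_comp_lTensor,
      LinearMap.comp_apply, hx, map_zero]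
  obtain ⟨s, hs, hsx⟩ := hQ I _ h1
  refine ⟨s, hs, ?_⟩
  have h2 : (e.toLinearMap.rTensor I) ((e.symm.toLinearMap.rTensor I) x) = x := by
    rw [← LinearMap.comp_apply, ← LinearMap.rTensor_comp]
    simp
  rw [← h2, ← map_smul, hsx, map_zero]

/-- `TorsFlat` is stable under extensions. -/
theorem TorsFlat.of_exact {Q' : Type v} {Q'' : Type v} [AddCommGroup Q'] [Module R Q']
    [AddCommGroup Q''] [Module R Q''] (i : Q' →ₗ[R] Q) (p : Q →ₗ[R] Q'')
    (hi : Function.Injective i) (hex : Function.Exact i p) (hp : Function.Surjective p)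
    (h' : TorsFlat S Q') (h'' : TorsFlat S Q'') : TorsFlat S Q := by
  intro I x hx
  have h1 : (I.subtype.lTensor Q'') ((p.rTensor I) x) = 0 := by
    rw [← LinearMap.comp_apply, LinearMap.lTensor_comp_rTensor, ← LinearMap.rTensor_comp_lTensor,
      LinearMap.comp_apply, hx, map_zero]
  obtain ⟨s, hs, hsx⟩ := h'' I _ h1
  have hexI : Function.Exact (i.rTensor I) (p.rTensor I) := rTensor_exact I hex hp
  have h2 : (p.rTensor I) (s • x) = 0 := by rw [map_smul, hsx]
  obtain ⟨y, hy⟩ := (hexI (s • x)).mp h2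
  have hiR : Function.Injective (i.rTensor R) :=
    Module.Flat.rTensor_preserves_injective_linearMap i hi
  have h3 : (I.subtype.lTensor Q') y = 0 := by
    apply hiR
    rw [map_zero, ← LinearMap.comp_apply, LinearMap.rTensor_comp_lTensor,
      ← LinearMap.lTensor_comp_rTensor, LinearMap.comp_apply, hy, map_smul, hx, smul_zero]
  obtain ⟨t, ht, hty⟩ := h' I y h3
  refine ⟨t * s, S.mul_mem ht hs, ?_⟩
  rw [mul_smul, ← hy, ← map_smul, hty, map_zero]

/-- `TorsFlat` passes to directed unions. -/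
theorem TorsFlat.of_directed {ι : Type*} (L' : ι → Type w) [∀ i, AddCommGroup (L' i)]
    [∀ i, Module R (L' i)] (j : ∀ i, L' i →ₗ[R] Q) (hj : ∀ i, Function.Injective (j i))
    (hdir : ∀ a b, ∃ (c : ι) (φa : L' a →ₗ[R] L' c) (φb : L' b →ₗ[R] L' c),
      (j c) ∘ₗ φa = j a ∧ (j c) ∘ₗ φb = j b)
    (hcov : ∀ x : Q, ∃ i, x ∈ LinearMap.range (j i))
    (h : ∀ i, TorsFlat S (L' i)) : TorsFlat S Q := by
  intro I x hx
  have key : ∀ x : Q ⊗[R] I, ∃ i, x ∈ LinearMap.range ((j i).rTensor I) := by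
    intro x
    induction x using TensorProduct.induction_on with
    | zero =>
      obtain ⟨i, _⟩ := hcov 0
      exact ⟨i, Submodule.zero_mem _⟩
    | tmul q a =>
      obtain ⟨i, l, rfl⟩ := hcov q
      exact ⟨i, l ⊗ₜ a, by simp⟩
    | add x y hx hy =>
      obtain ⟨a, x', rfl⟩ := hx
      obtain ⟨b, y', rfl⟩ := hy
      obtain ⟨c, φa, φb, ha, hb⟩ := hdir a b
      refine ⟨c, (φa.rTensor I) x' + (φb.rTensor I) y', ?_⟩
      rw [map_add, ← LinearMap.comp_apply, ← LinearMap.comp_apply, ← LinearMap.rTensor_comp,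
        ← LinearMap.rTensor_comp, ha, hb]
  obtain ⟨i, x', rfl⟩ := key x
  have hiR : Function.Injective ((j i).rTensor R) :=
    Module.Flat.rTensor_preserves_injective_linearMap (j i) (hj i)
  have h3 : (I.subtype.lTensor (L' i)) x' = 0 := by
    apply hiR
    rw [map_zero, ← LinearMap.comp_apply, LinearMap.rTensor_comp_lTensor,
      ← LinearMap.lTensor_comp_rTensor, LinearMap.comp_apply, hx]
  obtain ⟨s, hs, hsx⟩ := h i I x' h3
  exact ⟨s, hs, by rw [← map_smul, hsx, map_zero]⟩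

/-- `TorsFlat S Q` implies that the localization `S⁻¹Q` is flat over `S⁻¹R`. -/
theorem TorsFlat.flat_localizedModule (hQ : TorsFlat S Q) :
    Module.Flat (Localization S) (LocalizedModule S Q) := by
  rw [Module.flat_iff_of_isLocalization (Localization S) S, Module.Flat.iff_lTensor_injective']
  intro I
  rw [injective_iff_map_eq_zero]
  intro y hy
  let φI : Q ⊗[R] I →ₗ[R] LocalizedModule S Q ⊗[R] I :=
    (LocalizedModule.mkLinearMap S Q).rTensor I
  let φR : Q ⊗[R] R →ₗ[R] LocalizedModule S Q ⊗[R] R :=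
    (LocalizedModule.mkLinearMap S Q).rTensor R
  have hI : IsLocalizedModule S φI :=
    IsLocalizedModule.rTensor (R := R) (A := R) S (N := I) (LocalizedModule.mkLinearMap S Q)
  have hR : IsLocalizedModule S φR :=
    IsLocalizedModule.rTensor (R := R) (A := R) S (N := R) (LocalizedModule.mkLinearMap S Q)
  obtain ⟨⟨x, s⟩, hxs⟩ := IsLocalizedModule.surj S φI y
  have h1 : φR ((I.subtype.lTensor Q) x) = 0 := by
    change ((LocalizedModule.mkLinearMap S Q).rTensor R) ((I.subtype.lTensor Q) x) = 0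
    rw [← LinearMap.comp_apply, LinearMap.rTensor_comp_lTensor, ← LinearMap.lTensor_comp_rTensor,
      LinearMap.comp_apply]
    change (I.subtype.lTensor _) (φI x) = 0
    rw [← hxs]
    change (I.subtype.lTensor _) ((s : R) • y) = 0
    rw [map_smul, hy, smul_zero]
  obtain ⟨t, ht⟩ := (IsLocalizedModule.eq_zero_iff S φR).mp h1
  have h2 : (I.subtype.lTensor Q) ((t : R) • x) = 0 := by
    rw [map_smul]; exact ht
  obtain ⟨s', hs', hs'x⟩ := hQ I _ h2
  have h3 : φI x = 0 := by
    rw [IsLocalizedModule.eq_zero_iff S φI]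
    exact ⟨⟨s', hs'⟩ * t, by
      change (s' * (t : R)) • x = 0
      rw [mul_smul]; exact hs'x⟩
  rw [h3] at hxs
  exact (IsLocalizedModule.smul_injective φI s) (by simpa using hxs)

end TorsFlat

section SubQuot

variable {R : Type u} [CommRing R] {N : Type v} [AddCommGroup N] [Module R N]

/-- The subquotient `Y / (X ∩ Y)` of two submodules of a fixed module. -/
abbrev SQ (X Y : Submodule R N) : Type v := ↥Y ⧸ X.comap Y.subtype

/-- The map `Y / X → Z / X` induced by `Y ≤ Z`. -/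
def SQ.incl (X : Submodule R N) {Y Z : Submodule R N} (h : Y ≤ Z) : SQ X Y →ₗ[R] SQ X Z :=
  Submodule.mapQ _ _ (Submodule.inclusion h) (fun _ hy => hy)

@[simp]
theorem SQ.incl_mk (X : Submodule R N) {Y Z : Submodule R N} (h : Y ≤ Z) (y : Y) :
    SQ.incl X h (Submodule.Quotient.mk y) = Submodule.Quotient.mk (Submodule.inclusion h y) := rfl

theorem SQ.incl_injective (X : Submodule R N) {Y Z : Submodule R N} (h : Y ≤ Z) :
    Function.Injective (SQ.incl X h) := by
  rw [injective_iff_map_eq_zero]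
  intro q hq
  obtain ⟨y, rfl⟩ := Submodule.Quotient.mk_surjective _ q
  rw [SQ.incl_mk, Submodule.Quotient.mk_eq_zero] at hq
  rw [Submodule.Quotient.mk_eq_zero]
  exact hq

theorem SQ.incl_comp (X : Submodule R N) {Y Z W : Submodule R N} (h : Y ≤ Z) (h' : Z ≤ W) :
    SQ.incl X h' ∘ₗ SQ.incl X h = SQ.incl X (h.trans h') := by
  apply LinearMap.ext
  intro q
  obtain ⟨y, rfl⟩ := Submodule.Quotient.mk_surjective _ q
  rfl

/-- The map `Z / X → Z / Y` induced by `X ≤ Y`. -/
def SQ.proj {X Y : Submodule R N} (h : X ≤ Y) (Z : Submodule R N) : SQ X Z →ₗ[R] SQ Y Z :=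
  Submodule.factor (Submodule.comap_mono h)

@[simp]
theorem SQ.proj_mk {X Y : Submodule R N} (h : X ≤ Y) (Z : Submodule R N) (z : Z) :
    SQ.proj h Z (Submodule.Quotient.mk z) = Submodule.Quotient.mk z := rfl

theorem SQ.proj_surjective {X Y : Submodule R N} (h : X ≤ Y) (Z : Submodule R N) :
    Function.Surjective (SQ.proj h Z) := by
  intro q
  obtain ⟨z, rfl⟩ := Submodule.Quotient.mk_surjective _ q
  exact ⟨Submodule.Quotient.mk z, rfl⟩

theorem SQ.exact {X Y Z : Submodule R N} (hXY : X ≤ Y) (hYZ : Y ≤ Z) :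
    Function.Exact (SQ.incl X hYZ) (SQ.proj hXY Z) := by
  intro q
  constructor
  · intro hq
    obtain ⟨z, rfl⟩ := Submodule.Quotient.mk_surjective _ q
    rw [SQ.proj_mk, Submodule.Quotient.mk_eq_zero] at hq
    exact ⟨Submodule.Quotient.mk ⟨z.1, hq⟩, rfl⟩
  · rintro ⟨q', rfl⟩
    obtain ⟨y, rfl⟩ := Submodule.Quotient.mk_surjective _ q'
    rw [SQ.incl_mk, SQ.proj_mk, Submodule.Quotient.mk_eq_zero]
    exact y.2

theorem SQ.subsingleton {X Y : Submodule R N} (h : Y ≤ X) : Subsingleton (SQ X Y) := by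
  refine ⟨fun a b => ?_⟩
  obtain ⟨y, rfl⟩ := Submodule.Quotient.mk_surjective _ a
  obtain ⟨y', rfl⟩ := Submodule.Quotient.mk_surjective _ b
  rw [Submodule.Quotient.eq]
  exact h (Y.sub_mem y.2 y'.2)

/-- `⊤ / X ≃ N / X`. -/
noncomputable def SQ.topEquiv (X : Submodule R N) : SQ X ⊤ ≃ₗ[R] N ⧸ X :=
  Submodule.Quotient.equiv _ _ Submodule.topEquiv (by
    ext x
    simp)

variable {S : Submonoid R}

theorem TorsFlat.sq_trans {X Y Z : Submodule R N} (hXY : X ≤ Y) (hYZ : Y ≤ Z)
    (h1 : TorsFlat S (SQ X Y)) (h2 : TorsFlat S (SQ Y Z)) : TorsFlat S (SQ X Z) :=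
  TorsFlat.of_exact (SQ.incl X hYZ) (SQ.proj hXY Z) (SQ.incl_injective _ _) (SQ.exact _ _)
    (SQ.proj_surjective _ _) h1 h2

theorem TorsFlat.sq_of_monotone (X Z : Submodule R N) (Y : ℕ → Submodule R N)
    (hmono : Monotone Y) (hle : ∀ k, Y k ≤ Z) (hcov : ∀ z ∈ Z, ∃ k, z ∈ Y k)
    (h : ∀ k, TorsFlat S (SQ X (Y k))) : TorsFlat S (SQ X Z) :=
  TorsFlat.of_directed (fun k => SQ X (Y k)) (fun k => SQ.incl X (hle k))
    (fun k => SQ.incl_injective _ _)
    (fun a b => ⟨max a b, SQ.incl X (hmono (le_max_left a b)),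
      SQ.incl X (hmono (le_max_right a b)), SQ.incl_comp _ _ _, SQ.incl_comp _ _ _⟩)
    (fun q => by
      obtain ⟨z, rfl⟩ := Submodule.Quotient.mk_surjective _ q
      obtain ⟨k, hk⟩ := hcov z.1 z.2
      exact ⟨k, Submodule.Quotient.mk ⟨z.1, hk⟩, rfl⟩) h

theorem TorsFlat.sq_of_le {X Y : Submodule R N} (h : Y ≤ X) : TorsFlat S (SQ X Y) :=
  haveI := SQ.subsingleton h
  TorsFlat.of_subsingleton

end SubQuot

end Groth.Agent.Lib.Helper69
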