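import Mathlib
import Groth.Agent.Lib.Helper69.TorsFlat
import Groth.Agent.Lib.Helper91.GenericFreeness

/-!
# Generic flatness of cokernels (helper69)

EGA IV 6.9.2-style dévissage: for a Noetherian domain `R`, finite type maps `R → A → B`, a finite `A`-module
`M`, a finite `B`-module `N` and an `A`-linear map `u : M → N`, the cokernel of `u` is flat over `R` after
inverting one nonzero element of `R`.
-/

set_option autoImplicit false
universe u v w

open TensorProduct

namespace Groth.Agent.Lib.Helper69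

section GF

variable {R : Type u} [CommRing R] [IsDomain R]

/-- Generic flatness (via helper91's generic freeness) in `TorsFlat` form. -/
theorem exists_torsFlat_of_finite (C : Type v) [CommRing C] [Algebra R C] [Algebra.FiniteType R C]
    (Q : Type w) [AddCommGroup Q] [Module C Q] [Module R Q] [IsScalarTower R C Q]
    [Module.Finite C Q] : ∃ f : R, f ≠ 0 ∧ TorsFlat (Submonoid.powers f) Q := by
  obtain ⟨a, ha, -, ⟨ι, e, hli, hsp⟩, -, -⟩ :=
    Groth.Agent.Lib.Helper91.generic_freeness_data (R := R) (S := C) (M := Q)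
  refine ⟨a, ha, ?_⟩
  let F : Submodule R Q := Submodule.span R (Set.range e)
  have : Module.Free R F := Module.Free.of_basis (Module.Basis.span hli)
  refine TorsFlat.of_exact F.subtype F.mkQ (Submodule.injective_subtype F)
    (LinearMap.exact_subtype_mkQ F) (Submodule.mkQ_surjective F) (TorsFlat.of_flat _)
    (TorsFlat.of_torsion ?_)
  intro q
  obtain ⟨y, rfl⟩ := Submodule.mkQ_surjective F q
  obtain ⟨k, hk⟩ := hsp y
  exact ⟨a ^ k, ⟨k, rfl⟩, by
    rw [← map_smul, Submodule.mkQ_apply, Submodule.Quotient.mk_eq_zero]; exact hk⟩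

end GF

section Transfer

variable {R : Type u} [CommRing R] {S : Submonoid R}

/-- Transfer of `TorsFlat` along a surjection whose kernel is a submodule over a bigger ring. -/
theorem TorsFlat.of_surjective_of_ker {C : Type v} [CommRing C] [Algebra R C] {W : Type w}
    [AddCommGroup W] [Module C W] [Module R W] [IsScalarTower R C W] (K : Submodule C W)
    {Q : Type w} [AddCommGroup Q] [Module R Q] (ψ : W →ₗ[R] Q) (hψ : Function.Surjective ψ)
    (hK : ∀ w, ψ w = 0 ↔ w ∈ K) (h : TorsFlat S (W ⧸ K)) : TorsFlat S Q := by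
  have hker : K.restrictScalars R = LinearMap.ker ψ := by
    ext w
    rw [LinearMap.mem_ker, hK]
    rfl
  exact h.of_linearEquiv ((Submodule.Quotient.restrictScalarsEquiv R K).symm ≪≫ₗ
    Submodule.quotEquivOfEq _ _ hker ≪≫ₗ ψ.quotKerEquivOfSurjective hψ)

end Transfer

section OneVar

variable {R : Type u} [CommRing R] {C : Type v} [CommRing C] [Algebra R C]
  {N : Type w} [AddCommGroup N] [Module C N] [Module R N] [IsScalarTower R C N]
  (T : N →ₗ[C] N) (P₀ : Submodule C N)

/-- The filtration `P₀ + T P₀ + ⋯ + T^k P₀`. -/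
def Pk : ℕ → Submodule C N
  | 0 => P₀
  | (k + 1) => Pk k ⊔ P₀.map (T ^ (k + 1))

@[simp] lemma Pk_zero : Pk T P₀ 0 = P₀ := rfl

lemma Pk_succ (k : ℕ) : Pk T P₀ (k + 1) = Pk T P₀ k ⊔ P₀.map (T ^ (k + 1)) := rfl

lemma Pk_mono : Monotone (Pk T P₀) := monotone_nat_of_le_succ (fun _ => le_sup_left)

lemma map_Pk_le (k : ℕ) : (Pk T P₀ k).map T ≤ Pk T P₀ (k + 1) := by
  induction k with
  | zero =>
    rw [Pk_succ, Pk_zero, zero_add, pow_one]
    exact le_sup_right
  | succ k ih =>
    rw [Pk_succ T P₀ (k + 1), Pk_succ T P₀ k, Submodule.map_sup]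
    refine sup_le_sup ih ?_
    rw [← Submodule.map_comp, pow_succ' T (k + 1)]
    rfl

/-- The kernels `{p ∈ P₀ | T^(k+1) p ∈ P_k}`. -/
def Kk (k : ℕ) : Submodule C P₀ := (Pk T P₀ k).comap ((T ^ (k + 1)).domRestrict P₀)

lemma mem_Kk {k : ℕ} {p : P₀} : p ∈ Kk T P₀ k ↔ (T ^ (k + 1)) (p : N) ∈ Pk T P₀ k := Iff.rfl

lemma Kk_mono : Monotone (Kk T P₀) := monotone_nat_of_le_succ (fun k p hp => by
  rw [mem_Kk] at hp ⊢
  rw [pow_succ' T (k + 1), Module.End.mul_apply]
  exact map_Pk_le T P₀ k (Submodule.mem_map_of_mem hp))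

/-- The surjection `P₀ → P_{k+1} / P_k`, `p ↦ T^(k+1) p`. -/
def psi (k : ℕ) : P₀ →ₗ[R]
    SQ ((Pk T P₀ k).restrictScalars R) ((Pk T P₀ (k + 1)).restrictScalars R) :=
  (Submodule.mkQ _).comp (LinearMap.codRestrict ((Pk T P₀ (k + 1)).restrictScalars R)
    (((T ^ (k + 1)).domRestrict P₀).restrictScalars R)
    (fun p => (le_sup_right : P₀.map (T ^ (k + 1)) ≤ Pk T P₀ (k + 1))
      (Submodule.mem_map_of_mem p.2)))

lemma psi_eq_zero_iff (k : ℕ) (p : P₀) : psi (R := R) T P₀ k p = 0 ↔ p ∈ Kk T P₀ k := by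
  unfold psi
  rw [LinearMap.comp_apply, Submodule.mkQ_apply, Submodule.Quotient.mk_eq_zero]
  rfl

lemma psi_surjective (k : ℕ) : Function.Surjective (psi (R := R) T P₀ k) := by
  intro q
  obtain ⟨z, rfl⟩ := Submodule.Quotient.mk_surjective _ q
  obtain ⟨y, hy, w, hw, hz⟩ := Submodule.mem_sup.mp (z.2 : (z : N) ∈ Pk T P₀ k ⊔ P₀.map (T ^ (k + 1)))
  obtain ⟨p, hp, rfl⟩ := Submodule.mem_map.mp hw
  refine ⟨⟨p, hp⟩, ?_⟩
  unfold psi
  rw [LinearMap.comp_apply, Submodule.mkQ_apply, Submodule.Quotient.eq]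
  change ((T ^ (k + 1)) p - (z : N)) ∈ Pk T P₀ k
  rw [← hz, sub_add_cancel_right]
  exact (Pk T P₀ k).neg_mem hy

variable [IsDomain R] [Algebra.FiniteType R C] [IsNoetherianRing C]

/-- One-variable step: all `P_k / P₀` become flat after inverting one element. -/
theorem exists_torsFlat_Pk (hP₀ : P₀.FG) : ∃ f : R, f ≠ 0 ∧ ∀ k,
    TorsFlat (Submonoid.powers f) (SQ (P₀.restrictScalars R) ((Pk T P₀ k).restrictScalars R)) := by
  have : IsNoetherian C P₀ := isNoetherian_of_fg_of_noetherian P₀ hP₀
  obtain ⟨k0, hk0⟩ := monotone_stabilizes_iff_noetherian.mpr ‹IsNoetherian C P₀›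
    ⟨Kk T P₀, Kk_mono T P₀⟩
  choose f hf0 hf using fun k => exists_torsFlat_of_finite (R := R) C (↥P₀ ⧸ Kk T P₀ k)
  refine ⟨∏ k ∈ Finset.range (k0 + 1), f k, Finset.prod_ne_zero_iff.mpr fun k _ => hf0 k, ?_⟩
  have hquot : ∀ k, TorsFlat (Submonoid.powers (∏ k ∈ Finset.range (k0 + 1), f k))
      (↥P₀ ⧸ Kk T P₀ k) := by
    intro k
    by_cases hk : k ≤ k0
    · exact (hf k).powers_of_dvd
        (Finset.dvd_prod_of_mem f (Finset.mem_range.mpr (Nat.lt_succ_of_le hk)))
    · have h1 : Kk T P₀ k0 = Kk T P₀ k := hk0 k (le_of_lt (not_le.mp hk))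
      rw [← h1]
      exact (hf k0).powers_of_dvd
        (Finset.dvd_prod_of_mem f (Finset.mem_range.mpr (Nat.lt_succ_self k0)))
  have hstep : ∀ k, TorsFlat (Submonoid.powers (∏ k ∈ Finset.range (k0 + 1), f k))
      (SQ ((Pk T P₀ k).restrictScalars R) ((Pk T P₀ (k + 1)).restrictScalars R)) := fun k =>
    TorsFlat.of_surjective_of_ker (Kk T P₀ k) (psi T P₀ k) (psi_surjective T P₀ k)
      (psi_eq_zero_iff T P₀ k) (hquot k)
  intro k
  induction k with
  | zero => exact TorsFlat.sq_of_le le_rfl
  | succ k ih =>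
    exact TorsFlat.sq_trans (fun x hx => Pk_mono T P₀ (Nat.zero_le k) hx)
      (fun x hx => Pk_mono T P₀ (Nat.le_succ k) hx) ih (hstep k)

end OneVar

section SqRestrict

variable {R : Type u} [CommRing R] [IsDomain R] (C : Type v) [CommRing C] [Algebra R C]
  [Algebra.FiniteType R C] {N : Type w} [AddCommGroup N] [Module C N] [Module R N]
  [IsScalarTower R C N]

/-- Generic flatness for a subquotient `Y / X` of `C`-submodules with `Y` finitely generated. -/
theorem exists_torsFlat_sq_restrictScalars (X Y : Submodule C N) (hY : Y.FG) :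
    ∃ f : R, f ≠ 0 ∧ TorsFlat (Submonoid.powers f)
      (SQ (X.restrictScalars R) (Y.restrictScalars R)) := by
  have : Module.Finite C Y := Module.Finite.iff_fg.mpr hY
  obtain ⟨f, hf0, hf⟩ := exists_torsFlat_of_finite (R := R) C (↥Y ⧸ X.comap Y.subtype)
  refine ⟨f, hf0, ?_⟩
  let ψ : Y →ₗ[R] SQ (X.restrictScalars R) (Y.restrictScalars R) :=
    (Submodule.mkQ _).comp (LinearMap.codRestrict (Y.restrictScalars R)
      (Y.subtype.restrictScalars R) (fun p => p.2))
  refine TorsFlat.of_surjective_of_ker (X.comap Y.subtype) ψ ?_ ?_ hf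
  · intro q
    obtain ⟨z, rfl⟩ := Submodule.Quotient.mk_surjective _ q
    exact ⟨⟨z.1, z.2⟩, rfl⟩
  · intro w
    change Submodule.Quotient.mk _ = 0 ↔ _
    rw [Submodule.Quotient.mk_eq_zero]
    rfl

end SqRestrict

section Claim

variable {R : Type u} [CommRing R] {A : Type v} [CommRing A] [Algebra R A] {B : Type w}
  [CommRing B] [Algebra A B] [Algebra R B] [IsScalarTower R A B]
  {N : Type w} [AddCommGroup N] [Module B N] [Module A N] [Module R N] [IsScalarTower A B N]
  [IsScalarTower R A N]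

variable (A) in
include A in
theorem isScalarTower_of_towers : IsScalarTower R B N :=
  IsScalarTower.of_algebraMap_smul fun r n => by
    rw [IsScalarTower.algebraMap_apply R A B, algebraMap_smul, algebraMap_smul]

/-- The `R`-`C`-`N` scalar tower for a subalgebra `C` of `B`. -/
theorem isScalarTower_subalgebra (C : Subalgebra A B) : IsScalarTower R C N :=
  IsScalarTower.of_algebraMap_smul fun r n => by
    have := isScalarTower_of_towers (R := R) A (B := B) (N := N)
    change ((algebraMap R C r : C) : B) • n = r • n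
    have h1 : ((algebraMap R C r : C) : B) = algebraMap R B r := rfl
    rw [h1, algebraMap_smul]

attribute [local instance] isScalarTower_subalgebra

/-- Multiplication by `b`, as a `C`-linear endomorphism of `N`. -/
def smulEnd (C : Subalgebra A B) (b : B) : N →ₗ[C] N where
  toFun n := b • n
  map_add' := smul_add b
  map_smul' c n := by
    change b • ((c : B) • n) = (c : B) • (b • n)
    exact smul_comm _ _ _

omit [Module A N] [IsScalarTower A B N] [IsScalarTower R A N] in
lemma smulEnd_pow_apply (C : Subalgebra A B) (b : B) (i : ℕ) (n : N) :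
    ((smulEnd C b) ^ i) n = b ^ i • n := by
  induction i generalizing n with
  | zero => simp
  | succ i ih =>
    rw [pow_succ', Module.End.mul_apply, ih, pow_succ', mul_smul]
    rfl

omit [Module A N] [IsScalarTower A B N] [IsScalarTower R A N] in
/-- Induction principle for spans over a subalgebra. -/
lemma mem_of_mem_span_subalgebra (C : Subalgebra A B) (P : Set N) (U : Set N) (h0 : (0 : N) ∈ U)
    (hadd : ∀ x ∈ U, ∀ y ∈ U, x + y ∈ U) (hP : P ⊆ U)
    (hsmul : ∀ c ∈ C, ∀ z ∈ U, c • z ∈ U) : ∀ z ∈ Submodule.span C P, z ∈ U := by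
  intro z hz
  induction hz using Submodule.span_induction with
  | mem x hx => exact hP hx
  | zero => exact h0
  | add x y _ _ hx hy => exact hadd x hx y hy
  | smul c x _ hx => exact hsmul c.1 c.2 x hx

variable [IsDomain R] [IsNoetherianRing R] [Algebra.FiniteType R A]

/-- Dévissage over a finitely generated subalgebra: `span_{A[s]} P / P` is generically flat. -/
theorem exists_torsFlat_span_adjoin (s : Finset B) : ∀ P : Submodule A N, P.FG →
    ∃ f : R, f ≠ 0 ∧ TorsFlat (Submonoid.powers f) (SQ (P.restrictScalars R)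
      ((Submodule.span (Algebra.adjoin A (s : Set B)) (P : Set N)).restrictScalars R)) := by
  classical
  induction s using Finset.induction_on with
  | empty =>
    intro P _
    refine ⟨1, one_ne_zero, TorsFlat.sq_of_le ?_⟩
    intro z hz
    refine mem_of_mem_span_subalgebra (Algebra.adjoin A ((∅ : Finset B) : Set B)) (P : Set N)
      (P : Set N) P.zero_mem (fun x hx y hy => P.add_mem hx hy) subset_rfl ?_ z hz
    intro c hc x hx
    rw [Finset.coe_empty, Algebra.adjoin_empty, Algebra.mem_bot] at hc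
    obtain ⟨a, rfl⟩ := hc
    rw [algebraMap_smul]
    exact P.smul_mem a hx
  | insert b s _ ih =>
    intro P hP
    let C : Subalgebra A B := Algebra.adjoin A (s : Set B)
    let C' : Subalgebra A B := Algebra.adjoin A ((insert b s : Finset B) : Set B)
    have hCC' : C ≤ C' := Algebra.adjoin_mono (by
      rw [Finset.coe_insert]; exact Set.subset_insert _ _)
    have hbC' : b ∈ C' := Algebra.subset_adjoin (by
      rw [Finset.coe_insert]; exact Set.mem_insert _ _)
    have : Algebra.FiniteType A C :=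
      (Subalgebra.fg_iff_finiteType C).mp (Subalgebra.fg_adjoin_finset s)
    have : Algebra.FiniteType R C := Algebra.FiniteType.trans ‹Algebra.FiniteType R A› ‹_›
    have : IsNoetherianRing C := Algebra.FiniteType.isNoetherianRing R C
    let P₀ : Submodule C N := Submodule.span C (P : Set N)
    let Z : Submodule C' N := Submodule.span C' (P : Set N)
    let T : N →ₗ[C] N := smulEnd C b
    have hP₀fg : P₀.FG := by
      obtain ⟨G, hG⟩ := hP
      refine ⟨G, ?_⟩
      change Submodule.span C (G : Set N) = Submodule.span C (P : Set N)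
      rw [← hG, Submodule.span_span_of_tower]
    obtain ⟨f1, hf1, h1⟩ := ih P hP
    obtain ⟨f2, hf2, h2⟩ := exists_torsFlat_Pk (R := R) T P₀ hP₀fg
    refine ⟨f1 * f2, mul_ne_zero hf1 hf2, ?_⟩
    have hPP₀ : P.restrictScalars R ≤ P₀.restrictScalars R := fun x hx =>
      Submodule.subset_span hx
    -- `Z` is stable under `b`
    have hZb : ∀ z ∈ Z, ∀ i : ℕ, b ^ i • z ∈ Z := fun z hz i =>
      Z.smul_mem (⟨b ^ i, pow_mem hbC' i⟩ : C') hz
    have hP₀Z : ∀ x ∈ P₀, x ∈ Z := by
      refine mem_of_mem_span_subalgebra C (P : Set N) (Z : Set N) Z.zero_mem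
        (fun x hx y hy => Z.add_mem hx hy) Submodule.subset_span ?_
      intro c hc z hz
      exact Z.smul_mem (⟨c, hCC' hc⟩ : C') hz
    have hle : ∀ k, (Pk T P₀ k).restrictScalars R ≤ Z.restrictScalars R := by
      intro k
      induction k with
      | zero => exact hP₀Z
      | succ k ihk =>
        intro x hx
        obtain ⟨y, hy, w, hw, rfl⟩ := Submodule.mem_sup.mp
          (hx : x ∈ Pk T P₀ k ⊔ P₀.map (T ^ (k + 1)))
        obtain ⟨p, hp, rfl⟩ := Submodule.mem_map.mp hw
        refine Z.add_mem (ihk hy) ?_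
        rw [smulEnd_pow_apply]
        exact hZb p (hP₀Z p hp) (k + 1)
    have hcov : ∀ z ∈ Z.restrictScalars R, ∃ k, z ∈ (Pk T P₀ k).restrictScalars R := by
      have hadd : ∀ x ∈ {z : N | ∃ k, z ∈ Pk T P₀ k}, ∀ y ∈ {z : N | ∃ k, z ∈ Pk T P₀ k},
          x + y ∈ {z : N | ∃ k, z ∈ Pk T P₀ k} := by
        rintro x ⟨k, hk⟩ y ⟨l, hl⟩
        exact ⟨max k l, (Pk T P₀ (max k l)).add_mem (Pk_mono T P₀ (le_max_left k l) hk)
          (Pk_mono T P₀ (le_max_right k l) hl)⟩
      refine mem_of_mem_span_subalgebra C' (P : Set N) {z : N | ∃ k, z ∈ Pk T P₀ k}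
        ⟨0, Submodule.zero_mem _⟩ hadd (fun x hx => ⟨0, Submodule.subset_span hx⟩) ?_
      intro c hc
      induction hc using Algebra.adjoin_induction with
      | mem x hx =>
        rintro z ⟨k, hk⟩
        rw [Finset.coe_insert, Set.mem_insert_iff] at hx
        rcases hx with rfl | hx
        · exact ⟨k + 1, map_Pk_le T P₀ k (Submodule.mem_map_of_mem hk)⟩
        · exact ⟨k, (Pk T P₀ k).smul_mem (⟨x, Algebra.subset_adjoin hx⟩ : C) hk⟩
      | algebraMap a =>
        rintro z ⟨k, hk⟩
        exact ⟨k, (Pk T P₀ k).smul_mem (algebraMap A C a) hk⟩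
      | add x y _ _ hx hy =>
        intro z hz
        rw [add_smul]
        exact hadd _ (hx z hz) _ (hy z hz)
      | mul x y _ _ hx hy =>
        intro z hz
        rw [mul_smul]
        exact hx _ (hy z hz)
    refine TorsFlat.sq_of_monotone (P.restrictScalars R) (Z.restrictScalars R)
      (fun k => (Pk T P₀ k).restrictScalars R) (fun k l hkl x hx => Pk_mono T P₀ hkl hx) hle hcov ?_
    intro k
    exact TorsFlat.sq_trans hPP₀ (fun x hx => Pk_mono T P₀ (Nat.zero_le k) hx)
      (h1.powers_of_dvd (dvd_mul_right f1 f2)) ((h2 k).powers_of_dvd (dvd_mul_left f2 f1))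

end Claim

section Main

variable {R : Type u} [CommRing R] [IsDomain R] [IsNoetherianRing R] {A : Type v} [CommRing A]
  [Algebra R A] [Algebra.FiniteType R A] {B : Type w} [CommRing B] [Algebra A B] [Algebra R B]
  [IsScalarTower R A B] [Algebra.FiniteType A B]
  {M : Type*} [AddCommGroup M] [Module A M] [Module.Finite A M]
  {N : Type w} [AddCommGroup N] [Module B N] [Module A N] [Module R N] [IsScalarTower A B N]
  [IsScalarTower R A N] [Module.Finite B N]

attribute [local instance] isScalarTower_subalgebra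

variable (B) in
include B in
/-- **Generic flatness of cokernels** (EGA IV 6.9.2), in `TorsFlat` form. -/
theorem exists_torsFlat_quotient_range (u : M →ₗ[A] N) :
    ∃ f : R, f ≠ 0 ∧ TorsFlat (Submonoid.powers f)
      (N ⧸ (LinearMap.range u).restrictScalars R) := by
  obtain ⟨s, hs⟩ := (Algebra.FiniteType.out : (⊤ : Subalgebra A B).FG)
  obtain ⟨G, hG⟩ := (Module.Finite.fg_top : (⊤ : Submodule B N).FG)
  let P : Submodule A N := LinearMap.range u
  have hP : P.FG := by
    have : P = (⊤ : Submodule A M).map u := (Submodule.map_top u).symm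
    rw [this]
    exact Module.Finite.fg_top.map u
  let P' : Submodule A N := P ⊔ Submodule.span A (G : Set N)
  have hP' : P'.FG := hP.sup (Submodule.fg_span G.finite_toSet)
  obtain ⟨f1, hf1, h1⟩ := exists_torsFlat_sq_restrictScalars (R := R) A P P' hP'
  obtain ⟨f2, hf2, h2⟩ := exists_torsFlat_span_adjoin (R := R) (A := A) s P' hP'
  refine ⟨f1 * f2, mul_ne_zero hf1 hf2, ?_⟩
  have htop : (Submodule.span (Algebra.adjoin A (s : Set B)) (P' : Set N)).restrictScalars R
      = ⊤ := by
    rw [eq_top_iff]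
    intro n hn0
    clear hn0
    have hn : n ∈ Submodule.span B (G : Set N) := by rw [hG]; trivial
    change n ∈ Submodule.span (Algebra.adjoin A (s : Set B)) (P' : Set N)
    induction hn using Submodule.span_induction with
    | mem x hx =>
      exact Submodule.subset_span ((le_sup_right : _ ≤ P') (Submodule.subset_span hx))
    | zero => exact Submodule.zero_mem _
    | add x y _ _ hx hy => exact Submodule.add_mem _ hx hy
    | smul b x _ hx =>
      have hb : b ∈ Algebra.adjoin A (s : Set B) := by rw [hs]; trivial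
      exact Submodule.smul_mem _ (⟨b, hb⟩ : Algebra.adjoin A (s : Set B)) hx
  rw [htop] at h2
  have h3 : TorsFlat (Submonoid.powers (f1 * f2)) (SQ (P.restrictScalars R) ⊤) :=
    TorsFlat.sq_trans (fun x hx => (le_sup_left : P ≤ P') hx) le_top
      (h1.powers_of_dvd (dvd_mul_right f1 f2)) (h2.powers_of_dvd (dvd_mul_left f2 f1))
  exact h3.of_linearEquiv (SQ.topEquiv _)

end Main

end Groth.Agent.Lib.Helper69
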