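import Mathlib
import Groth.Agent.Lib.Helper69.GenericFlatCoker
import Groth.Agent.Lib.Helper13.GenFibre
import Groth.Agent.Lib.Helper13.SchDense

/-!
# Spreading out nonzerodivisors on fibres (helper69)

For a finite type algebra `B` over a ring `A` with prime nilradical `p`, an element `h : B` which is a
nonzerodivisor on the generic fibre `κ(p) ⊗ B` stays a nonzerodivisor on the fibres over a nonempty open of
`Spec A`.  Consequently, schematic density of a finite union of basic opens in the generic fibre spreads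
out (Stacks 37.24.3, ring-level).
-/

set_option autoImplicit false
universe u

open TensorProduct

namespace Groth.Agent.Lib.Helper69

open Groth.Agent.Lib.Helper13.SchDense (TorFree)

section Ring

variable {F : Type*} [CommRing F]

/-- If the ideal generated by the `g k` contains a nonzerodivisor, the family is `TorFree`. -/
theorem torFree_of_nzd_mem_span {ι : Type*} (g : ι → F) (h : F)
    (hh : h ∈ Ideal.span (Set.range g)) (hnzd : h ∈ nonZeroDivisors F) : TorFree g := by
  intro x hx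
  let I : Ideal F := (Ideal.span {x}).annihilator
  have hI : ∀ b : F, b ∈ I ↔ b * x = 0 := fun b => by
    change b ∈ (Submodule.span F {x}).annihilator ↔ _
    rw [Submodule.mem_annihilator_span_singleton, smul_eq_mul]
  have hle : Ideal.span (Set.range g) ≤ I.radical := by
    rw [Ideal.span_le]
    rintro _ ⟨k, rfl⟩
    obtain ⟨N, hN⟩ := hx k
    exact ⟨N, (hI _).mpr hN⟩
  obtain ⟨M, hM⟩ := hle hh
  have h1 : h ^ M * x = 0 := (hI _).mp hM
  exact (nonZeroDivisors F).pow_mem hnzd M |>.2 _ (by rwa [mul_comm] at h1) |> id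

/-- In a Noetherian ring, a `TorFree` family generates an ideal containing a nonzerodivisor. -/
theorem exists_nzd_mem_span_of_torFree [IsNoetherianRing F] {ι : Type*} (g : ι → F)
    (h0 : TorFree g) : ∃ h ∈ Ideal.span (Set.range g), h ∈ nonZeroDivisors F := by
  classical
  by_contra hcon
  push Not at hcon
  have hsub : ((Ideal.span (Set.range g) : Ideal F) : Set F) ⊆
      ⋃ Q ∈ (((associatedPrimes.finite F F).toFinset : Finset (Ideal F)) : Set (Ideal F)), (Q : Set F) := by
    intro h hh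
    have h1 : h ∈ (nonZeroDivisors F : Set F)ᶜ := hcon h hh
    rw [← biUnion_associatedPrimes_eq_compl_nonZeroDivisors] at h1
    simpa using h1
  obtain ⟨Q, hQ, hle⟩ := (Ideal.subset_union_prime (⊤ : Ideal F) ⊤ (fun Q hQ _ _ => by
    have : Q ∈ associatedPrimes F F := (associatedPrimes.finite F F).mem_toFinset.mp hQ
    exact this.isPrime)).mp hsub
  have hQ' : IsAssociatedPrime Q F := (associatedPrimes.finite F F).mem_toFinset.mp hQ
  obtain ⟨hQp, x, hx⟩ := isAssociatedPrime_iff.mp hQ'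
  have hx0 : x = 0 := by
    apply h0
    intro k
    refine ⟨1, ?_⟩
    have : g k ∈ Q := hle (Ideal.subset_span ⟨k, rfl⟩)
    rw [hx, Submodule.mem_colon_singleton] at this
    simpa using this
  apply hQp.ne_top
  rw [hx, hx0]
  ext r
  simp [Submodule.mem_colon_singleton]

end Ring

section Domain

variable {R S : Type u} [CommRing R] [CommRing S] [Algebra R S]

/-- The multiplication map `S ⊗ P → S`. -/
noncomputable def mulMap (P : Ideal R) : S ⊗[R] P →ₗ[R] S :=
  (TensorProduct.rid R S).toLinearMap ∘ₗ (P.subtype.lTensor S)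

@[simp] lemma mulMap_tmul (P : Ideal R) (s : S) (r : P) : mulMap P (s ⊗ₜ[R] r) = (r : R) • s := by
  simp [mulMap]

lemma mulMap_mem (P : Ideal R) (x : S ⊗[R] P) : mulMap P x ∈ P.map (algebraMap R S) := by
  induction x using TensorProduct.induction_on with
  | zero => simp
  | tmul s r =>
    rw [mulMap_tmul, Algebra.smul_def]
    exact Ideal.mul_mem_right _ _ (Ideal.mem_map_of_mem _ r.2)
  | add x y hx hy => rw [map_add]; exact Ideal.add_mem _ hx hy

lemma exists_mulMap_eq (P : Ideal R) {s : S} (hs : s ∈ P.map (algebraMap R S)) :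
    ∃ x : S ⊗[R] P, mulMap P x = s := by
  have hs' : s ∈ P • (⊤ : Submodule R S) := by rw [Ideal.smul_top_eq_map]; exact hs
  refine Submodule.smul_induction_on hs' ?_ ?_
  · intro r hr n _
    exact ⟨n ⊗ₜ ⟨r, hr⟩, by simp⟩
  · rintro x y ⟨x', rfl⟩ ⟨y', rfl⟩
    exact ⟨x' + y', map_add _ _ _⟩

variable [IsDomain R] [Algebra.FiniteType R S]

/-- Generic torsion-freeness over a domain. -/
theorem exists_forall_pow_smul_eq_zero :
    ∃ a : R, a ≠ 0 ∧ ∀ s : S, (∃ t : R, t ≠ 0 ∧ t • s = 0) → ∃ k : ℕ, a ^ k • s = 0 := by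
  obtain ⟨a, ha, ⟨ι, e, hli, hsp⟩, -, -, -⟩ :=
    Groth.Agent.Lib.Helper91.generic_freeness_data (R := R) (S := S) (M := S)
  refine ⟨a, ha, ?_⟩
  rintro s ⟨t, ht, hts⟩
  obtain ⟨k, hk⟩ := hsp s
  refine ⟨k, ?_⟩
  obtain ⟨c, hc⟩ := (Finsupp.mem_span_range_iff_exists_finsupp).mp hk
  have h1 : Finsupp.linearCombination R e (t • c) = 0 := by
    rw [map_smul]
    change t • (c.sum fun i a => a • e i) = 0
    rw [hc, smul_comm, hts, smul_zero]
  have h2 : t • c = 0 := by
    have := hli (a₁ := t • c) (a₂ := 0)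
    rw [map_zero] at this
    exact this h1
  have h3 : c = 0 := (smul_eq_zero.mp h2).resolve_left ht
  rw [← hc, h3]
  simp

/-- Domain case: a nonzerodivisor on the generic fibre is a nonzerodivisor on the fibres over a
nonempty open. -/
theorem exists_forall_nzd_fiber_domain (h : S)
    (hh : ∀ s : S, (∃ t : R, t ≠ 0 ∧ t • (h * s) = 0) → ∃ t : R, t ≠ 0 ∧ t • s = 0) :
    ∃ a : R, a ≠ 0 ∧ ∀ P : Ideal R, P.IsPrime → a ∉ P → ∀ s : S,
      (∃ t : R, t ∉ P ∧ t • (h * s) ∈ P.map (algebraMap R S)) →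
      ∃ t : R, t ∉ P ∧ t • s ∈ P.map (algebraMap R S) := by
  obtain ⟨a₁, ha₁, hflat⟩ := exists_torsFlat_of_finite (R := R) S (S ⧸ Ideal.span {h})
  obtain ⟨a₂, ha₂, htf⟩ := exists_forall_pow_smul_eq_zero (R := R) (S := S)
  refine ⟨a₁ * a₂, mul_ne_zero ha₁ ha₂, ?_⟩
  rintro P hP haP s ⟨t, ht, hts⟩
  have ha₁P : a₁ ∉ P := fun h => haP (P.mul_mem_right _ h)
  have ha₂P : a₂ ∉ P := fun h => haP (P.mul_mem_left _ h)
  -- the exact sequence `S --h--> S --π--> S / h`
  let m : S →ₗ[R] S := LinearMap.mulLeft R h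
  let π : S →ₗ[R] S ⧸ Ideal.span {h} := (Ideal.Quotient.mkₐ R (Ideal.span {h})).toLinearMap
  have hπ : Function.Surjective π := Ideal.Quotient.mkₐ_surjective R _
  have hex : Function.Exact m π := by
    intro z
    change Ideal.Quotient.mk _ z = 0 ↔ _
    rw [Ideal.Quotient.eq_zero_iff_mem, Ideal.mem_span_singleton']
    constructor
    · rintro ⟨w, rfl⟩
      exact ⟨w, mul_comm _ _⟩
    · rintro ⟨w, rfl⟩
      exact ⟨w, mul_comm _ _⟩
  have hexP : Function.Exact (m.rTensor P) (π.rTensor P) := rTensor_exact P hex hπ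
  obtain ⟨x, hx⟩ := exists_mulMap_eq P hts
  -- the image of `x` in `(S/h) ⊗ P` dies in `S/h`
  have h1 : (P.subtype.lTensor (S ⧸ Ideal.span {h})) ((π.rTensor P) x) = 0 := by
    rw [← LinearMap.comp_apply, LinearMap.lTensor_comp_rTensor, ← LinearMap.rTensor_comp_lTensor,
      LinearMap.comp_apply]
    apply (TensorProduct.rid R (S ⧸ Ideal.span {h})).injective
    rw [map_zero]
    have h2 : ∀ y : S ⊗[R] R, (TensorProduct.rid R (S ⧸ Ideal.span {h})) ((π.rTensor R) y) =
        π ((TensorProduct.rid R S) y) := by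
      intro y
      induction y using TensorProduct.induction_on with
      | zero => simp
      | tmul s r => simp
      | add y z hy hz => simp only [map_add, hy, hz]
    rw [h2]
    change π (mulMap P x) = 0
    rw [hx, map_smul]
    have : π (h * s) = 0 := (hex (h * s)).mpr ⟨s, rfl⟩
    rw [this, smul_zero]
  obtain ⟨_, ⟨n, rfl⟩, hn⟩ := hflat P _ h1
  have h3 : (π.rTensor P) (a₁ ^ n • x) = 0 := by rw [map_smul]; exact hn
  obtain ⟨y, hy⟩ := (hexP (a₁ ^ n • x)).mp h3
  have hmul : ∀ y : S ⊗[R] P, mulMap P ((m.rTensor P) y) = h * mulMap P y := by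
    intro y
    induction y using TensorProduct.induction_on with
    | zero => simp
    | tmul s' r =>
      rw [LinearMap.rTensor_tmul, mulMap_tmul, mulMap_tmul]
      change (r : R) • (h * s') = h * ((r : R) • s')
      rw [mul_smul_comm]
    | add y z hy hz => simp only [map_add, hy, hz, mul_add]
  have h4 : h * (a₁ ^ n • t • s - mulMap P y) = 0 := by
    rw [mul_sub, ← hmul, hy, map_smul, hx, mul_smul_comm, mul_smul_comm, sub_self]
  obtain ⟨t', ht', ht's⟩ := hh (a₁ ^ n • t • s - mulMap P y) ⟨1, one_ne_zero, by rw [h4, smul_zero]⟩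
  obtain ⟨k, hk⟩ := htf _ ⟨t', ht', ht's⟩
  refine ⟨a₂ ^ k * (a₁ ^ n * t), ?_, ?_⟩
  · intro hmem
    rcases hP.mem_or_mem hmem with h | h
    · exact ha₂P (hP.mem_of_pow_mem _ h)
    · rcases hP.mem_or_mem h with h | h
      · exact ha₁P (hP.mem_of_pow_mem _ h)
      · exact ht h
  · rw [smul_sub, sub_eq_zero] at hk
    rw [mul_smul, mul_smul, hk, Algebra.smul_def]
    exact Ideal.mul_mem_left _ _ (mulMap_mem P y)

end Domain

section Nil

variable {A B : Type u} [CommRing A] [CommRing B] [Algebra A B]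

/-- Membership in `P B` can be tested modulo `p B` for `p ≤ P`. -/
lemma mk_mem_map_map_iff {p P : Ideal A} (hpP : p ≤ P) (x : B) :
    Ideal.Quotient.mk (p.map (algebraMap A B)) x ∈
      (P.map (Ideal.Quotient.mk p)).map (algebraMap (A ⧸ p) (B ⧸ p.map (algebraMap A B))) ↔
      x ∈ P.map (algebraMap A B) := by
  have hcomp : (Ideal.Quotient.mk (p.map (algebraMap A B))).comp (algebraMap A B) =
      (algebraMap (A ⧸ p) (B ⧸ p.map (algebraMap A B))).comp (Ideal.Quotient.mk p) := by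
    ext x
    rfl
  rw [Ideal.map_map, ← hcomp, ← Ideal.map_map,
    Ideal.mem_quotient_iff_mem (Ideal.map_mono hpP)]

variable [Algebra.FiniteType A B]

/-- A nonzerodivisor on the generic fibre is a nonzerodivisor on the fibres over a nonempty open
(element-wise form, base with prime nilradical). -/
theorem exists_forall_nzd_fiber (hp : (nilradical A).IsPrime) (h : B)
    (hh : ∀ s : B, (∃ t : A, t ∉ nilradical A ∧
        algebraMap A B t * (h * s) ∈ (nilradical A).map (algebraMap A B)) →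
      ∃ t : A, t ∉ nilradical A ∧ algebraMap A B t * s ∈ (nilradical A).map (algebraMap A B)) :
    ∃ a : A, a ∉ nilradical A ∧ ∀ P : Ideal A, P.IsPrime → a ∉ P → ∀ s : B,
      (∃ t : A, t ∉ P ∧ algebraMap A B t * (h * s) ∈ P.map (algebraMap A B)) →
      ∃ t : A, t ∉ P ∧ algebraMap A B t * s ∈ P.map (algebraMap A B) := by
  classical
  set p : Ideal A := nilradical A with hpdef
  set I : Ideal B := p.map (algebraMap A B) with hI
  have : p.IsPrime := hp
  have : IsDomain (A ⧸ p) := Ideal.Quotient.isDomain p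
  have : Algebra.FiniteType (A ⧸ p) (B ⧸ I) :=
    Groth.Agent.Lib.Helper13.GenFibre.finiteType_quotient p
  have hh' : ∀ s' : B ⧸ I, (∃ t' : A ⧸ p, t' ≠ 0 ∧ t' • (Ideal.Quotient.mk I h * s') = 0) →
      ∃ t' : A ⧸ p, t' ≠ 0 ∧ t' • s' = 0 := by
    rintro s' ⟨t', ht', hts'⟩
    obtain ⟨s, rfl⟩ := Ideal.Quotient.mk_surjective s'
    obtain ⟨t, rfl⟩ := Ideal.Quotient.mk_surjective t'
    rw [← map_mul, Ideal.Quotient.mk_smul_mk_quotient_map_quotient,
      Ideal.Quotient.eq_zero_iff_mem] at hts'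
    obtain ⟨t₁, ht₁, ht₁s⟩ := hh s ⟨t, fun hmem => ht' (Ideal.Quotient.eq_zero_iff_mem.mpr hmem),
      hts'⟩
    refine ⟨Ideal.Quotient.mk p t₁, fun h0 => ht₁ (Ideal.Quotient.eq_zero_iff_mem.mp h0), ?_⟩
    rw [Ideal.Quotient.mk_smul_mk_quotient_map_quotient, Ideal.Quotient.eq_zero_iff_mem]
    exact ht₁s
  obtain ⟨a', ha', hC⟩ := exists_forall_nzd_fiber_domain (R := A ⧸ p) (S := B ⧸ I)
    (Ideal.Quotient.mk I h) hh'
  obtain ⟨a, rfl⟩ := Ideal.Quotient.mk_surjective a'
  refine ⟨a, fun hmem => ha' (Ideal.Quotient.eq_zero_iff_mem.mpr hmem), ?_⟩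
  rintro P hP haP s ⟨t, ht, hts⟩
  have hpP : p ≤ P := nilradical_le_prime P
  have hker : RingHom.ker (Ideal.Quotient.mk p) ≤ P := by rw [Ideal.mk_ker]; exact hpP
  have hP' : (P.map (Ideal.Quotient.mk p)).IsPrime :=
    Ideal.map_isPrime_of_surjective Ideal.Quotient.mk_surjective hker
  have hnot : ∀ x : A, x ∉ P → Ideal.Quotient.mk p x ∉ P.map (Ideal.Quotient.mk p) := by
    intro x hx hmem
    exact hx ((Ideal.mem_quotient_iff_mem hpP).mp hmem)
  obtain ⟨t', ht', ht's⟩ := hC _ hP' (hnot a haP) (Ideal.Quotient.mk I s)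
    ⟨Ideal.Quotient.mk p t, hnot t ht, by
      rw [← map_mul, Ideal.Quotient.mk_smul_mk_quotient_map_quotient, mk_mem_map_map_iff hpP]
      exact hts⟩
  obtain ⟨t₁, rfl⟩ := Ideal.Quotient.mk_surjective t'
  refine ⟨t₁, fun hmem => ht' (Ideal.mem_map_of_mem _ hmem), ?_⟩
  rw [Ideal.Quotient.mk_smul_mk_quotient_map_quotient, mk_mem_map_map_iff hpP] at ht's
  exact ht's

end Nil

section Fib

variable {A B : Type u} [CommRing A] [CommRing B] [Algebra A B]

open Groth.Agent.Lib.Helper13.GenFibre (one_tmul_eq_zero_iff)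

lemma smul_fiber_eq_zero_iff (P : Ideal A) [P.IsPrime] {r : A} (hr : r ∉ P) (x : P.Fiber B) :
    r • x = 0 ↔ x = 0 := by
  rw [← algebraMap_smul P.ResidueField r x]
  have hne : algebraMap A P.ResidueField r ≠ 0 := by
    rw [Ne, Ideal.algebraMap_residueField_eq_zero]; exact hr
  exact smul_eq_zero_iff_right hne

/-- `1 ⊗ h` is a nonzerodivisor of the fibre ring, element-wise. -/
lemma one_tmul_mem_nonZeroDivisors_iff (P : Ideal A) [P.IsPrime] (h : B) :
    ((1 : P.ResidueField) ⊗ₜ[A] h : P.Fiber B) ∈ nonZeroDivisors (P.Fiber B) ↔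
      ∀ s : B, (∃ t : A, t ∉ P ∧ algebraMap A B t * (h * s) ∈ P.map (algebraMap A B)) →
        ∃ t : A, t ∉ P ∧ algebraMap A B t * s ∈ P.map (algebraMap A B) := by
  have hmul : ∀ s : B, ((1 : P.ResidueField) ⊗ₜ[A] s : P.Fiber B) * (1 ⊗ₜ[A] h) =
      (1 : P.ResidueField) ⊗ₜ[A] (h * s) := fun s => by
    rw [Algebra.TensorProduct.tmul_mul_tmul, one_mul, mul_comm]
  rw [mem_nonZeroDivisors_iff_right]
  constructor
  · intro hnzd s hs
    have h1 : ((1 : P.ResidueField) ⊗ₜ[A] (h * s) : P.Fiber B) = 0 :=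
      (one_tmul_eq_zero_iff P (h * s)).mpr hs
    rw [← hmul] at h1
    exact (one_tmul_eq_zero_iff P s).mp (hnzd _ h1)
  · intro H x hx
    obtain ⟨r, hr, s, hrs⟩ := Ideal.Fiber.exists_smul_eq_one_tmul P x
    have h1 : ((1 : P.ResidueField) ⊗ₜ[A] (h * s) : P.Fiber B) = 0 := by
      rw [← hmul, ← hrs, smul_mul_assoc, hx, smul_zero]
    have h2 := (one_tmul_eq_zero_iff P s).mpr (H s ((one_tmul_eq_zero_iff P (h * s)).mp h1))
    rw [← hrs] at h2
    exact (smul_fiber_eq_zero_iff P hr x).mp h2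

/-- Elements of an extended ideal of the fibre ring are unit multiples of `1 ⊗ s`, `s` in the ideal. -/
lemma exists_smul_eq_one_tmul_of_mem_map (P : Ideal A) [P.IsPrime] (J : Ideal B) (x : P.Fiber B)
    (hx : x ∈ J.map (Algebra.TensorProduct.includeRight : B →ₐ[A] P.Fiber B).toRingHom) :
    ∃ r : A, r ∉ P ∧ ∃ s ∈ J, r • x = (1 : P.ResidueField) ⊗ₜ[A] s := by
  induction hx using Submodule.span_induction with
  | mem x hx =>
    obtain ⟨s, hs, rfl⟩ := hx
    exact ⟨1, fun h1 => (inferInstance : P.IsPrime).ne_top ((Ideal.eq_top_iff_one P).mpr h1), s, hs,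
      by rw [one_smul]; rfl⟩
  | zero => exact ⟨1, fun h1 => (inferInstance : P.IsPrime).ne_top ((Ideal.eq_top_iff_one P).mpr h1),
      0, J.zero_mem, by simp⟩
  | add x y _ _ hx hy =>
    obtain ⟨r₁, hr₁, s₁, hs₁, e₁⟩ := hx
    obtain ⟨r₂, hr₂, s₂, hs₂, e₂⟩ := hy
    refine ⟨r₁ * r₂, fun hmem => ((inferInstance : P.IsPrime).mem_or_mem hmem).elim hr₁ hr₂,
      r₂ • s₁ + r₁ • s₂, J.add_mem (Submodule.smul_of_tower_mem J r₂ hs₁)
        (Submodule.smul_of_tower_mem J r₁ hs₂), ?_⟩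
    rw [smul_add, mul_comm r₁ r₂, mul_smul, e₁, mul_comm r₂ r₁, mul_smul, e₂,
      TensorProduct.tmul_add, TensorProduct.tmul_smul, TensorProduct.tmul_smul]
  | smul c x _ hx =>
    obtain ⟨r, hr, s, hs, e⟩ := hx
    obtain ⟨r₀, hr₀, b, e₀⟩ := Ideal.Fiber.exists_smul_eq_one_tmul P c
    refine ⟨r₀ * r, fun hmem => ((inferInstance : P.IsPrime).mem_or_mem hmem).elim hr₀ hr,
      b * s, J.mul_mem_left b hs, ?_⟩
    rw [smul_eq_mul, mul_smul, ← mul_smul_comm, e, ← smul_mul_assoc, e₀,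
      Algebra.TensorProduct.tmul_mul_tmul, one_mul]

variable [Algebra.FiniteType A B]

/-- **Schematic density spreads out from the generic fibre** (ring level, Stacks 37.24.3). -/
theorem exists_forall_torFree_fiber (p : Ideal A) [p.IsPrime] (hpn : p = nilradical A)
    {ι : Type*} (g : ι → B)
    (h0 : TorFree (fun k => ((1 : p.ResidueField) ⊗ₜ[A] g k : p.Fiber B))) :
    ∃ a : A, a ∉ p ∧ ∀ (P : Ideal A) [P.IsPrime], a ∉ P →
      TorFree (fun k => ((1 : P.ResidueField) ⊗ₜ[A] g k : P.Fiber B)) := by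
  have hp : (nilradical A).IsPrime := hpn ▸ (inferInstance : p.IsPrime)
  have : IsNoetherianRing (p.Fiber B) :=
    Algebra.FiniteType.isNoetherianRing p.ResidueField (p.Fiber B)
  obtain ⟨h', hh'span, hh'nzd⟩ := exists_nzd_mem_span_of_torFree _ h0
  have hspan : ∀ (P : Ideal A) [P.IsPrime],
      Ideal.span (Set.range (fun k => ((1 : P.ResidueField) ⊗ₜ[A] g k : P.Fiber B))) =
      (Ideal.span (Set.range g)).map
        (Algebra.TensorProduct.includeRight : B →ₐ[A] P.Fiber B).toRingHom := by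
    intro P _
    rw [Ideal.map_span, ← Set.range_comp]
    rfl
  rw [hspan p] at hh'span
  obtain ⟨r, hr, h, hhJ, hrh⟩ := exists_smul_eq_one_tmul_of_mem_map p _ h' hh'span
  have hnzd : ((1 : p.ResidueField) ⊗ₜ[A] h : p.Fiber B) ∈ nonZeroDivisors (p.Fiber B) := by
    rw [← hrh, mem_nonZeroDivisors_iff_right]
    intro x hx
    rw [mul_smul_comm] at hx
    exact (mem_nonZeroDivisors_iff_right.mp hh'nzd) x ((smul_fiber_eq_zero_iff p hr _).mp hx)
  have hh := (one_tmul_mem_nonZeroDivisors_iff p h).mp hnzd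
  obtain ⟨a, ha, hA⟩ := exists_forall_nzd_fiber hp h (by
    intro s hs
    have := hh s (by simpa only [hpn] using hs)
    simpa only [hpn] using this)
  refine ⟨a, hpn ▸ ha, fun P hP haP => ?_⟩
  refine torFree_of_nzd_mem_span _ ((1 : P.ResidueField) ⊗ₜ[A] h : P.Fiber B) ?_ ?_
  · rw [hspan P]
    exact Ideal.mem_map_of_mem _ hhJ
  · exact (one_tmul_mem_nonZeroDivisors_iff P h).mpr (hA P hP haP)

end Fib

end Groth.Agent.Lib.Helper69
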