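import Mathlib
import Groth.Agent.Lib.Helper69.FibreNZD
import Groth.Agent.Lib.Helper13.GenFibre
import Groth.Agent.Lib.Helper13.SchDense

/-!
# Scheme theoretic density of opens in fibres near the generic point (helper69)

Bridge between Mathlib's `IsSchemeTheoreticallyDominant U.ι` and helper13's affine `TorFree` criterion,
the coordinate rings of the affine charts of fibres, and Stacks 37.24.3.
-/

set_option autoImplicit false
universe u

open AlgebraicGeometry CategoryTheory Limits TopologicalSpace TensorProduct Opposite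

namespace Groth.Agent.Lib.Helper69

open Groth.Agent.Lib.Helper13.SchDense (TorFree)

section Bridge

variable {Z : Scheme.{u}} (U' : Z.Opens)

lemma image_preimage_ι_le (V : Z.Opens) : U'.ι ''ᵁ U'.ι ⁻¹ᵁ V ≤ V ⊓ U' := by
  rintro _ ⟨u, hu, rfl⟩
  exact ⟨hu, u.2⟩

lemma le_image_preimage_ι (V : Z.Opens) : V ⊓ U' ≤ U'.ι ''ᵁ U'.ι ⁻¹ᵁ V := by
  rintro x ⟨hxV, hxU⟩
  exact ⟨⟨x, hxU⟩, hxV, rfl⟩

/-- `U'.ι.app V` factors as restriction to `V ⊓ U'` followed by an isomorphism. -/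
lemma ι_app_eq (V : Z.Opens) :
    U'.ι.app V = Z.presheaf.map (homOfLE (inf_le_left : V ⊓ U' ≤ V)).op ≫
      Z.presheaf.map (homOfLE (image_preimage_ι_le U' V)).op := by
  rw [Scheme.Opens.ι_app, ← Functor.map_comp]
  rfl

lemma injective_map_image_preimage_ι (V : Z.Opens) :
    Function.Injective (Z.presheaf.map (homOfLE (image_preimage_ι_le U' V)).op) := by
  have h4 : Z.presheaf.map (homOfLE (image_preimage_ι_le U' V)).op ≫
      Z.presheaf.map (homOfLE (le_image_preimage_ι U' V)).op = 𝟙 _ := by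
    rw [← Functor.map_comp, ← Z.presheaf.map_id]
    rfl
  intro a b hab
  have := congrArg (Z.presheaf.map (homOfLE (le_image_preimage_ι U' V)).op) hab
  rw [← CommRingCat.comp_apply, ← CommRingCat.comp_apply, h4] at this
  exact this

theorem isSchematicallyDense_of_isSchemeTheoreticallyDominant [QuasiCompact U'.ι]
    [IsSchemeTheoreticallyDominant U'.ι] : CInt.IsSchematicallyDense U' := by
  intro V
  have h1 := U'.ι.app_injective V
  rw [ι_app_eq] at h1
  have h2 : Function.Injective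
      ((Z.presheaf.map (homOfLE (image_preimage_ι_le U' V)).op).hom ∘
        (Z.presheaf.map (homOfLE (inf_le_left : V ⊓ U' ≤ V)).op).hom) := h1
  exact Function.Injective.of_comp h2

theorem isSchemeTheoreticallyDominant_of_isSchematicallyDense [QuasiCompact U'.ι]
    (h : CInt.IsSchematicallyDense U') : IsSchemeTheoreticallyDominant U'.ι := by
  rw [isSchemeTheoreticallyDominant_iff]
  apply Scheme.IdealSheafData.ext
  funext V
  rw [Scheme.Hom.ker_apply, Scheme.IdealSheafData.ideal_bot, Pi.bot_apply,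
    ← RingHom.injective_iff_ker_eq_bot, ι_app_eq]
  have h2 : Function.Injective
      ((Z.presheaf.map (homOfLE (image_preimage_ι_le U' V.1)).op).hom ∘
        (Z.presheaf.map (homOfLE (inf_le_left : V.1 ⊓ U' ≤ V.1)).op).hom) :=
    (injective_map_image_preimage_ι U' V.1).comp (h V.1)
  exact h2

end Bridge

section Chart

open Groth.Agent.Lib.Helper13.GenFibre

set_option backward.isDefEq.respectTransparency false in
theorem specFiberIso_hom_includeRight (R S : Type u) [CommRing R] [CommRing S] [Algebra R S]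
    (p : PrimeSpectrum R) :
    (specFiberIso R S p).hom ≫ Spec.map (CommRingCat.ofHom
      (Algebra.TensorProduct.includeRight : S →ₐ[R] p.asIdeal.Fiber S).toRingHom) =
      pullback.fst (Spec.map (CommRingCat.ofHom (algebraMap R S)))
        ((Spec (.of R)).fromSpecResidueField p) := by
  unfold specFiberIso Spec.fiberToSpecResidueFieldIso
  simp
  try rw [pullbackSpecIso_hom_snd]

theorem specFiberIso_inv_fst (R S : Type u) [CommRing R] [CommRing S] [Algebra R S]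
    (p : PrimeSpectrum R) :
    (specFiberIso R S p).inv ≫ pullback.fst (Spec.map (CommRingCat.ofHom (algebraMap R S)))
        ((Spec (.of R)).fromSpecResidueField p) = Spec.map (CommRingCat.ofHom
      (Algebra.TensorProduct.includeRight : S →ₐ[R] p.asIdeal.Fiber S).toRingHom) := by
  rw [← specFiberIso_hom_includeRight, Iso.inv_hom_id_assoc]

variable {X Y : Scheme.{u}} (f : X ⟶ Y) {W : Y.Opens} (hW : IsAffineOpen W) {U : X.Opens}
  (hU : IsAffineOpen U) (e : U ≤ f ⁻¹ᵁ W) (z : Spec Γ(Y, W))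

/-- The affine chart of the fibre over `hW.fromSpec z`, from `Spec` of the fibre ring. -/
noncomputable def fibChart :
    letI : Algebra Γ(Y, W) Γ(X, U) := (f.appLE W U e).hom.toAlgebra
    Spec (.of (z.asIdeal.Fiber Γ(X, U))) ⟶ f.fiber (hW.fromSpec z) :=
  letI : Algebra Γ(Y, W) Γ(X, U) := (f.appLE W U e).hom.toAlgebra
  (specFiberIso Γ(Y, W) Γ(X, U) z).inv ≫ fiberChart f hW hU e z

theorem fiberChart_fst :
    fiberChart f hW hU e z ≫ pullback.fst f (Y.fromSpecResidueField (hW.fromSpec z)) =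
      pullback.fst _ _ ≫ hU.fromSpec := by
  unfold fiberChart
  exact pullback.lift_fst _ _ _

instance : IsOpenImmersion (fibChart f hW hU e z) := by
  letI : Algebra Γ(Y, W) Γ(X, U) := (f.appLE W U e).hom.toAlgebra
  have h1 : IsOpenImmersion (fiberChart f hW hU e z) := inferInstance
  have h2 : IsOpenImmersion (specFiberIso Γ(Y, W) Γ(X, U) z).inv := inferInstance
  exact @IsOpenImmersion.comp _ _ _ (specFiberIso Γ(Y, W) Γ(X, U) z).inv
    (fiberChart f hW hU e z) h2 h1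

theorem range_fibChart :
    Set.range (fibChart f hW hU e z) = (f.fiberι (hW.fromSpec z)) ⁻¹' U := by
  letI : Algebra Γ(Y, W) Γ(X, U) := (f.appLE W U e).hom.toAlgebra
  refine Eq.trans ?_ (range_fiberChart f hW hU e z)
  have h1 : Set.range (specFiberIso Γ(Y, W) Γ(X, U) z).inv = Set.univ :=
    Set.range_eq_univ.mpr (specFiberIso Γ(Y, W) Γ(X, U) z).inv.surjective
  change Set.range ((fiberChart f hW hU e z) ∘ (specFiberIso Γ(Y, W) Γ(X, U) z).inv) = _
  rw [Set.range_comp, h1, Set.image_univ]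

theorem fibChart_fiberι :
    letI : Algebra Γ(Y, W) Γ(X, U) := (f.appLE W U e).hom.toAlgebra
    fibChart f hW hU e z ≫ f.fiberι (hW.fromSpec z) = Spec.map (CommRingCat.ofHom
      (Algebra.TensorProduct.includeRight : Γ(X, U) →ₐ[Γ(Y, W)] z.asIdeal.Fiber Γ(X, U)).toRingHom) ≫
      hU.fromSpec := by
  letI : Algebra Γ(Y, W) Γ(X, U) := (f.appLE W U e).hom.toAlgebra
  have h1 := fiberChart_fst f hW hU e z
  have h2 := specFiberIso_inv_fst Γ(Y, W) Γ(X, U) z
  change (specFiberIso Γ(Y, W) Γ(X, U) z).inv ≫ (fiberChart f hW hU e z ≫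
    pullback.fst f (Y.fromSpecResidueField (hW.fromSpec z))) = _
  rw [h1]
  exact (Category.assoc _ _ _).symm.trans (congrArg (· ≫ hU.fromSpec) h2)

theorem top_le_fibChart_preimage :
    (⊤ : (Spec (.of (letI : Algebra Γ(Y, W) Γ(X, U) := (f.appLE W U e).hom.toAlgebra;
      z.asIdeal.Fiber Γ(X, U)))).Opens) ≤
      (fibChart f hW hU e z) ⁻¹ᵁ ((f.fiberι (hW.fromSpec z)) ⁻¹ᵁ U) := by
  intro x _
  have : fibChart f hW hU e z x ∈ Set.range (fibChart f hW hU e z) := ⟨x, rfl⟩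
  rw [range_fibChart] at this
  exact this

omit hW in
theorem fromSpec_appLE_top (h : (⊤ : (Spec Γ(X, U)).Opens) ≤ hU.fromSpec ⁻¹ᵁ U) :
    hU.fromSpec.appLE U ⊤ h = (Scheme.ΓSpecIso Γ(X, U)).inv := by
  unfold Scheme.Hom.appLE
  rw [hU.fromSpec_app_self, Category.assoc, ← Functor.map_comp]
  have : (eqToHom hU.fromSpec_preimage_self).op ≫ (homOfLE h).op = 𝟙 _ := Subsingleton.elim _ _
  rw [this, CategoryTheory.Functor.map_id, Category.comp_id]

omit hW in
theorem SpecMap_comp_fromSpec_appLE {F : CommRingCat.{u}} (φ : Γ(X, U) ⟶ F) (ψ : Spec F ⟶ X)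
    (hψ : ψ = Spec.map φ ≫ hU.fromSpec) (h : (⊤ : (Spec F).Opens) ≤ ψ ⁻¹ᵁ U) :
    ψ.appLE U ⊤ h ≫ (Scheme.ΓSpecIso F).hom = φ := by
  subst hψ
  have e₁ : (⊤ : (Spec Γ(X, U)).Opens) ≤ hU.fromSpec ⁻¹ᵁ U := by
    rw [hU.fromSpec_preimage_self]
  have e₂ : (⊤ : (Spec F).Opens) ≤ (Spec.map φ) ⁻¹ᵁ ⊤ := le_rfl
  have h1 := Scheme.Hom.appLE_comp_appLE (Spec.map φ) hU.fromSpec U ⊤ ⊤ e₁ e₂
  have h3 : (Spec.map φ).appLE ⊤ ⊤ e₂ = (Spec.map φ).appTop :=
    (Scheme.Hom.app_eq_appLE (f := Spec.map φ) (U := ⊤)).symm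
  rw [← h1, fromSpec_appLE_top, h3, Category.assoc, Scheme.ΓSpecIso_naturality,
    Iso.inv_hom_id_assoc]

/-- The coordinate ring of the chart `fiberι ⁻¹ U` of the fibre is the fibre ring. -/
noncomputable def fibChartRingHom :
    letI : Algebra Γ(Y, W) Γ(X, U) := (f.appLE W U e).hom.toAlgebra
    Γ(f.fiber (hW.fromSpec z), (f.fiberι (hW.fromSpec z)) ⁻¹ᵁ U) ⟶
      CommRingCat.of (z.asIdeal.Fiber Γ(X, U)) :=
  letI : Algebra Γ(Y, W) Γ(X, U) := (f.appLE W U e).hom.toAlgebra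
  (fibChart f hW hU e z).appLE _ ⊤ (top_le_fibChart_preimage f hW hU e z) ≫
    (Scheme.ΓSpecIso (.of (z.asIdeal.Fiber Γ(X, U)))).hom

instance : IsIso (fibChartRingHom f hW hU e z) := by
  letI : Algebra Γ(Y, W) Γ(X, U) := (f.appLE W U e).hom.toAlgebra
  unfold fibChartRingHom Scheme.Hom.appLE
  have h1 : IsIso ((fibChart f hW hU e z).app ((f.fiberι (hW.fromSpec z)) ⁻¹ᵁ U)) := by
    apply Scheme.Hom.isIso_app
    intro x hx
    have : x ∈ Set.range (fibChart f hW hU e z) := by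
      rw [range_fibChart]; exact hx
    exact this
  have h2 : IsIso (homOfLE (top_le_fibChart_preimage f hW hU e z)) :=
    ⟨⟨homOfLE le_top, Subsingleton.elim _ _, Subsingleton.elim _ _⟩⟩
  have h3 : IsIso ((Spec (CommRingCat.of (z.asIdeal.Fiber Γ(X, U)))).presheaf.map
      (homOfLE (top_le_fibChart_preimage f hW hU e z)).op) := inferInstance
  exact IsIso.comp_isIso' (IsIso.comp_isIso' h1 h3) inferInstance

theorem fibChartRingHom_app (b : Γ(X, U)) :
    letI : Algebra Γ(Y, W) Γ(X, U) := (f.appLE W U e).hom.toAlgebra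
    (fibChartRingHom f hW hU e z).hom (((f.fiberι (hW.fromSpec z)).app U).hom b) =
      (1 : z.asIdeal.ResidueField) ⊗ₜ[Γ(Y, W)] b := by
  letI : Algebra Γ(Y, W) Γ(X, U) := (f.appLE W U e).hom.toAlgebra
  have h1 := SpecMap_comp_fromSpec_appLE hU (CommRingCat.ofHom
      (Algebra.TensorProduct.includeRight :
        Γ(X, U) →ₐ[Γ(Y, W)] z.asIdeal.Fiber Γ(X, U)).toRingHom)
      (fibChart f hW hU e z ≫ f.fiberι (hW.fromSpec z)) (fibChart_fiberι f hW hU e z)
      (top_le_fibChart_preimage f hW hU e z)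
  have h2 : (f.fiberι (hW.fromSpec z)).app U ≫ fibChartRingHom f hW hU e z =
      CommRingCat.ofHom (Algebra.TensorProduct.includeRight :
        Γ(X, U) →ₐ[Γ(Y, W)] z.asIdeal.Fiber Γ(X, U)).toRingHom := by
    rw [← h1]
    unfold fibChartRingHom
    rw [Scheme.Hom.app_eq_appLE, Scheme.Hom.appLE_comp_appLE_assoc]
  have h3 := congrArg (fun φ => φ.hom b) h2
  exact h3

end Chart

section TorFreeTransfer

theorem torFree_iff_of_bijective {A B : Type*} [CommRing A] [CommRing B] (φ : A →+* B)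
    (hφ : Function.Bijective φ) {ι : Type*} (g : ι → A) :
    TorFree g ↔ TorFree (fun k => φ (g k)) := by
  constructor
  · intro h b hb
    obtain ⟨a, rfl⟩ := hφ.2 b
    have : a = 0 := by
      apply h
      intro k
      obtain ⟨N, hN⟩ := hb k
      refine ⟨N, hφ.1 ?_⟩
      rw [map_mul, map_pow, hN, map_zero]
    rw [this, map_zero]
  · intro h a ha
    apply hφ.1
    rw [map_zero]
    apply h
    intro k
    obtain ⟨N, hN⟩ := ha k
    exact ⟨N, by rw [← map_pow, ← map_mul, hN, map_zero]⟩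

end TorFreeTransfer


section Main

open Groth.Agent.Lib.Helper13.GenFibre Groth.Agent.Lib.Helper13.SchDense

variable {X Y : Scheme.{u}} (f : X ⟶ Y)

theorem torFree_fibChart_iff {W : Y.Opens} (hW : IsAffineOpen W) {U : X.Opens}
    (hU : IsAffineOpen U) (e : U ≤ f ⁻¹ᵁ W) (z : Spec Γ(Y, W)) {ι : Type*} (g : ι → Γ(X, U)) :
    letI : Algebra Γ(Y, W) Γ(X, U) := (f.appLE W U e).hom.toAlgebra
    TorFree (fun k => ((f.fiberι (hW.fromSpec z)).app U).hom (g k)) ↔
      TorFree (fun k => ((1 : z.asIdeal.ResidueField) ⊗ₜ[Γ(Y, W)] g k :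
        z.asIdeal.Fiber Γ(X, U))) := by
  letI : Algebra Γ(Y, W) Γ(X, U) := (f.appLE W U e).hom.toAlgebra
  rw [torFree_iff_of_bijective (fibChartRingHom f hW hU e z).hom
    (ConcreteCategory.bijective_of_isIso _)]
  have h1 : (fun k => (fibChartRingHom f hW hU e z).hom
      (((f.fiberι (hW.fromSpec z)).app U).hom (g k))) =
      (fun k => ((1 : z.asIdeal.ResidueField) ⊗ₜ[Γ(Y, W)] g k : z.asIdeal.Fiber Γ(X, U))) :=
    funext fun k => fibChartRingHom_app f hW hU e z (g k)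
  rw [h1]

instance isNoetherian_fiber [LocallyOfFiniteType f] [QuasiCompact f] (y : Y) :
    IsNoetherian (f.fiber y) := by
  have : IsLocallyNoetherian (f.fiber y) := by
    unfold Scheme.Hom.fiber
    infer_instance
  exact {}

variable [LocallyOfFiniteType f] [QuasiCompact f]

/-- Chart-level spreading out of schematic density. -/
theorem exists_forall_torFree_chart {W : Y.Opens} (hW : IsAffineOpen W) {Ui : X.Opens}
    (hUi : IsAffineOpen Ui) (e : Ui ≤ f ⁻¹ᵁ W) (U : X.Opens) (z₀ : Spec Γ(Y, W))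
    (hnil : z₀.asIdeal = nilradical Γ(Y, W))
    (h : IsSchemeTheoreticallyDominant ((f.fiberι (hW.fromSpec z₀)) ⁻¹ᵁ U).ι) :
    ∃ a : Γ(Y, W), a ∉ z₀.asIdeal ∧ ∀ z : Spec Γ(Y, W), a ∉ z.asIdeal →
      ∃ (ι : Type u) (_ : Finite ι)
        (g : ι → Γ(f.fiber (hW.fromSpec z), (f.fiberι (hW.fromSpec z)) ⁻¹ᵁ Ui)),
        (∀ k, (f.fiber (hW.fromSpec z)).basicOpen (g k) ≤ (f.fiberι (hW.fromSpec z)) ⁻¹ᵁ U) ∧
          TorFree g := by
  classical
  letI : Algebra Γ(Y, W) Γ(X, Ui) := (f.appLE W Ui e).hom.toAlgebra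
  have hft : Algebra.FiniteType Γ(Y, W) Γ(X, Ui) := f.finiteType_appLE hW hUi e
  set η' := hW.fromSpec z₀ with hη'
  have hdense : CInt.IsSchematicallyDense ((f.fiberι η') ⁻¹ᵁ U) :=
    isSchematicallyDense_of_isSchemeTheoreticallyDominant _
  -- choose functions around each point of the trace
  let O : (f.fiber η').Opens := (f.fiberι η') ⁻¹ᵁ Ui ⊓ (f.fiberι η') ⁻¹ᵁ U
  have hex : ∀ x : O, ∃ g : Γ(X, Ui), X.basicOpen g ≤ U ∧ f.fiberι η' x.1 ∈ X.basicOpen g :=
    fun x => hUi.exists_basicOpen_le (V := U) ⟨f.fiberι η' x.1, x.2.2⟩ x.2.1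
  choose gX hgU hgx using hex
  have hOc : IsCompact (O : Set (f.fiber η')) := NoetherianSpace.isCompact _
  obtain ⟨t, ht⟩ := hOc.elim_finite_subcover
    (fun x : O => (((f.fiberι η') ⁻¹ᵁ X.basicOpen (gX x) : (f.fiber η').Opens) : Set (f.fiber η')))
    (fun x => ((f.fiberι η') ⁻¹ᵁ X.basicOpen (gX x)).2)
    (fun x hx => Set.mem_iUnion.mpr ⟨⟨x, hx⟩, hgx ⟨x, hx⟩⟩)
  let g₀ : t → Γ(X, Ui) := fun k => gX k.1
  have htf₀ : TorFree (fun k : t => ((f.fiberι η').app Ui).hom (g₀ k)) := by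
    refine torFree_of_isSchematicallyDense _ hdense (V := (f.fiberι η') ⁻¹ᵁ Ui) _ ?_
    intro x hx
    obtain ⟨k, hk⟩ := Set.mem_iUnion.mp (ht hx)
    obtain ⟨hkt, hxk⟩ := Set.mem_iUnion.mp hk
    refine Opens.mem_iSup.mpr ⟨⟨k, hkt⟩, ?_⟩
    rw [← Scheme.preimage_basicOpen]
    exact hxk
  have htf₁ := (torFree_fibChart_iff f hW hUi e z₀ g₀).mp htf₀
  obtain ⟨a, ha, hA⟩ := exists_forall_torFree_fiber z₀.asIdeal hnil g₀ htf₁
  refine ⟨a, ha, fun z haz => ⟨t, inferInstance,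
    fun k => ((f.fiberι (hW.fromSpec z)).app Ui).hom (g₀ k), ?_, ?_⟩⟩
  · intro k
    rw [← Scheme.preimage_basicOpen]
    exact (Opens.map _).monotone (hgU k.1)
  · exact (torFree_fibChart_iff f hW hUi e z g₀).mpr (hA z.asIdeal haz)

/-- **Stacks 37.24.3**: scheme theoretic density of an open in the fibres spreads out from the generic
fibre. -/
theorem exists_open_forall_isSchemeTheoreticallyDominant_fiber [IrreducibleSpace ↑Y]
    (U : X.Opens)
    (h : IsSchemeTheoreticallyDominant (f.fiberι (genericPoint ↑Y) ⁻¹ᵁ U).ι) :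
    ∃ V : Y.Opens, (V : Set ↑Y).Nonempty ∧
      ∀ y ∈ V, IsSchemeTheoreticallyDominant (f.fiberι y ⁻¹ᵁ U).ι := by
  classical
  obtain ⟨W, hW, hηW, -⟩ := exists_isAffineOpen_mem_and_subset
    (x := genericPoint ↑Y) (U := ⊤) trivial
  have hηr : genericPoint ↑Y ∈ Set.range hW.fromSpec := by
    rw [hW.range_fromSpec]; exact hηW
  obtain ⟨z₀, hz₀⟩ := hηr
  have hnil : z₀.asIdeal = nilradical Γ(Y, W) :=
    asIdeal_eq_nilradical_of_fromSpec_eq hW z₀ hz₀
  rw [← hz₀] at h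
  have hcomp : IsCompact ((f ⁻¹ᵁ W : X.Opens) : Set X) :=
    QuasiCompact.isCompact_preimage (f := f) _ W.2 hW.isCompact
  obtain ⟨S, hSfin, hSeq⟩ := isCompact_iff_finite_and_eq_biUnion_affineOpens.mp hcomp
  have hSle : ∀ Ui : X.affineOpens, Ui ∈ S → Ui.1 ≤ f ⁻¹ᵁ W := by
    intro Ui hUi
    rw [hSeq]
    exact le_iSup₂ (f := fun (i : X.affineOpens) (_ : i ∈ S) => (i : X.Opens)) Ui hUi
  have := hSfin.fintype
  have hchart : ∀ k : S, ∃ a : Γ(Y, W), a ∉ z₀.asIdeal ∧ ∀ z : Spec Γ(Y, W), a ∉ z.asIdeal →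
      ∃ (ι : Type u) (_ : Finite ι)
        (g : ι → Γ(f.fiber (hW.fromSpec z), (f.fiberι (hW.fromSpec z)) ⁻¹ᵁ k.1.1)),
        (∀ j, (f.fiber (hW.fromSpec z)).basicOpen (g j) ≤ (f.fiberι (hW.fromSpec z)) ⁻¹ᵁ U) ∧
          TorFree g := fun k =>
    exists_forall_torFree_chart f hW k.1.2 (hSle k.1 k.2) U z₀ hnil h
  choose a ha hA using hchart
  have hz₀p : z₀.asIdeal.IsPrime := z₀.isPrime
  have hprod : ∏ k, a k ∉ z₀.asIdeal := by
    intro hmem
    obtain ⟨k, -, hk⟩ := (hz₀p.prod_mem_iff (s := Finset.univ) (x := a)).mp hmem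
    exact ha k hk
  refine ⟨Y.basicOpen (∏ k, a k), ⟨genericPoint ↑Y, ?_⟩, ?_⟩
  · have : z₀ ∈ hW.fromSpec ⁻¹ᵁ Y.basicOpen (∏ k, a k) := by
      rw [hW.fromSpec_preimage_basicOpen]
      exact hprod
    have h2 : hW.fromSpec z₀ ∈ Y.basicOpen (∏ k, a k) := this
    rwa [hz₀] at h2
  · intro y hy
    have hyW : y ∈ W := Y.basicOpen_le _ hy
    have key : ∃ z : Spec Γ(Y, W), hW.fromSpec z = y ∧ ∏ k, a k ∉ z.asIdeal :=
      ⟨hW.primeIdealOf ⟨y, hyW⟩, hW.fromSpec_primeIdealOf ⟨y, hyW⟩,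
        (mem_basicOpen_iff_notMem_primeIdealOf hW _ y hyW).mp hy⟩
    obtain ⟨z, rfl, haz⟩ := key
    have hak : ∀ k, a k ∉ z.asIdeal := fun k hk =>
      haz (Ideal.mem_of_dvd _ (Finset.dvd_prod_of_mem a (Finset.mem_univ k)) hk)
    apply isSchemeTheoreticallyDominant_of_isSchematicallyDense
    choose ι hfin g hg htf using fun k : S => hA k z (hak k)
    refine isSchematicallyDense_of_torFree _
      (fun k : S => (f.fiberι (hW.fromSpec z)) ⁻¹ᵁ k.1.1) ?_ ?_ ι g hg htf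
    · intro k
      have h1 := isAffineOpen_opensRange (fibChart f hW k.1.2 (hSle k.1 k.2) z)
      have h2 : (fibChart f hW k.1.2 (hSle k.1 k.2) z).opensRange =
          (f.fiberι (hW.fromSpec z)) ⁻¹ᵁ k.1.1 :=
        Opens.ext (range_fibChart f hW k.1.2 (hSle k.1 k.2) z)
      rwa [h2] at h1
    · intro x
      have hx : f (f.fiberι (hW.fromSpec z) x) = hW.fromSpec z := by
        have h1 : f.fiberι (hW.fromSpec z) x ∈ Set.range (f.fiberι (hW.fromSpec z)) := ⟨x, rfl⟩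
        rw [f.range_fiberι] at h1
        exact h1
      have hxW : f.fiberι (hW.fromSpec z) x ∈ f ⁻¹ᵁ W := by
        change f (f.fiberι (hW.fromSpec z) x) ∈ W
        rw [hx]
        have : hW.fromSpec z ∈ Set.range hW.fromSpec := ⟨z, rfl⟩
        rwa [hW.range_fromSpec] at this
      rw [hSeq] at hxW
      obtain ⟨Ui, hxW'⟩ := Opens.mem_iSup.mp hxW
      obtain ⟨hUiS, hxUi⟩ := Opens.mem_iSup.mp hxW'
      exact ⟨⟨Ui, hUiS⟩, hxUi⟩

end Main

end Groth.Agent.Lib.Helper69
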