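import Groth.Agent.Lib.Helper69.Rigid

set_option autoImplicit false
universe u
open CategoryTheory CategoryTheory.Limits AlgebraicGeometry

namespace Groth.Agent.Lib.Helper69

/-- Two `Y`-morphisms to a separated, unramified `Y`-scheme
that agree after precomposition with a morphism of dense range agree
(no reducedness needed, since the equalizer is open). -/
theorem eq_of_comp_eq_of_denseRange {T X Y W : Scheme.{u}} (p : X ⟶ Y) [IsSeparated p]
    [IsOpenImmersion (pullback.diagonal p)]
    (f g : T ⟶ X) (h : f ≫ p = g ≫ p) (ξ : W ⟶ T) (hd : DenseRange ξ.base)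
    (hξ : ξ ≫ f = ξ ≫ g) : f = g := by
  let X' : Over Y := Over.mk (f ≫ p)
  let Y' : Over Y := Over.mk p
  let U' : Over Y := Over.mk (ξ ≫ f ≫ p)
  let f' : X' ⟶ Y' := Over.homMk f
  let g' : X' ⟶ Y' := Over.homMk g h.symm
  let ξ' : U' ⟶ X' := Over.homMk ξ
  have : IsSeparated Y'.hom := ‹_›
  have : IsOpenImmersion (pullback.diagonal Y'.hom) := ‹_›
  have hopen : IsOpenImmersion (equalizer.ι f' g').left := isOpenImmersion_equalizer_ι_left f' g'
  have hclosed : IsClosedImmersion (equalizer.ι f' g').left := inferInstance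
  have hfac : (equalizer.lift ξ' (by ext1; exact hξ) : U' ⟶ equalizer f' g').left ≫
      (equalizer.ι f' g').left = ξ := by
    rw [← Over.comp_left, equalizer.lift_ι]; rfl
  have hsurj : Function.Surjective (equalizer.ι f' g').left := by
    rw [← Set.range_eq_univ]
    have hcl : IsClosed (Set.range (equalizer.ι f' g').left) :=
      (Scheme.Hom.isClosedEmbedding _).isClosed_range
    have hsub : Set.range ξ.base ⊆ Set.range (equalizer.ι f' g').left := by
      rintro _ ⟨w, rfl⟩
      refine ⟨(equalizer.lift ξ' (by ext1; exact hξ) : U' ⟶ equalizer f' g').left w, ?_⟩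
      rw [← Scheme.Hom.comp_apply, hfac]
    exact Set.eq_univ_of_univ_subset (hd.closure_range ▸ hcl.closure_subset_iff.mpr hsub)
  have : IsIso (equalizer.ι f' g').left :=
    (isIso_iff_isOpenImmersion_and_surjective _).mpr ⟨hopen, ⟨hsurj⟩⟩
  rw [← cancel_epi (equalizer.ι f' g').left]
  exact congr($(equalizer.condition f' g').left)

end Groth.Agent.Lib.Helper69
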