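import Groth.Agent.Lib.Helper69.LocalTarget
import Mathlib.AlgebraicGeometry.ZariskisMainTheorem
import Mathlib.AlgebraicGeometry.Fiber
import Mathlib.AlgebraicGeometry.Morphisms.ClosedImmersion
import Mathlib.AlgebraicGeometry.Morphisms.Finite
import Mathlib.RingTheory.LocalRing.Module
import Mathlib.RingTheory.Support

/-!
# Finite morphisms whose fibre over a point is a closed immersion

`exists_isClosedImmersion_restrict_of_fiber`: if `f ∣_ V` is finite for an affine open `V ∋ y` and
the fibre `f.fiber y ⟶ Spec κ(y)` is a closed immersion, then `f` is a closed immersion over an open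
neighbourhood of `y` (Nakayama).  Also: `isFinite_restrict_of_quasiFiniteAt` (a proper morphism is
finite over any open over which it is quasi-finite at every point).
-/

set_option autoImplicit false
universe u
open TensorProduct CategoryTheory CategoryTheory.Limits AlgebraicGeometry

namespace Groth.Agent.Lib.Helper69

/-- Nakayama: for a finite ring map `R → S` and a prime `p` of `R` such that `κ(p) → κ(p) ⊗ S` is
surjective, there is `r ∉ p` with `r • S ⊆ image of R`. -/
theorem exists_smul_mem_range_of_surjective_fiber (R S : Type u) [CommRing R] [CommRing S]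
    [Algebra R S] [Module.Finite R S] (p : PrimeSpectrum R)
    (hsurj : Function.Surjective (algebraMap p.asIdeal.ResidueField (p.asIdeal.Fiber S))) :
    ∃ r : R, r ∉ p.asIdeal ∧ ∀ s : S, ∃ t : R, algebraMap R S t = r • s := by
  let N : Submodule R S := LinearMap.range (Algebra.linearMap R S)
  have hp : p ∉ Module.support R (S ⧸ N) := by
    rw [Module.mem_support_iff_nontrivial_residueField_tensorProduct, not_nontrivial_iff_subsingleton]
    refine ⟨fun a b => ?_⟩
    suffices h : ∀ z : p.asIdeal.ResidueField ⊗[R] (S ⧸ N), z = 0 by rw [h a, h b]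
    intro z
    obtain ⟨z', rfl⟩ := LinearMap.lTensor_surjective p.asIdeal.ResidueField N.mkQ_surjective z
    obtain ⟨k, rfl⟩ := hsurj z'
    rw [Algebra.TensorProduct.algebraMap_apply, Algebra.algebraMap_self, RingHom.id_apply,
      LinearMap.lTensor_tmul]
    have : N.mkQ (1 : S) = 0 := by
      rw [Submodule.mkQ_apply, Submodule.Quotient.mk_eq_zero]
      exact ⟨1, by simp⟩
    rw [this, tmul_zero]
  rw [Module.support_eq_zeroLocus, PrimeSpectrum.mem_zeroLocus, Set.not_subset] at hp
  obtain ⟨r, hr, hrp⟩ := hp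
  refine ⟨r, hrp, fun s => ?_⟩
  have h0 : r • (N.mkQ s) = 0 := Module.mem_annihilator.mp hr _
  rw [← map_smul, Submodule.mkQ_apply, Submodule.Quotient.mk_eq_zero] at h0
  obtain ⟨t, ht⟩ := h0
  exact ⟨t, ht⟩

theorem surjective_of_isClosedImmersion_SpecMap {R S : CommRingCat.{u}} (f : R ⟶ S)
    [IsClosedImmersion (Spec.map f)] : Function.Surjective f.hom := by
  have h := (IsClosedImmersion.isAffine_surjective_of_isAffine (Spec.map f)).2
  have e := Scheme.ΓSpecIso_naturality f
  intro s
  obtain ⟨t, ht⟩ := h ((Scheme.ΓSpecIso S).inv.hom s)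
  refine ⟨(Scheme.ΓSpecIso R).hom.hom t, ?_⟩
  have := congr($(e).hom t)
  simp only [CommRingCat.hom_comp, RingHom.coe_comp, Function.comp_apply] at this
  rw [← this]
  have h2 : (Spec.map f).appTop.hom t = (Scheme.ΓSpecIso S).inv.hom s := ht
  rw [h2]
  exact congr($((Scheme.ΓSpecIso S).inv_hom_id).hom s)

theorem exists_isClosedImmersion_pullback_snd_of_fiber (R S : Type u) [CommRing R] [CommRing S]
    [Algebra R S] [Module.Finite R S] (p : PrimeSpectrum R)
    [IsClosedImmersion ((Spec.map (CommRingCat.ofHom <| algebraMap R S)).fiberToSpecResidueField p)] :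
    ∃ r : R, r ∉ p.asIdeal ∧ IsClosedImmersion (pullback.snd
      (Spec.map (CommRingCat.ofHom <| algebraMap R S))
      (Spec.map (CommRingCat.ofHom <| algebraMap R (Localization.Away r)))) := by
  have h1 : IsClosedImmersion (Spec.map <| CommRingCat.ofHom <|
        algebraMap p.asIdeal.ResidueField (p.asIdeal.Fiber S)) :=
    (MorphismProperty.arrow_mk_iso_iff @IsClosedImmersion
      (Spec.fiberToSpecResidueFieldIso R S p)).mp ‹_›
  have h2 := surjective_of_isClosedImmersion_SpecMap (CommRingCat.ofHom <|
        algebraMap p.asIdeal.ResidueField (p.asIdeal.Fiber S))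
  obtain ⟨r, hr, hrs⟩ := exists_smul_mem_range_of_surjective_fiber R S p h2
  refine ⟨r, hr, ?_⟩
  rw [← pullbackSpecIso_hom_snd]
  have : Function.Surjective (Algebra.TensorProduct.includeRight :
      Localization.Away r →ₐ[R] S ⊗[R] Localization.Away r) := by
    intro z
    induction z using TensorProduct.induction_on with
    | zero => exact ⟨0, map_zero _⟩
    | tmul s a =>
      obtain ⟨t, ht⟩ := hrs s
      obtain ⟨u, hu⟩ : ∃ u : Localization.Away r, u * algebraMap R _ r = 1 := by
        have := IsLocalization.Away.algebraMap_isUnit (S := Localization.Away r) r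
        obtain ⟨v, hv⟩ := this.exists_left_inv
        exact ⟨v, hv⟩
      refine ⟨t • (u * a), ?_⟩
      rw [Algebra.TensorProduct.includeRight_apply, ← TensorProduct.smul_tmul, Algebra.smul_def,
        mul_one, ht]
      rw [TensorProduct.smul_tmul, Algebra.smul_def, ← mul_assoc, mul_comm _ u, hu, one_mul]
    | add x y hx hy =>
      obtain ⟨a, rfl⟩ := hx
      obtain ⟨b, rfl⟩ := hy
      exact ⟨a + b, map_add _ _ _⟩
  rw [MorphismProperty.cancel_left_of_respectsIso (P := @IsClosedImmersion)]
  exact IsClosedImmersion.spec_of_surjective _ this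

/-- A finite morphism to an affine scheme whose fibre over `y` is a closed immersion is a closed
immersion over an open neighbourhood of `y`. -/
theorem exists_isClosedImmersion_restrict_of_fiber_of_isAffine {X Y : Scheme.{u}} (f : X ⟶ Y)
    [IsAffine Y] [IsFinite f] (y : Y) [hy : IsClosedImmersion (f.fiberToSpecResidueField y)] :
    ∃ W : Y.Opens, y ∈ W ∧ IsClosedImmersion (f ∣_ W) := by
  have : IsAffine X := isAffine_of_isAffineHom f
  obtain ⟨p, rfl⟩ : ∃ p, Y.isoSpec.inv.base p = y :=
    ⟨Y.isoSpec.hom.base y, by rw [← Scheme.Hom.comp_apply, Iso.hom_inv_id]; rfl⟩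
  let R : Type u := Γ(Y, ⊤)
  let S : Type u := Γ(X, ⊤)
  let _ : Algebra R S := f.appTop.hom.toAlgebra
  have hfin : Module.Finite R S := RingHom.finite_algebraMap.mp f.finite_appTop
  have hφ : Spec.map (CommRingCat.ofHom (algebraMap R S)) = Spec.map f.appTop := rfl
  have sq : IsPullback X.isoSpec.inv (Spec.map (CommRingCat.ofHom (algebraMap R S))) f
      Y.isoSpec.inv :=
    IsPullback.of_horiz_isIso ⟨by rw [hφ]; exact (Scheme.isoSpec_inv_naturality f).symm⟩
  have hfib : IsClosedImmersion
      ((Spec.map (CommRingCat.ofHom <| algebraMap R S)).fiberToSpecResidueField p) :=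
    MorphismProperty.of_isPullback (P := @IsClosedImmersion)
      (isPullback_fiberToSpecResidueField_of_isPullback sq p) hy
  obtain ⟨r, hr, hcl⟩ := exists_isClosedImmersion_pullback_snd_of_fiber R S p
  let g' : Spec (CommRingCat.of (Localization.Away r)) ⟶ Spec (CommRingCat.of R) :=
    Spec.map (CommRingCat.ofHom <| algebraMap R (Localization.Away r))
  let g : Spec (CommRingCat.of (Localization.Away r)) ⟶ Y := g' ≫ Y.isoSpec.inv
  refine ⟨g.opensRange, ?_, ?_⟩
  · have hp : p ∈ Set.range g'.base := by
      have := Scheme.Hom.opensRange_localizationAway (R := CommRingCat.of R) r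
      have h2 : p ∈ (PrimeSpectrum.basicOpen r : Set (PrimeSpectrum R)) := hr
      rw [← this] at h2
      exact h2
    obtain ⟨q, hq⟩ := hp
    exact ⟨q, by rw [Scheme.Hom.comp_apply, hq]⟩
  · rw [MorphismProperty.arrow_mk_iso_iff @IsClosedImmersion (morphismRestrictOpensRange f g)]
    have pasted := (IsPullback.of_hasPullback
      (Spec.map (CommRingCat.ofHom <| algebraMap R S)) g').paste_horiz sq
    have h3 := pasted.isoPullback_hom_snd
    rw [← MorphismProperty.cancel_left_of_respectsIso (P := @IsClosedImmersion)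
      pasted.isoPullback.hom]
    rw [h3]
    exact hcl

/-- If `f ∣_ V` is finite for an affine open `V ∋ y` and the fibre of `f` over `y` is a closed
immersion (into `Spec κ(y)`), then `f` is a closed immersion over an open neighbourhood of `y`. -/
theorem exists_isClosedImmersion_restrict_of_fiber {X Y : Scheme.{u}} (f : X ⟶ Y) (V : Y.Opens)
    (hV : IsAffineOpen V) [IsFinite (f ∣_ V)] (y : Y) (hyV : y ∈ V)
    [hy : IsClosedImmersion (f.fiberToSpecResidueField y)] :
    ∃ W : Y.Opens, y ∈ W ∧ IsClosedImmersion (f ∣_ W) := by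
  have : IsAffine V := hV
  have hfib : IsClosedImmersion ((f ∣_ V).fiberToSpecResidueField ⟨y, hyV⟩) :=
    MorphismProperty.of_isPullback (P := @IsClosedImmersion)
      (isPullback_fiberToSpecResidueField_of_isPullback
        (isPullback_morphismRestrict f V).flip ⟨y, hyV⟩) hy
  obtain ⟨W', hyW', hW'⟩ :=
    exists_isClosedImmersion_restrict_of_fiber_of_isAffine (f ∣_ V) ⟨y, hyV⟩
  refine ⟨V.ι ''ᵁ W', ⟨⟨y, hyV⟩, hyW', rfl⟩, ?_⟩
  rw [← MorphismProperty.arrow_mk_iso_iff @IsClosedImmersion (morphismRestrictRestrict f V W')]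
  exact hW'

theorem isIso_residueFieldMap_of_isPreimmersion' {W X : Scheme.{u}} (j : W ⟶ X) [IsPreimmersion j]
    (w : W) : IsIso (j.residueFieldMap w) := by
  rw [ConcreteCategory.isIso_iff_bijective]
  refine ⟨(j.residueFieldMap w).hom.injective, ?_⟩
  intro t
  obtain ⟨t, rfl⟩ := W.residue_surjective w t
  obtain ⟨s, rfl⟩ := j.stalkMap_surjective w t
  refine ⟨X.residue _ s, ?_⟩
  exact congrArg (fun f => f.hom s) (Scheme.residue_residueFieldMap j w)

set_option backward.isDefEq.respectTransparency.types false in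
/-- A proper morphism is finite over an open `W` as soon as it is quasi-finite at every point
lying over `W`. -/
theorem isFinite_restrict_of_quasiFiniteAt {X Y : Scheme.{u}} (f : X ⟶ Y) [IsProper f]
    (W : Y.Opens) (hW : ∀ x, f.base x ∈ W → f.QuasiFiniteAt x) : IsFinite (f ∣_ W) := by
  suffices LocallyQuasiFinite (f ∣_ W) from .of_isProper_of_locallyQuasiFinite _
  rw [← Scheme.Hom.quasiFiniteLocus_eq_top_iff]
  ext x
  have : f.QuasiFiniteAt ((f ⁻¹ᵁ W).ι x) := hW _ x.2
  rw [← Scheme.Hom.quasiFiniteAt_comp_iff_of_isOpenImmersion, ← morphismRestrict_ι,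
    Scheme.Hom.quasiFiniteAt_comp_iff] at this
  simpa

theorem quasiFiniteAt_of_finite_fibre {X Y : Scheme.{u}} (f : X ⟶ Y) [LocallyOfFiniteType f]
    (x : X) (hfin : (f.base ⁻¹' {f.base x}).Finite) : f.QuasiFiniteAt x := by
  have : Finite (f.fiber (f x)) := (f.fiberHomeo (f x)).finite_iff.mpr hfin
  exact Scheme.Hom.quasiFiniteAt_iff_isOpen_singleton_asFiber.mpr (isOpen_discrete _)

end Groth.Agent.Lib.Helper69
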