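import Mathlib

set_option autoImplicit false
universe u
open AlgebraicGeometry CategoryTheory Limits TopologicalSpace Opposite

namespace Groth.Agent.Lib.Helper69.CoprodClosed

variable {X Y Z : Scheme.{u}} (f : X ⟶ Z) (g : Y ⟶ Z)

theorem surjectiveOnStalks_coprodDesc [SurjectiveOnStalks f] [SurjectiveOnStalks g] :
    SurjectiveOnStalks (coprod.desc f g) := by
  rw [IsZariskiLocalAtSource.iff_of_openCover (P := @SurjectiveOnStalks)
    (coprodOpenCover.{u, 0} X Y)]
  rintro (⟨⟩ | ⟨⟩)
  · change SurjectiveOnStalks (coprod.inl ≫ coprod.desc f g)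
    rw [coprod.inl_desc]; infer_instance
  · change SurjectiveOnStalks (coprod.inr ≫ coprod.desc f g)
    rw [coprod.inr_desc]; infer_instance

theorem desc_inl_apply (x : X) : (coprod.desc f g) ((coprod.inl : X ⟶ X ⨿ Y) x) = f x := by
  rw [← Scheme.Hom.comp_apply, coprod.inl_desc]

theorem desc_inr_apply (y : Y) : (coprod.desc f g) ((coprod.inr : Y ⟶ X ⨿ Y) y) = g y := by
  rw [← Scheme.Hom.comp_apply, coprod.inr_desc]

theorem isClosedEmbedding_coprodDesc (hf : Topology.IsClosedEmbedding f)
    (hg : Topology.IsClosedEmbedding g) (hd : Disjoint (Set.range f) (Set.range g)) :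
    Topology.IsClosedEmbedding (coprod.desc f g) := by
  refine Topology.IsClosedEmbedding.of_continuous_injective_isClosedMap
    (coprod.desc f g).continuous ?_ ?_
  · intro a b hab
    obtain ⟨a | a, rfl⟩ := (coprodMk X Y).surjective a <;>
    obtain ⟨b | b, rfl⟩ := (coprodMk X Y).surjective b
    · simp only [coprodMk_inl, desc_inl_apply] at hab ⊢
      rw [hf.injective hab]
    · simp only [coprodMk_inl, coprodMk_inr, desc_inl_apply, desc_inr_apply] at hab
      exact (Set.disjoint_left.mp hd ⟨a, rfl⟩ ⟨b, hab.symm⟩).elim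
    · simp only [coprodMk_inl, coprodMk_inr, desc_inl_apply, desc_inr_apply] at hab
      exact (Set.disjoint_left.mp hd ⟨b, rfl⟩ ⟨a, hab⟩).elim
    · simp only [coprodMk_inr, desc_inr_apply] at hab ⊢
      rw [hg.injective hab]
  · intro C hC
    have : (coprod.desc f g) '' C =
        f '' ((coprod.inl : X ⟶ X ⨿ Y) ⁻¹' C) ∪ g '' ((coprod.inr : Y ⟶ X ⨿ Y) ⁻¹' C) := by
      ext z
      constructor
      · rintro ⟨a, ha, rfl⟩
        obtain ⟨a | a, rfl⟩ := (coprodMk X Y).surjective a
        · left
          rw [coprodMk_inl] at ha ⊢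
          exact ⟨a, ha, (desc_inl_apply f g a).symm⟩
        · right
          rw [coprodMk_inr] at ha ⊢
          exact ⟨a, ha, (desc_inr_apply f g a).symm⟩
      · rintro (⟨a, ha, rfl⟩ | ⟨a, ha, rfl⟩)
        · exact ⟨_, ha, desc_inl_apply f g a⟩
        · exact ⟨_, ha, desc_inr_apply f g a⟩
    rw [this]
    exact (hf.isClosedMap _ (hC.preimage (coprod.inl : X ⟶ X ⨿ Y).continuous)).union
      (hg.isClosedMap _ (hC.preimage (coprod.inr : Y ⟶ X ⨿ Y).continuous))

theorem isClosedImmersion_coprodDesc [IsClosedImmersion f] [IsClosedImmersion g]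
    (hd : Disjoint (Set.range f) (Set.range g)) : IsClosedImmersion (coprod.desc f g) := by
  have := surjectiveOnStalks_coprodDesc f g
  exact ⟨isClosedEmbedding_coprodDesc f g f.isClosedEmbedding g.isClosedEmbedding hd⟩

end Groth.Agent.Lib.Helper69.CoprodClosed
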