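import Mathlib.AlgebraicGeometry.Morphisms.FormallyUnramified
import Mathlib.AlgebraicGeometry.Morphisms.Separated
import Mathlib.AlgebraicGeometry.Morphisms.Etale
import Mathlib.AlgebraicGeometry.Morphisms.IsIso

set_option autoImplicit false
universe u
open CategoryTheory CategoryTheory.Limits AlgebraicGeometry

namespace Groth.Agent.Lib.Helper69

set_option backward.isDefEq.respectTransparency false in
theorem isOpenImmersion_equalizer_ι_left {S : Scheme.{u}} {X Y : Over S}
    [IsOpenImmersion (pullback.diagonal Y.hom)]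
    (f g : X ⟶ Y) : IsOpenImmersion (equalizer.ι f g).left := by
  refine MorphismProperty.of_isPullback
    ((Limits.isPullback_equalizer_prod f g).map (Over.forget _)).flip ?_
  rw [← MorphismProperty.cancel_right_of_respectsIso @IsOpenImmersion _
    (Over.prodLeftIsoPullback Y Y).hom]
  convert! (inferInstance : IsOpenImmersion (pullback.diagonal Y.hom))
  ext1 <;> simp [← Over.comp_left]

/-- Rigidity: two `Y`-morphisms from a connected scheme to a separated, unramified `Y`-scheme
that agree on a nonempty scheme agree. -/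
theorem eq_of_comp_eq_of_connected {T X Y W : Scheme.{u}} (p : X ⟶ Y) [IsSeparated p]
    [IsOpenImmersion (pullback.diagonal p)] [ConnectedSpace T] [Nonempty W]
    (f g : T ⟶ X) (h : f ≫ p = g ≫ p) (ξ : W ⟶ T) (hξ : ξ ≫ f = ξ ≫ g) : f = g := by
  let X' : Over Y := Over.mk (f ≫ p)
  let Y' : Over Y := Over.mk p
  let U' : Over Y := Over.mk (ξ ≫ f ≫ p)
  let f' : X' ⟶ Y' := Over.homMk f
  let g' : X' ⟶ Y' := Over.homMk g h.symm
  let ξ' : U' ⟶ X' := Over.homMk ξ
  have : IsSeparated Y'.hom := ‹_›
  have : IsOpenImmersion (pullback.diagonal Y'.hom) := ‹_›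
  have hopen : IsOpenImmersion (equalizer.ι f' g').left := isOpenImmersion_equalizer_ι_left f' g'
  have hclosed : IsClosedImmersion (equalizer.ι f' g').left := inferInstance
  have hfac : (equalizer.lift ξ' (by ext1; exact hξ) : U' ⟶ equalizer f' g').left ≫
      (equalizer.ι f' g').left = ξ := by
    rw [← Over.comp_left, equalizer.lift_ι]; rfl
  have hsurj : Function.Surjective (equalizer.ι f' g').left := by
    rw [← Set.range_eq_univ]
    have hclopen : IsClopen (Set.range (equalizer.ι f' g').left) :=
      ⟨(Scheme.Hom.isClosedEmbedding _).isClosed_range, (Scheme.Hom.isOpenEmbedding _).isOpen_range⟩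
    refine (isClopen_iff (α := T).mp hclopen).resolve_left ?_
    obtain ⟨w⟩ := ‹Nonempty W›
    exact Set.Nonempty.ne_empty ⟨_, ⟨(equalizer.lift ξ' (by ext1; exact hξ) : U' ⟶ equalizer f' g').left w, rfl⟩⟩
  have : Surjective (equalizer.ι f' g').left := ⟨hsurj⟩
  have : IsIso (equalizer.ι f' g').left :=
    (isIso_iff_isOpenImmersion_and_surjective _).mpr ⟨hopen, ⟨hsurj⟩⟩
  rw [← cancel_epi (equalizer.ι f' g').left]
  exact congr($(equalizer.condition f' g').left)

end Groth.Agent.Lib.Helper69
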