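import Mathlib
import Groth.Prelude.Def_Neron

set_option autoImplicit false
universe u
open CategoryTheory CategoryTheory.Limits AlgebraicGeometry

namespace Groth.Agent.Lib.Helper69.DvrIso

section Alg
variable (R : Type u) [CommRing R] [IsDomain R] [IsDiscreteValuationRing R]

theorem isLocalization_away_fractionRing {ϖ : R} (hϖ : Irreducible ϖ) :
    IsLocalization.Away ϖ (FractionRing R) := by
  refine ⟨⟨?_, ?_, ?_⟩⟩
  · rintro ⟨_, n, rfl⟩
    apply IsUnit.mk0
    rw [Ne, map_eq_zero_iff _ (IsFractionRing.injective R (FractionRing R))]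
    exact pow_ne_zero n hϖ.ne_zero
  · intro z
    obtain ⟨a, ⟨b, hb⟩, rfl⟩ := IsLocalization.exists_mk'_eq (nonZeroDivisors R) z
    have hb0 : b ≠ 0 := nonZeroDivisors.ne_zero hb
    obtain ⟨n, u, hu⟩ := IsDiscreteValuationRing.eq_unit_mul_pow_irreducible hb0 hϖ
    refine ⟨(a * ↑u⁻¹, ⟨ϖ ^ n, ⟨n, rfl⟩⟩), ?_⟩
    show IsLocalization.mk' (FractionRing R) a ⟨b, hb⟩ * algebraMap R (FractionRing R) (ϖ ^ n) =
      algebraMap R (FractionRing R) (a * ↑u⁻¹)
    have hbu : algebraMap R (FractionRing R) b ≠ 0 := by
      rw [Ne, map_eq_zero_iff _ (IsFractionRing.injective R (FractionRing R))]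
      exact hb0
    have h1 : IsLocalization.mk' (FractionRing R) a ⟨b, hb⟩ * algebraMap R (FractionRing R) b =
        algebraMap R (FractionRing R) a := IsLocalization.mk'_spec _ a ⟨b, hb⟩
    apply mul_right_cancel₀ hbu
    have h2 : (↑u⁻¹ : R) * ↑u = 1 := Units.inv_mul u
    calc IsLocalization.mk' (FractionRing R) a ⟨b, hb⟩ * algebraMap R (FractionRing R) (ϖ ^ n) *
          algebraMap R (FractionRing R) b
        = (IsLocalization.mk' (FractionRing R) a ⟨b, hb⟩ * algebraMap R (FractionRing R) b) *
          algebraMap R (FractionRing R) (ϖ ^ n) := by ring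
      _ = algebraMap R (FractionRing R) (a * ϖ ^ n) := by rw [h1, map_mul]
      _ = algebraMap R (FractionRing R) (a * ↑u⁻¹ * b) := by
          congr 1
          rw [hu]
          calc a * ϖ ^ n = a * (↑u⁻¹ * ↑u) * ϖ ^ n := by rw [h2, mul_one]
            _ = a * ↑u⁻¹ * (↑u * ϖ ^ n) := by ring
      _ = _ := by rw [map_mul]
  · intro x y h
    exact ⟨1, by rw [IsFractionRing.injective R (FractionRing R) h]⟩

instance isOpenImmersion_genPt : IsOpenImmersion (Neron.genPt R) := by
  obtain ⟨ϖ, hϖ⟩ := IsDiscreteValuationRing.exists_irreducible R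
  haveI := isLocalization_away_fractionRing R hϖ
  exact IsOpenImmersion.of_isLocalization ϖ

theorem range_genPt {ϖ : R} (hϖ : Irreducible ϖ) :
    Set.range (Neron.genPt R) = (PrimeSpectrum.basicOpen ϖ : Set (PrimeSpectrum R)) := by
  haveI := isLocalization_away_fractionRing R hϖ
  exact PrimeSpectrum.localization_away_comap_range (FractionRing R) ϖ

end Alg

section Generic
variable (R : Type u) [CommRing R] [IsDomain R] [IsDiscreteValuationRing R]
variable {X Y : Over (Spec (CommRingCat.of R))} (π : Y ⟶ X)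

/-- the generic locus of an `R`-scheme. -/
noncomputable def genOpen (X : Over (Spec (CommRingCat.of R))) : X.left.Opens :=
  (pullback.fst X.hom (Neron.genPt R)).opensRange

theorem isPullback_gen :
    IsPullback (pullback.fst Y.hom (Neron.genPt R)) ((Neron.genericFibre R).map π).left
      π.left (pullback.fst X.hom (Neron.genPt R)) := by
  have hright : IsPullback (pullback.fst X.hom (Neron.genPt R)) (pullback.snd X.hom (Neron.genPt R))
      X.hom (Neron.genPt R) := IsPullback.of_hasPullback _ _
  have houter : IsPullback (pullback.fst Y.hom (Neron.genPt R)) (pullback.snd Y.hom (Neron.genPt R))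
      Y.hom (Neron.genPt R) := IsPullback.of_hasPullback _ _
  have hw : π.left ≫ X.hom = Y.hom := Over.w π
  have h1 : ((Neron.genericFibre R).map π).left ≫ pullback.fst X.hom (Neron.genPt R) =
      pullback.fst Y.hom (Neron.genPt R) ≫ π.left := by
    simp only [Neron.genericFibre, Over.pullback_map_left]
    exact pullback.lift_fst _ _ _
  have h2 : ((Neron.genericFibre R).map π).left ≫ pullback.snd X.hom (Neron.genPt R) =
      pullback.snd Y.hom (Neron.genPt R) := by
    simp only [Neron.genericFibre, Over.pullback_map_left]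
    exact pullback.lift_snd _ _ _
  refine (IsPullback.of_right ?_ h1 hright.flip).flip
  rw [h2, hw]
  exact houter.flip

theorem isIso_restrict_genOpen (hgen : IsIso ((Neron.genericFibre R).map π)) :
    IsIso (π.left ∣_ genOpen R X) := by
  have hleft : IsIso ((Neron.genericFibre R).map π).left :=
    inferInstanceAs (IsIso ((Over.forget _).map ((Neron.genericFibre R).map π)))
  have hpb := isPullback_gen R π
  have hsnd : IsIso (pullback.snd π.left (pullback.fst X.hom (Neron.genPt R))) := by
    have h := hpb.isoPullback_hom_snd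
    have h' : pullback.snd π.left (pullback.fst X.hom (Neron.genPt R)) =
        hpb.isoPullback.inv ≫ ((Neron.genericFibre R).map π).left := by
      exact ((Iso.inv_comp_eq _).mpr h.symm).symm
    rw [h']
    infer_instance
  exact ((MorphismProperty.isomorphisms Scheme).arrow_mk_iso_iff
    (morphismRestrictOpensRange π.left (pullback.fst X.hom (Neron.genPt R)))).mpr hsnd

end Generic

section App
variable (R : Type u) [CommRing R] [IsDomain R] [IsDiscreteValuationRing R]
variable {X Y : Over (Spec (CommRingCat.of R))} (π : Y ⟶ X)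

/-- the uniformizer as a global function on `Spec R`. -/
noncomputable def tau (ϖ : R) : Γ(Spec (CommRingCat.of R), ⊤) :=
  (Scheme.ΓSpecIso (CommRingCat.of R)).inv ϖ

theorem genOpen_eq {ϖ : R} (hϖ : Irreducible ϖ) (X : Over (Spec (CommRingCat.of R))) :
    genOpen R X = X.left.basicOpen (X.hom.appTop (tau R ϖ)) := by
  rw [← Scheme.preimage_basicOpen_top]
  apply TopologicalSpace.Opens.ext
  rw [genOpen, Scheme.Hom.coe_opensRange, Scheme.Pullback.range_fst, range_genPt R hϖ]
  rw [basicOpen_eq_of_affine']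
  have : (Scheme.ΓSpecIso (CommRingCat.of R)).hom (tau R ϖ) = ϖ :=
    Iso.inv_hom_id_apply (Scheme.ΓSpecIso (CommRingCat.of R)) ϖ
  rw [this]
  rfl

theorem isIso_app_of_isIso_restrict {X Y : Scheme.{u}} (f : Y ⟶ X) (U : X.Opens)
    [IsIso (f ∣_ U)] (W : X.Opens) (hW : W ≤ U) : IsIso (f.app W) := by
  have h1 : IsIso ((f ∣_ U).app (U.ι ⁻¹ᵁ W)) := inferInstance
  rw [morphismRestrict_app] at h1
  have h2 : IsIso (f.app (U.ι ''ᵁ U.ι ⁻¹ᵁ W)) := by
    have h0 : IsIso (Y.presheaf.map
        (eqToHom (image_morphismRestrict_preimage f U (U.ι ⁻¹ᵁ W))).op) := by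
      rw [eqToHom_op, eqToHom_map]
      infer_instance
    exact @IsIso.of_isIso_comp_right _ _ _ _ _ _ _ h0 h1
  have h3 : U.ι ''ᵁ U.ι ⁻¹ᵁ W = W := by
    rw [Scheme.Hom.image_preimage_eq_opensRange_inf, Scheme.Opens.opensRange_ι]
    exact inf_eq_right.mpr hW
  rw [h3] at h2
  exact h2

theorem isIso_app_of_le_genOpen (hgen : IsIso ((Neron.genericFibre R).map π))
    (W : X.left.Opens) (hW : W ≤ genOpen R X) : IsIso (π.left.app W) := by
  haveI := isIso_restrict_genOpen R π hgen
  exact isIso_app_of_isIso_restrict π.left (genOpen R X) W hW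

end App

end Groth.Agent.Lib.Helper69.DvrIso
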