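import Mathlib.CategoryTheory.Sites.LocallyInjective
import Mathlib.CategoryTheory.Sites.Continuous

/-!
# Helper library (helper69): a continuous functor has locally connected factorisation categories

Let `G : C ⥤ D` be a continuous functor between sites (in the same universes), and let `R` be a
covering sieve of `U`. Two factorisations `V ⟶ G W₁ ⟶ G U`, `V ⟶ G W₂ ⟶ G U` (through members of
`R`) of the same morphism `V ⟶ G U` become equal in the presheaf `G_! R` locally on `V`.
-/

set_option autoImplicit false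
universe v u
open CategoryTheory Opposite

namespace Groth.Agent.Lib.Helper69

variable {C D : Type u} [Category.{v} C] [Category.{v} D] (G : C ⥤ D)
  (J : GrothendieckTopology C) (K : GrothendieckTopology D) {U : C} (R : Sieve U)

/-- Factorisations of morphisms `V ⟶ G U` through the image of a member of the sieve `R`. -/
structure Fact (V : D) where
  W : C
  r : W ⟶ U
  hr : R r
  α : V ⟶ G.obj W

variable {G R}

/-- Precomposition of a factorisation. -/
def Fact.pre {V' V : D} (q : V' ⟶ V) (f : Fact G R V) : Fact G R V' := ⟨f.W, f.r, f.hr, q ≫ f.α⟩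

variable (G R)

/-- The generating relation of the colimit `G_! R`. -/
inductive FactRel (V : D) : Fact G R V → Fact G R V → Prop
  | mk {W W' : C} (r : W ⟶ U) (hr : R r) (s : W' ⟶ W) (α : V ⟶ G.obj W') :
      FactRel V ⟨W', s ≫ r, R.downward_closed hr s, α⟩ ⟨W, r, hr, α ≫ G.map s⟩

/-- The presheaf `G_! R`, by hand. -/
def factPresheaf : Dᵒᵖ ⥤ Type (max u v) where
  obj V := Quot (FactRel G R V.unop)
  map {V V'} q := ↾(Quot.map (Fact.pre q.unop) (by
    rintro _ _ ⟨r, hr, s, α⟩
    simpa [Fact.pre] using FactRel.mk r hr s (q.unop ≫ α)))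
  map_id V := by
    ext ⟨f⟩
    change Quot.mk _ (Fact.pre (𝟙 _) f) = Quot.mk _ f
    simp [Fact.pre]
  map_comp q q' := by
    ext ⟨f⟩
    change Quot.mk _ (Fact.pre (q'.unop ≫ q.unop) f) =
      Quot.mk _ (Fact.pre q'.unop (Fact.pre q.unop f))
    simp [Fact.pre]

@[simp]
theorem factPresheaf_map_mk {V V' : Dᵒᵖ} (q : V ⟶ V') (f : Fact G R V.unop) :
    (factPresheaf G R).map q (Quot.mk _ f) = Quot.mk _ (f.pre q.unop) := rfl

/-- A continuous functor has locally connected factorisation categories through covering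
sieves. -/
theorem exists_cover_fact_eq [G.IsContinuous J K] (hR : R ∈ J U) {V : D} (f₁ f₂ : Fact G R V)
    (h : f₁.α ≫ G.map f₁.r = f₂.α ≫ G.map f₂.r) :
    ∃ Q ∈ K V, ∀ ⦃V' : D⦄ (q : V' ⟶ V), Q q →
      Quot.mk (FactRel G R V') (f₁.pre q) = Quot.mk (FactRel G R V') (f₂.pre q) := by
  let P := factPresheaf G R
  let H : Sheaf K (Type (max u v)) := ⟨K.sheafify P, K.sheafify_isSheaf P⟩
  have hsh : Presieve.IsSheaf J (G.op ⋙ H.obj) := G.op_comp_isSheaf_of_types J K H
  let η := K.toSheafify P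
  let z : Presieve.FamilyOfElements (G.op ⋙ H.obj) R.arrows :=
    fun W r hr => η.app (op (G.obj W)) (Quot.mk _ ⟨W, r, hr, 𝟙 _⟩)
  have hz : z.Compatible := by
    rw [Presieve.compatible_iff_sieveCompatible]
    intro W W' r s hr
    change η.app (op (G.obj W')) (Quot.mk _ ⟨W', s ≫ r, _, 𝟙 _⟩) =
      H.obj.map (G.map s).op (η.app (op (G.obj W)) (Quot.mk _ ⟨W, r, hr, 𝟙 _⟩))
    have e1 := NatTrans.naturality_apply η (G.map s).op
      (Quot.mk (FactRel G R _) (⟨W, r, hr, 𝟙 _⟩ : Fact G R (G.obj W)))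
    rw [← e1]
    congr 1
    have e2 := Quot.sound (FactRel.mk (G := G) (R := R) r hr s (𝟙 (G.obj W')))
    rw [e2]
    change _ = Quot.mk _ _
    simp [Fact.pre]
  let t := (hsh R hR).amalgamate z hz
  have ht : ∀ ⦃W : C⦄ (r : W ⟶ U) (hr : R r), H.obj.map (G.map r).op t = z r hr :=
    fun W r hr => (hsh R hR).valid_glue hz r hr
  have key : ∀ f : Fact G R V,
      η.app (op V) (Quot.mk _ f) = H.obj.map (f.α ≫ G.map f.r).op t := by
    intro f
    have e1 := NatTrans.naturality_apply η f.α.op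
      (Quot.mk (FactRel G R _) (⟨f.W, f.r, f.hr, 𝟙 _⟩ : Fact G R (G.obj f.W)))
    rw [op_comp, Functor.map_comp, types_comp_apply, ht f.r f.hr]
    change _ = H.obj.map f.α.op (η.app _ _)
    rw [← e1]
    congr 1
    change _ = Quot.mk _ _
    simp [Fact.pre]
  have heq : η.app (op V) (Quot.mk _ f₁) = η.app (op V) (Quot.mk _ f₂) := by
    rw [key, key, h]
  refine ⟨Presheaf.equalizerSieve (F := P) (X := op V) (Quot.mk _ f₁) (Quot.mk _ f₂),
    Presheaf.equalizerSieve_mem K η _ _ heq, ?_⟩
  intro V' q hq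
  exact hq

end Groth.Agent.Lib.Helper69
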