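import Groth.Agent.Lib.Helper69.FibSite
import Groth.Agent.Lib.Helper69.ContinuousLocal

/-!
# Helper library (helper69): fibre inclusions of a pre-fibred site are continuous; sheaves on the
total site
-/

set_option autoImplicit false
universe w v₁ u₁ v₂ u₂
open CategoryTheory Opposite Pseudofunctor Pseudofunctor.CoGrothendieck Bicategory

set_option backward.isDefEq.respectTransparency false
set_option backward.isDefEq.respectTransparency.types false
set_option backward.defeqAttrib.useBackward true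

namespace Groth.Agent.Lib.Helper69

variable {𝒮 : Type u₁} [Category.{v₁} 𝒮] (F : Pseudofunctor (LocallyDiscrete 𝒮ᵒᵖ) Cat.{v₂, u₂})
variable (J : FibSite.Topologies F)

/-- Key lemma: for a sheaf `G` on the total site and a compatible family on a covering sieve of a
fibre, the values are independent of the factorisation. -/
theorem key_factorisation (hF : FibSite.IsPreFibSite F J) {G : (∫ᶜ F)ᵒᵖ ⥤ Type w}
    (hG : Presieve.IsSheaf (FibSite.totalTopology F J) G) (S : 𝒮) {U : F.obj ⟨op S⟩}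
    {R : Sieve U} (hR : R ∈ J S U)
    {x : Presieve.FamilyOfElements ((ι F S).op ⋙ G) R.arrows} (hx : x.Compatible)
    {Z : ∫ᶜ F} {W₁ W₂ : F.obj ⟨op S⟩} (k₁ : Z ⟶ (ι F S).obj W₁) (k₂ : Z ⟶ (ι F S).obj W₂)
    {r₁ : W₁ ⟶ U} {r₂ : W₂ ⟶ U} (h₁ : R r₁) (h₂ : R r₂)
    (heq : k₁ ≫ (ι F S).map r₁ = k₂ ≫ (ι F S).map r₂) :
    G.map k₁.op (x r₁ h₁) = G.map k₂.op (x r₂ h₂) := by
  obtain ⟨T, V⟩ := Z
  obtain ⟨b₁, α₁⟩ := k₁
  obtain ⟨b₂, α₂⟩ := k₂
  have e₁ := comp_ι_map F b₁ α₁ r₁
  have e₂ := comp_ι_map F b₂ α₂ r₂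
  have heq' := e₁.symm.trans (heq.trans e₂)
  obtain ⟨hb, hfib⟩ := (Hom.ext_iff _ _).mp heq'
  dsimp at hb
  subst hb
  simp only [eqToHom_refl, Category.comp_id] at hfib
  change T ⟶ S at b₁
  change V ⟶ (FibSite.invImage F b₁).obj W₁ at α₁
  change V ⟶ (FibSite.invImage F b₁).obj W₂ at α₂
  have hsx := (Presieve.compatible_iff_sieveCompatible x).mp hx
  have : (FibSite.invImage F b₁).IsContinuous (J S) (J T) := hF b₁
  obtain ⟨Q, hQ, hQeq⟩ := exists_cover_fact_eq (FibSite.invImage F b₁) (J S) (J T) R hR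
    ⟨W₁, r₁, h₁, α₁⟩ ⟨W₂, r₂, h₂, α₂⟩ hfib
  -- the invariant
  let Φ : ∀ V' : F.obj ⟨op T⟩, Fact (FibSite.invImage F b₁) R V' → G.obj (op ⟨T, V'⟩) :=
    fun V' f => G.map (Quiver.Hom.op (⟨b₁, f.α⟩ : (⟨T, V'⟩ : ∫ᶜ F) ⟶ ⟨S, f.W⟩)) (x f.r f.hr)
  have hΦ : ∀ (V' : F.obj ⟨op T⟩) (f f' : Fact (FibSite.invImage F b₁) R V'),
      FactRel (FibSite.invImage F b₁) R V' f f' → Φ V' f = Φ V' f' := by
    rintro V' _ _ ⟨r, hr, s, α⟩
    dsimp only [Φ]
    rw [hsx r s hr, ← comp_ι_map F b₁ α s]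
    simp only [op_comp, Functor.map_comp, types_comp_apply]
    rfl
  have hsep := (hG.isSeparated _ (FibSite.functorPushforward_mem_totalTopology (F := F) (J := J) hQ))
  apply hsep.ext
  rintro Z' k ⟨V', q, k', hq, rfl⟩
  have e := congrArg (Quot.lift (Φ V') (hΦ V')) (hQeq q hq)
  dsimp only [Φ, Fact.pre] at e
  rw [← ι_map_comp F (⟨b₁, α₁⟩ : (⟨T, V⟩ : ∫ᶜ F) ⟶ ⟨S, W₁⟩) q,
    ← ι_map_comp F (⟨b₁, α₂⟩ : (⟨T, V⟩ : ∫ᶜ F) ⟶ ⟨S, W₂⟩) q] at e
  simp only [op_comp, Functor.map_comp, types_comp_apply] at e ⊢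
  exact congrArg (G.map k'.op) e

open Presieve in
/-- Lemma B: the restriction to a fibre of a sheaf on the total site is a sheaf. -/
theorem isSheaf_ι_op_comp (hF : FibSite.IsPreFibSite F J) {G : (∫ᶜ F)ᵒᵖ ⥤ Type w}
    (hG : Presieve.IsSheaf (FibSite.totalTopology F J) G) (S : 𝒮) :
    Presieve.IsSheaf (J S) ((ι F S).op ⋙ G) := by
  intro U R hR x hx
  have hR' : Sieve.functorPushforward (ι F S) R ∈ FibSite.totalTopology F J ((ι F S).obj U) :=
    FibSite.functorPushforward_mem_totalTopology (F := F) (J := J) hR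
  have key := @key_factorisation _ _ F J hF G hG S U R hR x hx
  have hy : (x.functorPushforward (ι F S)).Compatible := by
    rintro Z₁ Z₂ W g₁ g₂ f₁' f₂' H₁ H₂ eq
    unfold FamilyOfElements.functorPushforward
    rcases getFunctorPushforwardStructure H₁ with ⟨X₁, f₁, h₁, hf₁, rfl⟩
    rcases getFunctorPushforwardStructure H₂ with ⟨X₂, f₂, h₂, hf₂, rfl⟩
    suffices G.map (g₁ ≫ h₁).op (x f₁ hf₁) = G.map (g₂ ≫ h₂).op (x f₂ hf₂) by
      simpa using this
    apply key
    simpa using eq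
  have hy' : ∀ {Y : F.obj ⟨op S⟩} {f : Y ⟶ U} (hf : R f),
      x.functorPushforward (ι F S) ((ι F S).map f)
        (image_mem_functorPushforward (ι F S) R.arrows hf) = x f hf := by
    intro Y f hf
    unfold FamilyOfElements.functorPushforward
    rcases getFunctorPushforwardStructure (image_mem_functorPushforward (ι F S) R.arrows hf) with
      ⟨X, g, f', hg, eq⟩
    simpa using key f' (𝟙 _) hg hf (by simp [eq])
  apply existsUnique_of_exists_of_unique
  · have H := hG _ hR'
    exact ⟨H.amalgamate (x.functorPushforward (ι F S)) hy,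
      fun V f hf => (H.isAmalgamation hy ((ι F S).map f) _).trans (hy' hf)⟩
  · intro y₁ y₂ hy₁ hy₂
    apply (hG.isSeparated _ hR').ext
    rintro Y _ ⟨Z, g, h, hg, rfl⟩
    simpa using! congrArg _ ((hy₁ g hg).trans (hy₂ g hg).symm)

/-- The coverage of the total category given by the images of the covering sieves of the
fibres. -/
def fibCoverage (hF : FibSite.IsPreFibSite F J) : Coverage (∫ᶜ F) where
  coverings X := {T | ∃ R ∈ J X.base X.fiber,
    T = (Sieve.functorPushforward (ι F X.base) R).arrows}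
  pullback := by
    rintro X Y f _ ⟨R, hR, rfl⟩
    obtain ⟨Q, hQ, hQle⟩ := (fibreCoverTopology F J hF).pullback_stable f
      (show Sieve.functorPushforward (ι F X.base) R ∈ fibreCoverTopology F J hF X from
        ⟨R, hR, le_rfl⟩)
    exact ⟨_, ⟨Q, hQ, rfl⟩, fun Z g hg => ⟨Z, 𝟙 _, g ≫ f, hQle _ hg, by simp⟩⟩

theorem totalTopology_le_fibCoverage (hF : FibSite.IsPreFibSite F J) :
    FibSite.totalTopology F J ≤ (fibCoverage F J hF).toGrothendieck :=
  FibSite.totalTopology_le fun S U R hR => by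
    have := Coverage.Saturate.of (K := fibCoverage F J hF) ((ι F S).obj U) _ ⟨R, hR, rfl⟩
    rwa [Sieve.generate_sieve] at this

open Presieve in
/-- A presheaf on the total category is a sheaf for the image of a covering sieve of a fibre as
soon as its restriction to that fibre is a sheaf. -/
theorem isSheafFor_functorPushforward_ι {G : (∫ᶜ F)ᵒᵖ ⥤ Type w} (S : 𝒮) {U : F.obj ⟨op S⟩}
    (R : Sieve U) (h : Presieve.IsSheafFor ((ι F S).op ⋙ G) R.arrows) :
    Presieve.IsSheafFor G (Sieve.functorPushforward (ι F S) R).arrows := by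
  intro y hy
  have hsy := (Presieve.compatible_iff_sieveCompatible y).mp hy
  have hle : R.arrows ≤ (Sieve.functorPushforward (ι F S) R).arrows.functorPullback (ι F S) :=
    fun W r hr => image_mem_functorPushforward (ι F S) R.arrows hr
  let x : FamilyOfElements ((ι F S).op ⋙ G) R.arrows :=
    (y.functorPullback (ι F S)).restrict hle
  have hx : x.Compatible := (hy.functorPullback (ι F S)).restrict hle
  apply existsUnique_of_exists_of_unique
  · refine ⟨h.amalgamate x hx, ?_⟩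
    rintro Z _ ⟨W, r, k', hr, rfl⟩
    have e1 : G.map ((ι F S).map r).op (h.amalgamate x hx) = x r hr := h.valid_glue hx r hr
    rw [op_comp, Functor.map_comp, types_comp_apply, e1]
    exact (hsy ((ι F S).map r) k' (hle _ _ hr)).symm
  · intro t₁ t₂ ht₁ ht₂
    apply h.isSeparatedFor.ext
    intro W r hr
    exact (ht₁ ((ι F S).map r) (hle _ _ hr)).trans (ht₂ ((ι F S).map r) (hle _ _ hr)).symm

/-- Lemma C: a presheaf on the total category all of whose restrictions to the fibres are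
sheaves is a sheaf for the total topology. -/
theorem isSheaf_total_of_fibres (hF : FibSite.IsPreFibSite F J) {G : (∫ᶜ F)ᵒᵖ ⥤ Type w}
    (h : ∀ S : 𝒮, Presieve.IsSheaf (J S) ((ι F S).op ⋙ G)) :
    Presieve.IsSheaf (FibSite.totalTopology F J) G := by
  apply Presieve.isSheaf_of_le _ (totalTopology_le_fibCoverage F J hF)
  rw [Presieve.isSheaf_coverage]
  rintro X _ ⟨R, hR, rfl⟩
  exact isSheafFor_functorPushforward_ι F X.base R (h X.base R hR)

/-- The fibre inclusion is faithful. -/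
instance ι_faithful (S : 𝒮) : (ι F S).Faithful :=
  inferInstanceAs ((Functor.Fiber.inducedFunctor (comp_const F S) ⋙
    Functor.Fiber.fiberInclusion).Faithful)

/-- The fibre inclusion is full on vertical morphisms. -/
theorem exists_ι_map_eq {S : 𝒮} {W V : F.obj ⟨op S⟩} (k : (ι F S).obj W ⟶ (ι F S).obj V)
    (hk : k.base = 𝟙 S) : ∃ k' : W ⟶ V, (ι F S).map k' = k := by
  have hlift : (forget F).IsHomLift (𝟙 S) k :=
    IsHomLift.of_fac' (forget F) (𝟙 S) k rfl rfl (by simpa using hk)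
  obtain ⟨k', hk'⟩ := (Functor.Fiber.inducedFunctor (comp_const F S)).map_surjective
    (⟨k, hlift⟩ : (Functor.Fiber.inducedFunctor (comp_const F S)).obj W ⟶
      (Functor.Fiber.inducedFunctor (comp_const F S)).obj V)
  exact ⟨k', congrArg Subtype.val hk'⟩

end Groth.Agent.Lib.Helper69
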