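import Mathlib.AlgebraicGeometry.Scheme
import Mathlib.AlgebraicGeometry.Restrict
import Mathlib.Topology.Maps.Basic

set_option autoImplicit false
universe u
open CategoryTheory AlgebraicGeometry TopologicalSpace Opposite

namespace Groth.Agent.Lib.Helper69

section RingLift

variable {R S T : Type*} [CommRing R] [CommRing S] [CommRing T]

/-- Lift a ring hom `f : T → S` through an injective ring hom `ι : R → S` whose range contains
the range of `f`. -/
noncomputable def ringLift (ι : R →+* S) (hι : Function.Injective ι) (f : T →+* S)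
    (hf : ∀ t, f t ∈ Set.range ι) : T →+* R where
  toFun t := (hf t).choose
  map_one' := hι (by rw [(hf 1).choose_spec, map_one, map_one])
  map_mul' a b := hι (by
    rw [(hf (a * b)).choose_spec, map_mul, map_mul, (hf a).choose_spec, (hf b).choose_spec])
  map_zero' := hι (by rw [(hf 0).choose_spec, map_zero, map_zero])
  map_add' a b := hι (by
    rw [(hf (a + b)).choose_spec, map_add, map_add, (hf a).choose_spec, (hf b).choose_spec])

theorem ringLift_spec (ι : R →+* S) (hι : Function.Injective ι) (f : T →+* S)
    (hf : ∀ t, f t ∈ Set.range ι) (t : T) : ι (ringLift ι hι f hf t) = f t :=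
  (hf t).choose_spec

theorem comp_ringLift (ι : R →+* S) (hι : Function.Injective ι) (f : T →+* S)
    (hf : ∀ t, f t ∈ Set.range ι) : ι.comp (ringLift ι hι f hf) = f :=
  RingHom.ext (ringLift_spec ι hι f hf)

end RingLift

section Desc

variable {X Y Z : Scheme.{u}} (p : X ⟶ Y) (h : X ⟶ Z)
  (hq : Topology.IsQuotientMap p.base)
  (hfib : ∀ x x' : X, p.base x = p.base x' → h.base x = h.base x')

/-- The map `Y → Z` induced on points. -/
noncomputable def descBase : (Y : TopCat) ⟶ Z :=
  TopCat.ofHom (Topology.IsQuotientMap.lift (f := p.base.hom) hq h.base.hom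
    (fun a b hab => hfib a b hab))

theorem descBase_apply (x : X) : descBase p h hq hfib (p.base x) = h.base x := by
  have := Topology.IsQuotientMap.lift_comp (f := p.base.hom) hq h.base.hom
    (fun a b hab => hfib a b hab)
  exact congrArg (fun f => f x) this

theorem preimage_descBase (W : Z.Opens) :
    p ⁻¹ᵁ ((Opens.map (descBase p h hq hfib)).obj W) = h ⁻¹ᵁ W := by
  ext x
  change descBase p h hq hfib (p.base x) ∈ W ↔ h.base x ∈ W
  rw [descBase_apply]

variable (hinj : ∀ U : Y.Opens, Function.Injective (p.app U).hom)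
  (hrange : ∀ (W : Z.Opens) (s : Γ(Z, W)),
    (h.app W ≫ X.presheaf.map (eqToHom (preimage_descBase p h hq hfib W)).op).hom s ∈
      Set.range (p.app ((Opens.map (descBase p h hq hfib)).obj W)).hom)

/-- The component of the descended morphism on sections. -/
noncomputable def descApp (W : Z.Opens) :
    Γ(Z, W) ⟶ Γ(Y, (Opens.map (descBase p h hq hfib)).obj W) :=
  CommRingCat.ofHom (ringLift (p.app ((Opens.map (descBase p h hq hfib)).obj W)).hom (hinj _)
    (h.app W ≫ X.presheaf.map (eqToHom (preimage_descBase p h hq hfib W)).op).hom (hrange W))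

@[reassoc]
theorem descApp_comp (W : Z.Opens) :
    descApp p h hq hfib hinj hrange W ≫ p.app ((Opens.map (descBase p h hq hfib)).obj W) =
      h.app W ≫ X.presheaf.map (eqToHom (preimage_descBase p h hq hfib W)).op := by
  apply CommRingCat.hom_ext
  exact comp_ringLift (p.app ((Opens.map (descBase p h hq hfib)).obj W)).hom (hinj _)
    (h.app W ≫ X.presheaf.map (eqToHom (preimage_descBase p h hq hfib W)).op).hom (hrange W)

/-- The sheaf part of the descended morphism. -/
noncomputable def descC : Z.presheaf ⟶ (descBase p h hq hfib) _* Y.presheaf where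
  app W := descApp p h hq hfib hinj hrange W.unop
  naturality W W' i := by
    have hmono : Mono (p.app ((Opens.map (descBase p h hq hfib)).obj (unop W'))) :=
      ConcreteCategory.mono_of_injective _ (hinj _)
    rw [← cancel_mono (p.app ((Opens.map (descBase p h hq hfib)).obj (unop W')))]
    rw [Category.assoc, descApp_comp, Category.assoc]
    change _ = _ ≫ Y.presheaf.map ((Opens.map (descBase p h hq hfib)).map i.unop).op ≫ _
    rw [p.naturality, descApp_comp_assoc, ← Functor.map_comp,
      h.naturality_assoc, ← Functor.map_comp]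
    rfl

/-- The descended morphism of presheafed spaces. -/
noncomputable def descPsh : Y.toPresheafedSpace ⟶ Z.toPresheafedSpace :=
  PresheafedSpace.Hom.mk (descBase p h hq hfib) (descC p h hq hfib hinj hrange)

theorem isLocalHom_descPsh (y : Y) :
    IsLocalHom ((descPsh p h hq hfib hinj hrange).stalkMap y).hom := by
  obtain ⟨x, rfl⟩ := hq.surjective y
  constructor
  intro a ha
  obtain ⟨W, hW, s, rfl⟩ := TopCat.Presheaf.exists_germ_eq _ a
  have h0 := PresheafedSpace.stalkMap_germ (descPsh p h hq hfib hinj hrange) W (p.base x) hW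
  have h1 := congrArg (fun f => f.hom s) h0
  simp only [CommRingCat.hom_comp, RingHom.coe_comp, Function.comp_apply] at h1
  rw [h1] at ha
  have hW' : descBase p h hq hfib (p.base x) ∈ W := hW
  have hW'' : p.base x ∈ (Opens.map (descBase p h hq hfib)).obj W := hW
  have ha' : p.base x ∈ Y.basicOpen ((descApp p h hq hfib hinj hrange W).hom s) :=
    (Scheme.mem_basicOpen Y _ (p.base x) hW'').mpr ha
  have h2 : x ∈ p ⁻¹ᵁ (Y.basicOpen ((descApp p h hq hfib hinj hrange W).hom s)) := ha'
  rw [Scheme.preimage_basicOpen] at h2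
  have h3 : (p.app ((Opens.map (descBase p h hq hfib)).obj W)).hom
      ((descApp p h hq hfib hinj hrange W).hom s) =
      (X.presheaf.map (eqToHom (preimage_descBase p h hq hfib W)).op).hom ((h.app W).hom s) :=
    congrArg (fun f => f.hom s) (descApp_comp p h hq hfib hinj hrange W)
  change x ∈ X.basicOpen ((p.app ((Opens.map (descBase p h hq hfib)).obj W)).hom
      ((descApp p h hq hfib hinj hrange W).hom s)) at h2
  rw [h3] at h2
  change x ∈ X.basicOpen (X.presheaf.map (eqToHom (preimage_descBase p h hq hfib W)).op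
    ((h.app W).hom s)) at h2
  rw [Scheme.basicOpen_res] at h2
  have h4 : x ∈ X.basicOpen ((h.app W).hom s) := h2.2
  have h4' : x ∈ h ⁻¹ᵁ (Z.basicOpen s) := by
    rw [Scheme.preimage_basicOpen]; exact h4
  have h5 : descBase p h hq hfib (p.base x) ∈ Z.basicOpen s := by
    rw [descBase_apply]; exact h4'
  exact (Scheme.mem_basicOpen Z s _ hW').mp h5

/-- The descended morphism of schemes. -/
noncomputable def desc : Y ⟶ Z :=
  Scheme.Hom.mk ⟨descPsh p h hq hfib hinj hrange, isLocalHom_descPsh p h hq hfib hinj hrange⟩

theorem comp_desc : p ≫ desc p h hq hfib hinj hrange = h := by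
  refine Scheme.Hom.ext ?_ ?_
  · ext x
    exact descBase_apply p h hq hfib x
  · intro W
    rw [Scheme.Hom.comp_app]
    change (descApp p h hq hfib hinj hrange W ≫
      p.app ((Opens.map (descBase p h hq hfib)).obj W)) ≫ _ = _
    rw [descApp_comp]
    erw [Category.assoc, ← Functor.map_comp]
    convert Category.comp_id _
    exact X.presheaf.map_id _

end Desc

section Epi

variable {X Y Z : Scheme.{u}} (p : X ⟶ Y)

theorem presheaf_map_endo {X : Scheme.{u}} {U : X.Opens} (i : op U ⟶ op U) :
    X.presheaf.map i = 𝟙 _ := by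
  rw [Subsingleton.elim i (𝟙 _), X.presheaf.map_id]

theorem hom_ext_of_surjective_of_injective (hsurj : Function.Surjective p.base)
    (hinj : ∀ U : Y.Opens, Function.Injective (p.app U).hom) (v₁ v₂ : Y ⟶ Z)
    (e : p ≫ v₁ = p ≫ v₂) : v₁ = v₂ := by
  have hbase : v₁.base = v₂.base := by
    ext y
    obtain ⟨x, rfl⟩ := hsurj y
    exact congrArg (fun f => f.base x) e
  refine Scheme.Hom.ext hbase ?_
  intro U
  have hmono : Mono (p.app (v₂ ⁻¹ᵁ U)) := ConcreteCategory.mono_of_injective _ (hinj _)
  rw [← cancel_mono (p.app (v₂ ⁻¹ᵁ U)), Category.assoc, p.naturality, ← Category.assoc,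
    ← Scheme.Hom.comp_app, ← Scheme.Hom.comp_app, Scheme.Hom.congr_app e U]
  erw [Category.assoc, ← Functor.map_comp]
  exact (congrArg (fun m => (p ≫ v₂).app U ≫ m) (presheaf_map_endo _)).trans (Category.comp_id _)

end Epi

end Groth.Agent.Lib.Helper69
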