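import Mathlib
import Groth.Agent.Lib.Helper69.GenericFinite2

/-!
# Generic finiteness for dominant morphisms of integral schemes (EGA-style TFAE)
-/

set_option autoImplicit false
universe u
open CategoryTheory CategoryTheory.Limits AlgebraicGeometry TopologicalSpace

namespace Groth.Agent.Lib.Helper69

theorem bijective_residue_of_isField {X : Scheme.{u}} (x : X) (h : IsField (X.presheaf.stalk x)) :
    Function.Bijective (X.residue x) := by
  refine ⟨?_, X.residue_surjective x⟩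
  rw [injective_iff_map_eq_zero]
  intro a ha
  have h1 : a ∈ IsLocalRing.maximalIdeal (X.presheaf.stalk x) :=
    (IsLocalRing.residue_eq_zero_iff a).mp ha
  rw [IsLocalRing.isField_iff_maximalIdeal_eq.mp h] at h1
  exact h1

theorem finite_iff_quasiFinite_of_isField {K L : Type*} [CommRing K] [CommRing L] (φ : K →+* L)
    (hK : IsField K) : φ.Finite ↔ φ.QuasiFinite := by
  let _ := hK.toField
  let _ := φ.toAlgebra
  exact (Algebra.QuasiFinite.iff_of_isArtinianRing (R := K) (S := L)).symm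

theorem finite_residueFieldMap_iff_quasiFiniteAt {X Y : Scheme.{u}} [IsReduced X] [IsReduced Y]
    (f : X ⟶ Y) (ξ : X) (hξ : closure {ξ} ∈ irreducibleComponents X)
    (hη : closure {f ξ} ∈ irreducibleComponents Y) :
    (f.residueFieldMap ξ).hom.Finite ↔ f.QuasiFiniteAt ξ := by
  have hFX : IsField (X.presheaf.stalk ξ) :=
    isField_stalk_of_closure_mem_irreducibleComponents X ξ hξ
  have hFY : IsField (Y.presheaf.stalk (f ξ)) :=
    isField_stalk_of_closure_mem_irreducibleComponents Y _ hη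
  have : IsIso (X.residue ξ) :=
    (ConcreteCategory.isIso_iff_bijective _).mpr (bijective_residue_of_isField ξ hFX)
  have : IsIso (Y.residue (f ξ)) :=
    (ConcreteCategory.isIso_iff_bijective _).mpr (bijective_residue_of_isField _ hFY)
  have e : Arrow.mk (f.stalkMap ξ) ≅ Arrow.mk (f.residueFieldMap ξ) :=
    Arrow.isoMk (asIso (Y.residue (f ξ))) (asIso (X.residue ξ))
      (by simp [Scheme.residue_residueFieldMap])
  rw [← RingHom.finite_respectsIso.arrow_mk_iso_iff e]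
  exact finite_iff_quasiFinite_of_isField _ hFY

theorem map_genericPoint_of_isDominant {X Y : Scheme.{u}} [IrreducibleSpace X] [IrreducibleSpace Y]
    (f : X ⟶ Y) [IsDominant f] : f (genericPoint X) = genericPoint Y := by
  have h1 : IsGenericPoint (f (genericPoint X)) (closure (f '' Set.univ)) :=
    (genericPoint_spec X).image f.continuous
  rw [Set.image_univ, f.denseRange.closure_range] at h1
  exact ((genericPoint_spec Y).eq h1).symm

theorem closure_genericPoint_mem_irreducibleComponents (T : Type*) [TopologicalSpace T]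
    [QuasiSober T] [IrreducibleSpace T] :
    closure {genericPoint T} ∈ irreducibleComponents T := by
  rw [irreducibleComponents_eq_singleton, (genericPoint_spec T).def]
  rfl

/-- `f` is quasi-finite at `ξ` iff `ξ` is the only point of its fibre, when `ξ` is generic. -/
theorem quasiFiniteAt_iff_forall_eq {X Y : Scheme.{u}} (f : X ⟶ Y) [LocallyOfFiniteType f] (ξ : X)
    (hξ : ∀ x : X, ξ ⤳ x) :
    f.QuasiFiniteAt ξ ↔ ∀ x : X, f x = f ξ → x = ξ := by
  constructor
  · intro h x hx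
    have hcl : IsClosed ({f.asFiber ξ} : Set (f.fiber (f ξ))) := h.isClopen_singleton_asFiber.1
    have h1 : (f.fiberHomeo (f ξ)).symm ⟨ξ, rfl⟩ ⤳ (f.fiberHomeo (f ξ)).symm ⟨x, hx⟩ := by
      apply Specializes.map _ (f.fiberHomeo (f ξ)).symm.continuous
      exact (subtype_specializes_iff _ _).mpr (hξ x)
    have h2 : (f.fiberHomeo (f ξ)).symm ⟨x, hx⟩ ∈ ({f.asFiber ξ} : Set (f.fiber (f ξ))) :=
      h1.mem_closed hcl rfl
    have h3 := (f.fiberHomeo (f ξ)).symm.injective h2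
    exact congrArg Subtype.val h3
  · intro h
    rw [Scheme.Hom.quasiFiniteAt_iff_isOpen_singleton_asFiber]
    have hss : Subsingleton (f ⁻¹' {f ξ}) := by
      refine ⟨fun a b => Subtype.ext ?_⟩
      rw [h a.1 a.2, h b.1 b.2]
    have : Subsingleton (f.fiber (f ξ)) := (f.fiberHomeo (f ξ)).injective.subsingleton
    convert isOpen_univ
    exact Set.eq_univ_of_forall fun a => Subsingleton.elim _ _

set_option backward.isDefEq.respectTransparency.types false in
theorem isFinite_resLE_iff_finite_appLE {X Y : Scheme.{u}} (f : X ⟶ Y) (U : X.Opens) (V : Y.Opens)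
    (hU : IsAffineOpen U) (hV : IsAffineOpen V) (h : U ≤ f ⁻¹ᵁ V) :
    IsFinite (f.resLE V U h) ↔ (f.appLE V U h).hom.Finite := by
  have : IsAffine (V : Scheme) := hV
  have hU' : IsAffine (U : Scheme) := hU
  rw [HasAffineProperty.iff_of_isAffine (P := @IsFinite), and_iff_right hU']
  exact RingHom.finite_respectsIso.arrow_mk_iso_iff (arrowResLEAppIso f V U h)

/-- `B ⇒` quasi-finite at any point of `U`. -/
theorem quasiFiniteAt_of_isFinite_resLE {X Y : Scheme.{u}} (f : X ⟶ Y) (U : X.Opens) (V : Y.Opens)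
    (h : U ≤ f ⁻¹ᵁ V) (hfin : IsFinite (f.resLE V U h)) (x : U.toScheme) :
    f.QuasiFiniteAt (U.ι x) := by
  have h1 : (f.resLE V U h).QuasiFiniteAt x := (f.resLE V U h).quasiFiniteAt _
  have h2 : (f.resLE V U h ≫ V.ι).QuasiFiniteAt x := by
    rw [Scheme.Hom.quasiFiniteAt_comp_iff]
    exact h1
  rw [Scheme.Hom.resLE_comp_ι, Scheme.Hom.quasiFiniteAt_comp_iff_of_isOpenImmersion] at h2
  exact h2

theorem exists_isFinite_resLE_of_fiber {X Y : Scheme.{u}} [IsIntegral X] [IsIntegral Y] (f : X ⟶ Y)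
    [IsDominant f] [LocallyOfFiniteType f]
    (hC : ∀ x : X, f x = genericPoint Y → x = genericPoint X) :
    ∃ (U : X.Opens) (V : Y.Opens) (hUV : U ≤ f ⁻¹ᵁ V), IsAffineOpen U ∧ IsAffineOpen V ∧
      Nonempty ↥U ∧ IsFinite (f.resLE V U hUV) := by
  have hξη : f (genericPoint X) = genericPoint Y := map_genericPoint_of_isDominant f
  obtain ⟨_, ⟨V₀, hV₀ : IsAffineOpen V₀, rfl⟩, hηV₀, -⟩ :=
    Y.isBasis_affineOpens.exists_subset_of_mem_open (Set.mem_univ (genericPoint Y)) isOpen_univ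
  obtain ⟨_, ⟨U₀, hU₀ : IsAffineOpen U₀, rfl⟩, hξU₀, hU₀V₀⟩ :=
    X.isBasis_affineOpens.exists_subset_of_mem_open
      (show genericPoint X ∈ ((f ⁻¹ᵁ V₀ : X.Opens) : Set X) from
        (hξη ▸ hηV₀ : f (genericPoint X) ∈ V₀)) (f ⁻¹ᵁ V₀).2
  have hU₀V₀' : U₀ ≤ f ⁻¹ᵁ V₀ := hU₀V₀
  have hfin : ((U₀ : Set X) ∩ f ⁻¹' {genericPoint Y}).Finite :=
    (Set.finite_singleton (genericPoint X)).subset (fun x hx => hC x hx.2)
  obtain ⟨s, hs, H⟩ := exists_finite_appLE_of_finite_fiber f U₀ V₀ hU₀ hV₀ hU₀V₀' (genericPoint Y)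
    hηV₀ (closure_genericPoint_mem_irreducibleComponents Y) hfin
  have hle : X.basicOpen ((f.appLE V₀ U₀ hU₀V₀').hom (s * 1)) ≤ f ⁻¹ᵁ Y.basicOpen (s * 1) := by
    rw [Scheme.basicOpen_appLE]; exact inf_le_right
  refine ⟨X.basicOpen ((f.appLE V₀ U₀ hU₀V₀').hom (s * 1)), Y.basicOpen (s * 1), hle,
    hU₀.basicOpen _, hV₀.basicOpen _, ⟨⟨genericPoint X, ?_⟩⟩, ?_⟩
  · rw [Scheme.basicOpen_appLE]
    refine ⟨hξU₀, ?_⟩
    show f (genericPoint X) ∈ Y.basicOpen (s * 1)
    rw [hξη, mul_one]; exact hs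
  · rw [isFinite_resLE_iff_finite_appLE f _ _ (hU₀.basicOpen _) (hV₀.basicOpen _)]
    exact H 1 hle

theorem exists_isFinite_resLE_of_isFinite_morphismRestrict {X Y : Scheme.{u}} [IsIntegral X]
    [IsIntegral Y] (f : X ⟶ Y) [IsDominant f] (V : Y.Opens) (hV : IsAffineOpen V)
    (hne : Nonempty ↥V) (hfin : IsFinite (f ∣_ V)) :
    ∃ (U : X.Opens) (V : Y.Opens) (hUV : U ≤ f ⁻¹ᵁ V), IsAffineOpen U ∧ IsAffineOpen V ∧
      Nonempty ↥U ∧ IsFinite (f.resLE V U hUV) := by
  have : IsAffine V.toScheme := hV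
  have hU : IsAffineOpen (f ⁻¹ᵁ V) := isAffine_of_isAffineHom (f ∣_ V)
  refine ⟨f ⁻¹ᵁ V, V, le_rfl, hU, hV, ?_, ?_⟩
  · have hηV : genericPoint Y ∈ V :=
      ((genericPoint_spec Y).mem_open_set_iff V.isOpen).mpr
        (by obtain ⟨⟨a, ha⟩⟩ := hne; exact ⟨a, trivial, ha⟩)
    refine ⟨⟨genericPoint X, ?_⟩⟩
    show f _ ∈ V
    rw [map_genericPoint_of_isDominant]; exact hηV
  · rw [Scheme.Hom.resLE_eq_morphismRestrict]; exact hfin

theorem exists_isFinite_morphismRestrict_of_fiber_of_quasiCompact {X Y : Scheme.{u}} [IsIntegral X]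
    [IsIntegral Y] (f : X ⟶ Y) [LocallyOfFiniteType f] [QuasiCompact f]
    (hC : ∀ x : X, f x = genericPoint Y → x = genericPoint X) :
    ∃ V : Y.Opens, IsAffineOpen V ∧ Nonempty ↥V ∧ IsFinite (f ∣_ V) := by
  have hX : (irreducibleComponents X).Finite := by
    rw [irreducibleComponents_eq_singleton]; exact Set.finite_singleton _
  obtain ⟨V, hV, hηV, hfin⟩ := exists_isFinite_morphismRestrict_of_generic f hX (genericPoint Y)
    (closure_genericPoint_mem_irreducibleComponents Y)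
    (fun x hx => by rw [hC x hx]; exact closure_genericPoint_mem_irreducibleComponents X)
  exact ⟨V, hV, ⟨⟨_, hηV⟩⟩, hfin⟩

theorem isFinite_morphismRestrict_of_isFinite_resLE_of_isSeparated {X Y : Scheme.{u}}
    [IrreducibleSpace X] (f : X ⟶ Y) [IsSeparated f] (U : X.Opens) (V : Y.Opens)
    (hUV : U ≤ f ⁻¹ᵁ V) (hne : Nonempty ↥U) (hfin : IsFinite (f.resLE V U hUV)) :
    IsFinite (f ∣_ V) := by
  have hj : IsFinite (X.homOfLE hUV) := by
    have : IsFinite (X.homOfLE hUV ≫ f ∣_ V) := hfin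
    exact IsFinite.of_comp (X.homOfLE hUV) (f ∣_ V)
  have hcl : IsClosed (Set.range (X.homOfLE hUV)) := (X.homOfLE hUV).isClosedMap.isClosed_range
  have hrange : Set.range (X.homOfLE hUV) = Subtype.val ⁻¹' (U : Set X) := by
    ext a
    rw [← Scheme.Hom.coe_opensRange, X.opensRange_homOfLE hUV]
    rfl
  obtain ⟨Z, hZ, hZeq⟩ := isClosed_induced_iff.mp hcl
  have hmem : ∀ a : (f ⁻¹ᵁ V).toScheme, a.1 ∈ Z ↔ a.1 ∈ U := fun a =>
    Set.ext_iff.mp (hZeq.trans hrange) a
  have hsub : ((f ⁻¹ᵁ V : X.Opens) : Set X) ⊆ Z := by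
    by_contra hnot
    obtain ⟨y, hyV, hyZ⟩ := Set.not_subset.mp hnot
    obtain ⟨x, hxU, hxV, hxZ⟩ := nonempty_preirreducible_inter (U.2)
      ((f ⁻¹ᵁ V).2.inter hZ.isOpen_compl) (by obtain ⟨⟨a, ha⟩⟩ := hne; exact ⟨a, ha⟩)
      ⟨y, hyV, hyZ⟩
    exact hxZ ((hmem ⟨x, hxV⟩).mpr hxU)
  have hUeq : U = f ⁻¹ᵁ V := by
    apply le_antisymm hUV
    intro y hy
    exact (hmem ⟨y, hy⟩).mp (hsub hy)
  subst hUeq
  rw [← Scheme.Hom.resLE_eq_morphismRestrict]
  exact hfin

end Groth.Agent.Lib.Helper69
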