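import Groth.Prelude.Def_SGA1
import Mathlib.RingTheory.Invariant.Basic
import Mathlib.AlgebraicGeometry.Morphisms.Integral

/-!
# Helper library (helper69): the action of a group on the sections over an invariant open
(for `SGA1.IsQuot`)
-/

set_option autoImplicit false
universe u
open CategoryTheory AlgebraicGeometry

namespace Groth.Agent.Lib.Helper69

variable {X Y : Scheme.{u}} {G : Type u} [Group G] (ρ : G →* Aut X) (p : X ⟶ Y)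
  (hinv : ∀ g : G, (ρ g).hom ≫ p = p) (U : Y.Opens)

/-- The ring endomorphism of `Γ(X, p⁻¹U)` induced by `g`. -/
noncomputable def sectionAct (g : G) : Γ(X, p ⁻¹ᵁ U) →+* Γ(X, p ⁻¹ᵁ U) :=
  ((ρ g).hom.appLE (p ⁻¹ᵁ U) (p ⁻¹ᵁ U) (SGA1.preimage_le_of_inv ρ p hinv g U)).hom

theorem sectionAct_one (b : Γ(X, p ⁻¹ᵁ U)) : sectionAct ρ p hinv U 1 b = b := by
  have key_one : ∀ (a : X ⟶ X) (_ : a = 𝟙 X) (e : p ⁻¹ᵁ U ≤ a ⁻¹ᵁ (p ⁻¹ᵁ U)),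
      a.appLE (p ⁻¹ᵁ U) (p ⁻¹ᵁ U) e = 𝟙 _ := by
    rintro _ rfl e
    simp only [Scheme.Hom.appLE, Scheme.Hom.id_app]
    exact X.presheaf.map_id _
  have h1 : (ρ 1).hom = 𝟙 X := by rw [map_one]; rfl
  have := key_one (ρ 1).hom h1 (SGA1.preimage_le_of_inv ρ p hinv 1 U)
  change ((ρ 1).hom.appLE (p ⁻¹ᵁ U) (p ⁻¹ᵁ U) _).hom b = b
  rw [this]
  rfl

theorem sectionAct_mul (g h : G) (b : Γ(X, p ⁻¹ᵁ U)) :
    sectionAct ρ p hinv U (g * h) b = sectionAct ρ p hinv U h (sectionAct ρ p hinv U g b) := by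
  have key_mul : ∀ (a b c : X ⟶ X) (_ : c = a ≫ b) (ea : p ⁻¹ᵁ U ≤ a ⁻¹ᵁ (p ⁻¹ᵁ U))
      (eb : p ⁻¹ᵁ U ≤ b ⁻¹ᵁ (p ⁻¹ᵁ U)) (ec : p ⁻¹ᵁ U ≤ c ⁻¹ᵁ (p ⁻¹ᵁ U)),
      c.appLE (p ⁻¹ᵁ U) (p ⁻¹ᵁ U) ec =
        b.appLE (p ⁻¹ᵁ U) (p ⁻¹ᵁ U) eb ≫ a.appLE (p ⁻¹ᵁ U) (p ⁻¹ᵁ U) ea := by
    rintro a b _ rfl ea eb ec
    rw [Scheme.Hom.appLE_comp_appLE]
  have h1 : (ρ (g * h)).hom = (ρ h).hom ≫ (ρ g).hom := by rw [map_mul]; rfl
  have := key_mul (ρ h).hom (ρ g).hom (ρ (g * h)).hom h1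
    (SGA1.preimage_le_of_inv ρ p hinv h U) (SGA1.preimage_le_of_inv ρ p hinv g U)
    (SGA1.preimage_le_of_inv ρ p hinv (g * h) U)
  change ((ρ (g * h)).hom.appLE (p ⁻¹ᵁ U) (p ⁻¹ᵁ U) _).hom b = _
  rw [this]
  rfl

/-- The (left) action of `G` on `Γ(X, p⁻¹U)`: `g • b = sectionAct g⁻¹ b`. -/
@[reducible] noncomputable def sectionMulSemiringAction :
    MulSemiringAction G Γ(X, p ⁻¹ᵁ U) where
  smul g b := sectionAct ρ p hinv U g⁻¹ b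
  one_smul b := by
    change sectionAct ρ p hinv U 1⁻¹ b = b
    rw [inv_one]; exact sectionAct_one ρ p hinv U b
  mul_smul g h b := by
    change sectionAct ρ p hinv U (g * h)⁻¹ b =
      sectionAct ρ p hinv U g⁻¹ (sectionAct ρ p hinv U h⁻¹ b)
    rw [mul_inv_rev, sectionAct_mul]
  smul_zero g := map_zero (sectionAct ρ p hinv U g⁻¹)
  smul_add g a b := map_add (sectionAct ρ p hinv U g⁻¹) a b
  smul_one g := map_one (sectionAct ρ p hinv U g⁻¹)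
  smul_mul g a b := map_mul (sectionAct ρ p hinv U g⁻¹) a b

theorem sectionAct_smul_def (g : G) (b : Γ(X, p ⁻¹ᵁ U)) :
    letI := sectionMulSemiringAction ρ p hinv U
    g • b = sectionAct ρ p hinv U g⁻¹ b := rfl

end Groth.Agent.Lib.Helper69
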