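import Groth.Agent.S13597
import Groth.Agent.S2908
import Mathlib.FieldTheory.Minpoly.IsConjRoot
import Mathlib.FieldTheory.PurelyInseparable.Basic
import Mathlib.AlgebraicGeometry.Morphisms.UniversallyInjective

set_option autoImplicit false
universe u
open CategoryTheory AlgebraicGeometry

namespace Groth.Agent.Lib.Helper69

theorem isPurelyInseparable_of_fixed {K F N : Type*} [Field K] [Field F] [Field N] [Algebra K F]
    [Algebra F N] [Algebra K N] [IsScalarTower K F N] [Normal K N]
    (h : ∀ (τ : N ≃ₐ[K] N) (t : F), τ (algebraMap F N t) = algebraMap F N t) :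
    IsPurelyInseparable K F := by
  rw [isPurelyInseparable_iff]
  intro t
  have hint : IsIntegral K t :=
    (isIntegral_algebraMap_iff (algebraMap F N).injective).mp (Normal.isIntegral ‹_› _)
  refine ⟨hint, fun hsep => ?_⟩
  have hs_sep : IsSeparable K (algebraMap F N t) := by
    rw [IsSeparable, minpoly.algebraMap_eq (algebraMap F N).injective]; exact hsep
  have hsp : ((minpoly K (algebraMap F N t)).map (algebraMap K N)).Splits :=
    Normal.splits ‹_› _
  by_contra hne
  have hs_not : algebraMap F N t ∉ (⊥ : Subalgebra K N) := by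
    rintro ⟨k, hk⟩
    apply hne
    refine ⟨k, (algebraMap F N).injective ?_⟩
    rw [← IsScalarTower.algebraMap_apply]; exact hk
  obtain ⟨y, hy1, hy2⟩ := (notMem_iff_exists_ne_and_isConjRoot hs_sep hsp).mp hs_not
  obtain ⟨σ, hσ⟩ := hy2.exists_algEquiv
  apply hy1
  have h1 := h σ.symm t
  exact ((σ.symm_apply_apply y).symm.trans ((congrArg σ.symm hσ).trans h1)).symm


/-- Spec form of S13597: an automorphism of `κ(x)` over `Y` is induced by some `g ∈ G`. -/
theorem exists_specMap_comp_fromSpecResidueField {X Y : Scheme.{u}} {G : Type u}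
    [Group G] [Finite G] (ρ : G →* Aut X) (p : X ⟶ Y) (hp : SGA1.IsQuot ρ p) (x : X)
    (τ : X.residueField x ≅ X.residueField x)
    (hτ : Spec.map τ.hom ≫ X.fromSpecResidueField x ≫ p = X.fromSpecResidueField x ≫ p) :
    ∃ g : G, Spec.map τ.hom ≫ X.fromSpecResidueField x =
      X.fromSpecResidueField x ≫ (ρ g).hom := by
  have h1 : p.residueFieldMap x ≫ τ.hom = p.residueFieldMap x := by
    apply Spec.map_injective
    rw [← cancel_mono (Y.fromSpecResidueField (p.base x)), Spec.map_comp, Category.assoc,
      Scheme.Hom.SpecMap_residueFieldMap_fromSpecResidueField, hτ]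
  obtain ⟨g, e, hg⟩ := (Groth.Agent.S13597.result ρ p hp x).2 τ h1
  refine ⟨g, ?_⟩
  rw [hg, Spec.map_comp, Category.assoc, Scheme.residueFieldCongr_inv,
    Scheme.residueFieldCongr_fromSpecResidueField,
    Scheme.Hom.SpecMap_residueFieldMap_fromSpecResidueField]

theorem isIso_residueFieldMap_of_isPreimmersion {W X : Scheme.{u}} (j : W ⟶ X) [IsPreimmersion j]
    (w : W) : IsIso (j.residueFieldMap w) := by
  rw [ConcreteCategory.isIso_iff_bijective]
  refine ⟨(j.residueFieldMap w).hom.injective, ?_⟩
  intro t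
  obtain ⟨t, rfl⟩ := W.residue_surjective w t
  obtain ⟨s, rfl⟩ := j.stalkMap_surjective w t
  refine ⟨X.residue _ s, ?_⟩
  exact congrArg (fun f => f.hom s) (Scheme.residue_residueFieldMap j w)

end Groth.Agent.Lib.Helper69
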