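import Mathlib.RingTheory.AdicCompletion.Basic
import Mathlib.RingTheory.AdicCompletion.Completeness

/-! Helper lemmas on adic completeness (helper69). -/

set_option autoImplicit false

namespace Groth.Agent.Lib.Helper69

/-- Linear maps preserve congruence modulo `I ^ n • ⊤`. -/
theorem smodEq_map_pow_smul_top {A : Type*} [CommRing A] (I : Ideal A)
    {M N : Type*} [AddCommGroup M] [Module A M] [AddCommGroup N] [Module A N]
    (g : M →ₗ[A] N) {x y : M} (n : ℕ)
    (h : x ≡ y [SMOD (I ^ n • ⊤ : Submodule A M)]) :
    g x ≡ g y [SMOD (I ^ n • ⊤ : Submodule A N)] := by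
  refine (h.map g).mono ?_
  rw [Submodule.map_smul'']
  exact Submodule.smul_mono le_rfl le_top

/-- A retract of an `I`-adically complete module is `I`-adically complete. -/
theorem isAdicComplete_of_retract {A : Type*} [CommRing A] (I : Ideal A)
    {L C : Type*} [AddCommGroup L] [Module A L] [AddCommGroup C] [Module A C]
    (i : L →ₗ[A] C) (ρ : C →ₗ[A] L) (hρ : ∀ x, ρ (i x) = x) [IsAdicComplete I C] :
    IsAdicComplete I L := by
  have hH : IsHausdorff I L := by
    refine ⟨fun x hx => ?_⟩
    have h0 : i x = 0 := by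
      apply IsHausdorff.haus' (I := I)
      intro n
      have := smodEq_map_pow_smul_top I i n (hx n)
      rwa [map_zero] at this
    rw [← hρ x, h0, map_zero]
  have hP : IsPrecomplete I L := by
    refine ⟨fun f hf => ?_⟩
    obtain ⟨c, hc⟩ := IsPrecomplete.prec' (I := I) (fun n => i (f n))
      (fun {m n} hmn => smodEq_map_pow_smul_top I i m (hf hmn))
    refine ⟨ρ c, fun n => ?_⟩
    have := smodEq_map_pow_smul_top I ρ n (hc n)
    rwa [hρ] at this
  exact { toIsHausdorff := hH, toIsPrecomplete := hP }

end Groth.Agent.Lib.Helper69
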