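import Mathlib

/-!
# Flat separated morphisms that are isomorphisms over a dense open (helper69)

A separated flat morphism locally of finite type which is an isomorphism over a quasi-compact
scheme-theoretically dense open of the target is an open immersion.
-/

set_option autoImplicit false
set_option linter.style.haveILetI false
universe u
open CategoryTheory CategoryTheory.Limits AlgebraicGeometry TopologicalSpace Opposite

namespace Groth.Agent.Lib.Helper69.FlatMono


/-- **L1**: a ring map of finite type which is surjective on the local rings at a prime is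
surjective after localizing at suitable elements. -/
theorem exists_away_surjective {A B : Type u} [CommRing A] [CommRing B] (φ : A →+* B)
    (hφ : φ.FiniteType) (q : Ideal B) [q.IsPrime]
    (hsurj : Function.Surjective (Localization.localRingHom (q.comap φ) q φ rfl)) :
    ∃ (g : A) (h : B), h ∉ q ∧ φ g ∣ h ∧
      ∀ (A' B' : Type u) [CommRing A'] [CommRing B'] [Algebra A A'] [Algebra B B']
        [IsLocalization.Away g A'] [IsLocalization.Away h B'] (ψ : A' →+* B'),
        ψ.comp (algebraMap A A') = (algebraMap B B').comp φ → Function.Surjective ψ := by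
  classical
  rw [RingHom.surjective_localRingHom_iff] at hsurj
  algebraize [φ]
  obtain ⟨s, hs⟩ := (inferInstance : Algebra.FiniteType A B).out
  -- uniform witnesses on the generators
  choose x r c hc hr hxc using hsurj
  let C : B := ∏ j ∈ s, c j
  let R : A := ∏ j ∈ s, r j
  have hC : C ∉ q := by
    intro h
    obtain ⟨j, -, hj⟩ := (Ideal.IsPrime.prod_mem_iff).mp h
    exact hc j hj
  have hR : φ R ∉ q := by
    intro h
    rw [map_prod] at h
    obtain ⟨j, -, hj⟩ := (Ideal.IsPrime.prod_mem_iff).mp h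
    exact hr j hj
  -- every element becomes a fraction after multiplying by `C`
  have key : ∀ b : B, ∃ (n : ℕ) (a : A), C * φ R ^ n * b = C * φ a := by
    intro b
    have hb : b ∈ Algebra.adjoin A (s : Set B) := by rw [hs]; trivial
    induction hb using Algebra.adjoin_induction with
    | mem b hb =>
      refine ⟨1, x b * ∏ j ∈ s.erase b, r j, ?_⟩
      have h1 : C = c b * ∏ j ∈ s.erase b, c j := (Finset.mul_prod_erase s c hb).symm
      have h2 : R = r b * ∏ j ∈ s.erase b, r j := (Finset.mul_prod_erase s r hb).symm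
      rw [pow_one, h2, h1, map_mul, map_mul]
      calc c b * (∏ j ∈ s.erase b, c j) * (φ (r b) * φ (∏ j ∈ s.erase b, r j)) * b
          = (c b * φ (r b) * b) * ((∏ j ∈ s.erase b, c j) * φ (∏ j ∈ s.erase b, r j)) := by ring
        _ = (c b * φ (x b)) * ((∏ j ∈ s.erase b, c j) * φ (∏ j ∈ s.erase b, r j)) := by
            rw [hxc b]
        _ = _ := by ring
    | algebraMap a => exact ⟨0, a, by rw [pow_zero, mul_one]; rfl⟩
    | add b b' _ _ hb hb' =>
      obtain ⟨n, a, h⟩ := hb
      obtain ⟨n', a', h'⟩ := hb'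
      refine ⟨n + n', a * R ^ n' + a' * R ^ n, ?_⟩
      rw [map_add, map_mul, map_mul, map_pow, map_pow, mul_add, pow_add]
      calc C * (φ R ^ n * φ R ^ n') * b + C * (φ R ^ n * φ R ^ n') * b'
          = (C * φ R ^ n * b) * φ R ^ n' + (C * φ R ^ n' * b') * φ R ^ n := by ring
        _ = _ := by rw [h, h']; ring
    | mul b b' _ _ hb hb' =>
      obtain ⟨n, a, h⟩ := hb
      obtain ⟨n', a', h'⟩ := hb'
      refine ⟨n + n', a * a', ?_⟩
      rw [map_mul, pow_add]
      calc C * (φ R ^ n * φ R ^ n') * (b * b')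
          = (C * φ R ^ n * b) * (φ R ^ n' * b') := by ring
        _ = φ a * (C * φ R ^ n' * b') := by rw [h]; ring
        _ = _ := by rw [h']; ring
  obtain ⟨n, aC, hCC⟩ := key C
  have haC : φ aC ∉ q := by
    intro h
    have : C * φ R ^ n * C ∈ q := by rw [hCC]; exact Ideal.mul_mem_left _ _ h
    rcases Ideal.IsPrime.mem_or_mem inferInstance this with h1 | h1
    · rcases Ideal.IsPrime.mem_or_mem inferInstance h1 with h2 | h2
      · exact hC h2
      · exact hR (Ideal.IsPrime.mem_of_pow_mem inferInstance _ h2)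
    · exact hC h1
  refine ⟨R * aC, C * φ (R * aC), ?_, Dvd.intro_left _ rfl, ?_⟩
  · intro h
    rcases Ideal.IsPrime.mem_or_mem inferInstance h with h1 | h1
    · exact hC h1
    · rw [map_mul] at h1
      rcases Ideal.IsPrime.mem_or_mem inferInstance h1 with h2 | h2
      · exact hR h2
      · exact haC h2
  · intro A' B' _ _ _ _ _ _ ψ hψ
    have hψ' : ∀ a : A, ψ (algebraMap A A' a) = algebraMap B B' (φ a) := fun a =>
      RingHom.congr_fun hψ a
    -- units
    have huA : IsUnit (algebraMap A A' (R * aC)) := IsLocalization.Away.algebraMap_isUnit _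
    have huR : IsUnit (algebraMap A A' R) := by
      rw [map_mul] at huA; exact isUnit_of_mul_isUnit_left huA
    have huaC : IsUnit (algebraMap A A' aC) := by
      rw [map_mul] at huA; exact isUnit_of_mul_isUnit_right huA
    have huB : IsUnit (algebraMap B B' (C * φ (R * aC))) := IsLocalization.Away.algebraMap_isUnit _
    have huC : IsUnit (algebraMap B B' C) := by
      rw [map_mul] at huB; exact isUnit_of_mul_isUnit_left huB
    -- images of elements of `B`
    have himg : ∀ b : B, algebraMap B B' b ∈ ψ.range := by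
      intro b
      obtain ⟨m, a, h⟩ := key b
      have h1 := congrArg (algebraMap B B') h
      rw [map_mul, map_mul, map_mul, map_pow, mul_assoc] at h1
      have h2 := huC.mul_left_cancel h1
      rw [← hψ', ← hψ'] at h2
      obtain ⟨u, hu⟩ := huR
      refine ⟨algebraMap A A' a * ((u⁻¹ : A'ˣ) : A') ^ m, ?_⟩
      rw [map_mul, map_pow, ← h2, ← hu]
      rw [mul_comm (ψ (u : A') ^ m), mul_assoc, ← mul_pow, ← map_mul, Units.mul_inv, map_one, one_pow,
        mul_one]
    have hinvC : ∃ t : A', ψ t * algebraMap B B' C = 1 := by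
      have h1 := congrArg (algebraMap B B') hCC
      rw [map_mul, map_mul, map_mul, map_pow, mul_assoc] at h1
      have h2 := huC.mul_left_cancel h1
      rw [← hψ', ← hψ'] at h2
      obtain ⟨u, hu⟩ := huaC
      refine ⟨((u⁻¹ : A'ˣ) : A') * algebraMap A A' R ^ n, ?_⟩
      rw [map_mul, map_pow, mul_assoc, h2, ← hu, ← map_mul, Units.inv_mul, map_one]
    intro y
    obtain ⟨⟨b, ⟨_, k, rfl⟩⟩, rfl⟩ := IsLocalization.mk'_surjective (Submonoid.powers (C * φ (R * aC))) y
    obtain ⟨t, ht⟩ := hinvC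
    obtain ⟨b', hb'⟩ := himg b
    obtain ⟨u, hu⟩ := huA
    refine ⟨b' * (t * ((u⁻¹ : A'ˣ) : A')) ^ k, ?_⟩
    rw [IsLocalization.eq_mk'_iff_mul_eq]
    simp only [map_mul, map_pow]
    rw [hb', mul_assoc, ← mul_pow]
    have : ψ t * ψ ((u⁻¹ : A'ˣ) : A') * (algebraMap B B' C * algebraMap B B' (φ (R * aC))) = 1 := by
      rw [← hψ', ← hu]
      calc ψ t * ψ ((u⁻¹ : A'ˣ) : A') * (algebraMap B B' C * ψ (u : A'))
          = (ψ t * algebraMap B B' C) * (ψ ((u⁻¹ : A'ˣ) : A') * ψ (u : A')) := by ring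
        _ = 1 := by rw [ht, ← map_mul, Units.inv_mul, map_one, one_mul]
    rw [← map_mul (algebraMap B B') C, ] at this
    simp only [map_mul] at this ⊢
    rw [this, one_pow, mul_one]



/-- **L3a** -/
theorem exists_le_of_mem_closure_basicOpen {A : Type*} [CommRing A] (w : A) (p : PrimeSpectrum A)
    (hp : p ∈ closure (PrimeSpectrum.basicOpen w : Set (PrimeSpectrum A))) :
    ∃ q : PrimeSpectrum A, w ∉ q.asIdeal ∧ q ≤ p := by
  let M : Submonoid A := p.asIdeal.primeCompl ⊔ Submonoid.powers w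
  by_cases h0 : (0 : A) ∈ M
  · exfalso
    obtain ⟨t, ht, y, ⟨n, rfl⟩, h⟩ := Submonoid.mem_sup.mp h0
    have hpt : p ∈ (PrimeSpectrum.basicOpen t : Set (PrimeSpectrum A)) := ht
    rw [mem_closure_iff] at hp
    obtain ⟨q, hqt, hqw⟩ := hp _ (PrimeSpectrum.basicOpen t).isOpen hpt
    have : t * w ^ n ∈ q.asIdeal := by rw [h]; exact zero_mem _
    rcases q.isPrime.mem_or_mem this with h1 | h1
    · exact hqt h1
    · exact hqw (q.isPrime.mem_of_pow_mem _ h1)
  · obtain ⟨P, hP, -, hdisj⟩ := Ideal.exists_le_prime_disjoint (⊥ : Ideal A) M (by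
      rw [Set.disjoint_left]
      rintro a ha haM
      rw [SetLike.mem_coe, Ideal.mem_bot] at ha
      exact h0 (ha ▸ haM))
    refine ⟨⟨P, hP⟩, fun hw => ?_, fun a ha => ?_⟩
    · exact Set.disjoint_left.mp hdisj hw
        (Submonoid.mem_sup_right (Submonoid.mem_powers w))
    · by_contra hap
      exact Set.disjoint_left.mp hdisj ha (Submonoid.mem_sup_left hap)

/-- **L3b** -/
theorem exists_le_of_mem_closure_of_isCompact {A : Type*} [CommRing A]
    (W : Set (PrimeSpectrum A)) (hWo : IsOpen W) (hWc : IsCompact W) (p : PrimeSpectrum A)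
    (hp : p ∈ closure W) : ∃ q ∈ W, q ≤ p := by
  classical
  -- cover `W` by basic opens contained in `W`
  have hcov : ∀ q ∈ W, ∃ w : A, q ∈ (PrimeSpectrum.basicOpen w : Set (PrimeSpectrum A)) ∧
      (PrimeSpectrum.basicOpen w : Set (PrimeSpectrum A)) ⊆ W := by
    intro q hq
    obtain ⟨_, ⟨w, rfl⟩, hqw, hwW⟩ :=
      PrimeSpectrum.isTopologicalBasis_basic_opens.exists_subset_of_mem_open hq hWo
    exact ⟨w, hqw, hwW⟩
  choose! w hw1 hw2 using hcov
  obtain ⟨t, ht⟩ := hWc.elim_finite_subcover_image (b := W)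
    (c := fun q => (PrimeSpectrum.basicOpen (w q) : Set (PrimeSpectrum A)))
    (fun q _ => (PrimeSpectrum.basicOpen (w q)).isOpen)
    (fun q hq => Set.mem_biUnion hq (hw1 q hq))
  obtain ⟨htW, hfin, hsub⟩ := ht
  have hp' : p ∈ closure (⋃ q ∈ t, (PrimeSpectrum.basicOpen (w q) : Set (PrimeSpectrum A))) :=
    closure_mono hsub hp
  rw [hfin.closure_biUnion] at hp'
  obtain ⟨q, hqt, hpq⟩ := Set.mem_iUnion₂.mp hp'
  obtain ⟨q', hq'w, hq'p⟩ := exists_le_of_mem_closure_basicOpen (w q) p hpq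
  exact ⟨q', hw2 q (htW hqt) hq'w, hq'p⟩

/-- **L3** -/
theorem exists_specializes_of_mem_closure {S : Scheme.{u}} (S' : S.Opens) (hS' : IsAffineOpen S')
    (W : Set S) (hWo : IsOpen W) (hWc : IsCompact W) (hWS : W ⊆ S') (z : S) (hzS : z ∈ S')
    (hz : z ∈ closure W) : ∃ y ∈ W, y ⤳ z := by
  have hemb : Topology.IsOpenEmbedding hS'.fromSpec := hS'.fromSpec.isOpenEmbedding
  have hrange : Set.range hS'.fromSpec = S' := hS'.range_fromSpec
  let W' : Set ↥(Spec Γ(S, S')) := hS'.fromSpec ⁻¹' W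
  have hW'o : IsOpen W' := hWo.preimage hS'.fromSpec.continuous
  have hW'c : IsCompact W' :=
    (hemb.isInducing.isCompact_preimage_iff (by rw [hrange]; exact hWS)).mpr hWc
  let p : ↥(Spec Γ(S, S')) := hS'.primeIdealOf ⟨z, hzS⟩
  have hpz : hS'.fromSpec p = z := hS'.fromSpec_primeIdealOf ⟨z, hzS⟩
  have hp : p ∈ closure W' := by
    rw [hemb.isInducing.closure_eq_preimage_closure_image W']
    change hS'.fromSpec p ∈ closure (hS'.fromSpec '' (hS'.fromSpec ⁻¹' W))
    rw [Set.image_preimage_eq_of_subset (by rw [hrange]; exact hWS), hpz]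
    exact hz
  obtain ⟨q, hqW, hqp⟩ := exists_le_of_mem_closure_of_isCompact W' hW'o hW'c p hp
  refine ⟨hS'.fromSpec q, hqW, ?_⟩
  rw [← hpz]
  exact ((PrimeSpectrum.le_iff_specializes q p).mp hqp).map hS'.fromSpec.continuous



variable {X S : Scheme.{u}} (f : X ⟶ S)

/-- Step 1: `f` is a monomorphism. -/
theorem mono_of_isIso_restrict [IsSeparated f] [Flat f] (U : S.Opens)
    [QuasiCompact U.ι] [IsSchemeTheoreticallyDominant U.ι] [IsIso (f ∣_ U)] : Mono f := by
  rw [← pullback.isIso_diagonal_iff]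
  let π : pullback f f ⟶ S := pullback.fst f f ≫ f
  haveI : Flat π := inferInstance
  let j : pullback U.ι π ⟶ pullback f f := pullback.snd U.ι π
  haveI : IsSchemeTheoreticallyDominant j := inferInstance
  let c : pullback U.ι π ⟶ U := pullback.fst U.ι π
  have hc : c ≫ U.ι = j ≫ pullback.fst f f ≫ f := pullback.condition
  have hc' : c ≫ U.ι = j ≫ pullback.snd f f ≫ f := by rw [hc, pullback.condition]
  have hpb := isPullback_morphismRestrict f U
  have h1 : hpb.lift c (j ≫ pullback.fst f f) (by rw [hc, Category.assoc]) =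
      hpb.lift c (j ≫ pullback.snd f f) (by rw [hc', Category.assoc]) := by
    rw [← cancel_mono (f ∣_ U)]
    rw [hpb.lift_fst, hpb.lift_fst]
  have h2 : j ≫ pullback.fst f f = j ≫ pullback.snd f f := by
    have := congrArg (· ≫ (f ⁻¹ᵁ U).ι) h1
    simpa only [hpb.lift_snd] using this
  have h3 : j = (j ≫ pullback.fst f f) ≫ pullback.diagonal f := by
    apply pullback.hom_ext
    · simp
    · simp [h2]
  rw [IsClosedImmersion.isIso_iff_ker_eq_bot, ← le_bot_iff]
  calc (pullback.diagonal f).ker ≤ ((j ≫ pullback.fst f f) ≫ pullback.diagonal f).ker :=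
        Scheme.Hom.le_ker_comp _ _
    _ = j.ker := by rw [← h3]
    _ = ⊥ := j.ker_eq_bot

open TensorProduct in
theorem bijective_of_faithfullyFlat_of_isEpi (A B : Type*) [CommRing A] [CommRing B] [Algebra A B]
    [Module.FaithfullyFlat A B] [Algebra.IsEpi A B] : Function.Bijective (algebraMap A B) := by
  apply Module.FaithfullyFlat.bijective_of_tensorProduct (S := B)
  have hmul : ∀ b : B, (TensorProduct.lift (LinearMap.mul A B)) (algebraMap B (B ⊗[A] B) b) = b := by
    intro b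
    simp [Algebra.TensorProduct.algebraMap_apply]
  constructor
  · intro b b' h
    have := congrArg (TensorProduct.lift (LinearMap.mul A B)) h
    rwa [hmul, hmul] at this
  · intro x
    refine ⟨TensorProduct.lift (LinearMap.mul A B) x, ?_⟩
    apply Algebra.IsEpi.injective_lift_mul
    rw [hmul]

/-- Step 2: stalk maps of a flat monomorphism are bijective. -/
theorem bijective_stalkMap [Mono f] [Flat f] (x : X) :
    Function.Bijective (f.stalkMap x).hom := by
  have hflat := Flat.stalkMap f x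
  haveI : Mono (Spec.map (f.stalkMap x) ≫ S.fromSpecStalk (f x)) := by
    rw [Scheme.SpecMap_stalkMap_fromSpecStalk]
    infer_instance
  haveI : Mono (Spec.map (f.stalkMap x)) := mono_of_mono _ (S.fromSpecStalk (f x))
  haveI hepi : Epi (f.stalkMap x) := ⟨fun g h e => Spec.map_injective (by
    rw [← cancel_mono (Spec.map (f.stalkMap x)), ← Spec.map_comp, ← Spec.map_comp, e])⟩
  algebraize [(f.stalkMap x).hom]
  haveI : IsLocalHom (algebraMap (S.presheaf.stalk (f x)) (X.presheaf.stalk x)) :=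
    inferInstanceAs (IsLocalHom (f.stalkMap x).hom)
  haveI : Module.FaithfullyFlat (S.presheaf.stalk (f x)) (X.presheaf.stalk x) :=
    Module.FaithfullyFlat.of_flat_of_isLocalHom
  haveI : Algebra.IsEpi (S.presheaf.stalk (f x)) (X.presheaf.stalk x) := by
    rw [← CommRingCat.epi_iff_epi]
    exact hepi
  exact bijective_of_faithfullyFlat_of_isEpi _ _



theorem mem_basicOpen_iff_notMem_primeIdealOf {X : Scheme.{u}} {U : X.Opens} (hU : IsAffineOpen U)
    (x : X) (hx : x ∈ U) (f : Γ(X, U)) :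
    x ∈ X.basicOpen f ↔ f ∉ (hU.primeIdealOf ⟨x, hx⟩).asIdeal := by
  have h1 : hU.fromSpec (hU.primeIdealOf ⟨x, hx⟩) = x := hU.fromSpec_primeIdealOf ⟨x, hx⟩
  have h2 : hU.primeIdealOf ⟨x, hx⟩ ∈ hU.fromSpec ⁻¹ᵁ X.basicOpen f ↔
      hU.primeIdealOf ⟨x, hx⟩ ∈ PrimeSpectrum.basicOpen f := by
    rw [hU.fromSpec_preimage_basicOpen]; exact Iff.rfl
  change hU.fromSpec (hU.primeIdealOf ⟨x, hx⟩) ∈ X.basicOpen f ↔ _ at h2
  rw [h1] at h2
  exact h2


/-- **L2**: a morphism locally of finite type and surjective on stalks is locally a closed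
immersion. -/
theorem exists_isClosedImmersion_resLE [LocallyOfFiniteType f] [SurjectiveOnStalks f]
    (x : X) (O : X.Opens) (hxO : x ∈ O) :
    ∃ (V' : X.Opens) (S' : S.Opens) (e : V' ≤ f ⁻¹ᵁ S'), IsAffineOpen S' ∧ x ∈ V' ∧ V' ≤ O ∧
      IsClosedImmersion (f.resLE S' V' e) := by
  obtain ⟨_, ⟨S₀, hS₀, rfl⟩, hxS₀, -⟩ := S.isBasis_affineOpens.exists_subset_of_mem_open
    (Set.mem_univ (f x)) isOpen_univ
  obtain ⟨_, ⟨V, hV, rfl⟩, hxV, hVle⟩ := X.isBasis_affineOpens.exists_subset_of_mem_open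
    (show x ∈ ((f ⁻¹ᵁ S₀ ⊓ O : X.Opens) : Set X) from ⟨hxS₀, hxO⟩) (f ⁻¹ᵁ S₀ ⊓ O).isOpen
  have e₀ : V ≤ f ⁻¹ᵁ S₀ := fun y hy => (hVle hy).1
  have hVO : V ≤ O := fun y hy => (hVle hy).2
  have hft := HasRingHomProperty.appLE (P := @LocallyOfFiniteType) f inferInstance
    ⟨S₀, hS₀⟩ ⟨V, hV⟩ e₀
  have hsos := HasRingHomProperty.appLE (P := @SurjectiveOnStalks) f inferInstance
    ⟨S₀, hS₀⟩ ⟨V, hV⟩ e₀
  set φ := (f.appLE S₀ V e₀).hom with hφ
  let q := hV.primeIdealOf ⟨x, hxV⟩
  obtain ⟨g, h, hhq, hdvd, hmain⟩ := exists_away_surjective φ hft q.asIdeal (hsos q.asIdeal q.isPrime)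
  have hxh : x ∈ X.basicOpen h := (mem_basicOpen_iff_notMem_primeIdealOf hV x hxV h).mpr hhq
  have e' : X.basicOpen h ≤ f ⁻¹ᵁ S.basicOpen g := by
    obtain ⟨h', rfl⟩ := hdvd
    rw [Scheme.basicOpen_mul, Scheme.preimage_basicOpen]
    refine inf_le_left.trans ?_
    have : φ g = X.presheaf.map (homOfLE e₀).op (f.app S₀ g) := rfl
    rw [this, Scheme.basicOpen_res]
    exact inf_le_right
  refine ⟨X.basicOpen h, S.basicOpen g, e', hS₀.basicOpen g, hxh, (X.basicOpen_le h).trans hVO, ?_⟩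
  haveI : IsAffine (X.basicOpen h : Scheme.{u}) := hV.basicOpen h
  haveI : IsAffine (S.basicOpen g : Scheme.{u}) := hS₀.basicOpen g
  apply IsClosedImmersion.of_surjective_of_isAffine
  haveI := hS₀.isLocalization_basicOpen g
  haveI := hV.isLocalization_basicOpen h
  have hψ := hmain Γ(S, S.basicOpen g) Γ(X, X.basicOpen h) (f.appLE (S.basicOpen g) (X.basicOpen h) e').hom (by
    rw [RingHom.algebraMap_toAlgebra, RingHom.algebraMap_toAlgebra, hφ, ← CommRingCat.hom_comp,
      ← CommRingCat.hom_comp, Scheme.Hom.appLE_map, Scheme.Hom.map_appLE])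
  rw [Scheme.Hom.appTop, Scheme.Hom.resLE_app_top]
  intro y
  obtain ⟨z, hz⟩ := hψ ((X.basicOpen h).topIso.hom y)
  refine ⟨(S.basicOpen g).topIso.inv z, ?_⟩
  simp only [CommRingCat.comp_apply]
  rw [← CommRingCat.comp_apply (S.basicOpen g).topIso.inv, Iso.inv_hom_id, CommRingCat.id_apply]
  change (X.basicOpen h).topIso.inv ((f.appLE (S.basicOpen g) (X.basicOpen h) e').hom z) = y
  rw [hz, ← CommRingCat.comp_apply, Iso.hom_inv_id, CommRingCat.id_apply]


/-- the image of a small open neighbourhood is open. -/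
theorem exists_isOpen_image [LocallyOfFiniteType f] [SurjectiveOnStalks f] [Flat f]
    (U : S.Opens) [QuasiCompact U.ι] [IsSchemeTheoreticallyDominant U.ι] [IsIso (f ∣_ U)]
    (x : X) (O : X.Opens) (hxO : x ∈ O) :
    ∃ V' : X.Opens, x ∈ V' ∧ V' ≤ O ∧ IsOpen (f '' (V' : Set X)) := by
  obtain ⟨V', S', e, hS'aff, hxV', hV'O, hcl⟩ := exists_isClosedImmersion_resLE f x O hxO
  refine ⟨V', hxV', hV'O, ?_⟩
  set Z : Set S := f '' (V' : Set X) with hZ
  -- (a) `Z` is closed in `S'`
  have hZS' : Z ⊆ S' := by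
    rintro _ ⟨v, hv, rfl⟩
    exact e hv
  obtain ⟨C, hC, hZC⟩ : ∃ C : Set S, IsClosed C ∧ Z = C ∩ S' := by
    have hr : IsClosed (Set.range (f.resLE S' V' e)) :=
      (f.resLE S' V' e).isClosedEmbedding.isClosed_range
    obtain ⟨C, hC, hCeq⟩ := isClosed_induced_iff.mp hr
    refine ⟨C, hC, ?_⟩
    ext s
    constructor
    · rintro ⟨v, hv, rfl⟩
      refine ⟨?_, e hv⟩
      have h1 : ((f.resLE S' V' e) ⟨v, hv⟩).1 ∈ C := (Set.ext_iff.mp hCeq _).mpr ⟨_, rfl⟩
      have h2 : ((f.resLE S' V' e) ⟨v, hv⟩).1 = f v := Scheme.Hom.coe_resLE_apply f e ⟨v, hv⟩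
      exact h2 ▸ h1
    · rintro ⟨hsC, hsS'⟩
      have : (⟨s, hsS'⟩ : S') ∈ Set.range (f.resLE S' V' e) := (Set.ext_iff.mp hCeq _).mp hsC
      obtain ⟨v, hv⟩ := this
      refine ⟨v.1, v.2, ?_⟩
      have h2 := Scheme.Hom.coe_resLE_apply f e v
      exact h2.symm.trans (congrArg Subtype.val hv)
  -- (b) `Z` is stable under generization
  have hgen : ∀ y z : S, y ⤳ z → z ∈ Z → y ∈ Z := by
    rintro y _ hyz ⟨v, hv, rfl⟩
    obtain ⟨v', hv'v, rfl⟩ := (Flat.generalizingMap f) hyz
    exact ⟨v', hv'v.mem_open V'.isOpen hv, rfl⟩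
  -- (c) `Z ∩ U` is open
  have hZU : IsOpen (Z ∩ U) := by
    have h1 : IsOpen ((f ∣_ U) '' ((f ⁻¹ᵁ U).ι ⁻¹' (V' : Set X))) :=
      (f ∣_ U).isOpenEmbedding.isOpenMap _ (V'.isOpen.preimage (f ⁻¹ᵁ U).ι.continuous)
    have h2 := U.ι.isOpenEmbedding.isOpenMap _ h1
    have hι : ∀ t : ↥(f ⁻¹ᵁ U), U.ι ((f ∣_ U) t) = f t.1 := by
      intro t
      rw [← Scheme.Hom.comp_apply, morphismRestrict_ι]
      rfl
    convert h2 using 1
    ext s
    constructor
    · rintro ⟨⟨v, hv, rfl⟩, hsU⟩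
      exact ⟨(f ∣_ U) ⟨v, hsU⟩, ⟨⟨v, hsU⟩, hv, rfl⟩, hι ⟨v, hsU⟩⟩
    · rintro ⟨_, ⟨t, ht, rfl⟩, rfl⟩
      rw [hι t]
      exact ⟨⟨t.1, ht, rfl⟩, t.2⟩
  -- (d) the compact open `W`
  have hUdense : Dense (U : Set S) := by
    have := U.ι.denseRange
    rwa [DenseRange, Scheme.Opens.range_ι] at this
  have hS'U : IsCompact ((S' : Set S) ∩ U) := by
    have h1 := QuasiCompact.isCompact_preimage (f := U.ι) _ S'.isOpen hS'aff.isCompact
    have h2 := h1.image U.ι.continuous
    rwa [Set.image_preimage_eq_inter_range, Scheme.Opens.range_ι] at h2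
  set W : Set S := ((S' : Set S) ∩ U) \ C with hW
  have hWo : IsOpen W := (S'.isOpen.inter U.isOpen).sdiff hC
  have hWeq : W = ((S' : Set S) ∩ U) \ (Z ∩ U) := by
    ext s
    simp only [hW, hZC, Set.mem_sdiff, Set.mem_inter_iff]
    tauto
  have hWc : IsCompact W := by
    rw [hWeq]
    exact hS'U.diff hZU
  have hWS : W ⊆ S' := fun s hs => hs.1.1
  -- (e) `Z` is the complement of `closure W` in `S'`
  have hZeq : Z = (S' : Set S) ∩ (closure W)ᶜ := by
    ext z
    constructor
    · intro hz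
      refine ⟨hZS' hz, fun hzW => ?_⟩
      obtain ⟨y, hyW, hyz⟩ :=
        exists_specializes_of_mem_closure S' hS'aff W hWo hWc hWS z (hZS' hz) hzW
      have hyZ := hgen y z hyz hz
      rw [hZC] at hyZ
      exact hyW.2 hyZ.1
    · rintro ⟨hzS', hzW⟩
      by_contra hzZ
      have hzC : z ∉ C := fun h => hzZ (hZC ▸ ⟨h, hzS'⟩)
      have hN : IsOpen ((S' : Set S) ∩ Cᶜ) := S'.isOpen.inter hC.isOpen_compl
      have := hUdense.open_subset_closure_inter hN ⟨hzS', hzC⟩
      apply hzW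
      refine closure_mono ?_ this
      rintro s ⟨⟨hs1, hs2⟩, hs3⟩
      exact ⟨⟨hs1, hs3⟩, hs2⟩
  rw [hZeq]
  exact S'.isOpen.inter isClosed_closure.isOpen_compl

/-- **Main theorem**: a separated flat morphism locally of finite type which is an isomorphism
over a quasi-compact scheme-theoretically dense open is an open immersion. -/
theorem isOpenImmersion_of_isIso_restrict [IsSeparated f] [LocallyOfFiniteType f] [Flat f]
    (U : S.Opens) [QuasiCompact U.ι] [IsSchemeTheoreticallyDominant U.ι] [IsIso (f ∣_ U)] :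
    IsOpenImmersion f := by
  haveI : Mono f := mono_of_isIso_restrict f U
  have hbij : ∀ x, Function.Bijective (f.stalkMap x).hom := bijective_stalkMap f
  haveI : SurjectiveOnStalks f := ⟨fun x => (hbij x).2⟩
  haveI : ∀ x, IsIso (f.stalkMap x) := fun x =>
    (ConcreteCategory.isIso_iff_bijective (f.stalkMap x)).mpr (hbij x)
  have hopen : IsOpenMap f := by
    intro O hO
    rw [isOpen_iff_forall_mem_open]
    rintro _ ⟨x, hxO, rfl⟩
    obtain ⟨V', hxV', hV'O, hV'⟩ := exists_isOpen_image f U x ⟨O, hO⟩ hxO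
    exact ⟨f '' (V' : Set X), Set.image_mono hV'O, hV', ⟨x, hxV', rfl⟩⟩
  exact IsOpenImmersion.of_isIso_stalkMap f
    (Topology.IsOpenEmbedding.of_continuous_injective_isOpenMap f.continuous f.injective hopen)

end Groth.Agent.Lib.Helper69.FlatMono
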