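import Mathlib
import Groth.Agent.Lib.Helper11.QuasiAffine
import Groth.Agent.Lib.Helper11.GenLocusBasis
import Groth.Agent.Lib.Helper69.FlatMono

set_option autoImplicit false
universe u
open CategoryTheory CategoryTheory.Limits AlgebraicGeometry TopologicalSpace Opposite

namespace Groth.Agent.Lib.Helper69.AffineNbhd

/-- (α) a global function on an integral `T` comes, near `f t`, from a section on `X`, when the
stalk map at `t` is surjective. -/
theorem exists_section_near {T X : Scheme.{u}} (f : T ⟶ X) [IsIntegral T] (t : T)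
    (ht : Function.Surjective (f.stalkMap t)) (a : Γ(T, ⊤)) (N₀ : X.Opens) (hN₀ : f t ∈ N₀) :
    ∃ (N : X.Opens) (_ : N ≤ N₀) (_ : f t ∈ N) (σ : Γ(X, N)),
      f.app N σ = T.presheaf.map (homOfLE (le_top : f ⁻¹ᵁ N ≤ ⊤)).op a := by
  obtain ⟨γ, hγ⟩ := ht (T.presheaf.germ ⊤ t trivial a)
  obtain ⟨N', hN', σ', rfl⟩ := X.presheaf.exists_germ_eq γ
  refine ⟨N' ⊓ N₀, inf_le_right, ⟨hN', hN₀⟩,
    X.presheaf.map (homOfLE (inf_le_left : N' ⊓ N₀ ≤ N')).op σ', ?_⟩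
  have hmem : t ∈ f ⁻¹ᵁ (N' ⊓ N₀) := ⟨hN', hN₀⟩
  apply germ_injective_of_isIntegral T t hmem
  rw [← Scheme.Hom.germ_stalkMap_apply f (N' ⊓ N₀) t ⟨hN', hN₀⟩]
  rw [TopCat.Presheaf.germ_res_apply, hγ]
  rw [TopCat.Presheaf.germ_res_apply]

theorem app_res {T X : Scheme.{u}} (f : T ⟶ X) {V V' : X.Opens} (hle : V' ≤ V) (x : Γ(X, V)) :
    f.app V' (X.presheaf.map (homOfLE hle).op x) =
      T.presheaf.map (homOfLE (f.preimage_mono hle)).op (f.app V x) := by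
  rw [← CommRingCat.comp_apply, f.naturality, CommRingCat.comp_apply]
  rfl

theorem res_res {T : Scheme.{u}} {V₁ V₂ V₃ : T.Opens} (h₁ : V₁ ≤ V₂) (h₂ : V₂ ≤ V₃) (a : Γ(T, V₃)) :
    T.presheaf.map (homOfLE h₁).op (T.presheaf.map (homOfLE h₂).op a) =
      T.presheaf.map (homOfLE (h₁.trans h₂)).op a := by
  rw [← CommRingCat.comp_apply, ← Functor.map_comp]
  rfl

/-- (β) spreading out a global function of `T` to a section over a neighbourhood of `f(s)`. -/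
theorem exists_section_of_finset {T X : Scheme.{u}} (f : T ⟶ X) [IsIntegral T] [IsIntegral X]
    [IsDominant f] [QuasiCompact f] (s : Finset T)
    (hs : ∀ t ∈ s, Function.Surjective (f.stalkMap t)) (a : Γ(T, ⊤)) (N₀ : X.Opens)
    (hN₀ : ∀ t ∈ s, f t ∈ N₀) :
    ∃ (N : X.Opens) (_ : N ≤ N₀) (_ : ∀ t ∈ s, f t ∈ N) (σ : Γ(X, N)),
      f.app N σ = T.presheaf.map (homOfLE (le_top : f ⁻¹ᵁ N ≤ ⊤)).op a := by
  have : IsSchemeTheoreticallyDominant f := .of_isDominant f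
  have H : ∀ i : {t // t ∈ s}, ∃ (N : X.Opens) (_ : N ≤ N₀) (_ : f i.1 ∈ N) (σ : Γ(X, N)),
      f.app N σ = T.presheaf.map (homOfLE (le_top : f ⁻¹ᵁ N ≤ ⊤)).op a :=
    fun i => exists_section_near f i.1 (hs i.1 i.2) a N₀ (hN₀ i.1 i.2)
  choose U hU₀ hfU sf hsf using H
  have hcompat : TopCat.Presheaf.IsCompatible X.presheaf U sf := by
    intro i j
    apply f.app_injective (U i ⊓ U j)
    have h1 : ∀ (k : {t // t ∈ s}) (hk : U i ⊓ U j ≤ U k),
        f.app (U i ⊓ U j) (X.presheaf.map (homOfLE hk).op (sf k)) =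
          T.presheaf.map (homOfLE (le_top : f ⁻¹ᵁ (U i ⊓ U j) ≤ ⊤)).op a := by
      intro k hk
      rw [app_res, hsf k, res_res]
    exact (h1 i inf_le_left).trans (h1 j inf_le_right).symm
  obtain ⟨σ, hσ, -⟩ : ∃ σ : Γ(X, iSup U),
      (∀ i, X.presheaf.map (homOfLE (le_iSup U i)).op σ = sf i) ∧ _ :=
    X.sheaf.existsUnique_gluing U sf hcompat
  refine ⟨iSup U, iSup_le hU₀, fun t ht => ?_, σ, ?_⟩
  · exact Opens.mem_iSup.mpr ⟨⟨t, ht⟩, hfU ⟨t, ht⟩⟩
  · apply T.sheaf.eq_of_locally_eq' (fun i => f ⁻¹ᵁ U i) (f ⁻¹ᵁ iSup U)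
      (fun i => homOfLE (f.preimage_mono (le_iSup U i))) (by rw [Scheme.Hom.preimage_iSup])
    intro i
    change T.presheaf.map (homOfLE (f.preimage_mono (le_iSup U i))).op (f.app (iSup U) σ) =
      T.presheaf.map (homOfLE (f.preimage_mono (le_iSup U i))).op (T.presheaf.map _ a)
    rw [← app_res f (le_iSup U i), hσ i, hsf i, res_res]

/-- (CL) If every prime inside `p` containing `J` contains `q`, then some `e ∉ p` has
`e * q ^ n ∈ J`. -/
theorem exists_mul_pow_mem {B : Type u} [CommRing B] (p : Ideal B) [p.IsPrime] (J : Ideal B) (q : B)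
    (H : ∀ c : Ideal B, c.IsPrime → c ≤ p → J ≤ c → q ∈ c) :
    ∃ e : B, e ∉ p ∧ ∃ n : ℕ, e * q ^ n ∈ J := by
  classical
  by_contra hcon
  push Not at hcon
  let M : Submonoid B := p.primeCompl ⊔ Submonoid.powers q
  have hdisj : Disjoint (J : Set B) (M : Set B) := by
    rw [Set.disjoint_left]
    intro x hxJ hxM
    obtain ⟨e, he, y, ⟨n, rfl⟩, rfl⟩ := Submonoid.mem_sup.mp hxM
    exact hcon e he n hxJ
  obtain ⟨c, hc, hJc, hcM⟩ := Ideal.exists_le_prime_disjoint J M hdisj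
  have hcp : c ≤ p := by
    intro x hx
    by_contra hxp
    exact Set.disjoint_left.mp hcM hx (Submonoid.mem_sup_left (show x ∈ p.primeCompl from hxp))
  have hq : q ∈ c := H c hc hcp hJc
  exact Set.disjoint_left.mp hcM hq (Submonoid.mem_sup_right (Submonoid.mem_powers q))

/-- (γ) shrinking an affine neighbourhood of `x'` so that a given basic open lands in `W`. -/
theorem exists_basicOpen_inf_le {X : Scheme.{u}} {N' : X.Opens} (hN' : IsAffineOpen N') (x' : X)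
    (hx' : x' ∈ N') (W : X.Opens) (q : Γ(X, N'))
    (H : ∀ c ∈ N', c ⤳ x' → c ∈ X.basicOpen q → c ∈ W) :
    ∃ e : Γ(X, N'), x' ∈ X.basicOpen e ∧ X.basicOpen e ⊓ X.basicOpen q ≤ W := by
  obtain ⟨J, hJ⟩ : ∃ J : Ideal Γ(X, N'),
      (SetLike.coe (hN'.fromSpec ⁻¹ᵁ W))ᶜ = PrimeSpectrum.zeroLocus (J : Set Γ(X, N')) :=
    (PrimeSpectrum.isClosed_iff_zeroLocus_ideal _).mp (hN'.fromSpec ⁻¹ᵁ W).2.isClosed_compl
  set p := hN'.primeIdealOf ⟨x', hx'⟩ with hp
  have hpx : hN'.fromSpec p = x' := hN'.fromSpec_primeIdealOf ⟨x', hx'⟩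
  have hmemW : ∀ c : Spec Γ(X, N'), hN'.fromSpec c ∈ W ↔ ¬ J ≤ c.asIdeal := by
    intro c
    have : c ∈ (SetLike.coe (hN'.fromSpec ⁻¹ᵁ W))ᶜ ↔ J ≤ c.asIdeal := by
      rw [hJ]; exact Iff.rfl
    constructor
    · intro h1 h2; exact (this.mpr h2) h1
    · intro h1; by_contra h2; exact h1 (this.mp h2)
  have hmemq : ∀ (c : Spec Γ(X, N')) (r : Γ(X, N')),
      hN'.fromSpec c ∈ X.basicOpen r ↔ r ∉ c.asIdeal := by
    intro c r
    have : c ∈ hN'.fromSpec ⁻¹ᵁ X.basicOpen r ↔ c ∈ PrimeSpectrum.basicOpen r := by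
      rw [hN'.fromSpec_preimage_basicOpen]; exact Iff.rfl
    exact this
  obtain ⟨e, hep, n, hen⟩ := exists_mul_pow_mem p.asIdeal J q (by
    intro c hc hcp hJc
    by_contra hqc
    let c' : Spec Γ(X, N') := ⟨c, hc⟩
    have h1 : hN'.fromSpec c' ∈ (N' : Set X) := by
      rw [← hN'.range_fromSpec]; exact ⟨c', rfl⟩
    have h2 : hN'.fromSpec c' ⤳ x' := by
      rw [← hpx]
      exact ((PrimeSpectrum.le_iff_specializes c' p).mp hcp).map hN'.fromSpec.continuous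
    have h3 : hN'.fromSpec c' ∈ X.basicOpen q := (hmemq c' q).mpr hqc
    exact (hmemW c').mp (H _ h1 h2 h3) hJc)
  refine ⟨e, ?_, ?_⟩
  · rw [← hpx]; exact (hmemq p e).mpr hep
  · rintro y ⟨hye, hyq⟩
    have hyN : y ∈ N' := X.basicOpen_le e hye
    obtain ⟨c, rfl⟩ : y ∈ Set.range hN'.fromSpec := by rw [hN'.range_fromSpec]; exact hyN
    rw [SetLike.mem_coe, hmemq] at hye hyq
    rw [hmemW]
    intro hJc
    have := hJc hen
    rcases c.isPrime.mem_or_mem this with h | h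
    · exact hye h
    · exact hyq (c.isPrime.mem_of_pow_mem n h)

theorem exists_basicOpen_inf_le_finset {X : Scheme.{u}} {N' : X.Opens} (hN' : IsAffineOpen N')
    (x' : X) (hx' : x' ∈ N') {ι : Type*} (s : Finset ι) (W : ι → X.Opens) (q : ι → Γ(X, N'))
    (H : ∀ i ∈ s, ∀ c ∈ N', c ⤳ x' → c ∈ X.basicOpen (q i) → c ∈ W i) :
    ∃ e : Γ(X, N'), x' ∈ X.basicOpen e ∧ ∀ i ∈ s, X.basicOpen e ⊓ X.basicOpen (q i) ≤ W i := by
  classical
  induction s using Finset.induction_on with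
  | empty =>
    refine ⟨1, ?_, fun i hi => absurd hi (Finset.notMem_empty i)⟩
    rw [Scheme.basicOpen_one]; exact hx'
  | insert i₀ s' _ ih =>
    obtain ⟨e₁, he₁, h₁⟩ := ih (fun i hi => H i (Finset.mem_insert_of_mem hi))
    obtain ⟨e₂, he₂, h₂⟩ := exists_basicOpen_inf_le hN' x' hx' (W i₀) (q i₀)
      (H i₀ (Finset.mem_insert_self i₀ s'))
    refine ⟨e₁ * e₂, ?_, fun i hi => ?_⟩
    · rw [Scheme.basicOpen_mul]; exact ⟨he₁, he₂⟩
    · rw [Scheme.basicOpen_mul]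
      rcases Finset.mem_insert.mp hi with rfl | hi
      · exact (inf_le_inf_right _ inf_le_right).trans h₂
      · exact (inf_le_inf_right _ inf_le_left).trans (h₁ i hi)

/-- generalizations of `f t` lift to generalizations of `t` when the stalk map is an isomorphism. -/
theorem exists_of_specializes {T X : Scheme.{u}} (f : T ⟶ X) (t : T) [IsIso (f.stalkMap t)]
    (c : X) (hc : c ⤳ f t) : ∃ τ : T, τ ⤳ t ∧ f τ = c := by
  have h1 : c ∈ Set.range (X.fromSpecStalk (f t)) := by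
    rw [Scheme.range_fromSpecStalk]; exact hc
  obtain ⟨p, rfl⟩ := h1
  obtain ⟨p', rfl⟩ := (Spec.map (f.stalkMap t)).homeomorph.surjective p
  refine ⟨T.fromSpecStalk t p', ?_, ?_⟩
  · have : T.fromSpecStalk t p' ∈ Set.range (T.fromSpecStalk t) := ⟨p', rfl⟩
    rw [Scheme.range_fromSpecStalk] at this
    exact this
  · rw [← Scheme.Hom.comp_apply, ← Scheme.SpecMap_stalkMap_fromSpecStalk, Scheme.Hom.comp_apply]
    rfl

/-- **Integral case.** -/
theorem exists_affineOpen_of_isIntegral {T X : Scheme.{u}} (f : T ⟶ X) [IsAffine T] [IsIntegral T]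
    [IsIntegral X] [QuasiSeparatedSpace X] [IsDominant f] (s : Finset T)
    (hs : ∀ t ∈ s, IsIso (f.stalkMap t)) :
    ∃ U : X.Opens, IsAffineOpen U ∧ ∀ t ∈ s, f t ∈ U := by
  classical
  have hsurj : ∀ t ∈ s, Function.Surjective (f.stalkMap t) := fun t ht =>
    have := hs t ht
    (ConcreteCategory.bijective_of_isIso (f.stalkMap t)).2
  have hW : ∀ t : T, ∃ W : X.Opens, IsAffineOpen W ∧ f t ∈ W := fun t => by
    obtain ⟨_, ⟨W, hW, rfl⟩, hxW, -⟩ := X.isBasis_affineOpens.exists_subset_of_mem_open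
      (Set.mem_univ (f t)) isOpen_univ
    exact ⟨W, hW, hxW⟩
  choose W hWaff hfW using hW
  have hh : ∀ t : T, ∃ h : Γ(T, ⊤), t ∈ T.basicOpen h ∧ T.basicOpen h ≤ f ⁻¹ᵁ W t := fun t => by
    obtain ⟨h, hle, hth⟩ := (isAffineOpen_top T).exists_basicOpen_le (V := f ⁻¹ᵁ W t)
      ⟨t, hfW t⟩ trivial
    exact ⟨h, hth, hle⟩
  choose h hth hhle using hh
  have key : ∀ s' : Finset T, ∃ N : X.Opens, (∀ t ∈ s, f t ∈ N) ∧ ∀ t ∈ s', ∃ σ : Γ(X, N),
      f.app N σ = T.presheaf.map (homOfLE (le_top : f ⁻¹ᵁ N ≤ ⊤)).op (h t) := by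
    intro s'
    induction s' using Finset.induction_on with
    | empty => exact ⟨⊤, fun _ _ => trivial, fun t ht => absurd ht (Finset.notMem_empty t)⟩
    | insert t₀ s'' _ ih =>
      obtain ⟨N'', hN'', hσ''⟩ := ih
      obtain ⟨N, hNle, hN, σ, hσ⟩ := exists_section_of_finset f s hsurj (h t₀) N'' hN''
      refine ⟨N, hN, fun t ht => ?_⟩
      rcases Finset.mem_insert.mp ht with rfl | ht
      · exact ⟨σ, hσ⟩
      · obtain ⟨σ', hσ'⟩ := hσ'' t ht
        exact ⟨X.presheaf.map (homOfLE hNle).op σ', by rw [app_res, hσ', res_res]⟩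
  obtain ⟨N, hN, hσ⟩ := key s
  let ι := {t // t ∈ s}
  have hσ' : ∀ i : ι, ∃ σ : Γ(X, N),
      f.app N σ = T.presheaf.map (homOfLE (le_top : f ⁻¹ᵁ N ≤ ⊤)).op (h i.1) :=
    fun i => hσ i.1 i.2
  choose σ hσ using hσ'
  -- basic facts on `σ i`
  have hpre : ∀ (i : ι) (τ : T), f τ ∈ X.basicOpen (σ i) → τ ∈ T.basicOpen (h i.1) := by
    intro i τ hτ
    have h1 : τ ∈ f ⁻¹ᵁ X.basicOpen (σ i) := hτ
    rw [Scheme.preimage_basicOpen, hσ i, Scheme.basicOpen_res] at h1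
    exact h1.2
  have hpre' : ∀ i : ι, f i.1 ∈ X.basicOpen (σ i) := by
    intro i
    have h1 : i.1 ∈ f ⁻¹ᵁ X.basicOpen (σ i) := by
      rw [Scheme.preimage_basicOpen, hσ i, Scheme.basicOpen_res]
      exact ⟨hN i.1 i.2, hth i.1⟩
    exact h1
  -- affine neighbourhoods
  have hN' : ∀ i : ι, ∃ N' : X.Opens, IsAffineOpen N' ∧ f i.1 ∈ N' ∧ N' ≤ N := fun i => by
    obtain ⟨_, ⟨N', hN', rfl⟩, hxN', hle⟩ := X.isBasis_affineOpens.exists_subset_of_mem_open
      (hN i.1 i.2) N.2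
    exact ⟨N', hN', hxN', hle⟩
  choose N' hN'aff hfN' hN'le using hN'
  have he : ∀ i' : ι, ∃ e : Γ(X, N' i'), f i'.1 ∈ X.basicOpen e ∧
      ∀ i : ι, X.basicOpen e ⊓ X.basicOpen (σ i) ≤ W i.1 := by
    intro i'
    have := hs i'.1 i'.2
    obtain ⟨e, he, hle⟩ := exists_basicOpen_inf_le_finset (hN'aff i') (f i'.1) (hfN' i')
      (Finset.univ : Finset ι) (fun i => W i.1)
      (fun i => X.presheaf.map (homOfLE (hN'le i')).op (σ i)) (by
        intro i _ c hc hcs hcq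
        obtain ⟨τ, -, rfl⟩ := exists_of_specializes f i'.1 c hcs
        rw [Scheme.basicOpen_res] at hcq
        exact hhle i.1 (hpre i τ hcq.2))
    refine ⟨e, he, fun i => ?_⟩
    refine le_trans ?_ (hle i (Finset.mem_univ i))
    rw [Scheme.basicOpen_res]
    exact le_inf inf_le_left (le_inf (inf_le_left.trans (X.basicOpen_le e)) inf_le_right)
  choose e hfe hele using he
  let M : ι → X.Opens := fun i' => X.basicOpen (e i')
  have hMaff : ∀ i', IsAffineOpen (M i') := fun i' => (hN'aff i').basicOpen (e i')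
  have hMle : ∀ i', M i' ≤ N := fun i' => (X.basicOpen_le (e i')).trans (hN'le i')
  let N2 : X.Opens := ⨆ p : ι × ι, M p.1 ⊓ X.basicOpen (σ p.2)
  have hN2mem : ∀ i : ι, f i.1 ∈ N2 :=
    fun i => Opens.mem_iSup.mpr ⟨(i, i), hfe i, hpre' i⟩
  have hN2le : N2 ≤ N := iSup_le fun p => inf_le_left.trans (hMle p.1)
  have hN2W : ∀ z ∈ N2, ∀ i : ι, z ∈ X.basicOpen (σ i) → z ∈ W i.1 := by
    intro z hz i hzi
    obtain ⟨p, hp⟩ := Opens.mem_iSup.mp hz
    exact hele p.1 i ⟨hp.1, hzi⟩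
  have hN2c : IsCompact (N2 : Set X) := by
    have : (N2 : Set X) = ⋃ p : ι × ι, ((M p.1 ⊓ X.basicOpen (σ p.2) : X.Opens) : Set X) := by
      simp only [N2, Opens.coe_iSup]
    rw [this]
    refine isCompact_iUnion fun p => ?_
    have h1 : M p.1 ⊓ X.basicOpen (σ p.2) =
        X.basicOpen (X.presheaf.map (homOfLE (hMle p.1)).op (σ p.2)) := by
      rw [Scheme.basicOpen_res]
    rw [h1]
    exact ((hMaff p.1).basicOpen _).isCompact
  -- the quasi-affine scheme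
  let Y : Scheme.{u} := N2
  have : CompactSpace Y := isCompact_iff_compactSpace.mp hN2c
  have hιN : (⊤ : Y.Opens) ≤ N2.ι ⁻¹ᵁ N := fun y _ => hN2le y.2
  let r : ι → Γ(Y, ⊤) := fun i => (N2.ι.appLE N ⊤ hιN).hom (σ i)
  have hr : ∀ (i : ι) (y : Y), y ∈ Y.basicOpen (r i) ↔ y.1 ∈ X.basicOpen (σ i) := by
    intro i y
    have := Scheme.basicOpen_appLE N2.ι ⊤ N hιN (σ i)
    change y ∈ Y.basicOpen ((N2.ι.appLE N ⊤ hιN) (σ i)) ↔ _
    rw [this]
    exact ⟨fun h => h.2, fun h => ⟨trivial, h⟩⟩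
  have hQA : Y.IsQuasiAffine := by
    refine Groth.Agent.Lib.Helper11.isQuasiAffine_of_forall_exists_mem_basicOpen Y fun y => ?_
    obtain ⟨p, hp⟩ := Opens.mem_iSup.mp y.2
    refine ⟨r p.2, ?_, (hr p.2 y).mpr hp.2⟩
    set D : Y.Opens := Y.basicOpen (r p.2) with hD
    have hrange : Set.range (D.ι ≫ N2.ι) ⊆ Set.range (W p.2.1).ι := by
      rintro _ ⟨d, rfl⟩
      rw [Scheme.Opens.range_ι]
      exact hN2W _ (d.1).2 p.2 ((hr p.2 d.1).mp d.2)
    let l : D.toScheme ⟶ (W p.2.1).toScheme :=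
      IsOpenImmersion.lift (W p.2.1).ι (D.ι ≫ N2.ι) hrange
    have hl : l ≫ (W p.2.1).ι = D.ι ≫ N2.ι := IsOpenImmersion.lift_fac _ _ _
    have : IsOpenImmersion (l ≫ (W p.2.1).ι) := by rw [hl]; infer_instance
    have : IsOpenImmersion l := IsOpenImmersion.of_comp l (W p.2.1).ι
    have : CompactSpace D.toScheme := by
      have hc : IsCompact ((D : Set Y) ∩ Set.univ) :=
        (isRetrocompact_basicOpen (r p.2)) isCompact_univ isOpen_univ
      rw [Set.inter_univ] at hc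
      exact isCompact_iff_compactSpace.mp hc
    have : IsAffine (W p.2.1).toScheme := hWaff p.2.1
    exact Scheme.IsQuasiAffine.of_isImmersion l
  let E : Set Y := Set.range (fun i : ι => (⟨f i.1, hN2mem i⟩ : Y))
  obtain ⟨r₀, hr₀aff, hEr₀, -⟩ := Groth.Agent.Lib.Helper11.GenLocus.exists_basicOpen_of_finite
    (X := Y) ⊤ E (Set.finite_range _) (fun _ _ => trivial)
  refine ⟨N2.ι ''ᵁ (Y.basicOpen r₀), hr₀aff.image_of_isOpenImmersion N2.ι, fun t ht => ?_⟩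
  exact ⟨⟨f t, hN2mem ⟨t, ht⟩⟩, hEr₀ ⟨⟨t, ht⟩, rfl⟩, rfl⟩

end Groth.Agent.Lib.Helper69.AffineNbhd
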