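import Groth.Agent.Lib.Helper69.AmpleDeg
import Groth.Agent.S0051
import Groth.Agent.Lib.Helper45.Dev.AmpleFinite
import Groth.Agent.Lib.Helper11.PullbackAmple2
import Groth.Agent.Lib.Helper11.PullbackTensor
import Groth.Agent.Lib.Helper22.ChevMain

/-!
# Ampleness on proper schemes of dimension ≤ 1 via degrees on components (helper69)
-/

set_option autoImplicit false
set_option linter.unusedSectionVars false
set_option linter.style.haveILetI false
universe u
open CategoryTheory CategoryTheory.Limits AlgebraicGeometry TopologicalSpace Opposite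

namespace Groth.Agent.Lib.Helper69.AmpleComp

variable (k : Type u) [Field k] (X : Scheme.{u}) [X.Over (Spec (CommRingCat.of k))]
  [IsProper (X ↘ Spec (CommRingCat.of k))] [IsNoetherian X]

/-- the reduced irreducible component, as an ideal sheaf -/
noncomputable abbrev compIdeal (C : Set X) (hC : C ∈ irreducibleComponents (X : Type u)) :
    X.IdealSheafData := (X.irreducibleComponentIdeal C hC).radical

omit [X.Over (Spec (CommRingCat.of k))] [IsProper (X ↘ Spec (CommRingCat.of k))] in
theorem range_compι (C : Set X) (hC : C ∈ irreducibleComponents (X : Type u)) :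
    Set.range (compIdeal X C hC).subschemeι = C := by
  rw [Scheme.IdealSheafData.range_subschemeι]
  rfl

omit [X.Over (Spec (CommRingCat.of k))] [IsProper (X ↘ Spec (CommRingCat.of k))] in
instance irreducibleSpace_comp (C : Set X) (hC : C ∈ irreducibleComponents (X : Type u)) :
    IrreducibleSpace (compIdeal X C hC).subscheme :=
  Subtype.irreducibleSpace hC.1

omit [X.Over (Spec (CommRingCat.of k))] [IsProper (X ↘ Spec (CommRingCat.of k))] in
instance isIntegral_comp (C : Set X) (hC : C ∈ irreducibleComponents (X : Type u)) :
    IsIntegral (compIdeal X C hC).subscheme := by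
  haveI := Groth.Agent.Lib.Helper22.Chev.isReduced_subscheme_radical
    (X.irreducibleComponentIdeal C hC)
  exact isIntegral_of_irreducibleSpace_of_isReduced _

omit [X.Over (Spec (CommRingCat.of k))] [IsProper (X ↘ Spec (CommRingCat.of k))] in
theorem dim_comp (C : Set X) (hC : C ∈ irreducibleComponents (X : Type u)) :
    topologicalKrullDim (compIdeal X C hC).subscheme = topologicalKrullDim C := by
  have hemb := (compIdeal X C hC).subschemeι.isClosedEmbedding.isEmbedding
  have h1 := (hemb.toHomeomorph).isHomeomorph.topologicalKrullDim_eq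
  rw [h1]
  have h2 : Set.range (compIdeal X C hC).subschemeι = C := range_compι X C hC
  rw [h2]

open Groth.Agent.Lib.Helper45.AmpleFinite Groth.Agent.Lib.Helper45.SerreVanish in
theorem isAmple_iff_deg_pos_on_components (hdim : topologicalKrullDim X ≤ 1) (L : X.Modules)
    (hL : PicF.IsInvertible L) :
    CohB1.IsAmple L ↔ ∀ (C : Set X) (hC : C ∈ irreducibleComponents (X : Type u)),
      topologicalKrullDim C = 1 →
        0 < @Curv2.deg k _ (X.irreducibleComponentIdeal C hC).radical.subscheme
          ⟨(X.irreducibleComponentIdeal C hC).radical.subschemeι ≫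
            (X ↘ (Spec (CommRingCat.of k)))⟩
          ((Scheme.Modules.pullback
            (X.irreducibleComponentIdeal C hC).radical.subschemeι).obj L) 1 := by
  constructor
  · intro hamp C hC hdC
    letI : (compIdeal X C hC).subscheme.Over (Spec (CommRingCat.of k)) :=
      ⟨(compIdeal X C hC).subschemeι ≫ (X ↘ Spec (CommRingCat.of k))⟩
    haveI : IsProper ((compIdeal X C hC).subscheme ↘ Spec (CommRingCat.of k)) :=
      inferInstanceAs (IsProper ((compIdeal X C hC).subschemeι ≫ (X ↘ Spec (CommRingCat.of k))))
    have hdY : topologicalKrullDim (compIdeal X C hC).subscheme = 1 := (dim_comp X C hC).trans hdC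
    have hampY : CohB1.IsAmple ((Scheme.Modules.pullback (compIdeal X C hC).subschemeι).obj L) :=
      Groth.Agent.Lib.Helper11.PullbackAmple.isAmple_pullback_of_isQuasiAffine _
        (Groth.Agent.Lib.Helper11.PullbackAmple2.isQuasiAffine_of_isAffineHom _) hamp
    exact Groth.Agent.Lib.Helper69.AmpleDeg.deg_pos_of_isAmple k _ hdY _ hampY
  · intro h
    refine isAmple_of_serreVanish L hL (serreVanish_of_finite_family L hL fun x => ?_)
    let C : Set X := irreducibleComponent x
    have hC : C ∈ irreducibleComponents (X : Type u) := irreducibleComponent_mem_irreducibleComponents x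
    set f := (compIdeal X C hC).subschemeι with hf
    letI : (compIdeal X C hC).subscheme.Over (Spec (CommRingCat.of k)) :=
      ⟨f ≫ (X ↘ Spec (CommRingCat.of k))⟩
    haveI : IsProper ((compIdeal X C hC).subscheme ↘ Spec (CommRingCat.of k)) :=
      inferInstanceAs (IsProper (f ≫ (X ↘ Spec (CommRingCat.of k))))
    haveI : IsLocallyNoetherian (compIdeal X C hC).subscheme :=
      LocallyOfFiniteType.isLocallyNoetherian ((compIdeal X C hC).subscheme ↘ Spec (CommRingCat.of k))
    haveI : CompactSpace (compIdeal X C hC).subscheme :=
      QuasiCompact.compactSpace_of_compactSpace ((compIdeal X C hC).subscheme ↘ Spec (CommRingCat.of k))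
    haveI : IsNoetherian (compIdeal X C hC).subscheme := {}
    have hx : x ∈ Set.range f := by
      rw [hf, range_compι]
      exact mem_irreducibleComponent
    obtain ⟨y, hy⟩ := hx
    have hLY : PicF.IsInvertible ((Scheme.Modules.pullback f).obj L) :=
      Groth.Agent.Lib.Helper11.PullbackTensor.isInvertible_pullback f hL
    have hdY : topologicalKrullDim (compIdeal X C hC).subscheme = topologicalKrullDim C :=
      dim_comp X C hC
    have hdYle : topologicalKrullDim (compIdeal X C hC).subscheme ≤ 1 :=
      le_trans f.isClosedEmbedding.isInducing.topologicalKrullDim_le hdim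
    have hamp : CohB1.IsAmple ((Scheme.Modules.pullback f).obj L) := by
      by_cases hd : topologicalKrullDim C = 1
      · exact Groth.Agent.Lib.Helper69.AmpleDeg.isAmple_of_deg_pos k _ (hdY.trans hd) _ hLY
          (h C hC hd)
      · have hne : topologicalKrullDim (compIdeal X C hC).subscheme ≠ 1 := fun h1 => hd (hdY ▸ h1)
        haveI := Groth.Agent.Lib.Helper67.CurveTors.isFinite_of_dim_ne_one k
          (compIdeal X C hC).subscheme hdYle hne
        haveI : IsAffine (compIdeal X C hC).subscheme :=
          isAffine_of_isAffineHom ((compIdeal X C hC).subscheme ↘ Spec (CommRingCat.of k))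
        exact Groth.Agent.Lib.Helper11.GenLocus.isAmple_of_isQuasiAffine _ hLY
    have hY := (Groth.Agent.S0051.result k _ ((compIdeal X C hC).subscheme ↘ Spec (CommRingCat.of k))
      ((Scheme.Modules.pullback f).obj L) hamp.1).mp hamp
    exact ⟨_, f, y, inferInstance, inferInstance, hy, fun M hM => hY M hM⟩

end Groth.Agent.Lib.Helper69.AmpleComp
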