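import Groth.Agent.Lib.Helper67.CurveInv2
import Groth.Agent.Lib.Helper67.CurveP1c
import Groth.Agent.Lib.Helper67.HHLES
import Groth.Agent.Lib.Helper67.TensRank2
import Groth.Agent.Lib.Helper11.AmpleTensorGG
import Groth.Agent.Lib.Helper11.TensorMap
import Groth.Agent.Lib.Helper11.AmpleFinite
import Groth.Agent.Lib.Helper11.NegPowers
import Groth.Agent.Lib.Helper17.VeryAmpleAmple
import Groth.Agent.Lib.Helper17.ProjSpaceProper
import Groth.Agent.Lib.Helper17.PnToPm
import Groth.Agent.S17806
import Groth.Agent.S2327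
import Groth.Agent.S7637
import Groth.Agent.S1519

/-!
# Ampleness and degree on integral proper curves (helper69)

`isAmple_of_deg_pos` / `deg_pos_of_isAmple`: on an integral proper curve over a field, an
invertible module is ample iff its degree is positive.

Ingredients of independent use:
* `mulBy F s : F ⟶ F ⊗ M` multiplication by a section `s : O ⟶ M`, with its section formula
  `mulBy_app`, bijectivity on `X_s`, and `mono_mulBy` on integral schemes;
* `exists_section_of_lift`: local analysis producing a section generating at a point from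
  liftability of global sections of a cokernel;
* `exists_stable`: stabilisation of `H¹(M^n)` along multiplication by a nonzero section;
* `exists_tensorPow_isGloballyGenerated` (an invertible module with a nonzero section on an
  integral proper curve has a globally generated positive power),
  `exists_pow_isGloballyGenerated_of_deg_pos` (positive degree implies semiample);
* `exists_isAmple`: an integral proper curve carries an ample invertible module;
* `deg_tensorPow`, `deg_tensorMod`, `deg_eq_of_iso`, `exists_section_tensorPow`.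
-/

set_option autoImplicit false
set_option linter.unusedSectionVars false
set_option linter.style.haveILetI false
universe u
open CategoryTheory CategoryTheory.Limits AlgebraicGeometry TopologicalSpace Opposite

namespace Groth.Agent.Lib.Helper69.AmpleDeg

open Groth.Agent.Lib.Helper11 Groth.Agent.Lib.Helper11.GenLocus Groth.Agent.Lib.Helper45
  Groth.Agent.Lib.Helper49 Groth.Agent.Lib.Helper11.TensorMap Groth.Agent.Lib.Helper67
  Groth.Agent.Lib.Helper67.CurveTors Groth.Agent.Lib.Helper67.CurveDeg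

section General

variable {X : Scheme.{u}}

/-- multiplication by a global section `s` of `M`, as a map `F ⟶ F ⊗ M` -/
noncomputable def mulBy (F : X.Modules) {M : X.Modules} (s : Coh.structureModule X ⟶ M) :
    F ⟶ CohB1.tensorMod F M :=
  (SecTwist.unitorR F).inv ≫ tensorModMap (𝟙 F) s

theorem unitorR_inv_app (F : X.Modules) (V : X.Opens) (a : Γ(F, V)) :
    (SecTwist.unitorR F).inv.app V a = tm F (Coh.structureModule X) V a (toO V 1) := by
  have h1 : (SecTwist.unitorR F).hom.app V (tm F (Coh.structureModule X) V a (toO V 1)) = a := by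
    have := SecTwist.unitorR_tmul F V a 1
    rw [one_smul] at this
    exact this
  have h2 := Groth.Agent.Lib.Helper11.NegPowers.iso_inv_hom_app (SecTwist.unitorR F) V
    (tm F (Coh.structureModule X) V a (toO V 1))
  rw [h1] at h2
  exact h2

theorem mulBy_app (F : X.Modules) {M : X.Modules} (s : Coh.structureModule X ⟶ M) (V : X.Opens)
    (a : Γ(F, V)) : (mulBy F s).app V a = tm F M V a (sec s V) := by
  unfold mulBy
  change (tensorModMap (𝟙 F) s).app V ((SecTwist.unitorR F).inv.app V a) = _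
  rw [unitorR_inv_app, tensorModMap_tm]
  rfl

/-- on `X_s`, multiplication by `s` is bijective on sections -/
theorem mulBy_app_bijective (F : X.Modules) {M : X.Modules} (s : Coh.structureModule X ⟶ M)
    (V : X.Opens) (hV : V ≤ CohB1.genLocus M s) : Function.Bijective ((mulBy F s).app V) := by
  have hb : IsBasisOn M V (sec s V) := (le_genLocus_iff_isBasisOn s V).mp hV
  have h := tm_basis_bijective F M V (sec s V) hb V le_rfl
  have e : (fun m : Γ(F, V) => tm F M V m (mres M (le_refl V) (sec s V))) =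
      fun m => (mulBy F s).app V m := by
    funext m
    rw [mulBy_app, sec_mres]
  rw [e] at h
  exact h

/-- if multiplication by `s` is locally surjective at `x`, then `s` generates `M` at `x` -/
theorem mem_genLocus_of_mulBy_surjective {F M : X.Modules} (hF : PicF.IsInvertible F)
    (hM : PicF.IsInvertible M) (s : Coh.structureModule X ⟶ M) (x : X) (V : X.Opens) (hxV : x ∈ V)
    (h : ∀ V' : X.Opens, V' ≤ V → Function.Surjective ((mulBy F s).app V')) :
    x ∈ CohB1.genLocus M s := by
  obtain ⟨V₁, hxV₁, eF₁, heF₁⟩ := exists_isBasisOn_of_isInvertible hF x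
  obtain ⟨V₂, hxV₂, eM₂, heM₂⟩ := exists_isBasisOn_of_isInvertible hM x
  let W : X.Opens := V₁ ⊓ V₂ ⊓ V
  have hxW : x ∈ W := ⟨⟨hxV₁, hxV₂⟩, hxV⟩
  have hWV₁ : W ≤ V₁ := inf_le_left.trans inf_le_left
  have hWV₂ : W ≤ V₂ := inf_le_left.trans inf_le_right
  have heF : IsBasisOn F W (mres F hWV₁ eF₁) := heF₁.mono hWV₁
  have heM : IsBasisOn M W (mres M hWV₂ eM₂) := heM₂.mono hWV₂
  set eF := mres F hWV₁ eF₁
  set eM := mres M hWV₂ eM₂
  have hFM : IsBasisOn (CohB1.tensorMod F M) W (tm F M W eF eM) := isBasisOn_tm heF heM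
  obtain ⟨f, hf⟩ := heM.exists_eq_smul (sec s W)
  obtain ⟨a, ha⟩ := h W inf_le_right (tm F M W eF eM)
  obtain ⟨r, hr⟩ := heF.exists_eq_smul a
  rw [mulBy_app, ← hr, ← hf, tm_smul_left, tm_smul_right, ← mul_smul] at ha
  have h1 : r * f = 1 := hFM.eq_of_smul_eq (ha.trans (one_smul _ _).symm)
  have hu : IsUnit f := IsUnit.of_mul_eq_one _ ((mul_comm _ _).trans h1)
  have hb : IsBasisOn M W (sec s W) := by
    rw [← hf]
    exact heM.smul_unit f hu
  exact ((le_genLocus_iff_isBasisOn s W).mpr hb) hxW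

/-- multiplication by a nonzero section is nonzero -/
theorem eq_zero_of_mulBy_eq_zero {F M : X.Modules} (hF : PicF.IsInvertible F)
    (hM : PicF.IsInvertible M) (s : Coh.structureModule X ⟶ M) (h : mulBy F s = 0) : s = 0 := by
  have hsec : ∀ U : X.Opens, sec s U = 0 := by
    intro U
    apply section_ext_germ
    intro x hxU
    obtain ⟨V₁, hxV₁, eF₁, heF₁⟩ := exists_isBasisOn_of_isInvertible hF x
    obtain ⟨V₂, hxV₂, eM₂, heM₂⟩ := exists_isBasisOn_of_isInvertible hM x
    let W : X.Opens := V₁ ⊓ V₂ ⊓ U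
    have hxW : x ∈ W := ⟨⟨hxV₁, hxV₂⟩, hxU⟩
    have hWV₁ : W ≤ V₁ := inf_le_left.trans inf_le_left
    have hWV₂ : W ≤ V₂ := inf_le_left.trans inf_le_right
    have hWU : W ≤ U := inf_le_right
    have heF : IsBasisOn F W (mres F hWV₁ eF₁) := heF₁.mono hWV₁
    have heM : IsBasisOn M W (mres M hWV₂ eM₂) := heM₂.mono hWV₂
    set eF := mres F hWV₁ eF₁
    set eM := mres M hWV₂ eM₂
    have hFM : IsBasisOn (CohB1.tensorMod F M) W (tm F M W eF eM) := isBasisOn_tm heF heM
    obtain ⟨f, hf⟩ := heM.exists_eq_smul (sec s W)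
    have h0 : (mulBy F s).app W eF = 0 := by rw [h]; rfl
    rw [mulBy_app, ← hf, tm_smul_right] at h0
    have hf0 : f = 0 := hFM.eq_of_smul_eq (h0.trans (zero_smul _ _).symm)
    have hW0 : sec s W = 0 := by rw [← hf, hf0, zero_smul]
    have h1 : mres M hWU (sec s U) = 0 := by rw [sec_mres, hW0]
    have h2 := congrArg (M.presheaf.germ W x hxW) h1
    rw [mres_apply, TopCat.Presheaf.germ_res_apply, map_zero] at h2
    rw [h2, map_zero]
  ext U a
  change (s.app U).hom (toO U (ofO U a)) = 0
  rw [app_eq_smul_sec, hsec, smul_zero]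

/-- **local analysis**: `μ : P ⟶ Q` a monomorphism of invertible modules which is surjective
on all opens of a neighbourhood `W₀` of the closed point `x` not containing `x`, and not locally
surjective at `x`.  If all global sections of the cokernel lift to `Q`, then `Q` has a global
section generating it at `x`. -/
theorem exists_section_of_lift {P Q : X.Modules} (hP : PicF.IsInvertible P)
    (hQ : PicF.IsInvertible Q) (μ : P ⟶ Q) [Mono μ] (x : X) (hx : IsClosed ({x} : Set X))
    (W₀ : X.Opens) (hxW₀ : x ∈ W₀)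
    (hsurj : ∀ V : X.Opens, V ≤ W₀ → x ∉ V → Function.Surjective (μ.app V))
    (hns : ¬ ∃ V : X.Opens, x ∈ V ∧ ∀ V' : X.Opens, V' ≤ V → Function.Surjective (μ.app V'))
    (hlift : ∀ c : Γ(cokernel μ, ⊤), ∃ t : Γ(Q, ⊤), (cokernel.π μ).app ⊤ t = c) :
    ∃ t : Coh.structureModule X ⟶ Q, x ∈ CohB1.genLocus Q t := by
  classical
  -- local bases
  obtain ⟨V₁, hxV₁, eP₁, heP₁⟩ := exists_isBasisOn_of_isInvertible hP x
  obtain ⟨V₂, hxV₂, eQ₂, heQ₂⟩ := exists_isBasisOn_of_isInvertible hQ x
  let W₁ : X.Opens := V₁ ⊓ V₂ ⊓ W₀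
  have hxW₁ : x ∈ W₁ := ⟨⟨hxV₁, hxV₂⟩, hxW₀⟩
  have hW₁V₁ : W₁ ≤ V₁ := inf_le_left.trans inf_le_left
  have hW₁V₂ : W₁ ≤ V₂ := inf_le_left.trans inf_le_right
  have hW₁W₀ : W₁ ≤ W₀ := inf_le_right
  let eP : Γ(P, W₁) := mres P hW₁V₁ eP₁
  let eQ : Γ(Q, W₁) := mres Q hW₁V₂ eQ₂
  have heP : IsBasisOn P W₁ eP := heP₁.mono hW₁V₁
  have heQ : IsBasisOn Q W₁ eQ := heQ₂.mono hW₁V₂
  obtain ⟨b, hb⟩ := heQ.exists_eq_smul (μ.app W₁ eP)
  -- `b` vanishes at `x`
  have hbx : x ∉ X.basicOpen b := by
    intro hxb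
    apply hns
    refine ⟨X.basicOpen b, hxb, fun V' hV' q => ?_⟩
    have hV'W₁ : V' ≤ W₁ := hV'.trans (X.basicOpen_le b)
    obtain ⟨r, hr⟩ := (heQ.mono hV'W₁).exists_eq_smul q
    have hu : IsUnit (fres hV' (fres (X.basicOpen_le b) b)) :=
      (RingedSpace.isUnit_res_basicOpen _ b).map _
    obtain ⟨u, hu'⟩ := hu
    refine ⟨(r * ((u⁻¹ : (Γ(X, V'))ˣ) : Γ(X, V'))) • mres P hV'W₁ eP, ?_⟩
    rw [Scheme.Modules.Hom.app_smul, app_mres, ← hb, mres_smul, ← hr, ← mul_smul]
    congr 1
    rw [fres_fres] at hu'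
    rw [← hu', mul_assoc, Units.inv_mul, mul_one]
  -- the global section of the cokernel
  let C := cokernel μ
  let π : Q ⟶ C := cokernel.π μ
  let Ux : X.Opens := ⟨({x} : Set X)ᶜ, hx.isOpen_compl⟩
  have hcov : W₁ ⊔ Ux = ⊤ := by
    ext y
    simp only [Opens.coe_sup, Opens.coe_top, Set.mem_union, Set.mem_univ, iff_true]
    by_cases hy : y = x
    · left; rw [hy]; exact hxW₁
    · right; exact hy
  have hπμ : ∀ (V : X.Opens) (p : Γ(P, V)), π.app V (μ.app V p) = 0 := by
    intro V p
    have h0 : μ ≫ π = 0 := cokernel.condition μ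
    have := congrArg (fun φ : P ⟶ C => φ.app V p) h0
    simpa using this
  have hglue : mres C (inf_le_left : W₁ ⊓ Ux ≤ W₁) (π.app W₁ eQ) =
      mres C (inf_le_right : W₁ ⊓ Ux ≤ Ux) 0 := by
    rw [map_zero, ← app_mres]
    obtain ⟨p, hp⟩ := hsurj (W₁ ⊓ Ux) (inf_le_left.trans hW₁W₀) (fun h => h.2 rfl)
      (mres Q (inf_le_left : W₁ ⊓ Ux ≤ W₁) eQ)
    rw [← hp, hπμ]
  obtain ⟨c, hc₁, -⟩ := exists_glue_two C W₁ Ux hcov (π.app W₁ eQ) 0 hglue
  obtain ⟨t, ht⟩ := hlift c
  -- compare `t` and `eQ` on `W₁`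
  have hS : (ShortComplex.mk μ π (cokernel.condition μ)).ShortExact :=
    ⟨ShortComplex.exact_of_g_is_cokernel _ (cokernelIsCokernel _)⟩
  have hex := app_exact_of_shortExact _ hS W₁
  have hker : π.app W₁ (mres Q le_top t - eQ) = 0 := by
    rw [map_sub, app_mres, ht, hc₁, sub_self]
  obtain ⟨p, hp⟩ := (hex _).mp hker
  obtain ⟨a, ha⟩ := heP.exists_eq_smul p
  have ht' : mres Q (le_top : W₁ ≤ ⊤) t = (1 + a * b) • eQ := by
    have h1 : μ.app W₁ p = (a * b) • eQ := by
      rw [← ha, Scheme.Modules.Hom.app_smul, ← hb, mul_smul]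
    have h2 : mres Q (le_top : W₁ ≤ ⊤) t = eQ + μ.app W₁ p := by
      change (ShortComplex.mk μ π (cokernel.condition μ)).f.app W₁ p = _ at hp
      simp only at hp
      rw [hp]; abel
    rw [h2, h1, add_smul, one_smul]
  refine ⟨homOfSection Q t, ?_⟩
  have hle := basicOpen_le_genLocus (homOfSection Q t) eQ heQ (1 + a * b)
    ((sec_homOfSection Q t W₁).trans ht')
  apply hle
  rw [X.mem_basicOpen _ x hxW₁] at hbx ⊢
  rw [map_add, map_one, map_mul]
  have hmem : (X.presheaf.germ W₁ x hxW₁).hom a * (X.presheaf.germ W₁ x hxW₁).hom b ∈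
      IsLocalRing.maximalIdeal (X.presheaf.stalk x) :=
    Ideal.mul_mem_left _ _ ((IsLocalRing.mem_maximalIdeal _).mpr hbx)
  have := IsLocalRing.isUnit_one_sub_self_of_mem_nonunits _
    ((IsLocalRing.mem_maximalIdeal _).mp (Ideal.neg_mem_iff _ |>.mpr hmem))
  simpa using this

/-- an invertible module with a section generating it at every point is globally generated -/
theorem isGloballyGenerated_of_forall_mem_genLocus {T : X.Modules}
    (h : ∀ x : X, ∃ t : Coh.structureModule X ⟶ T, x ∈ CohB1.genLocus T t) :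
    Curv2.IsGloballyGenerated T := by
  apply isGloballyGenerated_of_genOn_top
  intro V _ a x hxV
  obtain ⟨t, hxt⟩ := h x
  let W : X.Opens := V ⊓ CohB1.genLocus T t
  have hWV : W ≤ V := inf_le_left
  refine ⟨W, hWV, ⟨hxV, hxt⟩, ?_⟩
  have hb : IsBasisOn T W (sec t W) := (le_genLocus_iff_isBasisOn t W).mp inf_le_right
  obtain ⟨r, hr⟩ := hb.exists_eq_smul (mres T hWV a)
  rw [← hr]
  apply Submodule.smul_mem
  apply Submodule.subset_span
  exact ⟨sec t ⊤, sec_mres t le_top⟩

/-- the natural identification of `H⁰` with global sections turns surjectivity on `H⁰` into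
liftability of global sections -/
theorem exists_lift_of_HH_surjective {Q C : X.Modules} (π : Q ⟶ C)
    (h : Function.Surjective
      (Sheaf.H.map ((SheafOfModules.toSheaf X.ringCatSheaf).map π) 0))
    (c : Γ(C, ⊤)) : ∃ t : Γ(Q, ⊤), π.app ⊤ t = c := by
  obtain ⟨y, hy⟩ := h ((Groth.Agent.Lib.Helper17.HZero.hh0Equiv C).symm c)
  refine ⟨Groth.Agent.Lib.Helper17.HZero.hh0Equiv Q y, ?_⟩
  have h2 := CategoryTheory.Sheaf.H.equiv₀_naturality
    (CategoryTheory.Limits.isTerminalTop (α := TopologicalSpace.Opens X))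
    ((SheafOfModules.toSheaf X.ringCatSheaf).map π) y
  rw [hy] at h2
  refine Eq.trans ?_ (h2.trans ?_)
  · rfl
  · exact (Groth.Agent.Lib.Helper17.HZero.hh0Equiv C).apply_symm_apply c

end General

section Curve
variable (k : Type u) [Field k] (X : Scheme.{u}) [X.Over (Spec (CommRingCat.of k))]
  [IsProper (X ↘ Spec (CommRingCat.of k))] [IsIntegral X]

omit [IsProper (X ↘ Spec (CommRingCat.of k))] in
theorem genericPoint_mem_genLocus {M : X.Modules} (hM : PicF.IsInvertible M)
    (s : Coh.structureModule X ⟶ M) (hs : s ≠ 0) : genericPoint X ∈ CohB1.genLocus M s := by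
  by_contra hξ
  apply hs
  obtain ⟨V, hξV, e, he⟩ := exists_isBasisOn_of_isInvertible hM (genericPoint X)
  obtain ⟨f, hf⟩ := he.exists_eq_smul (sec s V)
  have hfξ : genericPoint X ∉ X.basicOpen f :=
    fun h => hξ (basicOpen_le_genLocus s e he f hf.symm h)
  have hf0 : f = 0 := by
    rw [X.mem_basicOpen _ _ hξV] at hfξ
    letI : Field (X.presheaf.stalk (genericPoint X)) := inferInstanceAs (Field X.functionField)
    have h0 : (X.presheaf.germ V (genericPoint X) hξV).hom f = 0 := by
      by_contra hne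
      exact hfξ (isUnit_iff_ne_zero.mpr hne)
    apply germ_injective_of_isIntegral X (genericPoint X) hξV
    rw [h0, map_zero]
  have hV0 : sec s V = 0 := by rw [← hf, hf0, zero_smul]
  have hLF : FlatMod.IsFinLocFree M := isFinLocFree_of_rank (rank_one_of_isInvertible hM)
  have hsec : ∀ U : X.Opens, sec s U = 0 := by
    intro U
    by_cases hξU : genericPoint X ∈ U
    · apply germ_injective_of_isFinLocFree hLF U hξU
      rw [map_zero]
      have h1 : mres M (inf_le_left : U ⊓ V ≤ U) (sec s U) =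
          mres M (inf_le_right : U ⊓ V ≤ V) (sec s V) := by rw [sec_mres, sec_mres]
      rw [hV0, map_zero] at h1
      have h2 := congrArg (M.presheaf.germ (U ⊓ V) (genericPoint X) ⟨hξU, hξV⟩) h1
      rw [mres_apply, TopCat.Presheaf.germ_res_apply, map_zero] at h2
      exact h2
    · exact eq_of_genericPoint_not_mem U hξU _ _
  ext U a
  change (s.app U).hom (toO U (ofO U a)) = 0
  rw [app_eq_smul_sec, hsec, smul_zero]

omit [IsProper (X ↘ Spec (CommRingCat.of k))] in
theorem isClosed_singleton_of_ne_genericPoint (hdim : topologicalKrullDim X ≤ 1) (x : X)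
    (hx : x ≠ genericPoint X) : IsClosed ({x} : Set X) := by
  rw [← closure_eq_iff_isClosed]
  apply subset_antisymm _ subset_closure
  intro y hy
  have hsp : x ⤳ y := specializes_iff_mem_closure.mpr hy
  rcases CurveP1.eq_or_eq_genericPoint_of_specializes hdim hsp with h | h
  · exact h.symm
  · exact absurd h hx

include k in
/-- **stabilisation of `H¹`** along multiplication by a nonzero section -/
theorem exists_stable (hdim : topologicalKrullDim X ≤ 1) {M : X.Modules}
    (hM : PicF.IsInvertible M) (s : Coh.structureModule X ⟶ M) (hs : s ≠ 0) :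
    ∃ n : ℕ, Function.Surjective (Sheaf.H.map ((SheafOfModules.toSheaf X.ringCatSheaf).map
      (cokernel.π (mulBy (CohB1.tensorPow M n) s))) 0) := by
  classical
  have hQ : ∀ n, PicF.IsInvertible (CohB1.tensorPow M n) := fun n => isInvertible_tensorPow hM n
  have hQ1 : ∀ n, FlatMod.IsFinLocFreeOfRank 1 (CohB1.tensorPow M n) :=
    fun n => rank_one_of_isInvertible (hQ n)
  let μ : ∀ n, CohB1.tensorPow M n ⟶ CohB1.tensorPow M (n + 1) :=
    fun n => mulBy (CohB1.tensorPow M n) s
  have hμ : ∀ n, μ n ≠ 0 := fun n h => hs (eq_zero_of_mulBy_eq_zero (hQ n) hM s h)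
  have hbij : ∀ n, Function.Bijective (stalkMap (μ n) (genericPoint X)).hom :=
    fun n => stalkMap_generic_bijective_of_ne_zero (hQ1 n) (hQ1 (n + 1)) (μ n) (hμ n)
  have hmono : ∀ n, Mono (μ n) := fun n =>
    mono_of_stalkMap_generic_injective (isFinLocFree_of_rank (hQ1 n)) (μ n) (hbij n).1
  have hS : ∀ n, (ShortComplex.mk (μ n) (cokernel.π (μ n)) (cokernel.condition (μ n))).ShortExact :=
    fun n => by
      haveI := hmono n
      exact ⟨ShortComplex.exact_of_g_is_cokernel _ (cokernelIsCokernel _)⟩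
  have hC1 : ∀ n, Subsingleton (Coh.HH X (cokernel (μ n)) 1) := fun n => by
    have hNcoh := isCoh_of_rank (hQ1 n)
    have hLcoh := isCoh_of_rank (hQ1 (n + 1))
    have hQcoh : Coh.IsCoh (cokernel (μ n)) :=
      ⟨isQuasicoherent_cokernel (μ n) hNcoh.1 hLcoh.1,
        isFiniteType_of_epi (cokernel.π (μ n)) hLcoh.2⟩
    have hQξ : Subsingleton ((cokernel (μ n)).presheaf.stalk (genericPoint X)) :=
      (subsingleton_stalk_cokernel_iff (μ n) (genericPoint X)).mpr (hbij n).2
    exact subsingleton_HH_one_of_stalk k X hdim (cokernel (μ n)) hQcoh hQξ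
  have hfin : ∀ n, Module.Finite k (Coh.HH X (CohB1.tensorPow M n) 1) := fun n =>
    CurveInv.finite_HH_of_coh k X hdim _ (isCoh_of_rank (hQ1 n)) 1
  have hsurj : ∀ n, Function.Surjective (Canon.HHlin k (μ n) 1) := fun n y => by
    haveI := hC1 n
    exact HHLES.exists_of_HHlin_g_eq_zero k (hS n) 1 y (Subsingleton.elim _ _)
  let r : ℕ → ℕ := fun n => Module.finrank k (Coh.HH X (CohB1.tensorPow M n) 1)
  have hr : ∀ n, r (n + 1) ≤ r n := fun n => by
    haveI := hfin n
    exact LinearMap.finrank_le_finrank_of_surjective (hsurj n)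
  obtain ⟨n, hn⟩ : ∃ n, r (n + 1) = r n := by
    by_contra hne
    push Not at hne
    have hlt : ∀ n, r (n + 1) < r n := fun n => lt_of_le_of_ne (hr n) (hne n)
    have hb : ∀ n, r n + n ≤ r 0 := by
      intro n
      induction n with
      | zero => simp
      | succ n ih => have := hlt n; omega
    have := hb (r 0 + 1)
    omega
  refine ⟨n, ?_⟩
  haveI := hfin n
  haveI := hfin (n + 1)
  have hinj : Function.Injective (Canon.HHlin k (μ n) 1) :=
    (LinearMap.injective_iff_surjective_of_finrank_eq_finrank hn.symm).mpr (hsurj n)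
  intro c
  have hd : Groth.Agent.Lib.Helper17.HHLinLES.deltaLin k (hS n) 0 c = 0 := by
    apply hinj
    rw [map_zero]
    exact HHLES.HHlin_f_comp_delta k (hS n) 0 c
  obtain ⟨y, hy⟩ := Groth.Agent.Lib.Helper17.HHLinLES.exists_of_deltaLin_eq_zero k (hS n) 0 c hd
  exact ⟨y, hy⟩

omit [IsProper (X ↘ Spec (CommRingCat.of k))] in
theorem mono_mulBy {F M : X.Modules} (hF : PicF.IsInvertible F) (hM : PicF.IsInvertible M)
    (s : Coh.structureModule X ⟶ M) (hs : s ≠ 0) : Mono (mulBy F s) := by
  have hF1 := rank_one_of_isInvertible hF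
  have hFM1 := rank_one_of_isInvertible (isInvertible_tensorMod hF hM)
  have hμ : mulBy F s ≠ 0 := fun h => hs (eq_zero_of_mulBy_eq_zero hF hM s h)
  exact mono_of_stalkMap_generic_injective (isFinLocFree_of_rank hF1) _
    (stalkMap_generic_bijective_of_ne_zero hF1 hFM1 _ hμ).1

include k in
/-- **Lemma G**: on an integral proper curve, an invertible module with a nonzero section has a
globally generated positive power -/
theorem exists_tensorPow_isGloballyGenerated (hdim : topologicalKrullDim X ≤ 1) {M : X.Modules}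
    (hM : PicF.IsInvertible M) (s : Coh.structureModule X ⟶ M) (hs : s ≠ 0) :
    ∃ n : ℕ, Curv2.IsGloballyGenerated (CohB1.tensorPow M (n + 1)) := by
  classical
  obtain ⟨n, hn⟩ := exists_stable k X hdim hM s hs
  have hQ : ∀ n, PicF.IsInvertible (CohB1.tensorPow M n) := fun n => isInvertible_tensorPow hM n
  refine ⟨n, isGloballyGenerated_of_forall_mem_genLocus fun x => ?_⟩
  by_cases hx : x ∈ CohB1.genLocus M s
  · exact ⟨SecTwist.powHom s (n + 1), by rw [genLocus_powHom hM s n]; exact hx⟩
  · have hξ := genericPoint_mem_genLocus X hM s hs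
    have hne : ∀ y : X, y ∉ CohB1.genLocus M s → y ≠ genericPoint X := fun y hy h => hy (h ▸ hξ)
    have hcl := isClosed_singleton_of_ne_genericPoint X hdim x (hne x hx)
    haveI : IsNoetherian X := CurveP1.isNoetherian_of_proper k (X ↘ Spec (CommRingCat.of k))
    let Zs : Set X := ((CohB1.genLocus M s : X.Opens) : Set X)ᶜ
    have hZfin : Zs.Finite := by
      refine Groth.Agent.Lib.Helper24.finite_of_isClosed_of_ne_univ hdim Zs
        (CohB1.genLocus M s).isOpen.isClosed_compl ?_
      intro h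
      have : genericPoint X ∈ Zs := h ▸ Set.mem_univ _
      exact this hξ
    have hZcl : IsClosed (Zs \ {x}) := by
      have h1 : Zs \ {x} = ⋃ y ∈ Zs \ {x}, ({y} : Set X) := (Set.biUnion_of_singleton _).symm
      rw [h1]
      exact (hZfin.subset Set.sdiff_subset).isClosed_biUnion fun y hy =>
        isClosed_singleton_of_ne_genericPoint X hdim y (hne y hy.1)
    let W₀ : X.Opens := ⟨(Zs \ {x})ᶜ, hZcl.isOpen_compl⟩
    have hxW₀ : x ∈ W₀ := fun h => h.2 rfl
    haveI : Mono (mulBy (CohB1.tensorPow M n) s) := mono_mulBy X (hQ n) hM s hs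
    refine exists_section_of_lift (P := CohB1.tensorPow M n)
      (Q := CohB1.tensorMod (CohB1.tensorPow M n) M) (hQ n) (hQ (n + 1))
      (mulBy (CohB1.tensorPow M n) s) x hcl W₀ hxW₀
      ?_ ?_ (exists_lift_of_HH_surjective _ hn)
    · intro V hV hxV
      refine (mulBy_app_bijective _ s V ?_).2
      intro y hy
      by_contra hys
      exact hV hy ⟨hys, fun h => hxV (h ▸ hy)⟩
    · rintro ⟨V, hxV, h⟩
      exact hx (mem_genLocus_of_mulBy_surjective (hQ n) hM s x V hxV h)

end Curve

section Degree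

variable (k : Type u) [Field k] (X : Scheme.{u}) [X.Over (Spec (CommRingCat.of k))]
  [IsProper (X ↘ Spec (CommRingCat.of k))]

theorem deg_structureModule : Curv2.deg k X (Coh.structureModule X) 1 = 0 := by
  unfold Curv2.deg
  simp

theorem deg_tensorPow (hdim : topologicalKrullDim X ≤ 1) {L : X.Modules}
    (hL : PicF.IsInvertible L) (n : ℕ) :
    Curv2.deg k X (CohB1.tensorPow L n) 1 = n * Curv2.deg k X L 1 := by
  induction n with
  | zero =>
    change Curv2.deg k X (Coh.structureModule X) 1 = _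
    rw [deg_structureModule]
    simp
  | succ n ih =>
    have h1 := Groth.Agent.S7637.result k X hdim 1 1 (CohB1.tensorPow L n) L
      (CurveTors.rank_one_of_isInvertible (isInvertible_tensorPow hL n))
      (CurveTors.rank_one_of_isInvertible hL)
    change Curv2.deg k X (CohB1.tensorMod (CohB1.tensorPow L n) L) 1 = _
    simp only [Nat.cast_one, one_mul] at h1
    rw [h1, ih]
    push_cast
    ring

include k in
/-- a proper curve is not affine, so no `X_s` which is affine can be everything -/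
theorem exists_not_mem_of_isAffineOpen (hdim : topologicalKrullDim X = 1) (U : X.Opens)
    (hU : IsAffineOpen U) : ∃ y : X, y ∉ U := by
  by_contra hall
  push Not at hall
  have htop : U = ⊤ := by
    ext z
    simp only [Opens.coe_top, Set.mem_univ, iff_true]
    exact hall z
  haveI : IsAffine X := by
    rw [htop] at hU
    haveI : IsAffine (⊤ : X.Opens).toScheme := hU
    exact .of_isIso (Scheme.topIso X).inv
  have := CurveP1.dim_le_zero_of_affine_proper k (X ↘ Spec (CommRingCat.of k))
  rw [hdim] at this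
  exact absurd this (by norm_num)

theorem deg_pos_of_isAmple [IsIntegral X] (hdim : topologicalKrullDim X = 1) (L : X.Modules)
    (hamp : CohB1.IsAmple L) : 0 < Curv2.deg k X L 1 := by
  obtain ⟨hL, -, h⟩ := hamp
  obtain ⟨n, s, hx, haff⟩ := h (genericPoint X)
  have hs : s ≠ 0 := by
    rintro rfl
    rw [Groth.Agent.Lib.Helper17.PnToPm.genLocus_zero] at hx
    exact hx
  obtain ⟨y, hy⟩ := exists_not_mem_of_isAffineOpen k X hdim _ haff
  have h1 := Groth.Agent.S1519.result k X hdim _ (isInvertible_tensorPow hL (n + 1)) s hs y hy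
  rw [deg_tensorPow k X hdim.le hL] at h1
  have h2 : (0 : ℤ) < ((n + 1 : ℕ) : ℤ) := by positivity
  by_contra hneg
  push Not at hneg
  nlinarith

/-- Riemann–Roch lower bound: positive degree gives a nonzero section of a positive power -/
theorem exists_section_tensorPow (hdim : topologicalKrullDim X ≤ 1) {L : X.Modules}
    (hL : PicF.IsInvertible L) (hdeg : 0 < Curv2.deg k X L 1) :
    ∃ (m : ℕ) (s : Coh.structureModule X ⟶ CohB1.tensorPow L (m + 1)), s ≠ 0 := by
  set χ := Curv2.euler k X (Coh.structureModule X) with hχ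
  let m : ℕ := (1 - χ).toNat
  refine ⟨m, ?_⟩
  have hcoh : Coh.IsCoh (CohB1.tensorPow L (m + 1)) :=
    CurveDeg.isCoh_of_rank (CurveTors.rank_one_of_isInvertible (isInvertible_tensorPow hL (m + 1)))
  have h1 := deg_tensorPow k X hdim hL (m + 1)
  have h2 := CurveInv.euler_eq_of_coh k X hdim _ hcoh
  have h0 : Curv2.deg k X (CohB1.tensorPow L (m + 1)) 1 =
      Curv2.euler k X (CohB1.tensorPow L (m + 1)) - χ := by
    unfold Curv2.deg
    simp [hχ]
  rw [h0] at h1
  have hd : (1 : ℤ) ≤ Curv2.deg k X L 1 := hdeg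
  have hm : (1 - χ) ≤ (m : ℤ) := Int.self_le_toNat _
  have h3 : 0 < (Module.finrank k (Coh.HH X (CohB1.tensorPow L (m + 1)) 0) : ℤ) := by
    have h4 : (0 : ℤ) ≤ Module.finrank k (Coh.HH X (CohB1.tensorPow L (m + 1)) 1) := by positivity
    push_cast at h1
    nlinarith
  have h5 : 0 < Module.finrank k (Coh.HH X (CohB1.tensorPow L (m + 1)) 0) := by exact_mod_cast h3
  haveI : Nontrivial (Coh.HH X (CohB1.tensorPow L (m + 1)) 0) :=
    Module.nontrivial_of_finrank_pos (R := k) h5
  exact CurveInv.exists_hom_ne_zero_of_nontrivial _ inferInstance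

omit [IsProper (X ↘ Spec (CommRingCat.of k))] in
theorem deg_eq_of_iso {M N : X.Modules} (e : M ≅ N) (n : ℕ) :
    Curv2.deg k X M n = Curv2.deg k X N n := by
  unfold Curv2.deg
  rw [TensRank.euler_eq_of_iso k e]

omit [IsProper (X ↘ Spec (CommRingCat.of k))] in
theorem isGloballyGenerated_of_iso {M N : X.Modules} (e : M ≅ N)
    (h : Curv2.IsGloballyGenerated M) : Curv2.IsGloballyGenerated N := by
  obtain ⟨ι, p, hp⟩ := h
  exact ⟨ι, p ≫ e.hom, epi_comp _ _⟩

theorem deg_tensorMod (hdim : topologicalKrullDim X ≤ 1) {A B : X.Modules}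
    (hA : PicF.IsInvertible A) (hB : PicF.IsInvertible B) :
    Curv2.deg k X (CohB1.tensorMod A B) 1 = Curv2.deg k X A 1 + Curv2.deg k X B 1 := by
  have h1 := Groth.Agent.S7637.result k X hdim 1 1 A B
    (rank_one_of_isInvertible hA) (rank_one_of_isInvertible hB)
  simp only [Nat.cast_one, one_mul] at h1
  rw [h1]
  ring

/-- **positive degree implies semiample** -/
theorem exists_pow_isGloballyGenerated_of_deg_pos [IsIntegral X]
    (hdim : topologicalKrullDim X ≤ 1) {B : X.Modules}
    (hB : PicF.IsInvertible B) (hdeg : 0 < Curv2.deg k X B 1) :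
    ∃ n : ℕ, 0 < n ∧ Curv2.IsGloballyGenerated (CohB1.tensorPow B n) := by
  obtain ⟨m, s, hs⟩ := exists_section_tensorPow k X hdim hB hdeg
  obtain ⟨n, hn⟩ := exists_tensorPow_isGloballyGenerated k X hdim
    (isInvertible_tensorPow hB (m + 1)) s hs
  exact ⟨(m + 1) * (n + 1), Nat.mul_pos (Nat.succ_pos _) (Nat.succ_pos _),
    isGloballyGenerated_of_iso X (tensorPowMul B (m + 1) (n + 1)) hn⟩

include k in
/-- an integral proper curve carries an ample invertible module -/
theorem exists_isAmple [IsIntegral X] (hdim : topologicalKrullDim X = 1) :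
    ∃ N : X.Modules, CohB1.IsAmple N := by
  obtain ⟨φ, hφ, hfin⟩ := CurveP1.exists_finite_to_P1 k (X ↘ Spec (CommRingCat.of k)) hdim
  haveI := hfin
  haveI : IsProper (CohB1.ProjSpace.toSpec 1 k) :=
    Groth.Agent.Lib.Helper17.ProjSpaceProper.isProper_toSpec 1 k
  have hamp := Groth.Agent.Lib.Helper17.VeryAmpleAmple.isAmple_O1 1 k
  exact ⟨_, Groth.Agent.S17806.result k (CohB1.ProjSpace.toSpec 1 k)
    (X ↘ Spec (CommRingCat.of k)) φ hφ _ hamp.1 hamp⟩

theorem isAmple_of_deg_pos [IsIntegral X] (hdim : topologicalKrullDim X = 1) (L : X.Modules)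
    (hL : PicF.IsInvertible L) (hdeg : 0 < Curv2.deg k X L 1) : CohB1.IsAmple L := by
  obtain ⟨N, hN⟩ := exists_isAmple k X hdim
  haveI : CompactSpace X := hN.2.1
  have hdN := deg_pos_of_isAmple k X hdim N hN
  obtain ⟨N', hN', ⟨e⟩⟩ := Groth.Agent.Lib.Helper11.NegPowers.exists_inverse hN.1
  -- degrees
  have hdN' : Curv2.deg k X N' 1 = - Curv2.deg k X N 1 := by
    have h1 := deg_tensorMod k X hdim.le hN' hN.1
    rw [deg_eq_of_iso k X e, deg_structureModule] at h1
    linarith
  let a : ℕ := (Curv2.deg k X N 1).toNat + 1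
  have ha : 0 < a := Nat.succ_pos _
  have hLa := isInvertible_tensorPow hL a
  let B : X.Modules := CohB1.tensorMod N' (CohB1.tensorPow L a)
  have hB : PicF.IsInvertible B := isInvertible_tensorMod hN' hLa
  have hdB : 0 < Curv2.deg k X B 1 := by
    rw [deg_tensorMod k X hdim.le hN' hLa, hdN', deg_tensorPow k X hdim.le hL]
    have h1 : (Curv2.deg k X N 1) ≤ ((Curv2.deg k X N 1).toNat : ℤ) := Int.self_le_toNat _
    have h2 : (1 : ℤ) ≤ Curv2.deg k X L 1 := hdeg
    have h3 : ((a : ℕ) : ℤ) = ((Curv2.deg k X N 1).toNat : ℤ) + 1 := by simp [a]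
    rw [h3]
    nlinarith
  obtain ⟨n, hn, hgg⟩ := exists_pow_isGloballyGenerated_of_deg_pos k X hdim.le hB hdB
  have h1 : CohB1.IsAmple (CohB1.tensorMod N B) :=
    Groth.Agent.Lib.Helper11.AmpleTensorGG.isAmple_tensorMod_of_pow_isGloballyGenerated hN hB n hn hgg
  let ι : CohB1.tensorMod N B ≅ CohB1.tensorPow L a :=
    (tensorModAssoc N N' (CohB1.tensorPow L a)).symm ≪≫
      tensorModCongr (tensorModBraid N N' ≪≫ e) (Iso.refl _) ≪≫ unitTensorIso _
  have h2 : CohB1.IsAmple (CohB1.tensorPow L a) := isAmple_of_iso ι h1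
  exact (Groth.Agent.S2327.main_S2327 X L hL a ha).mpr h2

end Degree

end Groth.Agent.Lib.Helper69.AmpleDeg
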