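import Mathlib
import Groth.Agent.S0593
import Groth.Agent.S7661
import Groth.Agent.Lib.Helper37.PrimeAvoidOpen
import Groth.Agent.Lib.Helper69.FlatMono

set_option autoImplicit false
universe u
open CategoryTheory CategoryTheory.Limits AlgebraicGeometry TopologicalSpace

namespace Groth.Agent.Lib.Helper69.ClosedCover

/-- Lifting along a surjective ring hom avoiding finitely many primes not containing the kernel. -/
theorem exists_lift_notMem {A B : Type u} [CommRing A] [CommRing B] (φ : A →+* B)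
    (hφ : Function.Surjective φ) (s : Finset (Ideal A)) (hs : ∀ p ∈ s, p.IsPrime)
    (hI : ∀ p ∈ s, ¬ RingHom.ker φ ≤ p) (b : B) :
    ∃ a : A, φ a = b ∧ ∀ p ∈ s, a ∉ p := by
  obtain ⟨a0, ha0⟩ := hφ b
  obtain ⟨a, ha, hap⟩ := Groth.Agent.S7661.result A (RingHom.ker φ) s hs hI
    (Ideal.Quotient.mk _ a0)
  refine ⟨a, ?_, hap⟩
  have h1 : a - a0 ∈ RingHom.ker φ := Ideal.Quotient.eq.mp ha
  rw [RingHom.mem_ker, map_sub, sub_eq_zero] at h1
  rw [h1, ha0]

/-- A scheme covered by two affine closed subschemes is affine. -/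
theorem isAffine_of_closed_cover {O O₁ O₂ : Scheme.{u}} (a : O₁ ⟶ O) (b : O₂ ⟶ O)
    [IsClosedImmersion a] [IsClosedImmersion b] [IsAffine O₁] [IsAffine O₂]
    (h : Set.range a ∪ Set.range b = Set.univ) : IsAffine O := by
  have : Surjective (coprod.desc a b) := ⟨fun x => by
    rcases (h ▸ Set.mem_univ x : x ∈ Set.range a ∪ Set.range b) with ⟨y, rfl⟩ | ⟨y, rfl⟩
    · exact ⟨(coprod.inl : O₁ ⟶ O₁ ⨿ O₂) y, by
        rw [← Scheme.Hom.comp_apply, coprod.inl_desc]⟩
    · exact ⟨(coprod.inr : O₂ ⟶ O₁ ⨿ O₂) y, by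
        rw [← Scheme.Hom.comp_apply, coprod.inr_desc]⟩⟩
  exact Groth.Agent.S0593.result (O₁ ⨿ O₂) O (coprod.desc a b)

/-- Closed immersion from an affine scheme: a point outside the range has a prime not containing
the kernel of the map on global sections. -/
theorem not_ker_le_of_notMem_range {S P : Scheme.{u}} [IsAffine S] (q : P ⟶ S)
    [IsClosedImmersion q] (x : S) (hx : x ∉ Set.range q) :
    ¬ RingHom.ker q.appTop.hom ≤ ((isAffineOpen_top S).primeIdealOf ⟨x, trivial⟩).asIdeal := by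
  intro hle
  have hS := isAffineOpen_top S
  have : IsAffine P := (IsClosedImmersion.isAffine_surjective_of_isAffine q).1
  have hcl : IsClosed (Set.range q) := q.isClosedEmbedding.isClosed_range
  obtain ⟨h, hle', hxh⟩ := hS.exists_basicOpen_le
    (V := ⟨(Set.range q)ᶜ, hcl.isOpen_compl⟩) ⟨x, hx⟩ trivial
  have hbot : P.basicOpen (q.appTop.hom h) = ⊥ := by
    rw [← Scheme.preimage_basicOpen_top]
    ext p
    simp only [Opens.coe_bot, Set.mem_empty_iff_false, iff_false]
    intro hp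
    exact hle' hp ⟨p, rfl⟩
  rw [← Scheme.isNilpotent_iff_basicOpen_eq_bot] at hbot
  obtain ⟨n, hn⟩ := hbot
  have h1 : h ^ n ∈ RingHom.ker q.appTop.hom := by
    rw [RingHom.mem_ker, map_pow]; exact hn
  have h2 := (hS.primeIdealOf ⟨x, trivial⟩).isPrime.mem_of_pow_mem n (hle h1)
  exact (FlatMono.mem_basicOpen_iff_notMem_primeIdealOf hS x trivial h).mp hxh h2

/-- **Gluing affine opens along a closed cover.**  If `Y` is covered by two closed subschemes
`Y₁`, `Y₂` and a finite set `T` of points has its traces on `Y₁` and `Y₂` contained in affine opens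
of `Y₁` resp. `Y₂`, then `T` is contained in an affine open of `Y`. -/
theorem exists_affineOpen_of_closed_cover {Y Y₁ Y₂ : Scheme.{u}} (i : Y₁ ⟶ Y) (j : Y₂ ⟶ Y)
    [IsClosedImmersion i] [IsClosedImmersion j]
    (hcov : Set.range i ∪ Set.range j = Set.univ) (T : Finset Y)
    (U : Y₁.Opens) (hU : IsAffineOpen U) (hTU : ∀ y : Y₁, i y ∈ T → y ∈ U)
    (V : Y₂.Opens) (hV : IsAffineOpen V) (hTV : ∀ y : Y₂, j y ∈ T → y ∈ V) :
    ∃ O : Y.Opens, IsAffineOpen O ∧ ∀ t ∈ T, t ∈ O := by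
  classical
  have hi : Function.Injective i := i.isClosedEmbedding.injective
  have hj : Function.Injective j := j.isClosedEmbedding.injective
  set T₁ : Set Y₁ := i ⁻¹' (T : Set Y) with hT₁def
  have hT₁ : T₁.Finite := T.finite_toSet.preimage hi.injOn
  set T₂ : Set Y₂ := j ⁻¹' (T : Set Y) with hT₂def
  have hT₂ : T₂.Finite := T.finite_toSet.preimage hj.injOn
  -- Step A: shrink `U`
  obtain ⟨OV, hOVo, hOV⟩ := j.isClosedEmbedding.isInducing.isOpen_iff.mp V.2
  let O₁ : Y₁.Opens := ⟨i ⁻¹' (OV ∪ (Set.range j)ᶜ),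
    (hOVo.union j.isClosedEmbedding.isClosed_range.isOpen_compl).preimage i.continuous⟩
  obtain ⟨f₀, hf₀T, hf₀O⟩ := Helper37.exists_basicOpen_le_of_finite_of_isAffineOpen hU O₁ T₁ hT₁
    (fun y hy => hTU y hy) (fun y hy => by
      show i y ∈ OV ∪ (Set.range j)ᶜ
      by_cases h : i y ∈ Set.range j
      · obtain ⟨v, hv⟩ := h
        left
        have hvV : v ∈ V := hTV v (by rw [hv]; exact hy)
        rw [← hv]
        have : v ∈ j ⁻¹' OV := by rw [hOV]; exact hvV
        exact this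
      · right; exact h)
  set U' : Y₁.Opens := Y₁.basicOpen f₀ with hU'def
  have hU' : IsAffineOpen U' := hU.basicOpen f₀
  have hUV : ∀ y ∈ U', ∀ v, j v = i y → v ∈ V := by
    intro y hy v hv
    have h1 : i y ∈ OV ∪ (Set.range j)ᶜ := hf₀O hy
    rcases h1 with h1 | h1
    · have : v ∈ j ⁻¹' OV := by show j v ∈ OV; rw [hv]; exact h1
      rw [hOV] at this
      exact this
    · exact absurd ⟨v, hv⟩ h1
  -- Step B: shrink `V`
  obtain ⟨OU, hOUo, hOU⟩ := i.isClosedEmbedding.isInducing.isOpen_iff.mp U'.2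
  let O₂ : Y₂.Opens := ⟨j ⁻¹' (OU ∪ (Set.range i)ᶜ),
    (hOUo.union i.isClosedEmbedding.isClosed_range.isOpen_compl).preimage j.continuous⟩
  obtain ⟨g₀, hg₀T, hg₀O⟩ := Helper37.exists_basicOpen_le_of_finite_of_isAffineOpen hV O₂ T₂ hT₂
    (fun v hv => hTV v hv) (fun v hv => by
      show j v ∈ OU ∪ (Set.range i)ᶜ
      by_cases h : j v ∈ Set.range i
      · obtain ⟨y, hy⟩ := h
        left
        have hyU : y ∈ U' := hf₀T (show i y ∈ (T : Set Y) by rw [hy]; exact hv)
        rw [← hy]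
        have : y ∈ i ⁻¹' OU := by rw [hOU]; exact hyU
        exact this
      · right; exact h)
  set V' : Y₂.Opens := Y₂.basicOpen g₀ with hV'def
  have hV' : IsAffineOpen V' := hV.basicOpen g₀
  have hVU : ∀ v ∈ V', ∀ y, i y = j v → y ∈ U' := by
    intro v hv y hy
    have h1 : j v ∈ OU ∪ (Set.range i)ᶜ := hg₀O hv
    rcases h1 with h1 | h1
    · have : y ∈ i ⁻¹' OU := by show i y ∈ OU; rw [hy]; exact h1
      rw [hOU] at this
      exact this
    · exact absurd ⟨y, hy⟩ h1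
  -- Step C: the scheme-theoretic intersection inside `U'`
  let S : Scheme.{u} := U'
  have : IsAffine S := hU'
  have hS : IsAffineOpen (⊤ : S.Opens) := isAffineOpen_top S
  let a : S ⟶ Y := U'.ι ≫ i
  have ha : ∀ x : S, a x = i (U'.ι x) := fun x => rfl
  have hainj : Function.Injective a := fun x x' h =>
    U'.ι.isOpenEmbedding.injective (hi (by rw [← ha, ← ha]; exact h))
  let P : Scheme.{u} := pullback a j
  let fst : P ⟶ S := pullback.fst a j
  let snd : P ⟶ Y₂ := pullback.snd a j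
  have hcond : ∀ p : P, j (snd p) = a (fst p) := fun p => by
    rw [← Scheme.Hom.comp_apply, ← Scheme.Hom.comp_apply, pullback.condition]
  obtain ⟨hPaff, hsurj⟩ := IsClosedImmersion.isAffine_surjective_of_isAffine fst
  have hrange : ∀ x : S, a x ∈ Set.range j → x ∈ Set.range fst := by
    intro x hx
    have := Scheme.Pullback.range_fst a j
    rw [Set.ext_iff] at this
    exact (this x).mpr hx
  have hsnd : ∀ p : P, snd p ∈ V := fun p =>
    hUV (U'.ι (fst p)) (fst p).2 (snd p) (hcond p)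
  have hle : (⊤ : P.Opens) ≤ snd ⁻¹ᵁ V := fun p _ => hsnd p
  set gbar : Γ(P, ⊤) := (snd.appLE V ⊤ hle).hom g₀ with hgbar
  have hgbar' : ∀ p : P, p ∈ P.basicOpen gbar ↔ snd p ∈ V' := by
    intro p
    have := Scheme.basicOpen_appLE snd ⊤ V hle g₀
    rw [hgbar]
    change p ∈ P.basicOpen ((snd.appLE V ⊤ hle) g₀) ↔ _
    rw [this]
    exact ⟨fun h => h.2, fun h => ⟨trivial, h⟩⟩
  -- points of `T` on `S`
  set TS : Set S := a ⁻¹' (T : Set Y) with hTSdef
  have hTS : TS.Finite := T.finite_toSet.preimage hainj.injOn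
  let ps : Finset (Ideal Γ(S, ⊤)) := (hTS.toFinset.filter (fun x => x ∉ Set.range fst)).image
    (fun x => (hS.primeIdealOf ⟨x, trivial⟩).asIdeal)
  obtain ⟨f, hf, hfp⟩ := exists_lift_notMem fst.appTop.hom hsurj ps
    (fun p hp => by
      obtain ⟨x, -, rfl⟩ := Finset.mem_image.mp hp
      exact (hS.primeIdealOf ⟨x, trivial⟩).isPrime)
    (fun p hp => by
      obtain ⟨x, hx, rfl⟩ := Finset.mem_image.mp hp
      exact not_ker_le_of_notMem_range fst x (Finset.mem_filter.mp hx).2) gbar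
  have hfbar : ∀ p : P, p ∈ P.basicOpen gbar ↔ fst p ∈ S.basicOpen f := by
    intro p
    rw [← hf]
    change p ∈ P.basicOpen (fst.appTop f) ↔ _
    rw [← Scheme.preimage_basicOpen_top]
    rfl
  have hfT : ∀ x : S, a x ∈ T → x ∈ S.basicOpen f := by
    intro x hx
    by_cases hxr : x ∈ Set.range fst
    · obtain ⟨p, rfl⟩ := hxr
      rw [← hfbar, hgbar']
      exact hg₀T (show j (snd p) ∈ (T : Set Y) by rw [hcond]; exact hx)
    · rw [FlatMono.mem_basicOpen_iff_notMem_primeIdealOf hS x trivial f]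
      apply hfp
      refine Finset.mem_image.mpr ⟨x, Finset.mem_filter.mpr ⟨?_, hxr⟩, rfl⟩
      exact hTS.mem_toFinset.mpr hx
  -- Step D
  set D₁ : Y₁.Opens := U'.ι ''ᵁ (S.basicOpen f) with hD₁def
  have hD₁ : IsAffineOpen D₁ := (hS.basicOpen f).image_of_isOpenImmersion U'.ι
  have key1 : ∀ y ∈ D₁, ∀ v, j v = i y → v ∈ V' := by
    rintro _ ⟨x, hx, rfl⟩ v hv
    obtain ⟨p, rfl⟩ := hrange x ⟨v, hv⟩
    have : snd p = v := hj (by rw [hcond, hv]; rfl)
    rw [← this, ← hgbar', hfbar]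
    exact hx
  have key2 : ∀ v ∈ V', ∀ y, i y = j v → y ∈ D₁ := by
    intro v hv y hy
    have hyU : y ∈ U' := hVU v hv y hy
    let x : S := ⟨y, hyU⟩
    have hax : a x = j v := hy
    obtain ⟨p, hp⟩ := hrange x ⟨v, hax.symm⟩
    have : snd p = v := hj (by rw [hcond, hp, hax])
    refine ⟨x, ?_, rfl⟩
    show x ∈ S.basicOpen f
    rw [← hp, ← hfbar, hgbar', this]
    exact hv
  -- Step E
  let O : Y.Opens := ⟨(i '' (D₁ : Set Y₁)ᶜ ∪ j '' (V' : Set Y₂)ᶜ)ᶜ,
    ((i.isClosedEmbedding.isClosedMap _ D₁.2.isClosed_compl).union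
      (j.isClosedEmbedding.isClosedMap _ V'.2.isClosed_compl)).isOpen_compl⟩
  have hO₁ : i ⁻¹ᵁ O = D₁ := by
    ext y
    constructor
    · intro hy
      by_contra hyD
      exact hy (Or.inl ⟨y, hyD, rfl⟩)
    · intro hy
      rintro (⟨y', hy', hyy'⟩ | ⟨v, hv, hvy⟩)
      · exact hy' (hi hyy' ▸ hy)
      · exact hv (key1 y hy v hvy)
  have hO₂ : j ⁻¹ᵁ O = V' := by
    ext v
    constructor
    · intro hv
      by_contra hvD
      exact hv (Or.inr ⟨v, hvD, rfl⟩)
    · intro hv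
      rintro (⟨y, hy, hyv⟩ | ⟨v', hv', hvv'⟩)
      · exact hy (key2 v hv y hyv)
      · exact hv' (hj hvv' ▸ hv)
  refine ⟨O, ?_, ?_⟩
  · haveI : IsAffine ↑(i ⁻¹ᵁ O) := by rw [hO₁]; exact hD₁
    haveI : IsAffine ↑(j ⁻¹ᵁ O) := by rw [hO₂]; exact hV'
    refine isAffine_of_closed_cover (i ∣_ O) (j ∣_ O) ?_
    rw [Set.eq_univ_iff_forall]
    intro x
    rcases (hcov ▸ Set.mem_univ x.1 : x.1 ∈ Set.range i ∪ Set.range j) with ⟨y, hy⟩ | ⟨v, hv⟩
    · left
      refine ⟨⟨y, show i y ∈ O by rw [hy]; exact x.2⟩, ?_⟩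
      apply Subtype.ext
      rw [morphismRestrict_base_coe]
      exact hy
    · right
      refine ⟨⟨v, show j v ∈ O by rw [hv]; exact x.2⟩, ?_⟩
      apply Subtype.ext
      rw [morphismRestrict_base_coe]
      exact hv
  · intro t ht
    rcases (hcov ▸ Set.mem_univ t : t ∈ Set.range i ∪ Set.range j) with ⟨y, rfl⟩ | ⟨v, rfl⟩
    · have hyU : y ∈ U' := hf₀T (show i y ∈ (T : Set Y) from ht)
      have h1 : (⟨y, hyU⟩ : S) ∈ S.basicOpen f := hfT ⟨y, hyU⟩ ht
      have h2 : y ∈ D₁ := ⟨⟨y, hyU⟩, h1, rfl⟩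
      rw [← hO₁] at h2
      exact h2
    · have h2 : v ∈ V' := hg₀T (show j v ∈ (T : Set Y) from ht)
      rw [← hO₂] at h2
      exact h2

open Scheme.IdealSheafData in
/-- Induction step for reduced induced structures on closed subsets. -/
theorem exists_affineOpen_closeds_sup (X : Scheme.{u}) (T : Finset X) (C₁ C₂ C : Closeds X)
    (h₁ : C₁ ≤ C) (h₂ : C₂ ≤ C) (hC : (C : Set X) ⊆ (C₁ : Set X) ∪ (C₂ : Set X))
    (H₁ : ∃ W : (vanishingIdeal C₁).subscheme.Opens, IsAffineOpen W ∧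
      ∀ y, (vanishingIdeal C₁).subschemeι y ∈ T → y ∈ W)
    (H₂ : ∃ W : (vanishingIdeal C₂).subscheme.Opens, IsAffineOpen W ∧
      ∀ y, (vanishingIdeal C₂).subschemeι y ∈ T → y ∈ W) :
    ∃ W : (vanishingIdeal C).subscheme.Opens, IsAffineOpen W ∧
      ∀ y, (vanishingIdeal C).subschemeι y ∈ T → y ∈ W := by
  classical
  set I := vanishingIdeal C
  set I₁ := vanishingIdeal C₁
  set I₂ := vanishingIdeal C₂
  obtain ⟨U, hU, hTU⟩ := H₁
  obtain ⟨V, hV, hTV⟩ := H₂
  let i : I₁.subscheme ⟶ I.subscheme := inclusion (vanishingIdeal_antimono h₁)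
  let j : I₂.subscheme ⟶ I.subscheme := inclusion (vanishingIdeal_antimono h₂)
  have hiι : i ≫ I.subschemeι = I₁.subschemeι := inclusion_subschemeι _
  have hjι : j ≫ I.subschemeι = I₂.subschemeι := inclusion_subschemeι _
  have : IsClosedImmersion i := by
    have : IsClosedImmersion (i ≫ I.subschemeι) := by rw [hiι]; infer_instance
    exact IsClosedImmersion.of_comp_isClosedImmersion i I.subschemeι
  have : IsClosedImmersion j := by
    have : IsClosedImmersion (j ≫ I.subschemeι) := by rw [hjι]; infer_instance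
    exact IsClosedImmersion.of_comp_isClosedImmersion j I.subschemeι
  have hι : Function.Injective I.subschemeι := I.subschemeι.isClosedEmbedding.injective
  have hi' : ∀ y, I.subschemeι (i y) = I₁.subschemeι y := fun y => by
    rw [← Scheme.Hom.comp_apply, hiι]
  have hj' : ∀ y, I.subschemeι (j y) = I₂.subschemeι y := fun y => by
    rw [← Scheme.Hom.comp_apply, hjι]
  let T' : Finset I.subscheme := T.preimage I.subschemeι hι.injOn
  have hcov : Set.range i ∪ Set.range j = Set.univ := by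
    rw [Set.eq_univ_iff_forall]
    intro y
    have hy : I.subschemeι y ∈ (C : Set X) := by
      rw [← coe_support_vanishingIdeal C, ← range_subschemeι]
      exact ⟨y, rfl⟩
    rcases hC hy with hy | hy
    · left
      rw [← coe_support_vanishingIdeal C₁, ← range_subschemeι] at hy
      obtain ⟨y₁, hy₁⟩ := hy
      exact ⟨y₁, hι (by rw [hi', hy₁])⟩
    · right
      rw [← coe_support_vanishingIdeal C₂, ← range_subschemeι] at hy
      obtain ⟨y₂, hy₂⟩ := hy
      exact ⟨y₂, hι (by rw [hj', hy₂])⟩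
  obtain ⟨O, hO, hTO⟩ := exists_affineOpen_of_closed_cover i j hcov T' U hU
    (fun y hy => hTU y (by rw [← hi']; exact Finset.mem_preimage.mp hy)) V hV
    (fun y hy => hTV y (by rw [← hj']; exact Finset.mem_preimage.mp hy))
  exact ⟨O, hO, fun y hy => hTO y (Finset.mem_preimage.mpr hy)⟩

end Groth.Agent.Lib.Helper69.ClosedCover
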