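import Groth.Agent.Lib.Helper69.Rigid

set_option autoImplicit false
universe u
open CategoryTheory CategoryTheory.Limits AlgebraicGeometry

namespace Groth.Agent.Lib.Helper69

/-- Plain-scheme form of the equalizer of two `Y`-morphisms into a separated `Y`-scheme: a closed
subscheme of the source. -/
theorem exists_closed_equalizer {T X Y : Scheme.{u}} (p : X ⟶ Y) [IsSeparated p]
    (f g : T ⟶ X) (h : f ≫ p = g ≫ p) :
    ∃ (E : Scheme.{u}) (ι : E ⟶ T), IsClosedImmersion ι ∧ ι ≫ f = ι ≫ g ∧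
      ∀ (W : Scheme.{u}) (z : W ⟶ T), z ≫ f = z ≫ g → ∃ z' : W ⟶ E, z' ≫ ι = z := by
  let X' : Over Y := Over.mk (f ≫ p)
  let Y' : Over Y := Over.mk p
  let f' : X' ⟶ Y' := Over.homMk f
  let g' : X' ⟶ Y' := Over.homMk g h.symm
  have : IsSeparated Y'.hom := ‹_›
  refine ⟨(equalizer f' g').left, (equalizer.ι f' g').left, inferInstance,
    congr($(equalizer.condition f' g').left), ?_⟩
  intro W z hz
  let U' : Over Y := Over.mk (z ≫ f ≫ p)
  let z' : U' ⟶ X' := Over.homMk z
  refine ⟨(equalizer.lift z' (by ext1; exact hz) : U' ⟶ equalizer f' g').left, ?_⟩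
  rw [← Over.comp_left, equalizer.lift_ι]; rfl

/-- Two `Y`-morphisms into a separated `Y`-scheme that agree on a dense open subscheme agree on
points. -/
theorem base_eq_of_dense {T X Y : Scheme.{u}} (p : X ⟶ Y) [IsSeparated p]
    (f g : T ⟶ X) (h : f ≫ p = g ≫ p) (D : T.Opens) (hD : Dense (D : Set T))
    (hfg : D.ι ≫ f = D.ι ≫ g) (t : T) : f.base t = g.base t := by
  obtain ⟨E, ι, hι, hιeq, hlift⟩ := exists_closed_equalizer p f g h
  obtain ⟨z', hz'⟩ := hlift _ D.ι hfg
  have hsub : (D : Set T) ⊆ Set.range ι.base := by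
    intro d hd
    refine ⟨z'.base ⟨d, hd⟩, ?_⟩
    exact congr($(hz').base ⟨d, hd⟩)
  have hcl : IsClosed (Set.range ι.base) := ι.isClosedEmbedding.isClosed_range
  have huniv : Set.range ι.base = Set.univ := by
    apply Set.eq_univ_of_univ_subset
    rw [← hD.closure_eq]
    exact hcl.closure_subset_iff.mpr hsub
  obtain ⟨e, rfl⟩ : t ∈ Set.range ι.base := huniv ▸ Set.mem_univ t
  rw [← Scheme.Hom.comp_apply, ← Scheme.Hom.comp_apply, hιeq]

end Groth.Agent.Lib.Helper69
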