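import Mathlib.Topology.Connected.Clopen
import Mathlib.Data.Set.Card

set_option autoImplicit false

namespace Groth.Agent.Lib.Helper69

open Set

/-- A nonempty clopen set maps onto a preconnected space under an open and closed map. -/
theorem exists_mem_of_isClopen {A B : Type*} [TopologicalSpace A] [TopologicalSpace B]
    [PreconnectedSpace B] (f : A → B) (ho : IsOpenMap f) (hc : IsClosedMap f)
    {U : Set A} (hU : IsClopen U) (hne : U.Nonempty) (b : B) : ∃ a ∈ U, f a = b := by
  have hcl : IsClopen (f '' U) := ⟨hc _ hU.1, ho _ hU.2⟩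
  have : f '' U = univ := (isClopen_iff.mp hcl).resolve_left (hne.image f).ne_empty
  have hb : b ∈ f '' U := this ▸ mem_univ b
  exact hb

theorem exists_mem_connectedComponent_of_isOpenMap_of_isClosedMap {A B : Type*}
    [TopologicalSpace A] [TopologicalSpace B]
    [PreconnectedSpace B] (f : A → B) (ho : IsOpenMap f) (hc : IsClosedMap f) (b : B)
    (hfin : (f ⁻¹' {b}).Finite) (c : A) : ∃ a ∈ connectedComponent c, f a = b := by
  suffices H : ∀ (n : ℕ) (U : Set A), IsClopen U → c ∈ U → (U ∩ f ⁻¹' {b}).ncard = n →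
      ∃ a ∈ connectedComponent c, f a = b from
    H _ univ isClopen_univ (mem_univ c) rfl
  intro n
  induction n using Nat.strong_induction_on with
  | _ n ih =>
    intro U hU hcU hn
    by_cases hpre : IsPreconnected U
    · obtain ⟨a, haU, hab⟩ := exists_mem_of_isClopen f ho hc hU ⟨c, hcU⟩ b
      exact ⟨a, hpre.subset_connectedComponent hcU haU, hab⟩
    · rw [isPreconnected_iff_subset_of_disjoint] at hpre
      push Not at hpre
      obtain ⟨u, v, hu, hv, hUuv, hdisj, hnu, hnv⟩ := hpre
      -- general claim for one side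
      have key : ∀ u v : Set A, IsOpen u → IsOpen v → U ⊆ u ∪ v → U ∩ (u ∩ v) = ∅ → ¬ U ⊆ u →
          c ∈ u → ∃ a ∈ connectedComponent c, f a = b := by
        intro u v hu hv hUuv hdisj hnu hcu
        have hVeq : U ∩ u = U ∩ vᶜ := by
          ext z
          constructor
          · rintro ⟨hzU, hzu⟩
            refine ⟨hzU, fun hzv => ?_⟩
            have : z ∈ U ∩ (u ∩ v) := ⟨hzU, hzu, hzv⟩
            rw [hdisj] at this; exact this
          · rintro ⟨hzU, hzv⟩
            exact ⟨hzU, (hUuv hzU).resolve_right hzv⟩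
        have hWeq : U ∩ v = U ∩ uᶜ := by
          ext z
          constructor
          · rintro ⟨hzU, hzv⟩
            refine ⟨hzU, fun hzu => ?_⟩
            have : z ∈ U ∩ (u ∩ v) := ⟨hzU, hzu, hzv⟩
            rw [hdisj] at this; exact this
          · rintro ⟨hzU, hzu⟩
            exact ⟨hzU, (hUuv hzU).resolve_left hzu⟩
        have hV : IsClopen (U ∩ u) :=
          ⟨hVeq ▸ hU.1.inter hv.isClosed_compl, hU.2.inter hu⟩
        have hW : IsClopen (U ∩ v) :=
          ⟨hWeq ▸ hU.1.inter hu.isClosed_compl, hU.2.inter hv⟩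
        have hWne : (U ∩ v).Nonempty := by
          rw [not_subset] at hnu
          obtain ⟨y, hyU, hyu⟩ := hnu
          exact ⟨y, hyU, (hUuv hyU).resolve_left hyu⟩
        obtain ⟨a, haW, hab⟩ := exists_mem_of_isClopen f ho hc hW hWne b
        have hlt : ((U ∩ u) ∩ f ⁻¹' {b}).ncard < n := by
          rw [← hn]
          apply Set.ncard_lt_ncard
          · refine ⟨inter_subset_inter_left _ inter_subset_left, fun hsub => ?_⟩
            have h1 : a ∈ (U ∩ u) ∩ f ⁻¹' {b} := hsub ⟨haW.1, hab⟩
            have : a ∈ U ∩ (u ∩ v) := ⟨haW.1, h1.1.2, haW.2⟩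
            rw [hdisj] at this; exact this
          · exact hfin.subset inter_subset_right
        exact ih _ hlt (U ∩ u) hV ⟨hcU, hcu⟩ rfl
      rcases hUuv hcU with hcu | hcv
      · exact key u v hu hv hUuv hdisj hnu hcu
      · exact key v u hv hu (by rwa [union_comm]) (by rwa [inter_comm v u]) hnv hcv

end Groth.Agent.Lib.Helper69
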