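/-
helper69: a finite group scheme with connected fibres over a reduced base has only trivial points
with values in reduced schemes (the unit section is a surjective closed immersion).
-/
import Groth.Agent.Lib.Helper69.CGrpLocal4
import Mathlib.AlgebraicGeometry.Morphisms.QuasiFinite
import Mathlib.AlgebraicGeometry.Fiber

set_option autoImplicit false
universe u
open CategoryTheory CategoryTheory.Limits MonoidalCategory CartesianMonoidalCategory MonObj AlgebraicGeometry Opposite

namespace Groth.Agent.Lib.Helper69.ConnFin

/-- a section vanishing along a surjective morphism is nilpotent. -/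
theorem isNilpotent_of_app_eq_zero {S I : Scheme.{u}} (e : S ⟶ I) (he : Function.Surjective e)
    (U : I.Opens) (hU : IsCompact (U : Set I)) (a : Γ(I, U)) (ha : (e.app U).hom a = 0) :
    IsNilpotent a := by
  rw [Scheme.isNilpotent_iff_basicOpen_eq_bot_of_isCompact hU]
  have h1 : e ⁻¹ᵁ (I.basicOpen a) = ⊥ := by
    rw [Scheme.preimage_basicOpen, ha, Scheme.basicOpen_zero]
  ext y
  simp only [TopologicalSpace.Opens.coe_bot, Set.mem_empty_iff_false, iff_false]
  intro hy
  obtain ⟨s, rfl⟩ := he y
  have : s ∈ e ⁻¹ᵁ (I.basicOpen a) := hy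
  rw [h1] at this
  exact this

/-- a morphism from a reduced scheme factors through a surjective closed immersion. -/
theorem exists_lift_of_surjective_closedImmersion {S I T : Scheme.{u}} (e : S ⟶ I)
    [IsClosedImmersion e] (he : Function.Surjective e) [IsReduced T] (x : T ⟶ I) :
    ∃ y : T ⟶ S, y ≫ e = x := by
  have H : e.ker ≤ x.ker := by
    refine Scheme.IdealSheafData.le_ofIdeals_iff.mpr fun U => ?_
    intro a ha
    have ha' : (e.app U).hom a = 0 := e.ideal_ker_le U ha
    have hnil := isNilpotent_of_app_eq_zero e he U U.2.isCompact a ha'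
    have h2 : IsNilpotent ((x.app U).hom a) := hnil.map _
    exact RingHom.mem_ker.mpr h2.eq_zero
  exact ⟨IsClosedImmersion.lift e x H, IsClosedImmersion.lift_fac e x H⟩

variable {S : Scheme.{u}}

/-- over a base, a finite group scheme with connected fibres has only the trivial point with
values in a reduced scheme, provided `S` is reduced. -/
theorem eq_one_of_isReduced [IsReduced S] (I : Over S) [GrpObj I] [IsFinite I.hom]
    (hconn : ∀ s : S, ConnectedSpace ↥(I.hom.fiber s)) (T : Over S) [IsReduced T.left]
    (x : T ⟶ I) : x = 1 := by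
  let e : S ⟶ I.left := η[I].left
  have he1 : e ≫ I.hom = 𝟙 S := Over.w η[I]
  have hcl : IsClosedImmersion e := by
    have : IsClosedImmersion (e ≫ I.hom) := by rw [he1]; infer_instance
    exact IsClosedImmersion.of_comp e I.hom
  have hsurj : Function.Surjective e := by
    intro y
    refine ⟨I.hom y, ?_⟩
    have hsub : (I.hom ⁻¹' {I.hom y}).Subsingleton := by
      have := hconn (I.hom y)
      have hcs : ConnectedSpace ↥(I.hom ⁻¹' {I.hom y}) :=
        (I.hom.fiberHomeo (I.hom y)).surjective.connectedSpace
          (I.hom.fiberHomeo (I.hom y)).continuous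
      have hd : DiscreteTopology ↥(I.hom ⁻¹' {I.hom y}) :=
        (I.hom.isDiscrete_preimage_singleton _).to_subtype
      intro a ha b hb
      have h6 := (isPreconnected_univ (α := ↥(I.hom ⁻¹' {I.hom y}))).subsingleton
        (Set.mem_univ ⟨a, ha⟩) (Set.mem_univ ⟨b, hb⟩)
      exact congrArg Subtype.val h6
    refine hsub ?_ rfl
    change I.hom (e (I.hom y)) = I.hom y
    have := congrArg (fun g => g.base (I.hom y)) he1
    simpa using this
  obtain ⟨y, hy⟩ := exists_lift_of_surjective_closedImmersion e hsurj x.left
  have hy2 : y = T.hom := by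
    have h1 : y ≫ e ≫ I.hom = x.left ≫ I.hom := by rw [← Category.assoc, hy]
    rw [he1, Category.comp_id, Over.w x] at h1
    exact h1
  apply Over.OverMorphism.ext
  rw [← hy, hy2]
  rfl

end Groth.Agent.Lib.Helper69.ConnFin
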