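import Groth.Agent.Lib.Helper69.Quot2
import Groth.Agent.S2908
import Mathlib.AlgebraicGeometry.Morphisms.Affine

set_option autoImplicit false
universe u
open CategoryTheory AlgebraicGeometry
open scoped Pointwise

namespace Groth.Agent.Lib.Helper69

section Basic

variable {X : Scheme.{u}} {U : X.Opens} (hU : IsAffineOpen U)

theorem mem_basicOpen_iff_notMem_primeIdealOf (x : X) (hx : x ∈ U) (f : Γ(X, U)) :
    x ∈ X.basicOpen f ↔ f ∉ (hU.primeIdealOf ⟨x, hx⟩).asIdeal := by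
  have h1 : hU.fromSpec (hU.primeIdealOf ⟨x, hx⟩) = x := hU.fromSpec_primeIdealOf ⟨x, hx⟩
  have h2 : hU.primeIdealOf ⟨x, hx⟩ ∈ hU.fromSpec ⁻¹ᵁ X.basicOpen f ↔
      hU.primeIdealOf ⟨x, hx⟩ ∈ PrimeSpectrum.basicOpen f := by
    rw [hU.fromSpec_preimage_basicOpen]; exact Iff.rfl
  change hU.fromSpec (hU.primeIdealOf ⟨x, hx⟩) ∈ X.basicOpen f ↔ _ at h2
  rw [h1] at h2
  exact h2

theorem fromSpec_mem_basicOpen_iff (Q : PrimeSpectrum Γ(X, U)) (f : Γ(X, U)) :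
    hU.fromSpec Q ∈ X.basicOpen f ↔ f ∉ Q.asIdeal := by
  have h2 : Q ∈ hU.fromSpec ⁻¹ᵁ X.basicOpen f ↔ Q ∈ PrimeSpectrum.basicOpen f := by
    rw [hU.fromSpec_preimage_basicOpen]; exact Iff.rfl
  exact h2

theorem fromSpec_mem (Q : PrimeSpectrum Γ(X, U)) : hU.fromSpec Q ∈ U := by
  have : hU.fromSpec Q ∈ Set.range hU.fromSpec := ⟨Q, rfl⟩
  rw [hU.range_fromSpec] at this
  exact this

end Basic

section Affine

variable {X Y : Scheme.{u}} {G : Type u} [Group G] [Finite G] (ρ : G →* Aut X) (p : X ⟶ Y)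
  (hp : SGA1.IsQuot ρ p)

include hp in
theorem exists_invariant_basicOpen_le (V : Y.Opens) (hV : IsAffineOpen (p ⁻¹ᵁ V)) (x : X)
    (hx : x ∈ p ⁻¹ᵁ V) (U : Y.Opens) (hxU : p.base x ∈ U) :
    ∃ f : Γ(Y, V), x ∈ X.basicOpen ((p.app V).hom f) ∧ Y.basicOpen f ≤ U := by
  obtain ⟨hsurj, -, -⟩ := Groth.Agent.S2908.result ρ p hp
  cases nonempty_fintype G
  let _ := sectionMulSemiringAction ρ p hp.inv V
  let _ : Algebra Γ(Y, V) Γ(X, p ⁻¹ᵁ V) := sectionAlgebra p V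
  have : Algebra.IsInvariant Γ(Y, V) Γ(X, p ⁻¹ᵁ V) G := isInvariant ρ p hp V
  have hgx : ∀ g : G, (ρ g).hom.base x ∈ p ⁻¹ᵁ V := fun g =>
    SGA1.preimage_le_of_inv ρ p hp.inv g V hx
  have hgxU : ∀ g : G, (ρ g).hom.base x ∈ p ⁻¹ᵁ U := fun g => by
    change p.base ((ρ g).hom.base x) ∈ U
    have := congrArg (fun f => f.base x) (hp.inv g)
    simp only [Scheme.Hom.comp_base, TopCat.hom_comp, ContinuousMap.comp_apply] at this
    rw [this]; exact hxU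
  choose b hb1 hb2 using fun g : G => hV.exists_basicOpen_le ⟨(ρ g).hom.base x, hgxU g⟩ (hgx g)
  let Q : G → Ideal Γ(X, p ⁻¹ᵁ V) := fun g => (hV.primeIdealOf ⟨(ρ g).hom.base x, hgx g⟩).asIdeal
  have hbQ : ∀ g, b g ∉ Q g := fun g =>
    (mem_basicOpen_iff_notMem_primeIdealOf hV _ (hgx g) (b g)).mp (hb2 g)
  let I : Ideal Γ(X, p ⁻¹ᵁ V) := Ideal.span (Set.range b)
  have hI : ¬ ((I : Set Γ(X, p ⁻¹ᵁ V)) ⊆ ⋃ g ∈ ((Finset.univ : Finset G) : Set G), Q g) := by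
    rw [Ideal.subset_union_prime 1 1 (fun g _ _ _ => (hV.primeIdealOf _).isPrime)]
    rintro ⟨g, -, hg⟩
    exact hbQ g (hg (Ideal.subset_span ⟨g, rfl⟩))
  obtain ⟨c, hcI, hcQ⟩ := Set.not_subset.mp hI
  have hcQ' : ∀ g, c ∉ Q g := fun g hcg =>
    hcQ (Set.mem_biUnion (Finset.mem_coe.mpr (Finset.mem_univ g)) hcg)
  obtain ⟨f, hf⟩ := Algebra.IsInvariant.isInvariant (A := Γ(Y, V)) (∏ g : G, g • c)
    (Finset.smul_prod_perm c)
  have hf' : (p.app V).hom f = ∏ g : G, g • c := hf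
  refine ⟨f, ?_, ?_⟩
  · rw [hf', mem_basicOpen_iff_notMem_primeIdealOf hV x hx]
    have hQ1 : (hV.primeIdealOf ⟨x, hx⟩).asIdeal.IsPrime := (hV.primeIdealOf _).isPrime
    rw [hQ1.prod_mem_iff]
    rintro ⟨g, -, hg⟩
    -- g • c ∈ Q_x → c ∈ g⁻¹ • Q_x = Q_{g⁻¹ x}
    have h1 : c ∈ g⁻¹ • (hV.primeIdealOf ⟨x, hx⟩).asIdeal := by
      rw [Ideal.mem_inv_pointwise_smul_iff]; exact hg
    rw [smul_primeIdealOf ρ p hp V hV g⁻¹ x hx] at h1
    exact hcQ' g⁻¹ h1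
  · intro y' hy'
    obtain ⟨x', rfl⟩ := hsurj y'
    have hx'V : x' ∈ p ⁻¹ᵁ V := Y.basicOpen_le f hy'
    have h1 : x' ∈ p ⁻¹ᵁ (Y.basicOpen f) := hy'
    rw [Scheme.preimage_basicOpen] at h1
    change x' ∈ X.basicOpen ((p.app V).hom f) at h1
    rw [hf', mem_basicOpen_iff_notMem_primeIdealOf hV x' hx'V] at h1
    have h2 : c ∉ (hV.primeIdealOf ⟨x', hx'V⟩).asIdeal := by
      intro hc
      apply h1
      have : (1 : G) • c ∣ ∏ g : G, g • c := Finset.dvd_prod_of_mem _ (Finset.mem_univ 1)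
      rw [one_smul] at this
      exact Ideal.mem_of_dvd _ this hc
    have h3 : ∃ g, b g ∉ (hV.primeIdealOf ⟨x', hx'V⟩).asIdeal := by
      by_contra hall
      push Not at hall
      apply h2
      have : I ≤ (hV.primeIdealOf ⟨x', hx'V⟩).asIdeal := by
        rw [Ideal.span_le]
        rintro _ ⟨g, rfl⟩
        exact hall g
      exact this hcI
    obtain ⟨g, hg⟩ := h3
    have h4 : x' ∈ X.basicOpen (b g) :=
      (mem_basicOpen_iff_notMem_primeIdealOf hV x' hx'V (b g)).mpr hg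
    exact hb1 g h4

include hp in
/-- The quotient of an affine scheme by a finite group is affine (local form). -/
theorem isAffineOpen_of_isAffineOpen_preimage (V : Y.Opens) (hV : IsAffineOpen (p ⁻¹ᵁ V)) :
    IsAffineOpen V := by
  let _ := sectionMulSemiringAction ρ p hp.inv V
  let _ : Algebra Γ(Y, V) Γ(X, p ⁻¹ᵁ V) := sectionAlgebra p V
  have : Algebra.IsInvariant Γ(Y, V) Γ(X, p ⁻¹ᵁ V) G := isInvariant ρ p hp V
  have hint : Algebra.IsIntegral Γ(Y, V) Γ(X, p ⁻¹ᵁ V) :=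
    Algebra.IsInvariant.isIntegral Γ(Y, V) Γ(X, p ⁻¹ᵁ V) G
  apply isAffineOpen_of_isAffineOpen_basicOpen V {f | IsAffineOpen (Y.basicOpen f)} ?_
    (fun f hf => hf)
  by_contra hne
  obtain ⟨m, hm, hle⟩ := Ideal.exists_le_maximal _ hne
  have hker : RingHom.ker (algebraMap Γ(Y, V) Γ(X, p ⁻¹ᵁ V)) ≤ m := by
    change RingHom.ker (p.app V).hom ≤ m
    rw [(RingHom.injective_iff_ker_eq_bot _).mp (hp.injective V)]
    exact bot_le
  obtain ⟨Q, hQmax, hQm⟩ := Ideal.exists_ideal_over_maximal_of_isIntegral m hker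
  let Qp : PrimeSpectrum Γ(X, p ⁻¹ᵁ V) := ⟨Q, hQmax.isPrime⟩
  have hx : hV.fromSpec Qp ∈ p ⁻¹ᵁ V := fromSpec_mem hV Qp
  obtain ⟨_, ⟨U, hU', rfl⟩, hyU, hUV⟩ := Y.isBasis_affineOpens.exists_subset_of_mem_open
    (show p.base (hV.fromSpec Qp) ∈ (V : Set Y) from hx) V.isOpen
  have hU : IsAffineOpen U := hU'
  have hUV' : U ≤ V := hUV
  obtain ⟨f, hf1, hf2⟩ := exists_invariant_basicOpen_le ρ p hp V hV (hV.fromSpec Qp) hx U hyU
  have hfaff : IsAffineOpen (Y.basicOpen f) := by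
    have h1 : Y.basicOpen (Y.presheaf.map (homOfLE hUV').op f) = Y.basicOpen f := by
      rw [Scheme.basicOpen_res]; exact inf_eq_right.mpr hf2
    rw [← h1]
    exact hU.basicOpen _
  have hfm : f ∈ m := hle (Ideal.subset_span hfaff)
  have hfQ : (p.app V).hom f ∈ Q := by
    rw [← hQm] at hfm; exact hfm
  exact ((fromSpec_mem_basicOpen_iff hV Qp _).mp hf1) hfQ

end Affine

end Groth.Agent.Lib.Helper69
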