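import Groth.Agent.Lib.Helper69.Quot
import Mathlib.Topology.Sheaves.SheafCondition.UniqueGluing
import Mathlib.AlgebraicGeometry.Morphisms.Affine

/-!
# Helper library (helper69): `SGA1.IsQuot` can be checked on a basis of opens of the target
-/

set_option autoImplicit false
universe u
open CategoryTheory AlgebraicGeometry TopologicalSpace Opposite

namespace Groth.Agent.Lib.Helper69

variable {X Y : Scheme.{u}} {G : Type u} [Group G] (ρ : G →* Aut X) (p : X ⟶ Y)
  (hinv : ∀ g : G, (ρ g).hom ≫ p = p)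

/-- Sections pulled back from the base are invariant (no `IsQuot` hypothesis). -/
theorem sectionAct_app' (U : Y.Opens) (g : G) (a : Γ(Y, U)) :
    sectionAct ρ p hinv U g ((p.app U).hom a) = (p.app U).hom a := by
  have key : ∀ (a : X ⟶ X) (_ : a ≫ p = p) (e : p ⁻¹ᵁ U ≤ a ⁻¹ᵁ (p ⁻¹ᵁ U)),
      p.app U ≫ a.appLE (p ⁻¹ᵁ U) (p ⁻¹ᵁ U) e = p.app U := by
    intro a ha e
    rw [← Scheme.Hom.comp_appLE]
    have : ∀ (q : X ⟶ Y) (_ : q = p) (e' : p ⁻¹ᵁ U ≤ q ⁻¹ᵁ U),
        q.appLE U (p ⁻¹ᵁ U) e' = p.app U := by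
      rintro _ rfl e'
      exact Scheme.Hom.appLE_eq_app _
    exact this _ ha _
  have := key (ρ g).hom (hinv g) (SGA1.preimage_le_of_inv ρ p hinv g U)
  change ((p.app U) ≫ (ρ g).hom.appLE (p ⁻¹ᵁ U) (p ⁻¹ᵁ U) _).hom a = _
  rw [this]

/-- The action commutes with restriction. -/
theorem sectionAct_res {U V : Y.Opens} (hVU : V ≤ U) (g : G) (t : Γ(X, p ⁻¹ᵁ U)) :
    sectionAct ρ p hinv V g
        ((X.presheaf.map (homOfLE (show p ⁻¹ᵁ V ≤ p ⁻¹ᵁ U from
          fun _ hx => hVU hx)).op).hom t) =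
      (X.presheaf.map (homOfLE (show p ⁻¹ᵁ V ≤ p ⁻¹ᵁ U from fun _ hx => hVU hx)).op).hom
        (sectionAct ρ p hinv U g t) := by
  change (X.presheaf.map _ ≫ (ρ g).hom.appLE (p ⁻¹ᵁ V) (p ⁻¹ᵁ V) _).hom t =
    ((ρ g).hom.appLE (p ⁻¹ᵁ U) (p ⁻¹ᵁ U) _ ≫ X.presheaf.map _).hom t
  rw [Scheme.Hom.map_appLE, Scheme.Hom.appLE_map]

/-- `IsQuot` can be checked on a basis of the topology of the target. -/
theorem isQuot_of_basis [IsAffineHom p] (B : Set Y.Opens) (hB : Opens.IsBasis B)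
    (hinj : ∀ V ∈ B, Function.Injective (p.app V).hom)
    (hrange : ∀ V ∈ B, ∀ s : Γ(X, p ⁻¹ᵁ V),
      (∀ g : G, sectionAct ρ p hinv V g s = s) → s ∈ Set.range (p.app V).hom) :
    SGA1.IsQuot ρ p := by
  -- covers by basis elements
  have hcov : ∀ U : Y.Opens, U ≤ ⨆ V : {V : Y.Opens // V ∈ B ∧ V ≤ U}, (V : Y.Opens) := by
    intro U x hx
    obtain ⟨V, hVB, hxV, hVU⟩ := Opens.isBasis_iff_nbhd.mp hB hx
    exact Opens.mem_iSup.mpr ⟨⟨V, hVB, hVU⟩, hxV⟩
  have hres : ∀ {U V : Y.Opens} (hVU : V ≤ U) (a : Γ(Y, U)),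
      (p.app V).hom ((Y.presheaf.map (homOfLE hVU).op).hom a) =
        (X.presheaf.map (homOfLE (show p ⁻¹ᵁ V ≤ p ⁻¹ᵁ U from fun _ hx => hVU hx)).op).hom
          ((p.app U).hom a) := by
    intro U V hVU a
    change (Y.presheaf.map (homOfLE hVU).op ≫ p.app V).hom a = (p.app U ≫ X.presheaf.map _).hom a
    rw [Scheme.Hom.naturality]
    rfl
  -- injectivity on all opens
  have hinjU : ∀ U : Y.Opens, Function.Injective (p.app U).hom := by
    intro U a b hab
    apply Y.sheaf.eq_of_locally_eq' (fun V : {V : Y.Opens // V ∈ B ∧ V ≤ U} => (V : Y.Opens)) U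
      (fun V => homOfLE V.2.2) (hcov U)
    intro V
    apply hinj V.1 V.2.1
    change (p.app V.1).hom ((Y.presheaf.map (homOfLE V.2.2).op).hom a) =
      (p.app V.1).hom ((Y.presheaf.map (homOfLE V.2.2).op).hom b)
    rw [hres, hres, hab]
  refine ⟨inferInstance, hinv, hinjU, fun U t => ⟨?_, ?_⟩⟩
  · rintro ⟨a, rfl⟩ g
    exact sectionAct_app' ρ p hinv U g a
  · intro ht
    -- local preimages
    have hloc : ∀ V : {V : Y.Opens // V ∈ B ∧ V ≤ U}, ∃ a : Γ(Y, V.1), (p.app V.1).hom a =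
        (X.presheaf.map (homOfLE (show p ⁻¹ᵁ V.1 ≤ p ⁻¹ᵁ U from
          fun _ hx => V.2.2 hx)).op).hom t := by
      intro V
      apply hrange V.1 V.2.1
      intro g
      rw [sectionAct_res ρ p hinv V.2.2]
      exact congrArg _ (ht g)
    choose sf hsf using hloc
    have hcompat : TopCat.Presheaf.IsCompatible Y.presheaf
        (fun V : {V : Y.Opens // V ∈ B ∧ V ≤ U} => (V : Y.Opens)) sf := by
      intro V V'
      apply Y.sheaf.eq_of_locally_eq'
        (fun W : {W : Y.Opens // W ∈ B ∧ W ≤ V.1 ⊓ V'.1} => (W : Y.Opens)) (V.1 ⊓ V'.1)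
        (fun W => homOfLE W.2.2) (hcov _)
      intro W
      have hWV : W.1 ≤ V.1 := W.2.2.trans inf_le_left
      have hWV' : W.1 ≤ V'.1 := W.2.2.trans inf_le_right
      have e1 : (Y.presheaf.map (homOfLE W.2.2).op).hom
          ((Y.presheaf.map (Opens.infLELeft V.1 V'.1).op).hom (sf V)) =
          (Y.presheaf.map (homOfLE hWV).op).hom (sf V) := by
        change (Y.presheaf.map _ ≫ Y.presheaf.map _).hom (sf V) = _
        rw [← Functor.map_comp]
        rfl
      have e2 : (Y.presheaf.map (homOfLE W.2.2).op).hom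
          ((Y.presheaf.map (Opens.infLERight V.1 V'.1).op).hom (sf V')) =
          (Y.presheaf.map (homOfLE hWV').op).hom (sf V') := by
        change (Y.presheaf.map _ ≫ Y.presheaf.map _).hom (sf V') = _
        rw [← Functor.map_comp]
        rfl
      change (Y.presheaf.map (homOfLE W.2.2).op).hom
          ((Y.presheaf.map (Opens.infLELeft V.1 V'.1).op).hom (sf V)) =
        (Y.presheaf.map (homOfLE W.2.2).op).hom
          ((Y.presheaf.map (Opens.infLERight V.1 V'.1).op).hom (sf V'))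
      rw [e1, e2]
      apply hinj W.1 W.2.1
      rw [hres, hres, hsf, hsf]
      change (X.presheaf.map _ ≫ X.presheaf.map _).hom t = (X.presheaf.map _ ≫ X.presheaf.map _).hom t
      rw [← Functor.map_comp, ← Functor.map_comp]
      rfl
    obtain ⟨a, ha, -⟩ := Y.sheaf.existsUnique_gluing'
      (fun V : {V : Y.Opens // V ∈ B ∧ V ≤ U} => (V : Y.Opens)) U
      (fun V => homOfLE V.2.2) (hcov U) sf hcompat
    refine ⟨a, ?_⟩
    apply X.sheaf.eq_of_locally_eq'
      (fun V : {V : Y.Opens // V ∈ B ∧ V ≤ U} => p ⁻¹ᵁ (V : Y.Opens)) (p ⁻¹ᵁ U)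
      (fun V => homOfLE (fun _ hx => V.2.2 hx))
    · intro x hx
      have := hcov U hx
      obtain ⟨V, hxV⟩ := Opens.mem_iSup.mp this
      exact Opens.mem_iSup.mpr ⟨V, hxV⟩
    · intro V
      have := hres V.2.2 a
      change (X.presheaf.map _).hom ((p.app U).hom a) = (X.presheaf.map _).hom t
      rw [← hsf V, ← ha V]
      exact this.symm

end Groth.Agent.Lib.Helper69
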