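import Groth.Agent.Lib.Helper69.DoubleCoverAlg
import Groth.Agent.Lib.Helper69.QuotLocal
import Groth.Agent.Lib.Helper69.Quot4
import Mathlib.AlgebraicGeometry.Morphisms.FlatRank
import Mathlib.AlgebraicGeometry.Cover.Directed
import Mathlib.AlgebraicGeometry.Gluing

/-!
# Helper library (helper69): double covers are quotients by an involution

For a finite flat morphism `f : X ⟶ Y` of rank two with `2` invertible on `Y`, the local
conjugations `b ↦ Tr(b) - b` glue to an involution `σ` of `X` over `Y` with `X/σ = Y`.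
-/

set_option autoImplicit false
universe u
open CategoryTheory CategoryTheory.Limits AlgebraicGeometry TopologicalSpace Opposite TensorProduct

namespace Groth.Agent.Lib.Helper69

namespace DC

variable {X Y : Scheme.{u}} (f : X ⟶ Y)

theorem isPullback_SpecMap_app [IsAffineHom f] (U : Y.Opens) (hU : IsAffineOpen U) :
    IsPullback (hU.preimage f).fromSpec (Spec.map (f.app U)) f hU.fromSpec := by
  refine (IsOpenImmersion.isPullback (Spec.map (f.app U)) (hU.preimage f).fromSpec hU.fromSpec f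
    ?_ ?_).flip
  · rw [← Scheme.Hom.appLE_eq_app]
    exact (IsAffineOpen.SpecMap_appLE_fromSpec f hU (hU.preimage f) le_rfl).symm
  · rw [IsAffineOpen.opensRange_fromSpec, IsAffineOpen.opensRange_fromSpec]

/-- The algebra structure on sections. -/
@[reducible] noncomputable def secAlg (U : Y.Opens) : Algebra Γ(Y, U) Γ(X, f ⁻¹ᵁ U) :=
  (f.app U).hom.toAlgebra

theorem finite_flat_rank [IsFinite f] [Flat f] (hrk : ∀ y : Y, f.finrank y = 2)
    (U : Y.Opens) (hU : IsAffineOpen U) :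
    letI := secAlg f U
    Module.Finite Γ(Y, U) Γ(X, f ⁻¹ᵁ U) ∧ Module.Flat Γ(Y, U) Γ(X, f ⁻¹ᵁ U) ∧
      ∀ p : PrimeSpectrum Γ(Y, U), Module.rankAtStalk (R := Γ(Y, U)) Γ(X, f ⁻¹ᵁ U) p = 2 := by
  letI := secAlg f U
  have H := isPullback_SpecMap_app f U hU
  have h1 : IsFinite (Spec.map (f.app U)) := MorphismProperty.of_isPullback H inferInstance
  have h2 : Flat (Spec.map (f.app U)) := MorphismProperty.of_isPullback H inferInstance
  rw [IsFinite.SpecMap_iff] at h1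
  rw [Flat.SpecMap_iff] at h2
  haveI h1' : Module.Finite Γ(Y, U) Γ(X, f ⁻¹ᵁ U) := h1
  haveI h2' : Module.Flat Γ(Y, U) Γ(X, f ⁻¹ᵁ U) := h2
  refine ⟨h1', h2', fun p => ?_⟩
  have h3 := Scheme.Hom.finrank_SpecMap_algebraMap Γ(Y, U) Γ(X, f ⁻¹ᵁ U) p
  rw [← h3]
  have h4 := Scheme.Hom.finrank_of_isPullback _ _ _ _ H p
  rw [hrk] at h4
  exact h4

theorem preimage_mono' {U W : Y.Opens} (h : W ≤ U) : f ⁻¹ᵁ W ≤ f ⁻¹ᵁ U := fun _ hx => h hx

theorem isPushout_sections [IsAffineHom f] {U W : Y.Opens} (hU : IsAffineOpen U)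
    (hW : IsAffineOpen W) (h : W ≤ U) :
    IsPushout (Y.presheaf.map (homOfLE h).op) (f.app U) (f.app W)
      (X.presheaf.map (homOfLE (preimage_mono' f h)).op) := by
  have hX : IsPullback (𝟙 X) f f (𝟙 Y) := IsPullback.of_id_fst
  have hle : W ≤ (𝟙 Y) ⁻¹ᵁ U := h
  have hUY : f ⁻¹ᵁ W = (𝟙 X) ⁻¹ᵁ (f ⁻¹ᵁ U) ⊓ f ⁻¹ᵁ W :=
    (inf_eq_right.mpr (preimage_mono' f h)).symm
  have hpo := (isIso_pushoutSection_iff hX hle (le_refl _) hUY).mp
    (isIso_pushoutSection_of_isAffineOpen hX hle le_rfl hUY hU hW (hU.preimage f))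
  convert hpo.flip using 1
  · simp only [Scheme.Hom.appLE, Scheme.Hom.id_app]
    exact (Category.id_comp _).symm
  · simp [Scheme.Hom.appLE]
  · simp [Scheme.Hom.appLE]
  · simp only [Scheme.Hom.appLE, Scheme.Hom.id_app]
    exact (Category.id_comp _).symm

/-- The sections over `U` have a basis of two elements. -/
def HasBasis2 (U : Y.Opens) : Prop :=
  letI := secAlg f U
  Nonempty (Module.Basis (Fin 2) Γ(Y, U) Γ(X, f ⁻¹ᵁ U))

/-- algebraic pushout statement for sections -/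
theorem algebra_isPushout_sections [IsAffineHom f] {U W : Y.Opens} (hU : IsAffineOpen U)
    (hW : IsAffineOpen W) (h : W ≤ U) :
    letI := secAlg f U
    letI := secAlg f W
    letI : Algebra Γ(Y, U) Γ(Y, W) := (Y.presheaf.map (homOfLE h).op).hom.toAlgebra
    letI : Algebra Γ(X, f ⁻¹ᵁ U) Γ(X, f ⁻¹ᵁ W) :=
      (X.presheaf.map (homOfLE (preimage_mono' f h)).op).hom.toAlgebra
    letI : Algebra Γ(Y, U) Γ(X, f ⁻¹ᵁ W) :=
      ((f.app W).hom.comp (Y.presheaf.map (homOfLE h).op).hom).toAlgebra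
    ∃ (_ : IsScalarTower Γ(Y, U) Γ(Y, W) Γ(X, f ⁻¹ᵁ W))
      (_ : IsScalarTower Γ(Y, U) Γ(X, f ⁻¹ᵁ U) Γ(X, f ⁻¹ᵁ W)),
      Algebra.IsPushout Γ(Y, U) Γ(Y, W) Γ(X, f ⁻¹ᵁ U) Γ(X, f ⁻¹ᵁ W) := by
  letI := secAlg f U
  letI := secAlg f W
  letI : Algebra Γ(Y, U) Γ(Y, W) := (Y.presheaf.map (homOfLE h).op).hom.toAlgebra
  letI : Algebra Γ(X, f ⁻¹ᵁ U) Γ(X, f ⁻¹ᵁ W) :=
    (X.presheaf.map (homOfLE (preimage_mono' f h)).op).hom.toAlgebra
  letI : Algebra Γ(Y, U) Γ(X, f ⁻¹ᵁ W) :=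
    ((f.app W).hom.comp (Y.presheaf.map (homOfLE h).op).hom).toAlgebra
  have hpo := isPushout_sections f hU hW h
  haveI t1 : IsScalarTower Γ(Y, U) Γ(Y, W) Γ(X, f ⁻¹ᵁ W) :=
    IsScalarTower.of_algebraMap_eq' rfl
  haveI t2 : IsScalarTower Γ(Y, U) Γ(X, f ⁻¹ᵁ U) Γ(X, f ⁻¹ᵁ W) := by
    apply IsScalarTower.of_algebraMap_eq'
    have := congrArg (fun f => f.hom) hpo.w
    exact this
  exact ⟨t1, t2, CommRingCat.isPushout_iff_isPushout.mp hpo⟩

theorem exists_hasBasis2_nbhd [IsFinite f] [Flat f] (hrk : ∀ y : Y, f.finrank y = 2)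
    (U₀ : Y.Opens) (y : Y) (hy : y ∈ U₀) :
    ∃ U : Y.Opens, IsAffineOpen U ∧ HasBasis2 f U ∧ y ∈ U ∧ U ≤ U₀ := by
  obtain ⟨U₁, hU₁, hyU₁, hle₁⟩ := Opens.isBasis_iff_nbhd.mp Y.isBasis_affineOpens hy
  letI := secAlg f U₁
  obtain ⟨hfin, hflat, hrank⟩ := finite_flat_rank f hrk U₁ hU₁
  let p := hU₁.primeIdealOf ⟨y, hyU₁⟩
  obtain ⟨a, hap, hfree⟩ := Module.Free.away_of_finite_of_flat_of_rankAtStalk_constant
    (R := Γ(Y, U₁)) Γ(X, f ⁻¹ᵁ U₁) p.asIdeal (fun m _ => by rw [hrank, hrank])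
  have hyU : y ∈ Y.basicOpen a := (mem_basicOpen_iff_notMem_primeIdealOf hU₁ y hyU₁ a).mpr hap
  have hU : IsAffineOpen (Y.basicOpen a) := hU₁.basicOpen a
  have hle : Y.basicOpen a ≤ U₁ := Y.basicOpen_le a
  refine ⟨Y.basicOpen a, hU, ?_, hyU, hle.trans hle₁⟩
  obtain ⟨hfin', hflat', hrank'⟩ := finite_flat_rank f hrk (Y.basicOpen a) hU
  obtain ⟨t1, t2, hpush⟩ := algebra_isPushout_sections f hU₁ hU hle
  letI := secAlg f (Y.basicOpen a)
  letI : Algebra Γ(Y, U₁) Γ(Y, Y.basicOpen a) := (Y.presheaf.map (homOfLE hle).op).hom.toAlgebra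
  letI : Algebra Γ(X, f ⁻¹ᵁ U₁) Γ(X, f ⁻¹ᵁ Y.basicOpen a) :=
    (X.presheaf.map (homOfLE (preimage_mono' f hle)).op).hom.toAlgebra
  letI : Algebra Γ(Y, U₁) Γ(X, f ⁻¹ᵁ Y.basicOpen a) :=
    ((f.app (Y.basicOpen a)).hom.comp (Y.presheaf.map (homOfLE hle).op).hom).toAlgebra
  haveI : IsLocalization.Away a Γ(Y, Y.basicOpen a) := hU₁.isLocalization_basicOpen a
  haveI hfr : Module.Free Γ(Y, Y.basicOpen a) Γ(X, f ⁻¹ᵁ Y.basicOpen a) :=
    free_of_free_away (A := Γ(Y, U₁)) (B := Γ(X, f ⁻¹ᵁ U₁)) a hfree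
  let q := hU.primeIdealOf ⟨y, hyU⟩
  haveI : Nontrivial Γ(Y, Y.basicOpen a) := q.nontrivial
  have h2 : Module.finrank Γ(Y, Y.basicOpen a) Γ(X, f ⁻¹ᵁ Y.basicOpen a) = 2 := by
    have := congrFun (Module.rankAtStalk_eq_finrank_of_free (R := Γ(Y, Y.basicOpen a))
      (M := Γ(X, f ⁻¹ᵁ Y.basicOpen a))) q
    rw [hrank'] at this
    exact this.symm
  exact ⟨Module.finBasisOfFinrankEq _ _ h2⟩

/-- conjugation on sections -/
noncomputable def secConj (U : Y.Opens) (h : HasBasis2 f U) :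
    Γ(X, f ⁻¹ᵁ U) ⟶ Γ(X, f ⁻¹ᵁ U) :=
  letI := secAlg f U
  CommRingCat.ofHom (conjHom h.some)

theorem app_secConj (U : Y.Opens) (h : HasBasis2 f U) : f.app U ≫ secConj f U h = f.app U := by
  letI := secAlg f U
  ext a
  exact conjHom_algebraMap h.some a

theorem secConj_secConj (U : Y.Opens) (h : HasBasis2 f U) :
    secConj f U h ≫ secConj f U h = 𝟙 _ := by
  letI := secAlg f U
  ext b
  exact conjHom_conjHom h.some b

theorem mem_range_of_secConj_eq (U : Y.Opens) (h : HasBasis2 f U) (h2 : IsUnit (2 : Γ(Y, U)))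
    (s : Γ(X, f ⁻¹ᵁ U)) (hs : (secConj f U h).hom s = s) : s ∈ Set.range (f.app U).hom := by
  letI := secAlg f U
  exact mem_range_of_conj_eq h.some h2 s hs

theorem app_injective_of_hasBasis2 (U : Y.Opens) (h : HasBasis2 f U) :
    Function.Injective (f.app U).hom := by
  letI := secAlg f U
  exact algebraMap_injective_of_basis h.some

theorem secConj_res [IsAffineHom f] {U W : Y.Opens} (hU : IsAffineOpen U)
    (hW : IsAffineOpen W) (hle : W ≤ U) (hbU : HasBasis2 f U) (hbW : HasBasis2 f W) :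
    secConj f U hbU ≫ X.presheaf.map (homOfLE (preimage_mono' f hle)).op =
      X.presheaf.map (homOfLE (preimage_mono' f hle)).op ≫ secConj f W hbW := by
  obtain ⟨t1, t2, hpush⟩ := algebra_isPushout_sections f hU hW hle
  letI := secAlg f U
  letI := secAlg f W
  letI : Algebra Γ(Y, U) Γ(Y, W) := (Y.presheaf.map (homOfLE hle).op).hom.toAlgebra
  letI : Algebra Γ(X, f ⁻¹ᵁ U) Γ(X, f ⁻¹ᵁ W) :=
    (X.presheaf.map (homOfLE (preimage_mono' f hle)).op).hom.toAlgebra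
  letI : Algebra Γ(Y, U) Γ(X, f ⁻¹ᵁ W) :=
    ((f.app W).hom.comp (Y.presheaf.map (homOfLE hle).op).hom).toAlgebra
  ext b
  exact (conjHom_isPushout (A := Γ(Y, U)) (A' := Γ(Y, W)) hbU.some hbW.some b).symm

section Glue

variable {X : Scheme.{u}} {I : Type u} [Preorder I] (V : I → X.Opens) (hmono : Monotone V)
  (hcov : ∀ x : X, ∃ i, x ∈ V i)
  (hdir : ∀ (i j : I) (x : X), x ∈ V i → x ∈ V j → ∃ k, k ≤ i ∧ k ≤ j ∧ x ∈ V k)

/-- The cover of `X` by a directed family of opens. -/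
@[nolint unusedArguments]
noncomputable def dirCover (_ : Monotone V)
    (_ : ∀ (i j : I) (x : X), x ∈ V i → x ∈ V j → ∃ k, k ≤ i ∧ k ≤ j ∧ x ∈ V k) :
    X.OpenCover where
  I₀ := I
  X i := V i
  f i := (V i).ι
  mem₀ := by
    rw [Scheme.presieve₀_mem_precoverage_iff]
    refine ⟨fun x => ?_, inferInstance⟩
    obtain ⟨i, hx⟩ := hcov x
    exact ⟨i, ⟨x, hx⟩, rfl⟩

instance : Preorder (dirCover V hcov hmono hdir).I₀ := inferInstanceAs <| Preorder I

noncomputable instance : Scheme.Cover.LocallyDirected (dirCover V hcov hmono hdir) where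
  trans {i j} hij := X.homOfLE (hmono (leOfHom hij))
  trans_id i := X.homOfLE_rfl _
  trans_comp hij hjk := (X.homOfLE_homOfLE _ _).symm
  w hij := X.homOfLE_ι _
  property_trans hij := by
    change IsOpenImmersion (X.homOfLE _)
    infer_instance
  directed {i j} x := by
    let z : X := (dirCover V hcov hmono hdir).f i
      (pullback.fst ((dirCover V hcov hmono hdir).f i) ((dirCover V hcov hmono hdir).f j) x)
    have hzi : z ∈ V i :=
      ((pullback.fst ((dirCover V hcov hmono hdir).f i) ((dirCover V hcov hmono hdir).f j)) x).2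
    have hzj : z ∈ V j := by
      have : z = (dirCover V hcov hmono hdir).f j
          (pullback.snd ((dirCover V hcov hmono hdir).f i)
            ((dirCover V hcov hmono hdir).f j) x) := by
        change (dirCover V hcov hmono hdir).f i
          (pullback.fst ((dirCover V hcov hmono hdir).f i)
            ((dirCover V hcov hmono hdir).f j) x) = _
        rw [← Scheme.Hom.comp_apply, pullback.condition, Scheme.Hom.comp_apply]
      rw [this]
      exact ((pullback.snd ((dirCover V hcov hmono hdir).f i)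
        ((dirCover V hcov hmono hdir).f j)) x).2
    obtain ⟨k, hki, hkj, hzk⟩ := hdir i j z hzi hzj
    refine ⟨k, homOfLE hki, homOfLE hkj, (⟨z, hzk⟩ : (V k : Scheme.{u})), ?_⟩
    apply (pullback.fst ((dirCover V hcov hmono hdir).f i) ((dirCover V hcov hmono hdir).f j) ≫
      (dirCover V hcov hmono hdir).f i).isOpenEmbedding.injective
    rw [← Scheme.Hom.comp_apply, pullback.lift_fst_assoc]
    change (X.homOfLE _ ≫ (V i).ι) _ = _
    rw [Scheme.homOfLE_ι, Scheme.Hom.comp_apply]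
    rfl

variable (haff : ∀ i, IsAffineOpen (V i))

include hcov hmono hdir in
theorem hom_ext_of_dirCover {Z : Scheme.{u}} (g₁ g₂ : X ⟶ Z)
    (h : ∀ i, (haff i).fromSpec ≫ g₁ = (haff i).fromSpec ≫ g₂) : g₁ = g₂ := by
  apply (dirCover V hcov hmono hdir).hom_ext
  intro i
  change (V i).ι ≫ g₁ = (V i).ι ≫ g₂
  rw [← (haff i).toSpecΓ_fromSpec, Category.assoc, Category.assoc, h]

include hcov hmono hdir in
theorem exists_glue_endo (τ : ∀ i, Γ(X, V i) ⟶ Γ(X, V i))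
    (hτ : ∀ (i j : I) (h : i ≤ j),
      τ j ≫ X.presheaf.map (homOfLE (hmono h)).op = X.presheaf.map (homOfLE (hmono h)).op ≫ τ i) :
    ∃ σ : X ⟶ X, ∀ i, (haff i).fromSpec ≫ σ = Spec.map (τ i) ≫ (haff i).fromSpec := by
  let g : ∀ i, (V i : Scheme.{u}) ⟶ X := fun i =>
    (V i).toSpecΓ ≫ Spec.map (τ i) ≫ (haff i).fromSpec
  have hg : ∀ {i j : (dirCover V hcov hmono hdir).I₀} (hij : i ⟶ j),
      (dirCover V hcov hmono hdir).trans hij ≫ g j = g i := by
    intro i j hij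
    change X.homOfLE (hmono (leOfHom hij)) ≫ (V j).toSpecΓ ≫ Spec.map (τ j) ≫ _ =
      (V i).toSpecΓ ≫ Spec.map (τ i) ≫ _
    rw [← Category.assoc, ← Scheme.Opens.toSpecΓ_SpecMap_presheaf_map, Category.assoc,
      ← Spec.map_comp_assoc, hτ i j (leOfHom hij), Spec.map_comp_assoc, IsAffineOpen.map_fromSpec]
  refine ⟨(dirCover V hcov hmono hdir).glueMorphismsOfLocallyDirected g hg, fun i => ?_⟩
  have h1 : (V i).ι ≫ (dirCover V hcov hmono hdir).glueMorphismsOfLocallyDirected g hg = g i :=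
    (dirCover V hcov hmono hdir).map_glueMorphismsOfLocallyDirected g hg i
  rw [← (haff i).isoSpec_inv_ι, Category.assoc, h1]
  change _ ≫ (V i).toSpecΓ ≫ _ = _
  rw [← Category.assoc, IsAffineOpen.isoSpec_inv_toSpecΓ, Category.id_comp]
  rfl

end Glue

section Main

variable {X Y : Scheme.{u}} (f : X ⟶ Y)

theorem appLE_eq_of_fromSpec (σ : X ⟶ X) {V : X.Opens} (hV : IsAffineOpen V)
    (τ : Γ(X, V) ⟶ Γ(X, V)) (h : hV.fromSpec ≫ σ = Spec.map τ ≫ hV.fromSpec)
    (e : V ≤ σ ⁻¹ᵁ V) : σ.appLE V V e = τ := by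
  have := IsAffineOpen.SpecMap_appLE_fromSpec σ hV hV e
  rw [h] at this
  exact Spec.map_injective ((cancel_mono hV.fromSpec).mp this)

/-- the index type of charts -/
abbrev Chart : Type u := {U : Y.Opens // IsAffineOpen U ∧ HasBasis2 f U}

/-- The stabiliser of `f` in `Aut X`. -/
def stab : Subgroup (Aut X) where
  carrier := {g | g.hom ≫ f = f}
  mul_mem' {a b} ha hb := by
    change (b.hom ≫ a.hom) ≫ f = f
    rw [Category.assoc, ha, hb]
  one_mem' := Category.id_comp f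
  inv_mem' {a} ha := by
    change a.inv ≫ f = f
    rw [Iso.inv_comp_eq]
    exact ha.symm

theorem isUnit_two_of_top (h2 : IsUnit (2 : Γ(Y, ⊤))) (U : Y.Opens) : IsUnit (2 : Γ(Y, U)) := by
  have := h2.map (Y.presheaf.map (homOfLE (le_top : U ≤ ⊤)).op).hom
  rwa [map_ofNat] at this

theorem exists_involution [IsFinite f] [Flat f] (hrk : ∀ y : Y, f.finrank y = 2)
    (h2 : IsUnit (2 : Γ(Y, ⊤))) :
    ∃ σ : Aut X, σ.hom ≫ f = f ∧ σ * σ = 1 ∧ SGA1.IsQuot (Subgroup.zpowers σ).subtype f := by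
  let V : Chart f → X.Opens := fun i => f ⁻¹ᵁ i.1
  have hmono : Monotone V := fun i j h => preimage_mono' f h
  have hcov : ∀ x : X, ∃ i, x ∈ V i := by
    intro x
    obtain ⟨U, hU, hb, hx, -⟩ := exists_hasBasis2_nbhd f hrk ⊤ (f x) trivial
    exact ⟨⟨U, hU, hb⟩, hx⟩
  have hdir : ∀ (i j : Chart f) (x : X), x ∈ V i → x ∈ V j →
      ∃ k, k ≤ i ∧ k ≤ j ∧ x ∈ V k := by
    intro i j x hi hj
    obtain ⟨U, hU, hb, hx, hle⟩ := exists_hasBasis2_nbhd f hrk (i.1 ⊓ j.1) (f x) ⟨hi, hj⟩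
    exact ⟨⟨U, hU, hb⟩, hle.trans inf_le_left, hle.trans inf_le_right, hx⟩
  have haff : ∀ i, IsAffineOpen (V i) := fun i => i.2.1.preimage f
  let τ : ∀ i, Γ(X, V i) ⟶ Γ(X, V i) := fun i => secConj f i.1 i.2.2
  have hτ : ∀ (i j : Chart f) (h : i ≤ j),
      τ j ≫ X.presheaf.map (homOfLE (hmono h)).op =
        X.presheaf.map (homOfLE (hmono h)).op ≫ τ i :=
    fun i j h => secConj_res f j.2.1 i.2.1 h j.2.2 i.2.2
  obtain ⟨σ, hσ⟩ := exists_glue_endo V hmono hcov hdir haff τ hτ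
  have hσf : σ ≫ f = f := by
    apply hom_ext_of_dirCover V hmono hcov hdir haff
    intro i
    rw [← Category.assoc, hσ i, Category.assoc]
    have h1 : (haff i).fromSpec ≫ f = Spec.map (f.app i.1) ≫ i.2.1.fromSpec :=
      (isPullback_SpecMap_app f i.1 i.2.1).w
    rw [h1, ← Spec.map_comp_assoc, app_secConj]
  have hσσ : σ ≫ σ = 𝟙 X := by
    apply hom_ext_of_dirCover V hmono hcov hdir haff
    intro i
    rw [← Category.assoc, hσ i, Category.assoc, hσ i, ← Spec.map_comp_assoc, secConj_secConj,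
      Spec.map_id, Category.id_comp, Category.comp_id]
  let σ' : Aut X := ⟨σ, σ, hσσ, hσσ⟩
  have hinv : ∀ g : Subgroup.zpowers σ', ((Subgroup.zpowers σ').subtype g).hom ≫ f = f := by
    intro g
    have hle : Subgroup.zpowers σ' ≤ stab f := (Subgroup.zpowers_le).mpr hσf
    exact hle g.2
  haveI : IsAffineHom f := inferInstance
  refine ⟨σ', hσf, ?_, ?_⟩
  · apply Iso.ext
    exact hσσ
  · refine isQuot_of_basis (Subgroup.zpowers σ').subtype f hinv
      {U : Y.Opens | IsAffineOpen U ∧ HasBasis2 f U} ?_ ?_ ?_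
    · rw [Opens.isBasis_iff_nbhd]
      intro U₀ y hy
      obtain ⟨U, hU, hb, hyU, hle⟩ := exists_hasBasis2_nbhd f hrk U₀ y hy
      exact ⟨U, ⟨hU, hb⟩, hyU, hle⟩
    · rintro U ⟨hU, hb⟩
      exact app_injective_of_hasBasis2 f U hb
    · rintro U ⟨hU, hb⟩ s hs
      apply mem_range_of_secConj_eq f U hb (isUnit_two_of_top h2 U) s
      have h1 := hs ⟨σ', Subgroup.mem_zpowers σ'⟩
      have h3 : σ.appLE (f ⁻¹ᵁ U) (f ⁻¹ᵁ U)
          (SGA1.preimage_le_of_inv (Subgroup.zpowers σ').subtype f hinv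
            ⟨σ', Subgroup.mem_zpowers σ'⟩ U) = secConj f U hb :=
        appLE_eq_of_fromSpec σ (hU.preimage f) (secConj f U hb) (hσ ⟨U, hU, hb⟩) _
      rw [← h3]
      exact h1

end Main

end DC

end Groth.Agent.Lib.Helper69
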