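import Mathlib.RingTheory.Trace.Basic
import Mathlib.RingTheory.IsTensorProduct
import Mathlib.RingTheory.Flat.LocallyFree
import Mathlib.LinearAlgebra.Matrix.Adjugate
import Mathlib.RingTheory.TensorProduct.Free

/-!
# Helper library (helper69): algebra of free rank-two algebras (double covers)

For an `A`-algebra `B` with a basis of two elements, `b ↦ Tr(b) - b` is a ring involution of `B`
fixing `A`; if `2` is invertible its fixed ring is `A`. It commutes with base change.
-/

set_option autoImplicit false
universe u
open TensorProduct

namespace Groth.Agent.Lib.Helper69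

namespace DC

section Rank2

variable {A B : Type*} [CommRing A] [CommRing B] [Algebra A B]

/-- conjugation `b ↦ Tr(b) - b`. -/
noncomputable def conj (b : B) : B := algebraMap A B (Algebra.trace A B b) - b

theorem leftMulMatrix_conj (bas : Module.Basis (Fin 2) A B) (b : B) :
    Algebra.leftMulMatrix bas (conj (A := A) b) = Matrix.adjugate (Algebra.leftMulMatrix bas b) := by
  unfold conj
  rw [map_sub, AlgHom.commutes, Algebra.trace_eq_matrix_trace bas b, Matrix.adjugate_fin_two,
    Matrix.trace_fin_two]
  ext i j
  fin_cases i <;> fin_cases j <;> simp [Matrix.algebraMap_matrix_apply]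

theorem conj_mul (bas : Module.Basis (Fin 2) A B) (x y : B) :
    conj (A := A) (x * y) = conj (A := A) x * conj (A := A) y := by
  apply Algebra.leftMulMatrix_injective bas
  rw [leftMulMatrix_conj, map_mul, Matrix.adjugate_mul_distrib, ← leftMulMatrix_conj,
    ← leftMulMatrix_conj, ← map_mul, mul_comm]

variable (A) in
theorem conj_add (x y : B) : conj (A := A) (x + y) = conj (A := A) x + conj (A := A) y := by
  unfold conj
  rw [map_add, map_add]
  ring

theorem conj_algebraMap (bas : Module.Basis (Fin 2) A B) (a : A) :
    conj (A := A) (algebraMap A B a) = algebraMap A B a := by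
  unfold conj
  rw [Algebra.trace_algebraMap_of_basis bas, Fintype.card_fin, two_smul, map_add]
  ring

theorem trace_conj (bas : Module.Basis (Fin 2) A B) (b : B) :
    Algebra.trace A B (conj (A := A) b) = Algebra.trace A B b := by
  unfold conj
  rw [map_sub, Algebra.trace_algebraMap_of_basis bas, Fintype.card_fin, two_smul]
  ring

theorem conj_conj (bas : Module.Basis (Fin 2) A B) (b : B) :
    conj (A := A) (conj (A := A) b) = b := by
  have := trace_conj bas b
  unfold conj at this ⊢
  rw [this]
  ring

/-- conjugation as a ring homomorphism -/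
noncomputable def conjHom (bas : Module.Basis (Fin 2) A B) : B →+* B where
  toFun := conj (A := A)
  map_one' := by
    have := conj_algebraMap bas 1
    rwa [map_one] at this
  map_mul' x y := conj_mul bas x y
  map_zero' := by
    have := conj_algebraMap bas 0
    rwa [map_zero] at this
  map_add' := conj_add A

theorem conjHom_apply (bas : Module.Basis (Fin 2) A B) (b : B) :
    conjHom bas b = algebraMap A B (Algebra.trace A B b) - b := rfl

theorem conjHom_algebraMap (bas : Module.Basis (Fin 2) A B) (a : A) :
    conjHom bas (algebraMap A B a) = algebraMap A B a := conj_algebraMap bas a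

theorem conjHom_conjHom (bas : Module.Basis (Fin 2) A B) (b : B) :
    conjHom bas (conjHom bas b) = b := conj_conj bas b

theorem mem_range_of_conj_eq (bas : Module.Basis (Fin 2) A B) (hu : IsUnit (2 : A)) (b : B)
    (hb : conjHom bas b = b) : b ∈ Set.range (algebraMap A B) := by
  obtain ⟨u, hu⟩ := hu
  refine ⟨↑u⁻¹ * Algebra.trace A B b, ?_⟩
  rw [conjHom_apply, sub_eq_iff_eq_add] at hb
  rw [map_mul, hb, ← two_mul, ← mul_assoc]
  have : algebraMap A B (↑u⁻¹) * 2 = 1 := by
    have h1 : (↑u⁻¹ : A) * 2 = 1 := by rw [← hu]; exact u.inv_mul
    have := congrArg (algebraMap A B) h1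
    rwa [map_mul, map_ofNat, map_one] at this
  rw [this, one_mul]

theorem algebraMap_injective_of_basis (bas : Module.Basis (Fin 2) A B) :
    Function.Injective (algebraMap A B) := by
  rw [injective_iff_map_eq_zero]
  intro a ha
  have h1 : a • bas 0 = 0 := by rw [Algebra.smul_def, ha, zero_mul]
  have := congrArg (fun v => bas.repr v 0) h1
  simpa using this

end Rank2

section BaseChange

variable {A A' B B' : Type*} [CommRing A] [CommRing A'] [CommRing B] [CommRing B']
    [Algebra A A'] [Algebra A B] [Algebra A' B'] [Algebra B B'] [Algebra A B']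
    [IsScalarTower A A' B'] [IsScalarTower A B B'] [Algebra.IsPushout A A' B B']

theorem trace_isPushout [Module.Free A B] [Module.Finite A B] (b : B) :
    Algebra.trace A' B' (algebraMap B B' b) = algebraMap A A' (Algebra.trace A B b) := by
  let e := Algebra.IsPushout.equiv A A' B B'
  have h1 : algebraMap B B' b = e ((1 : A') ⊗ₜ[A] b) := by
    simp [e, Algebra.IsPushout.equiv_tmul]
  rw [h1, Algebra.trace_eq_of_algEquiv e, Algebra.trace_apply, Algebra.trace_apply,
    ← LinearMap.trace_baseChange]
  congr 1
  ext x
  simp

theorem conjHom_isPushout (bas : Module.Basis (Fin 2) A B) (bas' : Module.Basis (Fin 2) A' B')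
    (b : B) : conjHom bas' (algebraMap B B' b) = algebraMap B B' (conjHom bas b) := by
  haveI : Module.Free A B := Module.Free.of_basis bas
  haveI : Module.Finite A B := Module.Finite.of_basis bas
  rw [conjHom_apply, conjHom_apply, trace_isPushout (A := A) (A' := A') b, map_sub,
    ← IsScalarTower.algebraMap_apply, ← IsScalarTower.algebraMap_apply]

end BaseChange


theorem free_of_free_away {A A' B B' : Type u} [CommRing A] [CommRing A'] [CommRing B] [CommRing B']
    [Algebra A A'] [Algebra A B] [Algebra A' B'] [Algebra B B'] [Algebra A B']
    [IsScalarTower A A' B'] [IsScalarTower A B B'] [Algebra.IsPushout A A' B B']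
    (r : A) [IsLocalization.Away r A']
    (h : Module.Free (Localization.Away r) (LocalizedModule.Away r B)) : Module.Free A' B' := by
  letI : Algebra (Localization.Away r) A' :=
    (IsLocalization.Away.lift r (g := algebraMap A A')
      (IsLocalization.Away.algebraMap_isUnit r)).toAlgebra
  haveI : IsScalarTower A (Localization.Away r) A' :=
    IsScalarTower.of_algebraMap_eq' (IsLocalization.Away.lift_comp ..).symm
  have e1 := (IsLocalizedModule.isBaseChange (Submonoid.powers r) (Localization.Away r)
    (LocalizedModule.mkLinearMap (Submonoid.powers r) B)).equiv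
  haveI : Module.Free (Localization.Away r) ((Localization.Away r) ⊗[A] B) :=
    Module.Free.of_equiv e1.symm
  have e2 := TensorProduct.AlgebraTensorModule.cancelBaseChange A (Localization.Away r) A' A' B
  haveI : Module.Free A' (A' ⊗[A] B) := Module.Free.of_equiv e2
  exact Module.Free.of_equiv (Algebra.IsPushout.equiv A A' B B').toLinearEquiv

end DC

end Groth.Agent.Lib.Helper69
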