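import Mathlib
import Groth.Agent.Lib.Helper69.DvrIso

set_option autoImplicit false
universe u
open CategoryTheory CategoryTheory.Limits AlgebraicGeometry

namespace Groth.Agent.Lib.Helper69.DvrIso

section Tau
variable (R : Type u) [CommRing R] [IsDomain R] [IsDiscreteValuationRing R] (ϖ : R)

/-- the uniformizer as a function on an open of an `R`-scheme. -/
noncomputable def tauOn (Z : Over (Spec (CommRingCat.of R))) (W : Z.left.Opens) : Γ(Z.left, W) :=
  (Z.hom.appLE ⊤ W le_top).hom (tau R ϖ)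

theorem tauOn_res (Z : Over (Spec (CommRingCat.of R))) {W W' : Z.left.Opens} (h : W' ≤ W) :
    (Z.left.presheaf.map (homOfLE h).op).hom (tauOn R ϖ Z W) = tauOn R ϖ Z W' := by
  unfold tauOn
  rw [← CommRingCat.comp_apply, Scheme.Hom.appLE_map]

theorem tauOn_map {X Y : Over (Spec (CommRingCat.of R))} (π : Y ⟶ X) (V : X.left.Opens) :
    (π.left.app V).hom (tauOn R ϖ X V) = tauOn R ϖ Y (π.left ⁻¹ᵁ V) := by
  unfold tauOn
  rw [← CommRingCat.comp_apply, Scheme.Hom.app_eq_appLE, Scheme.Hom.appLE_comp_appLE]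
  have h := Over.w π
  have key : ∀ (g : Y.left ⟶ Spec (CommRingCat.of R)) (hg : g = Y.hom),
      (g.appLE ⊤ (π.left ⁻¹ᵁ V) le_top) = (Y.hom.appLE ⊤ (π.left ⁻¹ᵁ V) le_top) := by
    intro g hg; subst hg; rfl
  rw [key _ h]

theorem tauOn_eq_res (Z : Over (Spec (CommRingCat.of R))) (W : Z.left.Opens) :
    tauOn R ϖ Z W = (Z.left.presheaf.map (homOfLE (le_top : W ≤ ⊤)).op).hom
      (Z.hom.appTop (tau R ϖ)) := by
  unfold tauOn
  rw [← CommRingCat.comp_apply]
  rfl

theorem basicOpen_tauOn (hϖ : Irreducible ϖ) (Z : Over (Spec (CommRingCat.of R)))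
    (W : Z.left.Opens) : Z.left.basicOpen (tauOn R ϖ Z W) = W ⊓ genOpen R Z := by
  rw [tauOn_eq_res, Scheme.basicOpen_res, genOpen_eq R hϖ]

theorem tau_ne_zero (hϖ : Irreducible ϖ) : tau R ϖ ≠ 0 := by
  intro h
  have : (Scheme.ΓSpecIso (CommRingCat.of R)).hom (tau R ϖ) = ϖ :=
    Iso.inv_hom_id_apply (Scheme.ΓSpecIso (CommRingCat.of R)) ϖ
  rw [h, map_zero] at this
  exact hϖ.ne_zero this.symm

theorem isDomain_sections : IsDomain Γ(Spec (CommRingCat.of R), ⊤) :=
  (Scheme.ΓSpecIso (CommRingCat.of R)).commRingCatIsoToRingEquiv.toMulEquiv.isDomain R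

theorem tauOn_regular_of_isAffineOpen (hϖ : Irreducible ϖ) (Z : Over (Spec (CommRingCat.of R)))
    [Flat Z.hom] (W : Z.left.Opens) (hW : IsAffineOpen W) (s : Γ(Z.left, W))
    (hs : tauOn R ϖ Z W * s = 0) : s = 0 := by
  have hflat : (Z.hom.appLE ⊤ W le_top).hom.Flat :=
    HasRingHomProperty.appLE @Flat Z.hom ‹Flat Z.hom› ⟨⊤, isAffineOpen_top _⟩ ⟨W, hW⟩ le_top
  letI := (Z.hom.appLE ⊤ W le_top).hom.toAlgebra
  haveI : Module.Flat Γ(Spec (CommRingCat.of R), ⊤) Γ(Z.left, W) := hflat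
  haveI := isDomain_sections R
  have hreg : IsSMulRegular Γ(Spec (CommRingCat.of R), ⊤) (tau R ϖ) :=
    (isRegular_of_ne_zero (tau_ne_zero R ϖ hϖ)).left.isSMulRegular
  have h2 : IsSMulRegular Γ(Z.left, W) (algebraMap Γ(Spec (CommRingCat.of R), ⊤) Γ(Z.left, W)
      (tau R ϖ)) := IsSMulRegular.of_flat hreg
  apply h2
  simp only [smul_eq_mul, mul_zero]
  exact hs

end Tau

section More
variable (R : Type u) [CommRing R] [IsDomain R] [IsDiscreteValuationRing R] (ϖ : R)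

theorem tauOn_regular (hϖ : Irreducible ϖ) (Z : Over (Spec (CommRingCat.of R)))
    [Flat Z.hom] (W : Z.left.Opens) (s : Γ(Z.left, W))
    (hs : tauOn R ϖ Z W * s = 0) : s = 0 := by
  have hcov : W ≤ ⨆ V : {V : Z.left.Opens // IsAffineOpen V ∧ V ≤ W}, (V : Z.left.Opens) := by
    intro x hx
    obtain ⟨V, hV, hxV, hVW⟩ := TopologicalSpace.Opens.isBasis_iff_nbhd.mp
      Z.left.isBasis_affineOpens hx
    exact TopologicalSpace.Opens.mem_iSup.mpr ⟨⟨V, hV, hVW⟩, hxV⟩
  apply Z.left.sheaf.eq_of_locally_eq'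
    (fun V : {V : Z.left.Opens // IsAffineOpen V ∧ V ≤ W} => (V : Z.left.Opens)) W
    (fun V => homOfLE V.2.2) hcov
  intro V
  change (Z.left.presheaf.map (homOfLE V.2.2).op).hom s =
    (Z.left.presheaf.map (homOfLE V.2.2).op).hom 0
  rw [map_zero]
  apply tauOn_regular_of_isAffineOpen R ϖ hϖ Z V.1 V.2.1
  rw [← tauOn_res R ϖ Z V.2.2, ← map_mul, hs, map_zero]

theorem isIntegral_app_of_isAffineOpen {X Y : Scheme.{u}} (f : Y ⟶ X) [UniversallyClosed f]
    (V : X.Opens) (hV : IsAffineOpen V) : (f.app V).hom.IsIntegral := by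
  haveI : IsAffine V.toScheme := hV
  have h := isIntegral_appTop_of_universallyClosed (f ∣_ V)
  rw [morphismRestrict_appTop] at h
  have h0 : IsIso (Y.presheaf.map
      (eqToHom (image_morphismRestrict_preimage f V ⊤)).op) := by
    rw [eqToHom_op, eqToHom_map]
    infer_instance
  have h1 : (f.app (V.ι ''ᵁ ⊤)).hom.IsIntegral :=
    (@RingHom.RespectsIso.cancel_right_isIso _ RingHom.isIntegral_respectsIso _ _ _
      (f.app (V.ι ''ᵁ ⊤)) _ h0).mp h
  have key : ∀ (W W' : X.Opens), W = W' → (f.app W).hom.IsIntegral → (f.app W').hom.IsIntegral := by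
    intro W W' e hW; subst e; exact hW
  exact key _ _ V.ι_image_top h1

end More

section Basis
open TopologicalSpace

/-- A morphism of schemes inducing bijections on sections over a basis induces bijections on
sections over all opens. -/
theorem bijective_app_of_basis {X Y : Scheme.{u}} (p : X ⟶ Y) (B : Set Y.Opens)
    (hB : Opens.IsBasis B) (hbij : ∀ V ∈ B, Function.Bijective (p.app V).hom) (U : Y.Opens) :
    Function.Bijective (p.app U).hom := by
  have hcov : ∀ U : Y.Opens, U ≤ ⨆ V : {V : Y.Opens // V ∈ B ∧ V ≤ U}, (V : Y.Opens) := by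
    intro U x hx
    obtain ⟨V, hVB, hxV, hVU⟩ := Opens.isBasis_iff_nbhd.mp hB hx
    exact Opens.mem_iSup.mpr ⟨⟨V, hVB, hVU⟩, hxV⟩
  have hres : ∀ {U V : Y.Opens} (hVU : V ≤ U) (a : Γ(Y, U)),
      (p.app V).hom ((Y.presheaf.map (homOfLE hVU).op).hom a) =
        (X.presheaf.map (homOfLE (show p ⁻¹ᵁ V ≤ p ⁻¹ᵁ U from fun _ hx => hVU hx)).op).hom
          ((p.app U).hom a) := by
    intro U V hVU a
    change (Y.presheaf.map (homOfLE hVU).op ≫ p.app V).hom a = (p.app U ≫ X.presheaf.map _).hom a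
    rw [Scheme.Hom.naturality]
    rfl
  have hinjU : ∀ U : Y.Opens, Function.Injective (p.app U).hom := by
    intro U a b hab
    apply Y.sheaf.eq_of_locally_eq' (fun V : {V : Y.Opens // V ∈ B ∧ V ≤ U} => (V : Y.Opens)) U
      (fun V => homOfLE V.2.2) (hcov U)
    intro V
    apply (hbij V.1 V.2.1).1
    change (p.app V.1).hom ((Y.presheaf.map (homOfLE V.2.2).op).hom a) =
      (p.app V.1).hom ((Y.presheaf.map (homOfLE V.2.2).op).hom b)
    rw [hres, hres, hab]
  refine ⟨hinjU U, fun t => ?_⟩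
  have hloc : ∀ V : {V : Y.Opens // V ∈ B ∧ V ≤ U}, ∃ a : Γ(Y, V.1), (p.app V.1).hom a =
      (X.presheaf.map (homOfLE (show p ⁻¹ᵁ V.1 ≤ p ⁻¹ᵁ U from
        fun _ hx => V.2.2 hx)).op).hom t := fun V => (hbij V.1 V.2.1).2 _
  choose sf hsf using hloc
  have hcompat : TopCat.Presheaf.IsCompatible Y.presheaf
      (fun V : {V : Y.Opens // V ∈ B ∧ V ≤ U} => (V : Y.Opens)) sf := by
    intro V V'
    apply Y.sheaf.eq_of_locally_eq'
      (fun W : {W : Y.Opens // W ∈ B ∧ W ≤ V.1 ⊓ V'.1} => (W : Y.Opens)) (V.1 ⊓ V'.1)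
      (fun W => homOfLE W.2.2) (hcov _)
    intro W
    have hWV : W.1 ≤ V.1 := W.2.2.trans inf_le_left
    have hWV' : W.1 ≤ V'.1 := W.2.2.trans inf_le_right
    have e1 : (Y.presheaf.map (homOfLE W.2.2).op).hom
        ((Y.presheaf.map (Opens.infLELeft V.1 V'.1).op).hom (sf V)) =
        (Y.presheaf.map (homOfLE hWV).op).hom (sf V) := by
      change (Y.presheaf.map _ ≫ Y.presheaf.map _).hom (sf V) = _
      rw [← Functor.map_comp]
      rfl
    have e2 : (Y.presheaf.map (homOfLE W.2.2).op).hom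
        ((Y.presheaf.map (Opens.infLERight V.1 V'.1).op).hom (sf V')) =
        (Y.presheaf.map (homOfLE hWV').op).hom (sf V') := by
      change (Y.presheaf.map _ ≫ Y.presheaf.map _).hom (sf V') = _
      rw [← Functor.map_comp]
      rfl
    change (Y.presheaf.map (homOfLE W.2.2).op).hom
        ((Y.presheaf.map (Opens.infLELeft V.1 V'.1).op).hom (sf V)) =
      (Y.presheaf.map (homOfLE W.2.2).op).hom
        ((Y.presheaf.map (Opens.infLERight V.1 V'.1).op).hom (sf V'))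
    rw [e1, e2]
    apply (hbij W.1 W.2.1).1
    rw [hres, hres, hsf, hsf]
    change (X.presheaf.map _ ≫ X.presheaf.map _).hom t = (X.presheaf.map _ ≫ X.presheaf.map _).hom t
    rw [← Functor.map_comp, ← Functor.map_comp]
    rfl
  obtain ⟨a, ha, -⟩ := Y.sheaf.existsUnique_gluing'
    (fun V : {V : Y.Opens // V ∈ B ∧ V ≤ U} => (V : Y.Opens)) U
    (fun V => homOfLE V.2.2) (hcov U) sf hcompat
  refine ⟨a, ?_⟩
  apply X.sheaf.eq_of_locally_eq'
    (fun V : {V : Y.Opens // V ∈ B ∧ V ≤ U} => p ⁻¹ᵁ (V : Y.Opens)) (p ⁻¹ᵁ U)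
    (fun V => homOfLE (fun _ hx => V.2.2 hx))
  · intro x hx
    have := hcov U hx
    obtain ⟨V, hxV⟩ := Opens.mem_iSup.mp this
    exact Opens.mem_iSup.mpr ⟨V, hxV⟩
  · intro V
    have := hres V.2.2 a
    change (X.presheaf.map _).hom ((p.app U).hom a) = (X.presheaf.map _).hom t
    rw [← hsf V, ← ha V]
    exact this.symm

end Basis

end Groth.Agent.Lib.Helper69.DvrIso
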