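import Mathlib
import Groth.Agent.Lib.Helper69.DvrIso2

set_option autoImplicit false
universe u
open CategoryTheory CategoryTheory.Limits AlgebraicGeometry

namespace Groth.Agent.Lib.Helper69.DvrIso

section Red
variable (R : Type u) [CommRing R] [IsDomain R] [IsDiscreteValuationRing R] (ϖ : R)
variable (X : Over (Spec (CommRingCat.of R)))

/-- the closed point of `Spec R`, typed as a point of the scheme. -/
noncomputable abbrev cp : ↥(Spec (CommRingCat.of R)) := IsLocalRing.closedPoint R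

theorem fiberι_notMem_genOpen (hϖ : Irreducible ϖ)
    (x : ↥(X.hom.fiber (cp R))) :
    X.hom.fiberι (cp R) x ∉ genOpen R X := by
  intro hx
  rw [genOpen_eq R hϖ, ← Scheme.preimage_basicOpen_top, basicOpen_eq_of_affine'] at hx
  have h1 : X.hom (X.hom.fiberι (cp R) x) = cp R := by
    have : X.hom.fiberι (cp R) x ∈ X.hom ⁻¹' {cp R} := by
      rw [← Scheme.Hom.range_fiberι]; exact ⟨x, rfl⟩
    exact this
  have h2 : (Scheme.ΓSpecIso (CommRingCat.of R)).hom (tau R ϖ) = ϖ :=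
    Iso.inv_hom_id_apply (Scheme.ΓSpecIso (CommRingCat.of R)) ϖ
  have hx' : X.hom (X.hom.fiberι (cp R) x) ∈
      PrimeSpectrum.basicOpen ((Scheme.ΓSpecIso (CommRingCat.of R)).hom (tau R ϖ)) := hx
  rw [h1, h2] at hx'
  apply hx'
  show ϖ ∈ IsLocalRing.maximalIdeal R
  rw [IsLocalRing.mem_maximalIdeal]
  exact hϖ.not_isUnit

theorem fiberι_app_tauOn (hϖ : Irreducible ϖ)
    [IsReduced (X.hom.fiber (cp R))] (V : X.left.Opens) :
    ((X.hom.fiberι (cp R)).app V).hom (tauOn R ϖ X V) = 0 := by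
  rw [← basicOpen_eq_bot_iff, ← Scheme.preimage_basicOpen, basicOpen_tauOn R ϖ hϖ]
  apply TopologicalSpace.Opens.ext
  ext x
  simp only [TopologicalSpace.Opens.coe_bot, Set.mem_empty_iff_false, iff_false]
  intro hx
  exact fiberι_notMem_genOpen R ϖ X hϖ x hx.2

end Red

section Ker

theorem exists_residueField_lift {R C : Type u} [CommRing R] [CommRing C] (x : PrimeSpectrum R)
    (hx : x.asIdeal.IsMaximal)
    (γ : R →+* C) (hγ : ∀ r ∈ x.asIdeal, γ r = 0) :
    ∃ ψ : x.asIdeal.ResidueField →+* C, ψ.comp (algebraMap R x.asIdeal.ResidueField) = γ := by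
  have hbij : Function.Bijective (algebraMap (R ⧸ x.asIdeal) x.asIdeal.ResidueField) :=
    x.asIdeal.bijective_algebraMap_quotient_residueField
  let e : (R ⧸ x.asIdeal) ≃+* x.asIdeal.ResidueField :=
    RingEquiv.ofBijective (algebraMap (R ⧸ x.asIdeal) x.asIdeal.ResidueField) hbij
  refine ⟨(Ideal.Quotient.lift x.asIdeal γ hγ).comp e.symm.toRingHom, ?_⟩
  ext r
  have h1 : algebraMap R x.asIdeal.ResidueField r = e (Ideal.Quotient.mk x.asIdeal r) := by
    rw [IsScalarTower.algebraMap_apply R (R ⧸ x.asIdeal) x.asIdeal.ResidueField]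
    rfl
  simp only [RingHom.comp_apply, RingEquiv.toRingHom_eq_coe, RingHom.coe_coe]
  rw [h1, RingEquiv.symm_apply_apply, Ideal.Quotient.lift_mk]

theorem app_comp_fromSpec {X : Scheme.{u}} {V : X.Opens} (hV : IsAffineOpen V) {C : CommRingCat.{u}}
    (q : Γ(X, V) ⟶ C) :
    ∃ e : C ≅ Γ(Spec C, (Spec.map q ≫ hV.fromSpec) ⁻¹ᵁ V),
      (Spec.map q ≫ hV.fromSpec).app V = q ≫ e.hom := by
  refine ⟨(Scheme.ΓSpecIso C).symm ≪≫ (Spec C).presheaf.mapIso
    (eqToIso (show (⊤ : (Spec C).Opens) = (Spec.map q ≫ hV.fromSpec) ⁻¹ᵁ V by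
      rw [Scheme.Hom.comp_preimage, hV.fromSpec_preimage_self]; rfl)).symm.op, ?_⟩
  rw [Scheme.Hom.comp_app, hV.fromSpec_app_self, Category.assoc]
  simp only [Iso.trans_hom, Iso.symm_hom, Functor.mapIso_hom, Iso.op_hom, Iso.symm_inv, eqToIso.hom,
    eqToIso.inv]
  rw [Scheme.Hom.naturality, ← Category.assoc]
  erw [← Scheme.ΓSpecIso_inv_naturality]
  exact Category.assoc _ _ _

end Ker

section Ker2
variable (R : Type u) [CommRing R] [IsDomain R] [IsDiscreteValuationRing R] (ϖ : R)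
variable (X : Over (Spec (CommRingCat.of R)))

theorem app_eq_zero_of_comp {X Y Z : Scheme.{u}} (h : Z ⟶ Y) (ι : Y ⟶ X) (j : Z ⟶ X)
    (hj : h ≫ ι = j) (V : X.Opens) (a : Γ(X, V)) (ha : (ι.app V).hom a = 0) :
    (j.app V).hom a = 0 := by
  subst hj
  rw [Scheme.Hom.comp_app]
  change (h.app (ι ⁻¹ᵁ V)).hom ((ι.app V).hom a) = 0
  rw [ha, map_zero]

theorem dvd_of_fiberι_app_eq_zero (hϖ : Irreducible ϖ) (V : X.left.Opens) (hV : IsAffineOpen V)
    (a : Γ(X.left, V)) (ha : ((X.hom.fiberι (cp R)).app V).hom a = 0) : tauOn R ϖ X V ∣ a := by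
  let Iτ : Ideal Γ(X.left, V) := Ideal.span {tauOn R ϖ X V}
  let C : CommRingCat.{u} := CommRingCat.of (Γ(X.left, V) ⧸ Iτ)
  let q : Γ(X.left, V) ⟶ C := CommRingCat.ofHom (Ideal.Quotient.mk Iτ)
  let sig : CommRingCat.of R ⟶ Γ(X.left, V) :=
    (Scheme.ΓSpecIso (CommRingCat.of R)).inv ≫ X.hom.appLE ⊤ V le_top
  have hfs : hV.fromSpec ≫ X.hom = Spec.map sig := by
    rw [← IsAffineOpen.SpecMap_appLE_fromSpec X.hom (isAffineOpen_top _) hV le_top,
      IsAffineOpen.fromSpec_top, Scheme.isoSpec_Spec_inv, ← Spec.map_comp]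
  have hsig : sig.hom ϖ = tauOn R ϖ X V := rfl
  have hγϖ : (sig ≫ q).hom ϖ = 0 := by
    rw [CommRingCat.comp_apply, hsig]
    exact Ideal.Quotient.eq_zero_iff_mem.mpr (Ideal.mem_span_singleton_self _)
  have hγ : ∀ r ∈ IsLocalRing.maximalIdeal R, (sig ≫ q).hom r = 0 := by
    intro r hr
    rw [hϖ.maximalIdeal_eq, Ideal.mem_span_singleton] at hr
    obtain ⟨c, rfl⟩ := hr
    rw [map_mul, hγϖ, zero_mul]
  obtain ⟨ψ, hψ⟩ := exists_residueField_lift (R := R) (cp R)
    (IsLocalRing.maximalIdeal.isMaximal R) (sig ≫ q).hom hγ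
  have hkex : ∃ k : Spec C ⟶ Spec ((Spec (CommRingCat.of R)).residueField (cp R)),
      k ≫ (Spec (CommRingCat.of R)).fromSpecResidueField (cp R) = Spec.map (sig ≫ q) := by
    have e0 := Scheme.Spec.map_residueFieldIso_inv_eq_fromSpecResidueField (CommRingCat.of R) (cp R)
    generalize Scheme.Spec.residueFieldIso (CommRingCat.of R) (cp R) = iso at e0
    refine ⟨Spec.map (CommRingCat.ofHom ψ) ≫ Spec.map iso.hom, ?_⟩
    rw [← e0, Category.assoc, ← Spec.map_comp_assoc iso.inv iso.hom, Iso.inv_hom_id, Spec.map_id,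
      Category.id_comp, ← Spec.map_comp]
    congr 1
    apply CommRingCat.hom_ext
    exact hψ
  obtain ⟨k, hk⟩ := hkex
  let j : Spec C ⟶ X.left := Spec.map q ≫ hV.fromSpec
  have hj : j ≫ X.hom = k ≫ (Spec (CommRingCat.of R)).fromSpecResidueField (cp R) := by
    rw [hk, Category.assoc, hfs, ← Spec.map_comp]
  let h : Spec C ⟶ X.hom.fiber (cp R) := pullback.lift j k hj
  have hh : h ≫ X.hom.fiberι (cp R) = j := pullback.lift_fst _ _ _
  obtain ⟨e, he⟩ := app_comp_fromSpec hV q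
  have h0 : (j.app V).hom a = 0 := app_eq_zero_of_comp h _ j hh V a ha
  rw [he, CommRingCat.comp_apply] at h0
  have hinj : Function.Injective e.hom.hom :=
    (ConcreteCategory.bijective_of_isIso e.hom).1
  have hqa : q.hom a = 0 := hinj (by rw [h0, map_zero])
  have hmem : a ∈ Iτ := Ideal.Quotient.eq_zero_iff_mem.mp hqa
  exact Ideal.mem_span_singleton.mp hmem

end Ker2

section Red2
variable (R : Type u) [CommRing R] [IsDomain R] [IsDiscreteValuationRing R] (ϖ : R)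
variable (X : Over (Spec (CommRingCat.of R)))

theorem dvd_of_dvd_pow (hϖ : Irreducible ϖ) [IsReduced (X.hom.fiber (cp R))]
    (V : X.left.Opens) (hV : IsAffineOpen V) (a : Γ(X.left, V)) (d : ℕ) (hd : 0 < d)
    (h : tauOn R ϖ X V ∣ a ^ d) : tauOn R ϖ X V ∣ a := by
  apply dvd_of_fiberι_app_eq_zero R ϖ X hϖ V hV a
  obtain ⟨c, hc⟩ := h
  have h1 : (((X.hom.fiberι (cp R)).app V).hom a) ^ d = 0 := by
    rw [← map_pow, hc, map_mul, fiberι_app_tauOn R ϖ X hϖ, zero_mul]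
  exact (pow_eq_zero_iff hd.ne').mp h1

end Red2

end Groth.Agent.Lib.Helper69.DvrIso
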