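import Mathlib

set_option autoImplicit false
universe u

namespace Groth.Agent.Lib.Helper69.IntegralReduced

open Polynomial

theorem injective_of_torsionFree {A B : Type*} [CommRing A] [CommRing B] (φ : A →+* B) (t : A)
    (hA : ∀ a, t * a = 0 → a = 0) (h4a : ∀ a, φ a = 0 → ∃ n : ℕ, t ^ n * a = 0) :
    Function.Injective φ := by
  rw [injective_iff_map_eq_zero]
  intro a ha
  obtain ⟨n, hn⟩ := h4a a ha
  induction n with
  | zero => simpa using hn
  | succ n ih =>
    apply ih
    apply hA
    rw [← mul_assoc, ← pow_succ']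
    exact hn

theorem dvd_pow_of_root {A : Type*} [CommRing A] (t s a : A) (hts : t ∣ s) (p : A[X]) (hp : p.Monic) (h0 : (scaleRoots p s).eval a = 0) : t ∣ a ^ p.natDegree := by
  have hq : (scaleRoots p s).Monic := (monic_scaleRoots_iff s).mpr hp
  have hdeg : (scaleRoots p s).natDegree = p.natDegree := natDegree_scaleRoots p s
  have hsum := hq.as_sum
  rw [hdeg] at hsum
  rw [hsum] at h0
  simp only [eval_add, eval_pow, eval_X, eval_finsetSum, eval_mul, eval_C] at h0
  have h1 : a ^ p.natDegree = -∑ i ∈ Finset.range p.natDegree, (scaleRoots p s).coeff i * a ^ i :=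
    eq_neg_of_add_eq_zero_left h0
  rw [h1]
  apply Dvd.dvd.neg_right
  apply Finset.dvd_sum
  intro i hi
  rw [coeff_scaleRoots]
  have hi' : i < p.natDegree := Finset.mem_range.mp hi
  have : s ∣ s ^ (p.natDegree - i) := dvd_pow_self s (by omega)
  exact Dvd.dvd.mul_right (Dvd.dvd.mul_left (hts.trans this) _) _

theorem bijective_of_integral_of_reduced {A B : Type*} [CommRing A] [CommRing B] (φ : A →+* B)
    (t : A) (hA : ∀ a, t * a = 0 → a = 0) (hB : ∀ b, φ t * b = 0 → b = 0)
    (hint : φ.IsIntegral)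
    (hred : ∀ (a : A) (d : ℕ), 0 < d → t ∣ a ^ d → t ∣ a)
    (h4a : ∀ a, φ a = 0 → ∃ n : ℕ, t ^ n * a = 0)
    (h4b : ∀ b, ∃ (n : ℕ) (a : A), φ a = φ t ^ n * b) :
    Function.Bijective φ := by
  have hinj := injective_of_torsionFree φ t hA h4a
  refine ⟨hinj, fun b => ?_⟩
  classical
  have hex : ∃ n : ℕ, ∃ a : A, φ a = φ t ^ n * b := h4b b
  have hmin : ∀ {m : ℕ}, m < Nat.find hex → ¬ ∃ a : A, φ a = φ t ^ m * b := fun h => Nat.find_min hex h
  obtain ⟨a, ha⟩ := Nat.find_spec hex
  rcases Nat.eq_zero_or_pos (Nat.find hex) with h0 | hpos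
  · rw [h0, pow_zero, one_mul] at ha
    exact ⟨a, ha⟩
  · exfalso
    obtain ⟨m, hm⟩ : ∃ m, Nat.find hex = m + 1 := ⟨Nat.find hex - 1, by omega⟩
    rw [hm] at ha
    by_cases hsub : Subsingleton B
    · exact hmin (m := m) (by omega) ⟨0, Subsingleton.elim _ _⟩
    · haveI : Nontrivial B := not_subsingleton_iff_nontrivial.mp hsub
      obtain ⟨p, hp, hpb⟩ := hint b
      have hd : 0 < p.natDegree := by
        rcases Nat.eq_zero_or_pos p.natDegree with h | h
        · exfalso
          have : p = 1 := hp.natDegree_eq_zero.mp h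
          rw [this, eval₂_one] at hpb
          exact one_ne_zero hpb
        · exact h
      have hroot : eval₂ φ (φ (t ^ (m + 1)) * b) (scaleRoots p (t ^ (m + 1))) = 0 := by
        rw [scaleRoots_eval₂_mul, hpb, mul_zero]
      rw [map_pow, ← ha] at hroot
      have h0 : (scaleRoots p (t ^ (m + 1))).eval a = 0 := by
        apply hinj
        rw [map_zero, ← hroot, eval, hom_eval₂, RingHom.comp_id]
      have hdvd : t ∣ a ^ p.natDegree :=
        dvd_pow_of_root t (t ^ (m + 1)) a (dvd_pow_self t (by omega)) p hp h0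
      obtain ⟨a', rfl⟩ := hred a p.natDegree hd hdvd
      refine hmin (m := m) (by omega) ⟨a', ?_⟩
      have : φ t * (φ a' - φ t ^ m * b) = 0 := by
        rw [mul_sub, ← map_mul, ha, pow_succ]
        ring
      exact sub_eq_zero.mp (hB _ this)

end Groth.Agent.Lib.Helper69.IntegralReduced
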