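import Mathlib
import Groth.Agent.Lib.Helper69.DvrIso3
import Groth.Agent.Lib.Helper69.IntegralReduced

set_option autoImplicit false
universe u
open CategoryTheory CategoryTheory.Limits AlgebraicGeometry

namespace Groth.Agent.Lib.Helper69.DvrIso

theorem app_res {X Y : Scheme.{u}} (p : Y ⟶ X) {U V : X.Opens} (hVU : V ≤ U) (a : Γ(X, U)) :
    (p.app V).hom ((X.presheaf.map (homOfLE hVU).op).hom a) =
      (Y.presheaf.map (homOfLE (show p ⁻¹ᵁ V ≤ p ⁻¹ᵁ U from fun _ hx => hVU hx)).op).hom
        ((p.app U).hom a) := by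
  change (X.presheaf.map (homOfLE hVU).op ≫ p.app V).hom a = (p.app U ≫ Y.presheaf.map _).hom a
  rw [Scheme.Hom.naturality]
  rfl

section Main
variable (R : Type u) [CommRing R] [IsDomain R] [IsDiscreteValuationRing R] (ϖ : R)
variable {X Y : Over (Spec (CommRingCat.of R))} (π : Y ⟶ X)

theorem bijective_app_of_isAffineOpen (hϖ : Irreducible ϖ) [Flat X.hom] [Flat Y.hom]
    [IsProper π.left] (hgen : IsIso ((Neron.genericFibre R).map π))
    [IsReduced (X.hom.fiber (cp R))] (V : X.left.Opens) (hV : IsAffineOpen V) :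
    Function.Bijective (π.left.app V).hom := by
  have hφt : (π.left.app V).hom (tauOn R ϖ X V) = tauOn R ϖ Y (π.left ⁻¹ᵁ V) :=
    tauOn_map R ϖ π V
  have hWle : X.left.basicOpen (tauOn R ϖ X V) ≤ genOpen R X := by
    rw [basicOpen_tauOn R ϖ hϖ]; exact inf_le_right
  have hWV : X.left.basicOpen (tauOn R ϖ X V) ≤ V := X.left.basicOpen_le _
  have hiso : IsIso (π.left.app (X.left.basicOpen (tauOn R ϖ X V))) :=
    isIso_app_of_le_genOpen R π hgen _ hWle
  have hbijW : Function.Bijective (π.left.app (X.left.basicOpen (tauOn R ϖ X V))).hom :=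
    ConcreteCategory.bijective_of_isIso _
  have hpre : π.left ⁻¹ᵁ X.left.basicOpen (tauOn R ϖ X V) =
      Y.left.basicOpen ((π.left.app V).hom (tauOn R ϖ X V)) := Scheme.preimage_basicOpen _ _
  have hcpt : IsCompact (π.left ⁻¹ᵁ V : Set Y.left) :=
    QuasiCompact.isCompact_preimage (f := π.left) _ V.2 hV.isCompact
  have hB : ∀ b, (π.left.app V).hom (tauOn R ϖ X V) * b = 0 → b = 0 := by
    intro b hb
    rw [hφt] at hb
    exact tauOn_regular R ϖ hϖ Y _ b hb
  refine IntegralReduced.bijective_of_integral_of_reduced (π.left.app V).hom (tauOn R ϖ X V)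
    ?_ hB ?_ ?_ ?_ ?_
  · intro a ha
    exact tauOn_regular_of_isAffineOpen R ϖ hϖ X V hV a ha
  · exact isIntegral_app_of_isAffineOpen π.left V hV
  · exact fun a d hd h => dvd_of_dvd_pow R ϖ X hϖ V hV a d hd h
  · intro a ha
    apply exists_pow_mul_eq_zero_of_res_basicOpen_eq_zero_of_isCompact X.left hV.isCompact a
      (tauOn R ϖ X V)
    change (X.left.presheaf.map (homOfLE hWV).op).hom a = 0
    apply hbijW.1
    rw [app_res, ha, map_zero, map_zero]
  · intro b
    -- restrict b to the generic locus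
    obtain ⟨c, hc⟩ := hbijW.2 ((Y.left.presheaf.map (homOfLE (show
      π.left ⁻¹ᵁ X.left.basicOpen (tauOn R ϖ X V) ≤ π.left ⁻¹ᵁ V from fun _ hx => hWV hx)).op).hom b)
    obtain ⟨n, a, hna⟩ := exists_eq_pow_mul_of_isCompact_of_isQuasiSeparated X.left V hV.isCompact
      hV.isQuasiSeparated (tauOn R ϖ X V) c
    change (X.left.presheaf.map (homOfLE hWV).op).hom a =
      ((X.left.presheaf.map (homOfLE hWV).op).hom (tauOn R ϖ X V)) ^ n * c at hna
    refine ⟨n, a, ?_⟩
    -- difference vanishes on the basic open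
    have hdiff : (Y.left.presheaf.map (homOfLE (show
        π.left ⁻¹ᵁ X.left.basicOpen (tauOn R ϖ X V) ≤ π.left ⁻¹ᵁ V from
          fun _ hx => hWV hx)).op).hom
        ((π.left.app V).hom a - (π.left.app V).hom (tauOn R ϖ X V) ^ n * b) = 0 := by
      rw [map_sub, map_mul, map_pow, ← app_res π.left hWV, ← app_res π.left hWV, hna, map_mul,
        map_pow, hc, sub_self]
    -- transport along hpre
    have key : ∀ (W : Y.left.Opens) (hW : W = Y.left.basicOpen ((π.left.app V).hom (tauOn R ϖ X V)))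
        (hle : W ≤ π.left ⁻¹ᵁ V) (z : Γ(Y.left, π.left ⁻¹ᵁ V)),
        (Y.left.presheaf.map (homOfLE hle).op).hom z = 0 →
        ∃ m : ℕ, (π.left.app V).hom (tauOn R ϖ X V) ^ m * z = 0 := by
      intro W hW hle z hz
      subst hW
      exact exists_pow_mul_eq_zero_of_res_basicOpen_eq_zero_of_isCompact Y.left hcpt z _ hz
    obtain ⟨m, hm⟩ := key _ hpre _ _ hdiff
    have hzero : ∀ (m : ℕ) (z : Γ(Y.left, π.left ⁻¹ᵁ V)),
        (π.left.app V).hom (tauOn R ϖ X V) ^ m * z = 0 → z = 0 := by
      intro m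
      induction m with
      | zero => intro z hz; simpa using hz
      | succ m ih =>
        intro z hz
        apply ih
        apply hB
        rw [← mul_assoc, ← pow_succ']
        exact hz
    exact sub_eq_zero.mp (hzero m _ hm)

end Main

section Final
variable (R : Type u) [CommRing R] [IsDomain R] [IsDiscreteValuationRing R]
variable {X Y : Over (Spec (CommRingCat.of R))} (π : Y ⟶ X)

theorem isIso_app [Flat X.hom] [Flat Y.hom]
    [IsProper π.left] (hgen : IsIso ((Neron.genericFibre R).map π))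
    [IsReduced (X.hom.fiber (cp R))] (V : X.left.Opens) : IsIso (π.left.app V) := by
  obtain ⟨ϖ, hϖ⟩ := IsDiscreteValuationRing.exists_irreducible R
  rw [ConcreteCategory.isIso_iff_bijective]
  exact bijective_app_of_basis π.left X.left.affineOpens X.left.isBasis_affineOpens
    (fun W hW => bijective_app_of_isAffineOpen R ϖ π hϖ hgen W hW) V

end Final

end Groth.Agent.Lib.Helper69.DvrIso
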