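/-
helper69: if `m` kills a commutative group scheme `G` (on points), then `m` kills every
`Ext^n(pts G, -)` in the category of abelian sheaves on the big site.
-/
import Groth.Agent.Lib.Helper69.CGrpLocal4
import Mathlib.Algebra.Homology.DerivedCategory.Ext.Basic

set_option autoImplicit false
universe u v w
open CategoryTheory CategoryTheory.Limits Opposite AlgebraicGeometry MonObj

namespace Groth.Agent.Lib.Helper69.ExtKill

open Abelian

section abstract
variable {C : Type u} [Category.{v} C] [Abelian C] [HasExt.{w} C]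

theorem mk₀_nsmul {X Y : C} (f : X ⟶ Y) (m : ℕ) : Ext.mk₀ (m • f) = m • Ext.mk₀ f := by
  induction m with
  | zero => rw [zero_nsmul, zero_nsmul, Ext.mk₀_zero]
  | succ m ih => rw [succ_nsmul, succ_nsmul, Ext.mk₀_add, ih]

theorem nsmul_comp {X Y Z : C} {a b c : ℕ} (α : Ext X Y a) (β : Ext Y Z b) (h : a + b = c) (m : ℕ) :
    (m • α).comp β h = m • α.comp β h := by
  induction m with
  | zero => rw [zero_nsmul, zero_nsmul, Ext.zero_comp]
  | succ m ih => rw [succ_nsmul, succ_nsmul, Ext.add_comp, ih]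

/-- if `m` kills the identity of `X`, it kills all `Ext` groups out of `X`. -/
theorem nsmul_ext_eq_zero {X Y : C} (m : ℕ) (hm : m • 𝟙 X = 0) {n : ℕ} (x : Ext X Y n) :
    m • x = 0 := by
  rw [← Ext.mk₀_id_comp x, ← nsmul_comp, ← mk₀_nsmul, hm, Ext.mk₀_zero, Ext.zero_comp]

end abstract

section sheaf
variable {S : Scheme.{u}} (K : Precoverage Scheme.{u}) [(QuotSh.J K S).Subcanonical]
variable {G : Over S} [GrpObj G] [IsCommMonObj G]

theorem nsmul_id_app (m : ℕ) (T : (Over S)ᵒᵖ) (s : (CGrpSh.pts K G).obj.obj T) :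
    (m • 𝟙 (CGrpSh.pts K G)).hom.app T s = m • s := by
  induction m with
  | zero =>
    rw [zero_nsmul, zero_nsmul]
    rfl
  | succ m ih =>
    rw [succ_nsmul, succ_nsmul, ← ih]
    rfl

theorem nsmul_id_eq_zero (m : ℕ) (h : ∀ (T : Over S) (g : T ⟶ G), g ^ m = 1) :
    m • 𝟙 (CGrpSh.pts K G) = 0 := by
  apply Sheaf.hom_ext
  apply NatTrans.ext
  funext T
  apply AddCommGrpCat.ext
  intro s
  rw [nsmul_id_app]
  apply ULift.ext
  change Additive.ofMul (s.down.toMul ^ m) = 0
  rw [h]
  rfl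

end sheaf

end Groth.Agent.Lib.Helper69.ExtKill

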