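import Groth.Prelude.Def_FibSite

/-!
# Helper library (helper69): the covering sieves of the total topology of a pre-fibred site
-/

set_option autoImplicit false
universe v₁ u₁ v₂ u₂
open CategoryTheory Opposite Pseudofunctor Pseudofunctor.CoGrothendieck Bicategory

set_option backward.isDefEq.respectTransparency false
set_option backward.isDefEq.respectTransparency.types false
set_option backward.defeqAttrib.useBackward true

namespace Groth.Agent.Lib.Helper69

variable {𝒮 : Type u₁} [Category.{v₁} 𝒮] (F : Pseudofunctor (LocallyDiscrete 𝒮ᵒᵖ) Cat.{v₂, u₂})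

attribute [local simp] PrelaxFunctor.map₂_eqToHom in
theorem ι_map_comp {Y X : ∫ᶜ F} (φ : Y ⟶ X) {V : F.obj ⟨op Y.base⟩} (h : V ⟶ Y.fiber) :
    (ι F Y.base).map h ≫ φ = (⟨φ.base, h ≫ φ.fiber⟩ : (⟨Y.base, V⟩ : ∫ᶜ F) ⟶ X) := by
  ext
  · simp
  · simp [F.mapComp_id_right_inv_app, Strict.rightUnitor_eqToIso, ← NatTrans.naturality_assoc,
        ← Cat.Hom₂.comp_app]

attribute [local simp] PrelaxFunctor.map₂_eqToHom in
theorem comp_ι_map {R S : 𝒮} {V : F.obj ⟨op R⟩} {W U : F.obj ⟨op S⟩} (b : R ⟶ S)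
    (α : V ⟶ (F.map b.op.toLoc).toFunctor.obj W) (r : W ⟶ U) :
    (⟨b, α⟩ : (⟨R, V⟩ : ∫ᶜ F) ⟶ ⟨S, W⟩) ≫ (ι F S).map r =
      (⟨b, α ≫ (F.map b.op.toLoc).toFunctor.map r⟩ : (⟨R, V⟩ : ∫ᶜ F) ⟶ ⟨S, U⟩) := by
  ext
  · simp
  · simp [F.mapComp_id_left_inv_app, Strict.leftUnitor_eqToIso, ← Functor.map_comp_assoc,
        ← Cat.Hom₂.comp_app]

variable (J : FibSite.Topologies F)

/-- The candidate description of the total topology: sieves containing the image of a covering
sieve of the fibre. -/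
def fibreCoverTopology (hF : FibSite.IsPreFibSite F J) : GrothendieckTopology (∫ᶜ F) where
  sieves X := {S | ∃ R ∈ J X.base X.fiber, Sieve.functorPushforward (ι F X.base) R ≤ S}
  top_mem' X := ⟨⊤, (J X.base).top_mem _, le_top⟩
  pullback_stable' := by
    rintro X Y S φ ⟨R, hR, hRS⟩
    have hcont : (FibSite.invImage F φ.base).IsContinuous (J X.base) (J Y.base) := hF φ.base
    have hcp : CoverPreserving (J X.base) (J Y.base) (FibSite.invImage F φ.base) :=
      CoverPreserving.of_isContinuous _ _ _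
    have h1 : Sieve.functorPushforward (FibSite.invImage F φ.base) R ∈
        J Y.base ((FibSite.invImage F φ.base).obj X.fiber) := hcp.cover_preserve hR
    refine ⟨(Sieve.functorPushforward (FibSite.invImage F φ.base) R).pullback φ.fiber,
      (J Y.base).pullback_stable φ.fiber h1, ?_⟩
    rintro Z k ⟨V, h, k', ⟨W, r, g, hr, hfac⟩, rfl⟩
    change S ((k' ≫ (ι F Y.base).map h) ≫ φ)
    rw [Category.assoc]
    apply S.downward_closed
    have : (ι F Y.base).map h ≫ φ =
        (⟨φ.base, g⟩ : (⟨Y.base, V⟩ : ∫ᶜ F) ⟶ ⟨X.base, W⟩) ≫ (ι F X.base).map r := by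
      rw [ι_map_comp, comp_ι_map, hfac]
    rw [this]
    apply S.downward_closed
    exact hRS _ (Sieve.image_mem_functorPushforward _ _ hr)
  transitive' := by
    rintro X S ⟨R, hR, hRS⟩ S' hS'
    have key : ∀ ⦃W : F.obj ⟨op X.base⟩⦄ (r : W ⟶ X.fiber), R r →
        ∃ R' ∈ J X.base W, Sieve.functorPushforward (ι F X.base) R' ≤
          S'.pullback ((ι F X.base).map r) := fun W r hr =>
      hS' (hRS _ (Sieve.image_mem_functorPushforward _ _ hr))
    choose R' hR' hR'S using key
    refine ⟨Sieve.bind R (fun W r hr => R' r hr), (J X.base).bind_covering hR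
      (fun W r hr => hR' r hr), ?_⟩
    rintro Z k ⟨V, h, k', ⟨W, r', r, hr, hr', rfl⟩, rfl⟩
    rw [Functor.map_comp, ← Category.assoc]
    exact hR'S r hr _ ⟨V, r', k', hr', rfl⟩

theorem totalTopology_le_fibreCoverTopology (hF : FibSite.IsPreFibSite F J) :
    FibSite.totalTopology F J ≤ fibreCoverTopology F J hF :=
  FibSite.totalTopology_le fun _ _ R hR => ⟨R, hR, le_rfl⟩

theorem mem_totalTopology_iff (hF : FibSite.IsPreFibSite F J) (X : ∫ᶜ F) (S : Sieve X) :
    S ∈ FibSite.totalTopology F J X ↔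
      ∃ R ∈ J X.base X.fiber, Sieve.functorPushforward (ι F X.base) R ≤ S := by
  constructor
  · intro hS
    exact totalTopology_le_fibreCoverTopology F J hF X hS
  · rintro ⟨R, hR, hRS⟩
    exact (FibSite.totalTopology F J).superset_covering hRS
      (FibSite.functorPushforward_mem_totalTopology (F := F) (J := J) hR)

end Groth.Agent.Lib.Helper69
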