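import Mathlib.RingTheory.Unramified.LocalRing
import Mathlib.RingTheory.LocalRing.ResidueField.Fiber
import Mathlib.RingTheory.Spectrum.Prime.Basic

/-!
# Finite ring maps with a unique prime over a given prime

For a finite ring map `R → S`, a prime `p` of `R` and a prime `q` of `S` which is the only prime
over `p`: if `p S_q = q S_q` and `S_q = im(R_p) + q S_q`, then `κ(p) → κ(p) ⊗ S` is surjective.
Also the case where no prime lies over `p`.
-/

set_option autoImplicit false
universe u
open TensorProduct IsLocalRing

namespace Groth.Agent.Lib.Helper69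

variable {R S : Type u} [CommRing R] [CommRing S] [Algebra R S]

/-- Nakayama for the local ring map `R_p → S_q` when `q` is the only prime over `p`. -/
theorem localRingHom_surjective_of_primesOver_eq_singleton' [Module.Finite R S]
    {p : Ideal R} [p.IsPrime] {q : Ideal S} [q.IsPrime] (hq : p.primesOver S = {q})
    [q.LiesOver p]
    (hmax : (maximalIdeal (Localization.AtPrime p)).map
      (Localization.localRingHom p q (algebraMap R S) (q.over_def p)) =
        maximalIdeal (Localization.AtPrime q))
    (hres : ∀ s : Localization.AtPrime q, ∃ r : Localization.AtPrime p,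
      s - Localization.localRingHom p q (algebraMap R S) (q.over_def p) r ∈
        maximalIdeal (Localization.AtPrime q)) :
    Function.Surjective (Localization.localRingHom p q (algebraMap R S) (q.over_def p)) := by
  let _ := Localization.AtPrime.algebraOfLiesOver p q
  have := Localization.finite_of_primesOver_eq_singleton hq
  have hAM : algebraMap (Localization.AtPrime p) (Localization.AtPrime q) =
      Localization.localRingHom p q (algebraMap R S) (q.over_def p) :=
    Localization.AtPrime.IsLiesOverAlgebra.algebraMap_eq
  rw [← hAM] at hmax hres ⊢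
  change Function.Surjective (Algebra.linearMap _ _)
  rw [← LinearMap.range_eq_top, ← top_le_iff]
  apply Submodule.le_of_le_smul_of_le_jacobson_bot Module.Finite.fg_top (maximalIdeal_le_jacobson _)
  rw [Ideal.smul_top_eq_map, hmax]
  rintro x -
  obtain ⟨a, ha⟩ := hres x
  rw [← sub_sub_self (algebraMap _ _ a) x]
  refine sub_mem (Submodule.mem_sup_left ⟨_, rfl⟩) (Submodule.mem_sup_right ?_)
  have : algebraMap _ _ a - x = -(x - algebraMap _ _ a) := by ring
  rw [this]
  exact neg_mem ha

/-- If `R_p → S_q` is surjective and `q` is the only prime over `p` (for `S` integral over `R`),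
every element of `S` is a fraction `a / b` with `a b ∈ R`, `b ∉ p`. -/
theorem exists_eq_mul_of_localRingHom_surjective [Algebra.IsIntegral R S]
    {p : Ideal R} [p.IsPrime] {q : Ideal S} [q.IsPrime] (hq : p.primesOver S = {q})
    [q.LiesOver p]
    (H : Function.Surjective (Localization.localRingHom p q (algebraMap R S) (q.over_def p)))
    (x : S) : ∃ a, ∃ b ∉ p, algebraMap R S a = x * algebraMap R S b := by
  have := (IsLocalization.mk'_surjective p.primeCompl).exists.mp (H (algebraMap _ _ x))
  simp only [Localization.localRingHom_mk', Prod.exists, Subtype.exists, Ideal.mem_primeCompl_iff,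
    IsLocalization.mk'_eq_iff_eq_mul, exists_prop, ← map_mul,
    IsLocalization.eq_iff_exists q.primeCompl] at this
  obtain ⟨a, b, hbp, c, hcq, hc⟩ := this
  obtain ⟨d, hd, e, he⟩ := Ideal.exists_notMem_dvd_algebraMap_of_primesOver_eq_singleton hq _ hcq
  exact ⟨d * a, d * b, ‹p.IsPrime›.mul_notMem hd hbp, by grind⟩

/-- If every element of `S` is a fraction with denominator outside `p`, then `κ(p) → κ(p) ⊗ S` is
surjective. -/
theorem surjective_algebraMap_fiber_of_forall_exists (p : Ideal R) [p.IsPrime]
    (H : ∀ x : S, ∃ a, ∃ b ∉ p, algebraMap R S a = x * algebraMap R S b) :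
    Function.Surjective (algebraMap p.ResidueField (p.Fiber S)) := by
  intro z
  obtain ⟨r, hr, s, e⟩ := Ideal.Fiber.exists_smul_eq_one_tmul p z
  obtain ⟨a, b, hb, hab⟩ := H s
  have hrb : algebraMap R p.ResidueField (r * b) ≠ 0 := by
    intro h
    rw [Ideal.algebraMap_residueField_eq_zero] at h
    rcases ‹p.IsPrime›.mem_or_mem h with h | h
    · exact hr h
    · exact hb h
  refine ⟨algebraMap R p.ResidueField a / algebraMap R p.ResidueField (r * b), ?_⟩
  have h1 : (r * b) • z = a • (1 : p.Fiber S) := by
    rw [mul_comm, mul_smul, e, TensorProduct.smul_tmul', TensorProduct.smul_tmul, Algebra.smul_def,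
      mul_comm, ← hab, Algebra.TensorProduct.one_def,
      TensorProduct.smul_tmul', TensorProduct.smul_tmul, Algebra.algebraMap_eq_smul_one]
  have h2 : algebraMap p.ResidueField (p.Fiber S) (algebraMap R p.ResidueField (r * b)) * z =
      algebraMap p.ResidueField (p.Fiber S) (algebraMap R p.ResidueField a) := by
    rw [← IsScalarTower.algebraMap_apply, ← IsScalarTower.algebraMap_apply, ← Algebra.smul_def, h1,
      Algebra.algebraMap_eq_smul_one]
  rw [div_eq_mul_inv, map_mul, ← h2, mul_comm, ← mul_assoc, ← map_mul,
    inv_mul_cancel₀ hrb, map_one, one_mul]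

/-- If no prime of `S` lies over `p`, then `κ(p) ⊗ S` is trivial. -/
theorem subsingleton_fiber_of_primesOver_eq_empty (p : Ideal R) [p.IsPrime]
    (h : p.primesOver S = ∅) : Subsingleton (p.Fiber S) := by
  by_contra hn
  rw [not_subsingleton_iff_nontrivial] at hn
  obtain ⟨Q⟩ : Nonempty (PrimeSpectrum (p.Fiber S)) := inferInstance
  have := (PrimeSpectrum.primesOverOrderIsoFiber R S p).symm Q
  rw [h] at this
  exact this.2

end Groth.Agent.Lib.Helper69
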