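import Groth.Agent.Lib.Helper69.FiberCI
import Groth.Agent.Lib.Helper69.UniquePrime

/-!
# Fibre of a finite morphism with at most one point

`isClosedImmersion_fiberToSpecResidueField_of_unique`: for a finite morphism `g : X ⟶ Y` with `Y`
affine and a point `x₀` which is the only point of its fibre, if `m_y O_{X,x₀} = m_{x₀}` and
`O_{X,x₀} = im(O_{Y,y}) + m_{x₀}` then the fibre `g.fiber (g x₀) ⟶ Spec κ(g x₀)` is a closed immersion.
-/

set_option autoImplicit false
universe u
open TensorProduct CategoryTheory CategoryTheory.Limits AlgebraicGeometry IsLocalRing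

namespace Groth.Agent.Lib.Helper69

section Transport

variable {A B A' B' : Type u} [CommRing A] [CommRing B] [CommRing A'] [CommRing B']
  [IsLocalRing A] [IsLocalRing B] [IsLocalRing A'] [IsLocalRing B']

theorem map_maximalIdeal_ringEquiv (e : A ≃+* A') :
    (maximalIdeal A).map (e : A →+* A') = maximalIdeal A' := by
  ext x
  rw [Ideal.mem_map_iff_of_surjective (e : A →+* A') e.surjective]
  constructor
  · rintro ⟨a, ha, rfl⟩
    rw [mem_maximalIdeal, mem_nonunits_iff] at ha ⊢
    intro h
    apply ha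
    have := h.map (e.symm : A' →+* A)
    simpa using this
  · intro hx
    refine ⟨e.symm x, ?_, by simp⟩
    rw [mem_maximalIdeal, mem_nonunits_iff] at hx ⊢
    intro h
    apply hx
    have := h.map (e : A →+* A')
    simpa using this

theorem map_maximalIdeal_of_equiv (φ : A →+* B) (φ' : A' →+* B') (eA : A ≃+* A') (eB : B ≃+* B')
    (hcomm : ∀ a, φ' (eA a) = eB (φ a))
    (h : (maximalIdeal A).map φ = maximalIdeal B) :
    (maximalIdeal A').map φ' = maximalIdeal B' := by
  rw [← map_maximalIdeal_ringEquiv eA, Ideal.map_map, ← map_maximalIdeal_ringEquiv eB, ← h,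
    Ideal.map_map]
  congr 1
  ext a
  exact hcomm a

omit [IsLocalRing A] [IsLocalRing A'] in
theorem exists_sub_mem_maximalIdeal_of_equiv (φ : A →+* B) (φ' : A' →+* B') (eA : A ≃+* A')
    (eB : B ≃+* B') (hcomm : ∀ a, φ' (eA a) = eB (φ a))
    (h : ∀ s : B, ∃ r : A, s - φ r ∈ maximalIdeal B) :
    ∀ s : B', ∃ r : A', s - φ' r ∈ maximalIdeal B' := by
  intro s
  obtain ⟨r, hr⟩ := h (eB.symm s)
  refine ⟨eA r, ?_⟩
  rw [hcomm]
  have : s - eB (φ r) = eB (eB.symm s - φ r) := by simp
  rw [this, ← map_maximalIdeal_ringEquiv eB]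
  exact Ideal.mem_map_of_mem _ hr

/-- Transport along an isomorphism of arrows in `CommRingCat`. -/
theorem map_maximalIdeal_of_arrowIso {A B A' B' : CommRingCat.{u}} [IsLocalRing A] [IsLocalRing B]
    [IsLocalRing A'] [IsLocalRing B'] (φ : A ⟶ B) (φ' : A' ⟶ B')
    (e : Arrow.mk φ ≅ Arrow.mk φ')
    (h : (maximalIdeal A).map φ.hom = maximalIdeal B) :
    (maximalIdeal A').map φ'.hom = maximalIdeal B' := by
  refine map_maximalIdeal_of_equiv φ.hom φ'.hom
    (Arrow.leftFunc.mapIso e).commRingCatIsoToRingEquiv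
    (Arrow.rightFunc.mapIso e).commRingCatIsoToRingEquiv ?_ h
  intro a
  have := e.hom.w
  exact congr($(this).hom a)

theorem exists_sub_mem_maximalIdeal_of_arrowIso {A B A' B' : CommRingCat.{u}} [IsLocalRing A]
    [IsLocalRing B] [IsLocalRing A'] [IsLocalRing B'] (φ : A ⟶ B) (φ' : A' ⟶ B')
    (e : Arrow.mk φ ≅ Arrow.mk φ')
    (h : ∀ s : B, ∃ r : A, s - φ.hom r ∈ maximalIdeal B) :
    ∀ s : B', ∃ r : A', s - φ'.hom r ∈ maximalIdeal B' := by
  refine exists_sub_mem_maximalIdeal_of_equiv φ.hom φ'.hom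
    (Arrow.leftFunc.mapIso e).commRingCatIsoToRingEquiv
    (Arrow.rightFunc.mapIso e).commRingCatIsoToRingEquiv ?_ h
  intro a
  have := e.hom.w
  exact congr($(this).hom a)

end Transport

section Scheme

variable {X Y : Scheme.{u}}

/-- The prime corresponding to a point of an affine scheme. -/
theorem primeIdealOf_top_eq [IsAffine X] (x : X) :
    (isAffineOpen_top X).primeIdealOf ⟨x, trivial⟩ = X.isoSpec.hom.base x := by
  have h := (isAffineOpen_top X).fromSpec_primeIdealOf ⟨x, trivial⟩
  rw [IsAffineOpen.fromSpec_top] at h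
  have h2 := congrArg X.isoSpec.hom.base h
  have h3 : X.isoSpec.hom.base (X.isoSpec.inv.base ((isAffineOpen_top X).primeIdealOf ⟨x, trivial⟩)) =
      (isAffineOpen_top X).primeIdealOf ⟨x, trivial⟩ := by
    change (X.isoSpec.inv ≫ X.isoSpec.hom).base _ = _
    rw [Iso.inv_hom_id]
    rfl
  exact h3.symm.trans h2

/-- If no point lies over `y`, the fibre is empty and so a closed immersion into `Spec κ(y)`. -/
theorem isClosedImmersion_fiberToSpecResidueField_of_empty (g : X ⟶ Y) (y : Y)
    (h : ∀ x, g.base x ≠ y) : IsClosedImmersion (g.fiberToSpecResidueField y) := by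
  have : IsEmpty (g.fiber y) := by
    refine ⟨fun z => ?_⟩
    have := (g.fiberHomeo y z).2
    exact h _ this
  infer_instance

set_option backward.isDefEq.respectTransparency.types false in
/-- For a finite morphism `g : X ⟶ Y` with `Y` affine and a point `x₀` which is the only point of
its fibre: if `m_y O_{X,x₀} = m_{x₀}` and `O_{X,x₀} = im(O_{Y,y}) + m_{x₀}`, then the fibre of `g`
over `g x₀` is a closed immersion into `Spec κ(g x₀)`. -/
theorem isClosedImmersion_fiberToSpecResidueField_of_unique (g : X ⟶ Y) [IsAffine Y] [IsFinite g]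
    (x₀ : X) (huniq : ∀ x, g.base x = g.base x₀ → x = x₀)
    (hmax : (maximalIdeal (Y.presheaf.stalk (g.base x₀))).map (g.stalkMap x₀).hom =
      maximalIdeal (X.presheaf.stalk x₀))
    (hres : ∀ s : X.presheaf.stalk x₀, ∃ r : Y.presheaf.stalk (g.base x₀),
      s - (g.stalkMap x₀).hom r ∈ maximalIdeal (X.presheaf.stalk x₀)) :
    IsClosedImmersion (g.fiberToSpecResidueField (g.base x₀)) := by
  have : IsAffine X := isAffine_of_isAffineHom g
  have hYa := isAffineOpen_top Y
  have hXa := isAffineOpen_top X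
  let R : Type u := Γ(Y, ⊤)
  let S : Type u := Γ(X, ⊤)
  let φ : Γ(Y, ⊤) ⟶ Γ(X, ⊤) := g.appLE ⊤ ⊤ le_top
  have hφ : φ = g.appTop := by
    simp only [φ, Scheme.Hom.appLE, Scheme.Hom.appTop]
    change g.app ⊤ ≫ X.presheaf.map (𝟙 _) = _
    rw [X.presheaf.map_id, Category.comp_id]
  let _ : Algebra R S := φ.hom.toAlgebra
  have hfin : Module.Finite R S := by
    have := g.finite_appTop
    rw [← hφ] at this
    exact RingHom.finite_algebraMap.mp this
  let p : PrimeSpectrum R := hYa.primeIdealOf ⟨g.base x₀, trivial⟩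
  let q : PrimeSpectrum S := hXa.primeIdealOf ⟨x₀, trivial⟩
  have hcomap : q.comap φ.hom = p :=
    IsAffineOpen.comap_primeIdealOf_appLE ⊤ hYa ⊤ hXa le_top trivial
  have hlies : q.asIdeal.LiesOver p.asIdeal := ⟨congr($(hcomap).asIdeal).symm⟩
  have hq : p.asIdeal.primesOver S = {q.asIdeal} := by
    ext q'
    simp only [Set.mem_singleton_iff]
    constructor
    · rintro ⟨hq'prime, hq'over⟩
      let Q : PrimeSpectrum S := ⟨q', hq'prime⟩
      let x' : X := hXa.fromSpec.base Q
      have hx'Q : hXa.primeIdealOf ⟨x', trivial⟩ = Q := by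
        apply hXa.fromSpec.isOpenEmbedding.injective
        exact hXa.fromSpec_primeIdealOf ⟨x', trivial⟩
      have h1 := IsAffineOpen.comap_primeIdealOf_appLE (f := g) (x := x') ⊤ hYa ⊤ hXa le_top trivial
      rw [hx'Q] at h1
      have h2 : Q.comap φ.hom = p := PrimeSpectrum.ext hq'over.over.symm
      have h3 : hYa.primeIdealOf ⟨g.base x', trivial⟩ = hYa.primeIdealOf ⟨g.base x₀, trivial⟩ :=
        h1.symm.trans h2
      have h4 : g.base x' = g.base x₀ := by
        have := congrArg hYa.fromSpec.base h3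
        rwa [hYa.fromSpec_primeIdealOf, hYa.fromSpec_primeIdealOf] at this
      have h5 := huniq x' h4
      have h6 : Q = q := by
        rw [← hx'Q]
        congr 2
      exact congr($(h6).asIdeal)
    · rintro rfl
      exact ⟨q.2, hlies⟩
  have e := IsAffineOpen.arrowStalkMapIso g ⊤ hYa ⊤ hXa le_top (x := x₀) trivial
  have hmax' := map_maximalIdeal_of_arrowIso _ _ e hmax
  have hres' := exists_sub_mem_maximalIdeal_of_arrowIso _ _ e hres
  have H := localRingHom_surjective_of_primesOver_eq_singleton' hq hmax' hres'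
  have H2 := exists_eq_mul_of_localRingHom_surjective hq H
  have H3 := surjective_algebraMap_fiber_of_forall_exists p.asIdeal H2
  have h4 : IsClosedImmersion (Spec.map <| CommRingCat.ofHom <|
      algebraMap p.asIdeal.ResidueField (p.asIdeal.Fiber S)) :=
    IsClosedImmersion.spec_of_surjective _ H3
  have h5 : IsClosedImmersion
      ((Spec.map (CommRingCat.ofHom <| algebraMap R S)).fiberToSpecResidueField p) :=
    (MorphismProperty.arrow_mk_iso_iff @IsClosedImmersion
      (Spec.fiberToSpecResidueFieldIso R S p)).mpr h4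
  have hφ' : Spec.map (CommRingCat.ofHom (algebraMap R S)) = Spec.map g.appTop := by
    rw [← hφ]; rfl
  have sq : IsPullback X.isoSpec.hom g (Spec.map (CommRingCat.ofHom (algebraMap R S)))
      Y.isoSpec.hom :=
    IsPullback.of_horiz_isIso ⟨by rw [hφ']; exact Scheme.isoSpec_hom_naturality g⟩
  have hp : Y.isoSpec.hom.base (g.base x₀) = p := (primeIdealOf_top_eq (g.base x₀)).symm
  have key := isPullback_fiberToSpecResidueField_of_isPullback sq (g.base x₀)
  have h5' : IsClosedImmersion ((Spec.map (CommRingCat.ofHom <|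
      algebraMap R S)).fiberToSpecResidueField (Y.isoSpec.hom.base (g.base x₀))) := hp ▸ h5
  exact MorphismProperty.of_isPullback (P := @IsClosedImmersion) key h5'

/-- Variant of `exists_isClosedImmersion_restrict_of_fiber` with the hypothesis on the fibre of the
restriction `f ∣_ V`. -/
theorem exists_isClosedImmersion_restrict_of_fiber' (f : X ⟶ Y) (V : Y.Opens)
    (hV : IsAffineOpen V) [IsFinite (f ∣_ V)] (y : Y) (hyV : y ∈ V)
    [hy : IsClosedImmersion ((f ∣_ V).fiberToSpecResidueField ⟨y, hyV⟩)] :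
    ∃ W : Y.Opens, y ∈ W ∧ IsClosedImmersion (f ∣_ W) := by
  have : IsAffine V := hV
  obtain ⟨W', hyW', hW'⟩ :=
    exists_isClosedImmersion_restrict_of_fiber_of_isAffine (f ∣_ V) ⟨y, hyV⟩
  refine ⟨V.ι ''ᵁ W', ⟨⟨y, hyV⟩, hyW', rfl⟩, ?_⟩
  rw [← MorphismProperty.arrow_mk_iso_iff @IsClosedImmersion (morphismRestrictRestrict f V W')]
  exact hW'

/-- Nakayama: if `m_A B + m_B² = m_B` for a local homomorphism into a Noetherian local ring then
`m_A B = m_B`. -/
theorem map_maximalIdeal_eq_of_sup_sq {A B : Type u} [CommRing A] [CommRing B] [IsLocalRing A]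
    [IsLocalRing B] [IsNoetherianRing B] (φ : A →+* B) [IsLocalHom φ]
    (h : (maximalIdeal A).map φ ⊔ maximalIdeal B ^ 2 = maximalIdeal B) :
    (maximalIdeal A).map φ = maximalIdeal B := by
  apply le_antisymm
  · exact ((IsLocalRing.local_hom_TFAE φ).out 0 2).mp ‹_›
  · apply Submodule.le_of_le_smul_of_le_jacobson_bot (I := maximalIdeal B)
      (IsNoetherian.noetherian _) (maximalIdeal_le_jacobson ⊥)
    rw [smul_eq_mul, ← pow_two, h]

end Scheme

end Groth.Agent.Lib.Helper69
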