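import Mathlib

open TensorProduct

universe u

namespace Groth.Agent.Lib.Helper69.FibreDom

section Algebra

variable {R : Type*} [CommRing R] {M' M Q : Type*} [AddCommGroup M'] [AddCommGroup M]
  [AddCommGroup Q] [Module R M'] [Module R M] [Module R Q]

theorem lTensor_injective_of_flat_coker_aux (ρ : M' →ₗ[R] M) (q : M →ₗ[R] Q)
    (hρ : Function.Injective ρ) (hex : Function.Exact ρ q) (hq : Function.Surjective q)
    [Module.Flat R Q] {N F : Type*} [AddCommGroup N] [Module R N] [AddCommGroup F] [Module R F]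
    [Module.Flat R F] (π : F →ₗ[R] N) (hπ : Function.Surjective π) :
    Function.Injective (ρ.lTensor N) := by
  let ι : LinearMap.ker π →ₗ[R] F := (LinearMap.ker π).subtype
  have hιπ : Function.Exact ι π := LinearMap.exact_subtype_ker_map π
  rw [injective_iff_map_eq_zero]
  intro x hx
  obtain ⟨y, rfl⟩ := LinearMap.rTensor_surjective M' hπ x
  have h1 : (π.rTensor M) ((ρ.lTensor F) y) = 0 := by
    rw [← LinearMap.comp_apply, LinearMap.rTensor_comp_lTensor, ← LinearMap.lTensor_comp_rTensor]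
    exact hx
  obtain ⟨k, hk⟩ := (rTensor_exact M hιπ hπ _).mp h1
  have h2 : (ι.rTensor Q) ((q.lTensor (LinearMap.ker π)) k) = 0 := by
    rw [← LinearMap.comp_apply, LinearMap.rTensor_comp_lTensor, ← LinearMap.lTensor_comp_rTensor,
      LinearMap.comp_apply, hk, ← LinearMap.comp_apply, ← LinearMap.lTensor_comp,
      hex.linearMap_comp_eq_zero]
    simp
  have h3 : (q.lTensor (LinearMap.ker π)) k = 0 := by
    have := Module.Flat.rTensor_preserves_injective_linearMap (M := Q) ι
      (LinearMap.ker π).subtype_injective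
    exact (injective_iff_map_eq_zero _).mp this _ h2
  obtain ⟨k', rfl⟩ := (lTensor_exact (LinearMap.ker π) hex hq _).mp h3
  have h4 : (ρ.lTensor F) ((ι.rTensor M') k') = (ρ.lTensor F) y := by
    rw [← hk, ← LinearMap.comp_apply, LinearMap.lTensor_comp_rTensor,
      ← LinearMap.rTensor_comp_lTensor, LinearMap.comp_apply]
  have h5 := Module.Flat.lTensor_preserves_injective_linearMap (M := F) ρ hρ h4
  rw [← h5, ← LinearMap.comp_apply, ← LinearMap.rTensor_comp, hιπ.linearMap_comp_eq_zero]
  simp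

/-- If `0 → M' → M → Q → 0` is exact with `Q` flat, then `N ⊗ M' → N ⊗ M` is injective for
every module `N`. -/
theorem lTensor_injective_of_flat_coker (ρ : M' →ₗ[R] M) (q : M →ₗ[R] Q)
    (hρ : Function.Injective ρ) (hex : Function.Exact ρ q) (hq : Function.Surjective q)
    [Module.Flat R Q] (N : Type*) [AddCommGroup N] [Module R N] :
    Function.Injective (ρ.lTensor N) :=
  lTensor_injective_of_flat_coker_aux ρ q hρ hex hq (F := N →₀ R)
    (Finsupp.linearCombination R id) (Finsupp.linearCombination_id_surjective R N)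

/-- Abstract form of the injectivity statement: `Γ ⊗ κ → ∏ (E i ⊗ κ)` is injective as soon as
`Γ → ∏ E i` is injective with saturated image, over a Dedekind domain. -/
theorem eq_zero_of_forall_rTensor_eq_zero {A : Type*} [CommRing A]
    [IsDedekindDomain A] {Γ : Type*} [CommRing Γ] [Algebra A Γ] {ι : Type*} [Finite ι]
    {E : ι → Type*} [∀ i, CommRing (E i)] [∀ i, Algebra A (E i)] (r : ∀ i, Γ →ₐ[A] E i)
    (hinj : ∀ γ : Γ, (∀ i, r i γ = 0) → γ = 0)
    (hsat : ∀ (a : A), a ≠ 0 → ∀ (e : ∀ i, E i) (γ : Γ), (∀ i, a • e i = r i γ) →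
      ∃ γ' : Γ, ∀ i, r i γ' = e i)
    (κ : Type*) [AddCommGroup κ] [Module A κ] (z : Γ ⊗[A] κ)
    (hz : ∀ i, ((r i).toLinearMap.rTensor κ) z = 0) : z = 0 := by
  classical
  cases nonempty_fintype ι
  let ρ : Γ →ₗ[A] (∀ i, E i) := LinearMap.pi fun i => (r i).toLinearMap
  have hρ : Function.Injective ρ := by
    rw [injective_iff_map_eq_zero]
    intro γ hγ
    exact hinj γ fun i => congrFun hγ i
  let q := (LinearMap.range ρ).mkQ
  have hex : Function.Exact ρ q := LinearMap.exact_map_mkQ_range ρ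
  have hq : Function.Surjective q := Submodule.mkQ_surjective _
  have htf : Submodule.torsion A ((∀ i, E i) ⧸ LinearMap.range ρ) = ⊥ := by
    rw [eq_bot_iff]
    rintro x ⟨⟨a, ha⟩, hax⟩
    obtain ⟨e, rfl⟩ := Submodule.mkQ_surjective _ x
    have ha0 : a ≠ 0 := nonZeroDivisors.ne_zero ha
    have h1 : a • e ∈ LinearMap.range ρ := by
      rw [← Submodule.Quotient.mk_eq_zero, Submodule.Quotient.mk_smul]
      exact hax
    obtain ⟨γ, hγ⟩ := h1
    obtain ⟨γ', hγ'⟩ := hsat a ha0 e γ fun i => (congrFun hγ i).symm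
    have : e = ρ γ' := funext fun i => (hγ' i).symm
    rw [this]
    simp
  have : Module.Flat A ((∀ i, E i) ⧸ LinearMap.range ρ) :=
    IsDedekindDomain.flat_iff_torsion_eq_bot.mpr htf
  have hinj' : Function.Injective (ρ.rTensor κ) :=
    (LinearMap.lTensor_inj_iff_rTensor_inj _ _).mp
      (lTensor_injective_of_flat_coker ρ q hρ hex hq κ)
  apply hinj'
  rw [map_zero]
  apply (TensorProduct.comm A _ κ).injective
  apply (TensorProduct.piRight A A κ E).injective
  rw [map_zero, map_zero]
  funext i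
  have key : ∀ w : Γ ⊗[A] κ, (TensorProduct.piRight A A κ E)
      ((TensorProduct.comm A _ κ) ((ρ.rTensor κ) w)) i =
      (TensorProduct.comm A _ κ) (((r i).toLinearMap.rTensor κ) w) := by
    intro w
    induction w with
    | zero => simp
    | tmul x y => simp [ρ]
    | add x y hx hy => simp only [map_add, Pi.add_apply, hx, hy]
  rw [key, hz, map_zero]
  rfl

end Algebra

section Sheaf

open AlgebraicGeometry CategoryTheory Opposite TopologicalSpace

variable {A : Type u} [CommRing A] [IsDomain A] {X : Scheme.{u}}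
  (α : CommRingCat.of A ⟶ Γ(X, ⊤))

/-- The structure map `A → Γ(X, V)` on an open `V`. -/
noncomputable def strMap (V : X.Opens) : CommRingCat.of A ⟶ Γ(X, V) :=
  α ≫ X.presheaf.map (homOfLE le_top).op

lemma strMap_res {V W : X.Opens} (h : W ≤ V) :
    strMap α V ≫ X.presheaf.map (homOfLE h).op = strMap α W := by
  rw [strMap, Category.assoc, ← Functor.map_comp]
  rfl

lemma strMap_res_apply {V W : X.Opens} (h : W ≤ V) (a : A) :
    (X.presheaf.map (homOfLE h).op).hom ((strMap α V).hom a) = (strMap α W).hom a := by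
  rw [← strMap_res α h]
  rfl

variable (hflat : ∀ U : X.Opens, IsAffineOpen U → (strMap α U).hom.Flat)
include hflat

lemma torsionFree (V : X.Opens) (a : A) (ha : a ≠ 0) (x : Γ(X, V))
    (hx : (strMap α V).hom a * x = 0) : x = 0 := by
  refine X.IsSheaf.section_ext fun p hp => ?_
  obtain ⟨_, ⟨W, hW, rfl⟩, hpW, hWV'⟩ :=
    X.isBasis_affineOpens.exists_subset_of_mem_open hp V.isOpen
  have hWV : W ≤ V := hWV'
  refine ⟨W, hWV, hpW, ?_⟩
  rw [map_zero]
  have h1 : (strMap α W).hom a * (X.presheaf.map (homOfLE hWV).op).hom x = 0 := by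
    rw [← strMap_res_apply α hWV]
    exact ((X.presheaf.map (homOfLE hWV).op).hom.map_mul _ _).symm.trans
      ((congrArg _ hx).trans (map_zero _))
  have hfl := hflat W hW
  let _ := (strMap α W).hom.toAlgebra
  have : Module.Flat A Γ(X, W) := hfl
  have hreg := Module.Flat.isSMulRegular_of_nonZeroDivisors (M := Γ(X, W))
    (mem_nonZeroDivisors_of_ne_zero ha)
  apply hreg
  change a • _ = a • (0 : Γ(X, W))
  rw [smul_zero, Algebra.smul_def]
  exact h1

lemma saturated {ι : Type*} (U : ι → X.Opens) (hU : ⨆ i, U i = ⊤) (a : A) (ha : a ≠ 0)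
    (e : ∀ i, Γ(X, U i)) (γ : Γ(X, ⊤))
    (h : ∀ i, (strMap α (U i)).hom a * e i = (X.presheaf.map (homOfLE le_top).op).hom γ) :
    ∃ γ' : Γ(X, ⊤), ∀ i, (X.presheaf.map (homOfLE le_top).op).hom γ' = e i := by
  have hcompat : TopCat.Presheaf.IsCompatible X.presheaf U e := by
    intro i j
    rw [← sub_eq_zero]
    apply torsionFree α hflat (U i ⊓ U j) a ha
    rw [mul_sub, sub_eq_zero]
    have key : ∀ (k : ι) (hk : U i ⊓ U j ≤ U k),
        (strMap α (U i ⊓ U j)).hom a * (X.presheaf.map (homOfLE hk).op).hom (e k) =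
          (X.presheaf.map (homOfLE le_top).op).hom γ := by
      intro k hk
      rw [← strMap_res_apply α hk]
      refine ((X.presheaf.map (homOfLE hk).op).hom.map_mul _ _).symm.trans ?_
      rw [h k, ← CommRingCat.comp_apply, ← Functor.map_comp]
      rfl
    exact (key i inf_le_left).trans (key j inf_le_right).symm
  obtain ⟨s, hs, -⟩ := X.sheaf.existsUnique_gluing' U ⊤ (fun i => homOfLE le_top)
    (by rw [hU]) e hcompat
  exact ⟨s, hs⟩

end Sheaf

section Scheme

open AlgebraicGeometry CategoryTheory Opposite TopologicalSpace Limits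

/-- A morphism into a pullback of spectra, which on the first factor is induced by `m : S → S'`
and on the second is the identity, is `Spec` of `m ⊗ id` up to `pullbackSpecIso`. -/
lemma hom_eq_of_fst_snd (R S S' T : Type u) [CommRing R] [CommRing S] [CommRing S'] [CommRing T]
    [Algebra R S] [Algebra R S'] [Algebra R T] (m : S →ₐ[R] S') {P : Scheme.{u}}
    (t : P ⟶ pullback (Spec.map (CommRingCat.ofHom (algebraMap R S)))
      (Spec.map (CommRingCat.ofHom (algebraMap R T))))
    (t' : P ⟶ pullback (Spec.map (CommRingCat.ofHom (algebraMap R S')))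
      (Spec.map (CommRingCat.ofHom (algebraMap R T))))
    (h1 : t ≫ pullback.fst _ _ = t' ≫ pullback.fst _ _ ≫ Spec.map (CommRingCat.ofHom m.toRingHom))
    (h2 : t ≫ pullback.snd _ _ = t' ≫ pullback.snd _ _) :
    t = t' ≫ (pullbackSpecIso R S' T).hom ≫
      Spec.map (CommRingCat.ofHom
        (Algebra.TensorProduct.map m (AlgHom.id R T)).toRingHom) ≫
        (pullbackSpecIso R S T).inv := by
  apply pullback.hom_ext
  · rw [h1, Category.assoc, Category.assoc, Category.assoc, pullbackSpecIso_inv_fst,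
      ← Spec.map_comp]
    have : CommRingCat.ofHom (Algebra.TensorProduct.includeLeftRingHom (R := R) (A := S) (B := T)) ≫
        CommRingCat.ofHom (Algebra.TensorProduct.map m (AlgHom.id R T)).toRingHom =
        CommRingCat.ofHom m.toRingHom ≫
          CommRingCat.ofHom (Algebra.TensorProduct.includeLeftRingHom
            (R := R) (A := S') (B := T)) := by
      ext x
      simp
    rw [this, Spec.map_comp, pullbackSpecIso_hom_fst_assoc]
  · rw [h2, Category.assoc, Category.assoc, Category.assoc, pullbackSpecIso_inv_snd,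
      ← Spec.map_comp]
    have : CommRingCat.ofHom (R := T) (S := S ⊗[R] T)
          (RingHomClass.toRingHom (Algebra.TensorProduct.includeRight (R := R) (A := S)
          (B := T))) ≫
        CommRingCat.ofHom (Algebra.TensorProduct.map m (AlgHom.id R T)).toRingHom =
        CommRingCat.ofHom (R := T) (S := S' ⊗[R] T)
          (RingHomClass.toRingHom (Algebra.TensorProduct.includeRight (R := R) (A := S')
          (B := T))) := by
      ext x
      simp
    rw [this, pullbackSpecIso_hom_snd]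

lemma flat_strMap {A : Type u} [CommRing A] (X : Scheme.{u})
    (g' : CommRingCat.of A ⟶ Γ(X, ⊤)) [Flat (X.toSpecΓ ≫ Spec.map g')]
    (V : X.Opens) (hV : IsAffineOpen V) : (strMap g' V).hom.Flat := by
  have h1 := Scheme.Hom.flat_appLE (X.toSpecΓ ≫ Spec.map g') (isAffineOpen_top _) hV
    (le_top : V ≤ (X.toSpecΓ ≫ Spec.map g') ⁻¹ᵁ ⊤)
  have h2 : strMap g' V = (Scheme.ΓSpecIso (CommRingCat.of A)).inv ≫
      (X.toSpecΓ ≫ Spec.map g').appLE ⊤ V le_top := by
    have h3 : (X.toSpecΓ ≫ Spec.map g').appTop =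
        (Scheme.ΓSpecIso (CommRingCat.of A)).hom ≫ g' := by
      rw [Scheme.Hom.comp_appTop, Scheme.toSpecΓ_appTop, Scheme.ΓSpecIso_naturality]
    have h5 : (X.toSpecΓ ≫ Spec.map g').appLE ⊤ ⊤ le_top = (X.toSpecΓ ≫ Spec.map g').appTop := by
      rw [Scheme.Hom.appLE]
      simp
    have h4 : (X.toSpecΓ ≫ Spec.map g').appLE ⊤ V le_top =
        (X.toSpecΓ ≫ Spec.map g').appTop ≫ X.presheaf.map (homOfLE le_top).op := by
      rw [← h5]
      exact ((X.toSpecΓ ≫ Spec.map g').appLE_map (U := ⊤) (V := ⊤) le_top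
        (homOfLE (le_top : V ≤ ⊤)).op).symm
    rw [h4, h3, strMap, Category.assoc, Iso.inv_hom_id_assoc]
  rw [h2, CommRingCat.hom_comp]
  exact RingHom.Flat.comp (RingHom.Flat.of_bijective
    (ConcreteCategory.bijective_of_isIso (Scheme.ΓSpecIso (CommRingCat.of A)).inv)) h1

theorem ker_eq_bot_main (A : Type u) [CommRing A] [IsDomain A] [IsDiscreteValuationRing A]
    (X : Scheme.{u}) [CompactSpace X] (g' : CommRingCat.of A ⟶ Γ(X, ⊤))
    [Flat (X.toSpecΓ ≫ Spec.map g')] (κ : CommRingCat.{u}) (φ : CommRingCat.of A ⟶ κ)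
    (h : pullback (X.toSpecΓ ≫ Spec.map g') (Spec.map φ) ⟶ pullback (Spec.map g') (Spec.map φ))
    (hfst : h ≫ pullback.fst _ _ = pullback.fst _ _ ≫ X.toSpecΓ)
    (hsnd : h ≫ pullback.snd _ _ = pullback.snd _ _) : h.ker = ⊥ := by
  classical
  -- finite affine cover
  let 𝒰 := X.affineCover.finiteSubcover
  let U : 𝒰.I₀ → X.Opens := fun i => (𝒰.f i).opensRange
  have hU : ∀ i, IsAffineOpen (U i) := fun i => isAffineOpen_opensRange (𝒰.f i)
  have hcov : ⨆ i, U i = ⊤ := 𝒰.iSup_opensRange
  have hflat := flat_strMap X g'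
  -- algebra structures
  let algΓ : Algebra A Γ(X, ⊤) := g'.hom.toAlgebra
  let algE : ∀ i, Algebra A Γ(X, U i) := fun i => (strMap g' (U i)).hom.toAlgebra
  let algκ : Algebra A κ := φ.hom.toAlgebra
  let r : ∀ i, Γ(X, ⊤) →ₐ[A] Γ(X, U i) := fun i =>
    { (X.presheaf.map (homOfLE le_top).op).hom with commutes' := fun a => rfl }
  have key : ∀ z : Γ(X, ⊤) ⊗[A] κ, (∀ i, ((r i).toLinearMap.rTensor κ) z = 0) → z = 0 := by
    intro z hz
    refine eq_zero_of_forall_rTensor_eq_zero r ?_ ?_ κ z hz
    · intro γ hγ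
      refine X.IsSheaf.section_ext fun p _ => ?_
      have hp : p ∈ ⨆ i, U i := by rw [hcov]; trivial
      obtain ⟨i, hi⟩ := Opens.mem_iSup.mp hp
      exact ⟨U i, le_top, hi, (hγ i).trans (map_zero _).symm⟩
    · intro a ha e γ hae
      refine saturated g' hflat U hcov a ha e γ fun i => ?_
      refine Eq.trans ?_ (hae i)
      rw [Algebra.smul_def]
      rfl
  apply Scheme.IdealSheafData.ext_of_isAffine
  rw [Scheme.IdealSheafData.ideal_bot, Pi.bot_apply, eq_bot_iff]
  intro z hz
  rw [Ideal.mem_bot]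
  let e := pullbackSpecIso A Γ(X, ⊤) κ
  have hz'0 : (Scheme.ΓSpecIso (CommRingCat.of (Γ(X, ⊤) ⊗[A] κ))).hom (e.inv.appTop z) = 0 := by
    apply key
    intro i
    let c := (hU i).fromSpec
    have hc : c ≫ X.toSpecΓ ≫ Spec.map g' =
        Spec.map (CommRingCat.ofHom (algebraMap A Γ(X, U i))) := by
      rw [IsAffineOpen.fromSpec_toSpecΓ_assoc, ← Spec.map_comp]
      rfl
    let k : pullback (c ≫ X.toSpecΓ ≫ Spec.map g') (Spec.map φ) ⟶
        pullback (X.toSpecΓ ≫ Spec.map g') (Spec.map φ) :=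
      pullback.map _ _ _ _ c (𝟙 _) (𝟙 _) (by simp) (by simp)
    have h0 : ((k ≫ h).appTop).hom z = 0 := by
      have h1 : h.ker ≤ (k ≫ h).ker := Scheme.Hom.le_ker_comp k h
      exact (k ≫ h).ideal_ker_le ⟨⊤, isAffineOpen_top _⟩ (h1 _ hz)
    let t' := (pullback.congrHom hc
      (rfl : Spec.map φ = Spec.map (CommRingCat.ofHom (algebraMap A κ)))).hom
    have hr : CommRingCat.ofHom (r i).toRingHom = X.presheaf.map (homOfLE le_top).op := rfl
    have hf1 : (k ≫ h) ≫ pullback.fst (Spec.map g') (Spec.map φ) =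
        t' ≫ pullback.fst (Spec.map (CommRingCat.ofHom (algebraMap A Γ(X, U i)))) (Spec.map φ) ≫
          Spec.map (X.presheaf.map (homOfLE le_top).op) := by
      rw [Category.assoc, hfst]
      simp only [k, t', pullback.congrHom_hom, pullback.lift_fst_assoc, pullback.map,
        Category.comp_id, Category.assoc]
      rw [IsAffineOpen.fromSpec_toSpecΓ]
    have hf2 : (k ≫ h) ≫ pullback.snd (Spec.map g') (Spec.map φ) =
        t' ≫ pullback.snd (Spec.map (CommRingCat.ofHom (algebraMap A Γ(X, U i))))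
          (Spec.map φ) := by
      rw [Category.assoc, hsnd]
      simp only [k, t', pullback.congrHom_hom, pullback.lift_snd, pullback.map,
        Category.comp_id]
    have hfac := hom_eq_of_fst_snd A Γ(X, ⊤) Γ(X, U i) κ (r i) (k ≫ h) t' hf1 hf2
    rw [hfac] at h0
    have hiso : Function.Injective
        ((t' ≫ (pullbackSpecIso A Γ(X, U i) κ).hom).appTop).hom := by
      have : IsIso t' := Iso.isIso_hom _
      have : IsIso ((t' ≫ (pullbackSpecIso A Γ(X, U i) κ).hom).app ⊤) := inferInstance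
      exact (ConcreteCategory.bijective_of_isIso
        ((t' ≫ (pullbackSpecIso A Γ(X, U i) κ).hom).app ⊤)).1
    have h3 : ((Spec.map (CommRingCat.ofHom
        (Algebra.TensorProduct.map (r i) (AlgHom.id A κ)).toRingHom)).appTop).hom
          ((e.inv.appTop).hom z) = 0 := by
      apply hiso
      rw [map_zero, ← h0]
      simp only [Scheme.Hom.comp_appTop, CommRingCat.comp_apply, Category.assoc]
      rfl
    have h4 := congrArg (Scheme.ΓSpecIso _).hom.hom h3
    rw [map_zero, ← CommRingCat.comp_apply, Scheme.ΓSpecIso_naturality,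
      CommRingCat.comp_apply] at h4
    exact h4
  have h5 : e.inv.appTop.hom z = 0 :=
    (ConcreteCategory.bijective_of_isIso
      (Scheme.ΓSpecIso (CommRingCat.of (Γ(X, ⊤) ⊗[A] κ))).hom).1 (hz'0.trans (map_zero _).symm)
  have : IsIso (e.inv.app ⊤) := inferInstance
  exact (ConcreteCategory.bijective_of_isIso (e.inv.app ⊤)).1 (h5.trans (map_zero _).symm)

end Scheme

end Groth.Agent.Lib.Helper69.FibreDom
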