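import Mathlib
import Groth.Prelude.Def_CohProp
import Groth.Agent.Lib.Helper24.FiniteEtaleSplit
import Groth.Agent.Lib.Helper43.EtOpenSub

/-!
# `h_X` is finite locally constant for `X → S` finite étale (helper69)

* `overIsoOfW`: on a site `(C, J)`, a morphism of presheaves on `Over U` between the restrictions of
  `P` and `Q` that lies in `(J.over U).W` induces an isomorphism between the restrictions to `U` of
  the sheafifications of `P` and `Q`.
* `exists_sections_of_isSplitOver`: if `X ×_S U → U` is split (helper24's `IsSplitOver`), there are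
  finitely many sections `σ j : U → X` over `S`, pairwise nowhere equal, through which every
  `S`-morphism `W → X` from a `U`-scheme factors Zariski-locally.
* `cmp`: the comparison map `const (Fin n) → h_X` on `Over U` induced by sections; it is locally
  injective and locally surjective under the two conditions above.
* `nonempty_over_iso`: the resulting isomorphism `h_X|_U ≅ (Fin n)|_U`.
-/

set_option autoImplicit false
universe u
open CategoryTheory CategoryTheory.Limits AlgebraicGeometry Opposite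

namespace Groth.Agent.Lib.Helper69.FinEtLocConst

open Groth.Agent.Lib.Helper24 Groth.Agent.Lib.Helper43.EtOpenSub

/-- Restriction to `Over U` commutes with sheafification; a `W`-morphism of restricted presheaves
gives an isomorphism of restricted sheafifications. -/
noncomputable def overIsoOfW {C : Type (u+1)} [Category.{u} C] (J : GrothendieckTopology C) (U : C)
    (P Q : Cᵒᵖ ⥤ Type (u+1))
    (φ : (Over.forget U).op ⋙ P ⟶ (Over.forget U).op ⋙ Q) (hφ : (J.over U).W φ) :
    ((presheafToSheaf J (Type (u+1))).obj P).over U ≅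
      ((presheafToSheaf J (Type (u+1))).obj Q).over U := by
  have h1 := ((Over.forget U).pushforwardContinuousSheafificationCompatibility (Type (u+1))
    (J.over U) J)
  have : IsIso ((presheafToSheaf (J.over U) (Type (u+1))).map φ) :=
    (GrothendieckTopology.W_iff _ _).1 hφ
  exact (h1.app P).symm ≪≫ asIso ((presheafToSheaf (J.over U) (Type (u+1))).map φ) ≪≫ h1.app Q

/-- Sections of a split cover. -/
theorem exists_sections_of_isSplitOver {X S U : Scheme.{u}} (f : X ⟶ S) (g : U ⟶ S)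
    (H : IsSplitOver (pullback.snd f g)) :
    ∃ (n : ℕ) (σ : Fin n → (U ⟶ X)), (∀ j, σ j ≫ f = g) ∧
      (∀ j j', j ≠ j' → ∀ (W : Scheme.{u}) (a : W ⟶ U), a ≫ σ j = a ≫ σ j' → IsEmpty W) ∧
      (∀ (W : Scheme.{u}) (a : W ⟶ U) (s : W ⟶ X), s ≫ f = a ≫ g → ∀ w : W,
        ∃ (j : Fin n) (W' : W.Opens), w ∈ W' ∧ W'.ι ≫ s = W'.ι ≫ a ≫ σ j) := by
  obtain ⟨n, V, c, hc, e, he⟩ := H
  let τ : ∀ j, U ⟶ pullback f g := fun j => inv (c j) ≫ Sigma.ι V j ≫ e.hom
  have hτ : ∀ j, τ j ≫ pullback.snd f g = 𝟙 U := by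
    intro j
    simp only [τ, Category.assoc]
    rw [he j, IsIso.inv_hom_id]
  refine ⟨n, fun j => τ j ≫ pullback.fst f g, ?_, ?_, ?_⟩
  · intro j
    rw [Category.assoc, pullback.condition, reassoc_of% (hτ j)]
  · intro j j' hjj' W a h
    have h2 : a ≫ τ j = a ≫ τ j' := by
      apply pullback.hom_ext
      · simpa only [Category.assoc] using h
      · simp only [Category.assoc, hτ]
    have h3 : (a ≫ inv (c j)) ≫ Sigma.ι V j = (a ≫ inv (c j')) ≫ Sigma.ι V j' := by
      have := h2 =≫ e.inv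
      simpa only [τ, Category.assoc, Iso.hom_inv_id, Category.comp_id] using this
    exact isEmpty_of_commSq_sigmaι_of_ne ⟨h3⟩ hjj'
  · intro W a s hs w
    let t : W ⟶ pullback f g := pullback.lift s a hs
    obtain ⟨j, y, hy⟩ := (sigmaOpenCover V).exists_eq ((t ≫ e.inv) w)
    let W' : W.Opens := (t ≫ e.inv) ⁻¹ᵁ (Sigma.ι V j).opensRange
    refine ⟨j, W', ⟨y, hy⟩, ?_⟩
    have hr : Set.range (W'.ι ≫ t ≫ e.inv) ⊆ Set.range (Sigma.ι V j) := by
      rintro _ ⟨z, rfl⟩
      exact z.2
    let l : W'.toScheme ⟶ V j := IsOpenImmersion.lift (Sigma.ι V j) (W'.ι ≫ t ≫ e.inv) hr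
    have hl : l ≫ Sigma.ι V j = W'.ι ≫ t ≫ e.inv := IsOpenImmersion.lift_fac _ _ _
    have hl2 : W'.ι ≫ t = l ≫ Sigma.ι V j ≫ e.hom := by
      rw [reassoc_of% hl, Iso.inv_hom_id, Category.comp_id]
    have hl3 : l ≫ c j = W'.ι ≫ a := by
      rw [← he j, ← reassoc_of% hl2, pullback.lift_snd]
    have hl4 : l = W'.ι ≫ a ≫ inv (c j) := by
      rw [← Category.assoc, ← hl3, Category.assoc, IsIso.hom_inv_id, Category.comp_id]
    calc W'.ι ≫ s = W'.ι ≫ t ≫ pullback.fst f g := by rw [pullback.lift_fst]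
      _ = l ≫ Sigma.ι V j ≫ e.hom ≫ pullback.fst f g := by rw [reassoc_of% hl2]
      _ = W'.ι ≫ a ≫ τ j ≫ pullback.fst f g := by
        rw [hl4]; simp only [τ, Category.assoc]

variable {S : Scheme.{u}}

/-- The comparison map of presheaves on `Over U`. -/
noncomputable def cmp (U XE : S.Etale) (n : ℕ) (σ : Fin n → (U ⟶ XE)) :
    (Over.forget U).op ⋙ (Functor.const (S.Etale)ᵒᵖ).obj (ULift.{u+1} (Fin n)) ⟶
      (Over.forget U).op ⋙ (yoneda.obj XE ⋙ uliftFunctor.{u + 1, u}) where
  app W := TypeCat.ofHom (fun m => ULift.up (W.unop.hom ≫ σ m.down))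
  naturality W W' a := by
    ext m
    change ULift.up (W'.unop.hom ≫ σ m.down) = ULift.up (a.unop.left ≫ W.unop.hom ≫ σ m.down)
    rw [Over.w_assoc]

lemma cmp_app (U XE : S.Etale) (n : ℕ) (σ : Fin n → (U ⟶ XE)) (W : (Over U)ᵒᵖ)
    (m : ULift.{u+1} (Fin n)) :
    (cmp U XE n σ).app W m = ULift.up (W.unop.hom ≫ σ m.down) := rfl

lemma mem_over_of_isEmpty (U : S.Etale) (W : Over U) (h : IsEmpty W.left.left)
    (R : Sieve W) : R ∈ (S.smallEtaleTopology.over U) W := by
  rw [GrothendieckTopology.mem_over_iff, mem_smallEtaleTopology_iff']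
  intro x
  exact (h.false x).elim

lemma isLocallyInjective_cmp (U XE : S.Etale) (n : ℕ) (σ : Fin n → (U ⟶ XE))
    (hdisj : ∀ j j', j ≠ j' → ∀ (W : Scheme.{u}) (a : W ⟶ U.left),
      a ≫ (σ j).left = a ≫ (σ j').left → IsEmpty W) :
    Presheaf.IsLocallyInjective (S.smallEtaleTopology.over U) (cmp U XE n σ) := by
  constructor
  intro W x y h
  by_cases hxy : x = y
  · subst hxy
    rw [Presheaf.equalizerSieve_self_eq_top]
    exact GrothendieckTopology.top_mem _ _
  · apply mem_over_of_isEmpty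
    have hne : x.down ≠ y.down := fun h' => hxy (ULift.ext _ _ h')
    apply hdisj x.down y.down hne _ W.unop.hom.left
    rw [cmp_app, cmp_app] at h
    have h2 := congrArg ULift.down h
    have h3 := congrArg (fun t => t.left) h2
    exact h3

lemma isLocallySurjective_cmp (U XE : S.Etale) (n : ℕ) (σ : Fin n → (U ⟶ XE))
    (hcov : ∀ (W : Scheme.{u}) (a : W ⟶ U.left) (s : W ⟶ XE.left), s ≫ XE.hom = a ≫ U.hom →
      ∀ w : W, ∃ (j : Fin n) (W' : W.Opens), w ∈ W' ∧ W'.ι ≫ s = W'.ι ≫ a ≫ (σ j).left) :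
    Presheaf.IsLocallySurjective (S.smallEtaleTopology.over U) (cmp U XE n σ) := by
  constructor
  intro W s
  rw [GrothendieckTopology.mem_over_iff, mem_smallEtaleTopology_iff']
  intro x
  obtain ⟨j, W', hx, hW'⟩ := hcov W.left.left W.hom.left s.down.left
    ((hom_left_eq s.down).trans (hom_left_eq W.hom).symm) x
  let V : S.Etale := Scheme.Etale.mk (W'.ι ≫ W.left.hom)
  let b : V ⟶ W.left := MorphismProperty.Over.homMk (A := V) (B := W.left) W'.ι rfl
  refine ⟨V, b, ⟨x, hx⟩, ?_, rfl⟩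
  rw [Sieve.overEquiv_iff]
  refine ⟨ULift.up j, ?_⟩
  rw [cmp_app]
  change ULift.up ((b ≫ W.hom) ≫ σ j) = ULift.up (b ≫ s.down)
  congr 1
  apply MorphismProperty.Over.Hom.ext
  change W'.ι ≫ W.hom.left ≫ (σ j).left = W'.ι ≫ s.down.left
  exact hW'.symm

/-- If `X ×_S U` is split over `U`, then `h_X` restricted to `U` is a constant sheaf with finite
value. -/
theorem nonempty_over_iso {X : Scheme.{u}} (f : X ⟶ S) [Etale f] (U : S.Etale)
    (H : IsSplitOver (pullback.snd f U.hom)) :
    ∃ n : ℕ, Nonempty ((EtDesc.repSh (Scheme.Etale.mk f)).over U ≅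
      (CohProp.constSh S (ULift.{u + 1} (Fin n))).over U) := by
  obtain ⟨n, σ, hσ, hdisj, hcov⟩ := exists_sections_of_isSplitOver f U.hom H
  let XE : S.Etale := Scheme.Etale.mk f
  let σE : Fin n → (U ⟶ XE) := fun j =>
    MorphismProperty.Over.homMk (A := U) (B := XE) (σ j) (hσ j)
  have h1 := isLocallyInjective_cmp U XE n σE (fun j j' hjj' W a h => hdisj j j' hjj' W a h)
  have h2 := isLocallySurjective_cmp U XE n σE (fun W a s hs w => hcov W a s hs w)
  have hW : (S.smallEtaleTopology.over U).W (cmp U XE n σE) :=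
    (GrothendieckTopology.W_iff_isLocallyBijective _ _).2 ⟨h1, h2⟩
  exact ⟨n, ⟨(overIsoOfW S.smallEtaleTopology U _ _ (cmp U XE n σE) hW).symm⟩⟩

end Groth.Agent.Lib.Helper69.FinEtLocConst
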