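import Mathlib

/-!
# Galois extensions of commutative rings (helper69)

A finite group `G` acting on a commutative ring `B` with invariants `C` such that for `g ≠ 1` the
elements `g • b - b` generate the unit ideal: `B` is finite projective over `C`, faithfully flat,
`B ⊗[C] B ≃ ∏_G B`, and `C → B` is étale.
-/

set_option autoImplicit false
set_option linter.unusedSectionVars false
set_option linter.style.haveILetI false

namespace Groth.Agent.Lib.Helper69.GaloisRing

open TensorProduct

variable (C : Type*) {B G : Type*} [CommRing C] [CommRing B] [Algebra C B] [Group G]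
  [MulSemiringAction G B] [SMulCommClass G C B]

/-- `μ_g : B ⊗[C] B → B`, `b ⊗ b' ↦ b * g • b'`, a morphism of `B`-algebras for the left structure. -/
noncomputable def mu (g : G) : B ⊗[C] B →ₐ[B] B :=
  Algebra.TensorProduct.lift (Algebra.ofId B B) (MulSemiringAction.toAlgHom C B g)
    (fun _ _ => Commute.all _ _)

@[simp] theorem mu_tmul (g : G) (b b' : B) : mu C g (b ⊗ₜ[C] b') = b * g • b' := by
  simp [mu]

/-- the ideal generated by the `g • b - b`. -/
def moveIdeal (g : G) : Ideal B := Ideal.span (Set.range fun b : B => g • b - b)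

theorem exists_tensor_of_moveIdeal_eq_top (g : G) (hg : moveIdeal (B := B) g = ⊤) :
    ∃ t : B ⊗[C] B, mu C (1 : G) t = 1 ∧ mu C g t = 0 := by
  have h1 : (1 : B) ∈ moveIdeal (B := B) g := by rw [hg]; trivial
  unfold moveIdeal at h1
  rw [Ideal.span, Finsupp.mem_span_range_iff_exists_finsupp] at h1
  obtain ⟨c, hc⟩ := h1
  -- `∑ b ∈ c.support, c b * (g • b - b) = 1`
  refine ⟨(∑ b ∈ c.support, (-(c b)) ⊗ₜ[C] b) -
    (∑ b ∈ c.support, (-(c b)) * g • b) ⊗ₜ[C] (1 : B), ?_, ?_⟩
  · rw [map_sub, map_sum, mu_tmul, one_smul, mul_one]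
    simp only [mu_tmul, one_smul]
    rw [← Finset.sum_sub_distrib, ← hc, Finsupp.sum]
    refine Finset.sum_congr rfl fun b _ => ?_
    simp only [smul_eq_mul]
    ring
  · rw [map_sub, map_sum, mu_tmul, smul_one, mul_one]
    simp only [mu_tmul]
    exact sub_self _

section system
variable [Fintype G] [DecidableEq G]

theorem exists_tensor (hfree : ∀ g : G, g ≠ 1 → moveIdeal (B := B) g = ⊤) :
    ∃ t : B ⊗[C] B, ∀ g : G, mu C g t = if g = 1 then 1 else 0 := by
  choose! t ht1 htg using fun g hg => exists_tensor_of_moveIdeal_eq_top C g (hfree g hg)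
  refine ⟨∏ g ∈ Finset.univ.filter (· ≠ (1 : G)), t g, fun h => ?_⟩
  rw [map_prod]
  split_ifs with hh
  · subst hh
    exact Finset.prod_eq_one (fun g hg => ht1 g (Finset.mem_filter.mp hg).2)
  · exact Finset.prod_eq_zero (Finset.mem_filter.mpr ⟨Finset.mem_univ h, hh⟩) (htg h hh)

include C in
/-- A Galois system: `∑ x_i g(y_i) = δ_{g,1}`. -/
theorem exists_system (hfree : ∀ g : G, g ≠ 1 → moveIdeal (B := B) g = ⊤) :
    ∃ (k : ℕ) (x y : Fin k → B), ∀ g : G, ∑ i, x i * g • y i = if g = 1 then 1 else 0 := by
  obtain ⟨t, ht⟩ := exists_tensor C hfree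
  obtain ⟨k, x, y, rfl⟩ := TensorProduct.exists_sum_tmul_eq t
  refine ⟨k, x, y, fun g => ?_⟩
  rw [← ht g, map_sum]
  simp only [mu_tmul]

end system

section consequences
variable [Fintype G] [DecidableEq G] {k : ℕ} (x y : Fin k → B)
  (hxy : ∀ g : G, ∑ i, x i * g • y i = if g = 1 then 1 else 0)

include hxy in
theorem system_symm (g : G) : ∑ i, g • x i * y i = if g = 1 then 1 else 0 := by
  have h := congrArg (fun b => g • b) (hxy g⁻¹)
  simp only [Finset.smul_sum, smul_mul', smul_inv_smul] at h
  rw [h]
  by_cases hg : g = 1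
  · subst hg; simp
  · have : g⁻¹ ≠ 1 := fun h' => hg (inv_eq_one.mp h')
    rw [if_neg this, if_neg hg, smul_zero]

include hxy in
theorem system_mixed (g h : G) : ∑ i, g • x i * h • y i = if g = h then 1 else 0 := by
  have h1 := congrArg (fun b => g • b) (hxy (g⁻¹ * h))
  simp only [Finset.smul_sum, smul_mul', smul_smul, mul_inv_cancel_left] at h1
  rw [h1]
  by_cases hgh : g = h
  · subst hgh; simp
  · have : g⁻¹ * h ≠ 1 := fun h' => hgh (by
      have := congrArg (fun t => g * t) h'
      simpa using this.symm)
    rw [if_neg this, if_neg hgh, smul_zero]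

/-- the trace `∑_g g • b`. -/
def tr (G : Type*) [Group G] [Fintype G] [MulSemiringAction G B] (b : B) : B := ∑ g : G, g • b

theorem smul_tr (h : G) (b : B) : h • tr G b = tr G b := by
  unfold tr
  rw [Finset.smul_sum]
  simp only [smul_smul]
  exact Fintype.sum_equiv (Equiv.mulLeft h) _ _ (fun g => rfl)

include hxy in
theorem sum_mul_tr (b : B) : ∑ i, x i * tr G (y i * b) = b := by
  unfold tr
  simp only [Finset.mul_sum, smul_mul']
  rw [Finset.sum_comm]
  have : ∀ g : G, ∑ i, x i * (g • y i * g • b) = (if g = 1 then 1 else 0) * g • b := by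
    intro g
    rw [← hxy g, Finset.sum_mul]
    exact Finset.sum_congr rfl fun i _ => (mul_assoc _ _ _).symm
  simp only [this]
  simp

section invariants
variable [Algebra.IsInvariant C B G] (hinj : Function.Injective (algebraMap C B))

/-- the trace with values in the ring of invariants. -/
noncomputable def trC : B →ₗ[C] C where
  toFun b := (Algebra.IsInvariant.isInvariant (A := C) (G := G) (tr G b)
    (fun h => smul_tr h b)).choose
  map_add' a b := by
    apply hinj
    rw [map_add, (Algebra.IsInvariant.isInvariant (A := C) (G := G) (tr G (a + b))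
      (fun h => smul_tr h (a + b))).choose_spec,
      (Algebra.IsInvariant.isInvariant (A := C) (G := G) (tr G a)
      (fun h => smul_tr h a)).choose_spec,
      (Algebra.IsInvariant.isInvariant (A := C) (G := G) (tr G b)
      (fun h => smul_tr h b)).choose_spec]
    unfold tr
    simp only [smul_add, Finset.sum_add_distrib]
  map_smul' c b := by
    apply hinj
    rw [RingHom.id_apply, smul_eq_mul, map_mul,
      (Algebra.IsInvariant.isInvariant (A := C) (G := G) (tr G (c • b))
      (fun h => smul_tr h (c • b))).choose_spec,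
      (Algebra.IsInvariant.isInvariant (A := C) (G := G) (tr G b)
      (fun h => smul_tr h b)).choose_spec]
    unfold tr
    simp only [Algebra.smul_def, smul_mul', smul_algebraMap, Finset.mul_sum]

theorem algebraMap_trC (b : B) : algebraMap C B (trC (G := G) C hinj b) = tr G b :=
  (Algebra.IsInvariant.isInvariant (A := C) (G := G) (tr G b) (fun h => smul_tr h b)).choose_spec

/-- coordinates. -/
noncomputable def coordMap : B →ₗ[C] (Fin k → C) :=
  LinearMap.pi fun i => (trC (G := G) C hinj).comp (LinearMap.mulLeft C (y i))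

/-- the retraction. -/
noncomputable def retrMap : (Fin k → C) →ₗ[C] B :=
  (Fintype.linearCombination C x)

include hxy in
theorem retrMap_comp_coordMap :
    (retrMap C x).comp (coordMap (G := G) C y hinj) = LinearMap.id := by
  ext b
  simp only [LinearMap.comp_apply, retrMap, coordMap, Fintype.linearCombination_apply,
    LinearMap.pi_apply, LinearMap.mulLeft_apply, LinearMap.id_apply]
  simp only [Algebra.smul_def, algebraMap_trC]
  refine Eq.trans ?_ (sum_mul_tr x y hxy b)
  exact Finset.sum_congr rfl fun i _ => mul_comm _ _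

include hxy hinj in
theorem projective : Module.Projective C B :=
  Module.Projective.of_split (coordMap (G := G) C y hinj) (retrMap C x)
    (retrMap_comp_coordMap C x y hxy hinj)

include hxy hinj in
theorem finite : Module.Finite C B := by
  refine Module.Finite.of_surjective (retrMap C x) fun b => ?_
  exact ⟨coordMap (G := G) C y hinj b,
    LinearMap.congr_fun (retrMap_comp_coordMap C x y hxy hinj) b⟩

include hxy hinj in
theorem faithfullyFlat : Module.FaithfullyFlat C B := by
  haveI := projective C x y hxy hinj
  haveI : Algebra.IsIntegral C B := Algebra.IsInvariant.isIntegral C B G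
  haveI : FaithfulSMul C B := (faithfulSMul_iff_algebraMap_injective C B).mpr hinj
  exact Module.FaithfullyFlat.of_comap_surjective (Algebra.IsIntegral.comap_surjective C B)

/-- the comparison map `B ⊗[C] B → ∏_G B`. -/
noncomputable def phi : B ⊗[C] B →ₐ[B] (G → B) :=
  AlgHom.pi (fun g => mu C g)

@[simp] theorem phi_apply (t : B ⊗[C] B) (g : G) : phi (G := G) C t g = mu C g t := rfl

/-- the inverse map. -/
noncomputable def psi (c : G → B) : B ⊗[C] B :=
  ∑ g : G, ∑ i, (c g * g • x i) ⊗ₜ[C] y i

theorem psi_add (c c' : G → B) : psi C x y (c + c') = psi C x y c + psi C x y c' := by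
  unfold psi
  simp only [Pi.add_apply, add_mul, TensorProduct.add_tmul, Finset.sum_add_distrib]

theorem psi_zero : psi C x y (0 : G → B) = 0 := by
  unfold psi
  simp

include hxy in
theorem phi_psi (c : G → B) : phi (G := G) C (psi C x y c) = c := by
  funext h
  rw [phi_apply]
  unfold psi
  simp only [map_sum, mu_tmul]
  have : ∀ g : G, ∑ i, c g * g • x i * h • y i = c g * (if g = h then 1 else 0) := by
    intro g
    rw [← system_mixed x y hxy g h, Finset.mul_sum]
    exact Finset.sum_congr rfl fun i _ => mul_assoc _ _ _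
  simp only [this]
  simp

include hxy hinj in
theorem psi_phi (t : B ⊗[C] B) : psi C x y (phi (G := G) C t) = t := by
  induction t using TensorProduct.induction_on with
  | zero => rw [map_zero]; exact psi_zero C x y
  | add a b ha hb => rw [map_add, psi_add, ha, hb]
  | tmul b b' =>
    unfold psi
    simp only [phi_apply, mu_tmul]
    rw [Finset.sum_comm]
    have h1 : ∀ i, ∑ g : G, (b * g • b' * g • x i) ⊗ₜ[C] y i =
        b ⊗ₜ[C] (tr G (b' * x i) * y i) := by
      intro i
      rw [← TensorProduct.sum_tmul]
      have : ∑ g : G, b * g • b' * g • x i = trC (G := G) C hinj (b' * x i) • b := by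
        rw [Algebra.smul_def, algebraMap_trC]
        unfold tr
        rw [Finset.sum_mul]
        refine Finset.sum_congr rfl fun g _ => ?_
        rw [smul_mul']; ring
      rw [this, TensorProduct.smul_tmul, Algebra.smul_def, algebraMap_trC]
    simp only [h1]
    rw [← TensorProduct.tmul_sum]
    congr 1
    unfold tr
    simp only [Finset.sum_mul, smul_mul']
    rw [Finset.sum_comm]
    have h2 : ∀ g : G, ∑ i, g • b' * g • x i * y i = g • b' * (if g = 1 then 1 else 0) := by
      intro g
      rw [← system_symm x y hxy g, Finset.mul_sum]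
      exact Finset.sum_congr rfl fun i _ => mul_assoc _ _ _
    simp only [h2]
    simp

/-- `B ⊗[C] B ≃ ∏_G B`. -/
noncomputable def tensorEquiv : (B ⊗[C] B) ≃ₐ[B] (G → B) :=
  AlgEquiv.ofBijective (phi (G := G) C)
    ⟨fun a b hab => by
      rw [← psi_phi C x y hxy hinj a, ← psi_phi C x y hxy hinj b, hab],
     fun c => ⟨psi C x y c, phi_psi C x y hxy c⟩⟩

include hxy hinj in
theorem etale : Algebra.Etale C B := by
  haveI := faithfullyFlat C x y hxy hinj
  haveI : Algebra.Etale B (B ⊗[C] B) :=
    Algebra.Etale.of_equiv (tensorEquiv C x y hxy hinj).symm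
  exact Algebra.Etale.of_etale_tensorProduct_of_faithfullyFlat (R := C) (S := B) B

end invariants

end consequences

section main
variable [Finite G] [Algebra.IsInvariant C B G]

theorem main (hinj : Function.Injective (algebraMap C B))
    (hfree : ∀ g : G, g ≠ 1 → moveIdeal (B := B) g = ⊤) :
    Module.Finite C B ∧ Module.Projective C B ∧ Module.FaithfullyFlat C B ∧ Algebra.Etale C B ∧
      Function.Bijective (phi (B := B) (G := G) C) := by
  classical
  cases nonempty_fintype G
  obtain ⟨k, x, y, hxy⟩ := exists_system C hfree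
  exact ⟨finite C x y hxy hinj, projective C x y hxy hinj, faithfullyFlat C x y hxy hinj,
    etale C x y hxy hinj, (tensorEquiv C x y hxy hinj).bijective⟩

end main


end Groth.Agent.Lib.Helper69.GaloisRing
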