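import Groth.Agent.Lib.Helper69.GaloisRing

/-!
# Finite group actions whose elements act trivially or move everything (helper69)
-/

set_option autoImplicit false
set_option linter.unusedSectionVars false
set_option linter.style.haveILetI false

namespace Groth.Agent.Lib.Helper69.GaloisRing

variable (C : Type*) {A N : Type*} [CommRing C] [CommRing A] [Algebra C A] [Group N] [Finite N]
  [MulSemiringAction N A] [SMulCommClass N C A] [Algebra.IsInvariant C A N]

/-- If every element of `N` acts trivially or moves everything, `A` is finite projective over the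
invariants. -/
theorem projective_of_trivial_or_move (hinj : Function.Injective (algebraMap C A))
    (h : ∀ n : N, (∀ a : A, n • a = a) ∨ moveIdeal (B := A) n = ⊤) :
    Module.Finite C A ∧ Module.Projective C A := by
  let Γ : Subgroup (A ≃+* A) := (MulSemiringAction.toRingEquiv N A).range
  haveI : Finite Γ := Finite.of_surjective (MulSemiringAction.toRingEquiv N A).rangeRestrict
    (MulSemiringAction.toRingEquiv N A).rangeRestrict_surjective
  haveI : SMulCommClass Γ C A := ⟨by
    rintro ⟨γ, n, rfl⟩ c a
    change n • (c • a) = c • (n • a)
    exact smul_comm n c a⟩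
  haveI : Algebra.IsInvariant C A Γ := ⟨by
    intro a ha
    apply Algebra.IsInvariant.isInvariant (G := N)
    intro n
    exact ha ⟨MulSemiringAction.toRingEquiv N A n, n, rfl⟩⟩
  have hfree : ∀ γ : Γ, γ ≠ 1 → moveIdeal (B := A) γ = ⊤ := by
    rintro ⟨γ, n, rfl⟩ hγ
    rcases h n with h1 | h1
    · exfalso
      apply hγ
      apply Subtype.ext
      apply RingEquiv.ext
      intro a
      exact h1 a
    · exact h1
  obtain ⟨h1, h2, -⟩ := main (C := C) (B := A) (G := Γ) hinj hfree
  exact ⟨h1, h2⟩

end Groth.Agent.Lib.Helper69.GaloisRing
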