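import Mathlib
import Groth.Agent.Lib.Helper2.GenericFlatness
import Groth.Agent.Lib.Helper69.Birational2

/-!
# Generic finite generation of ideals of closed subsets (via generic freeness)
-/

set_option autoImplicit false
universe u
open CategoryTheory AlgebraicGeometry TopologicalSpace

namespace Groth.Agent.Lib.Helper69

/-- Elements of the kernel of a localized quotient map come from the ideal, up to a power. -/
theorem exists_mem_of_mem_ker_awayMap {S : Type*} [CommRing S] (J : Ideal S) (s : S)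
    (x : Localization.Away s)
    (hx : x ∈ RingHom.ker (Localization.awayMap (Ideal.Quotient.mk J) s)) :
    ∃ j ∈ J, ∃ n : ℕ, algebraMap S (Localization.Away s) j =
      algebraMap S (Localization.Away s) s ^ n * x := by
  obtain ⟨n, a, ha⟩ := IsLocalization.Away.surj s x
  have h1 : Localization.awayMap (Ideal.Quotient.mk J) s (algebraMap S _ a) = 0 := by
    rw [← ha, map_mul, RingHom.mem_ker.mp hx, zero_mul]
  rw [Localization.awayMap, IsLocalization.Away.map, IsLocalization.map_eq] at h1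
  have h2 : algebraMap (S ⧸ J) (Localization.Away (Ideal.Quotient.mk J s)) (Ideal.Quotient.mk J a) =
      algebraMap (S ⧸ J) (Localization.Away (Ideal.Quotient.mk J s)) 0 := by
    rw [h1, map_zero]
  obtain ⟨N, hN⟩ := IsLocalization.Away.exists_of_eq (Ideal.Quotient.mk J s) h2
  rw [mul_zero, ← map_pow, ← map_mul, Ideal.Quotient.eq_zero_iff_mem] at hN
  refine ⟨s ^ N * a, hN, N + n, ?_⟩
  rw [map_mul, map_pow, ← ha, pow_add]
  ring

theorem exists_finset_of_finiteType_reduced {R S : Type u} [CommRing R] [IsReduced R] [CommRing S]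
    (φ : R →+* S) (hφ : φ.FiniteType) (J : Ideal S) (h : R) (hh : h ≠ 0) :
    ∃ g, h ∣ g ∧ g ≠ 0 ∧ ∃ F : Finset S, (↑F : Set S) ⊆ J ∧
      ∀ q : Ideal S, q.IsPrime → φ g ∉ q → (↑F : Set S) ⊆ q → J ≤ q := by
  classical
  let π : S →+* S ⧸ J := Ideal.Quotient.mk J
  have hπ : Function.Surjective π := Ideal.Quotient.mk_surjective
  have hψ : (π.comp φ).FiniteType := (RingHom.FiniteType.of_surjective π hπ).comp hφ
  obtain ⟨g₁, hg₁, hg₁0, -, hfp₁⟩ := Groth.Agent.Lib.Helper2.exists_awayMap_flat_fp φ hφ h hh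
  obtain ⟨g, hg, hg0, -, hfp₂⟩ :=
    Groth.Agent.Lib.Helper2.exists_awayMap_flat_fp (π.comp φ) hψ g₁ hg₁0
  obtain ⟨t, rfl⟩ := hg
  have hfp₁' : (Localization.awayMap φ (g₁ * t)).FinitePresentation :=
    Groth.Agent.Lib.Helper2.awayMap_mul_of_awayMap RingHom.finitePresentation_respectsIso
      RingHom.finitePresentation_localizationPreserves.away φ g₁ t hfp₁
  refine ⟨g₁ * t, hg₁.trans (dvd_mul_right _ _), hg0, ?_⟩
  set g := g₁ * t with hgdef
  let π' : Localization.Away (φ g) →+* Localization.Away (π (φ g)) := Localization.awayMap π (φ g)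
  have hcomp : π'.comp (Localization.awayMap φ g) = Localization.awayMap (π.comp φ) g := by
    apply IsLocalization.ringHom_ext (Submonoid.powers g)
    simp only [π', Localization.awayMap, IsLocalization.Away.map, RingHom.comp_assoc,
      IsLocalization.map_comp]
    rw [← RingHom.comp_assoc, IsLocalization.map_comp, RingHom.comp_assoc]
    exact (IsLocalization.map_comp _).symm
  have hπ'fp : π'.FinitePresentation :=
    RingHom.FinitePresentation.of_comp_finiteType _ (hcomp ▸ hfp₂)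
      (RingHom.FiniteType.of_finitePresentation hfp₁')
  have hπ'surj : Function.Surjective π' := by
    rw [Localization.awayMap_surjective_iff]
    intro a
    obtain ⟨b, rfl⟩ := hπ a
    exact ⟨b, 0, by simp⟩
  obtain ⟨G, hG⟩ := ker_fg_of_finitePresentation_of_surjective π' hπ'fp hπ'surj
  have hGker : ∀ x ∈ G, x ∈ RingHom.ker π' := fun x hx => hG ▸ Ideal.subset_span hx
  have hex : ∀ x : G, ∃ j ∈ J, ∃ n : ℕ, algebraMap S (Localization.Away (φ g)) j =
      algebraMap S (Localization.Away (φ g)) (φ g) ^ n * x.1 := fun x =>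
    exists_mem_of_mem_ker_awayMap J (φ g) x.1 (hGker x.1 x.2)
  choose j hjJ n hjn using hex
  refine ⟨Finset.univ.image j, ?_, ?_⟩
  · intro y hy
    obtain ⟨x, -, rfl⟩ := Finset.mem_image.mp hy
    exact hjJ x
  · intro q hq hgq hFq
    have hdisj : Disjoint (Submonoid.powers (φ g) : Set S) (q : Set S) := by
      rw [Set.disjoint_left]
      rintro _ ⟨m, rfl⟩ hm
      exact hgq (hq.mem_of_pow_mem _ hm)
    set q' := Ideal.map (algebraMap S (Localization.Away (φ g))) q with hq'
    have hq'prime : q'.IsPrime :=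
      IsLocalization.isPrime_of_isPrime_disjoint (Submonoid.powers (φ g)) _ q hq hdisj
    have hq'comap : Ideal.comap (algebraMap S (Localization.Away (φ g))) q' = q :=
      IsLocalization.under_map_of_isPrime_disjoint (Submonoid.powers (φ g)) _ hq hdisj
    have hGq' : (G : Set (Localization.Away (φ g))) ⊆ q' := by
      intro x hx
      have h1 : algebraMap S (Localization.Away (φ g)) (j ⟨x, hx⟩) ∈ q' :=
        Ideal.mem_map_of_mem _ (hFq (Finset.mem_image_of_mem j (Finset.mem_univ _)))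
      rw [hjn ⟨x, hx⟩] at h1
      rcases hq'prime.mem_or_mem h1 with h2 | h2
      · exfalso
        have h3 := hq'prime.mem_of_pow_mem _ h2
        have h4 : φ g ∈ Ideal.comap (algebraMap S (Localization.Away (φ g))) q' := h3
        rw [hq'comap] at h4
        exact hgq h4
      · exact h2
    have hkerq' : RingHom.ker π' ≤ q' := by
      rw [← hG]; exact Ideal.span_le.mpr hGq'
    intro y hy
    have h1 : algebraMap S (Localization.Away (φ g)) y ∈ RingHom.ker π' := by
      rw [RingHom.mem_ker]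
      simp only [π', IsLocalization.Away.map, IsLocalization.map_eq]
      rw [show π y = 0 from Ideal.Quotient.eq_zero_iff_mem.mpr hy, map_zero]
    have h2 : y ∈ Ideal.comap (algebraMap S (Localization.Away (φ g))) q' := hkerq' h1
    rwa [hq'comap] at h2

theorem exists_finset_of_finiteType {A B : Type u} [CommRing A] [CommRing B]
    (φ : A →+* B) (hφ : φ.FiniteType) (J : Ideal B) (h : A) (hh : ¬ IsNilpotent h) :
    ∃ g, h ∣ g ∧ ¬ IsNilpotent g ∧ ∃ F : Finset B, (↑F : Set B) ⊆ J ∧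
      ∀ q : Ideal B, q.IsPrime → φ g ∉ q → (↑F : Set B) ⊆ q → J ≤ q := by
  classical
  let N : Ideal B := (nilradical A).map φ
  let mkA : A →+* A ⧸ nilradical A := Ideal.Quotient.mk _
  let mkB : B →+* B ⧸ N := Ideal.Quotient.mk _
  have hmkA : Function.Surjective mkA := Ideal.Quotient.mk_surjective
  have hmkB : Function.Surjective mkB := Ideal.Quotient.mk_surjective
  let φ' : A ⧸ nilradical A →+* B ⧸ N := Ideal.quotientMap N φ Ideal.le_comap_map
  have hcomm : φ'.comp mkA = mkB.comp φ := Ideal.quotientMap_comp_mk Ideal.le_comap_map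
  have hφ' : φ'.FiniteType := by
    have h1 : (φ'.comp mkA).FiniteType := by
      rw [hcomm]; exact (RingHom.FiniteType.of_surjective mkB hmkB).comp hφ
    exact RingHom.FiniteType.of_comp_finiteType h1
  have : IsReduced (A ⧸ nilradical A) :=
    (Ideal.isRadical_iff_quotient_reduced _).mp (Ideal.radical_isRadical (⊥ : Ideal A))
  have hN : N ≤ nilradical B := by
    rw [Ideal.map_le_iff_le_comap]
    intro a ha
    exact (mem_nilradical.mp ha).map φ
  have hh' : mkA h ≠ 0 := by
    intro h0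
    exact hh (mem_nilradical.mp (Ideal.Quotient.eq_zero_iff_mem.mp h0))
  obtain ⟨g', ⟨c', hc'⟩, hg'0, F', hF'J, hF'⟩ :=
    exists_finset_of_finiteType_reduced φ' hφ' (J.map mkB) (mkA h) hh'
  obtain ⟨c, rfl⟩ := hmkA c'
  have hg' : g' = mkA (h * c) := by rw [hc', map_mul]
  refine ⟨h * c, dvd_mul_right _ _, ?_, ?_⟩
  · intro hnil
    apply hg'0
    rw [hg']
    exact Ideal.Quotient.eq_zero_iff_mem.mpr (mem_nilradical.mpr hnil)
  · have hex : ∀ y : F', ∃ j ∈ J, mkB j = y.1 := fun y =>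
      (Ideal.mem_map_iff_of_surjective mkB hmkB).mp (hF'J y.2)
    choose j hjJ hjy using hex
    refine ⟨Finset.univ.image j, ?_, ?_⟩
    · intro y hy
      obtain ⟨x, -, rfl⟩ := Finset.mem_image.mp hy
      exact hjJ x
    · intro q hq hgq hFq
      have hNq : N ≤ q := hN.trans (nilradical_le_prime q)
      have hker : RingHom.ker mkB ≤ q := by rw [Ideal.mk_ker]; exact hNq
      have hq'prime : (q.map mkB).IsPrime := Ideal.map_isPrime_of_surjective hmkB hker
      have hq'comap : (q.map mkB).comap mkB = q := by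
        rw [Ideal.comap_map_of_surjective mkB hmkB, sup_eq_left]
        exact hker
      have h1 : φ' g' ∉ q.map mkB := by
        intro hmem
        rw [hg'] at hmem
        have h2 : mkB (φ (h * c)) ∈ q.map mkB := by
          have := congrArg (fun ψ : A →+* B ⧸ N => ψ (h * c)) hcomm
          simp only [RingHom.comp_apply] at this
          rw [← this]; exact hmem
        have h3 : φ (h * c) ∈ (q.map mkB).comap mkB := h2
        rw [hq'comap] at h3
        exact hgq h3
      have h2 : (↑F' : Set (B ⧸ N)) ⊆ q.map mkB := by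
        intro y hy
        have h3 : mkB (j ⟨y, hy⟩) ∈ q.map mkB :=
          Ideal.mem_map_of_mem _ (hFq (Finset.mem_image_of_mem j (Finset.mem_univ _)))
        rw [hjy ⟨y, hy⟩] at h3
        exact h3
      have h3 := hF' _ hq'prime h1 h2
      intro y hy
      have h4 : mkB y ∈ q.map mkB := h3 (Ideal.mem_map_of_mem _ hy)
      have h5 : y ∈ (q.map mkB).comap mkB := h4
      rwa [hq'comap] at h5

set_option backward.isDefEq.respectTransparency.types false in
/-- Generic finite generation of the ideal of a closed subset. -/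
theorem exists_basicOpen_finset_of_isClosed {X Y : Scheme.{u}} (f : Y ⟶ X)
    [LocallyOfFiniteType f] (W : X.Opens) (hW : IsAffineOpen W) (U : Y.Opens)
    (hU : IsAffineOpen U) (hUW : U ≤ f ⁻¹ᵁ W) (T : Set Y) (hT : IsClosed T) (h : Γ(X, W))
    (hh : ¬ IsNilpotent h) :
    ∃ g : Γ(X, W), h ∣ g ∧ ¬ IsNilpotent g ∧ ∃ F : Finset Γ(Y, U),
      (∀ j ∈ F, Disjoint ((Y.basicOpen j : Y.Opens) : Set Y) T) ∧
      ∀ y ∈ U, f y ∈ X.basicOpen g → (∀ j ∈ F, y ∉ Y.basicOpen j) → y ∈ T := by
  have hφ : (f.appLE W U hUW).hom.FiniteType :=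
    HasRingHomProperty.appLE (P := @LocallyOfFiniteType) f inferInstance ⟨W, hW⟩ ⟨U, hU⟩ hUW
  set J : Ideal Γ(Y, U) := PrimeSpectrum.vanishingIdeal (hU.fromSpec ⁻¹' T) with hJ
  have hcl : IsClosed (hU.fromSpec ⁻¹' T) := hT.preimage hU.fromSpec.continuous
  obtain ⟨g, hg, hgnil, F, hFJ, hF⟩ := exists_finset_of_finiteType (f.appLE W U hUW).hom hφ J h hh
  refine ⟨g, hg, hgnil, F, ?_, ?_⟩
  · intro j hj
    rw [Set.disjoint_left]
    intro y hyj hyT
    have hyU : y ∈ U := Y.basicOpen_le j hyj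
    have h1 : hU.fromSpec (hU.primeIdealOf ⟨y, hyU⟩) = y := hU.fromSpec_primeIdealOf ⟨y, hyU⟩
    have h2 : hU.primeIdealOf ⟨y, hyU⟩ ∈ hU.fromSpec ⁻¹' T := by
      show hU.fromSpec (hU.primeIdealOf ⟨y, hyU⟩) ∈ T
      rw [h1]; exact hyT
    have h3 : j ∈ (hU.primeIdealOf ⟨y, hyU⟩).asIdeal :=
      (PrimeSpectrum.mem_vanishingIdeal _ _).mp (hFJ hj) _ h2
    exact (mem_basicOpen_iff_notMem_primeIdealOf hU y hyU j).mp hyj h3
  · intro y hyU hyg hyF
    have h1 : hU.fromSpec (hU.primeIdealOf ⟨y, hyU⟩) = y := hU.fromSpec_primeIdealOf ⟨y, hyU⟩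
    have hq1 : (f.appLE W U hUW).hom g ∉ (hU.primeIdealOf ⟨y, hyU⟩).asIdeal := by
      rw [← mem_basicOpen_iff_notMem_primeIdealOf hU y hyU]
      have := Scheme.basicOpen_appLE f U W hUW g
      rw [this]
      exact ⟨hyU, hyg⟩
    have hq2 : (↑F : Set Γ(Y, U)) ⊆ (hU.primeIdealOf ⟨y, hyU⟩).asIdeal := by
      intro j hj
      by_contra hnot
      exact hyF j hj ((mem_basicOpen_iff_notMem_primeIdealOf hU y hyU j).mpr hnot)
    have h2 : J ≤ (hU.primeIdealOf ⟨y, hyU⟩).asIdeal :=
      hF _ (hU.primeIdealOf ⟨y, hyU⟩).2 hq1 hq2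
    have h3 : hU.primeIdealOf ⟨y, hyU⟩ ∈ PrimeSpectrum.zeroLocus (J : Set Γ(Y, U)) :=
      (PrimeSpectrum.mem_zeroLocus _ _).mpr h2
    rw [hJ, PrimeSpectrum.zeroLocus_vanishingIdeal_eq_closure] at h3
    have h4 : hU.fromSpec (hU.primeIdealOf ⟨y, hyU⟩) ∈ T := hcl.closure_subset h3
    rwa [h1] at h4

theorem exists_basicOpen_finset_of_isClosed_family {X Y : Scheme.{u}} (f : Y ⟶ X)
    [LocallyOfFiniteType f] (W : X.Opens) (hW : IsAffineOpen W) {κ : Type*} (s : Finset κ)
    (U : κ → Y.Opens) (hU : ∀ k, IsAffineOpen (U k)) (hUW : ∀ k, U k ≤ f ⁻¹ᵁ W)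
    (T : κ → Set Y) (hT : ∀ k, IsClosed (T k)) (h : Γ(X, W)) (hh : ¬ IsNilpotent h) :
    ∃ g : Γ(X, W), h ∣ g ∧ ¬ IsNilpotent g ∧ ∀ k ∈ s, ∃ F : Finset Γ(Y, U k),
      (∀ j ∈ F, Disjoint ((Y.basicOpen j : Y.Opens) : Set Y) (T k)) ∧
      ∀ y ∈ U k, f y ∈ X.basicOpen g → (∀ j ∈ F, y ∉ Y.basicOpen j) → y ∈ T k := by
  classical
  induction s using Finset.induction_on with
  | empty => exact ⟨h, dvd_rfl, hh, by simp⟩
  | insert a s _ ih =>
    obtain ⟨g, hg, hgnil, hgood⟩ := ih
    obtain ⟨g', hg', hg'nil, F, hF1, hF2⟩ := exists_basicOpen_finset_of_isClosed f W hW (U a)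
      (hU a) (hUW a) (T a) (hT a) g hgnil
    refine ⟨g', hg.trans hg', hg'nil, ?_⟩
    intro k hk
    rcases Finset.mem_insert.mp hk with rfl | hk
    · exact ⟨F, hF1, hF2⟩
    · obtain ⟨t, rfl⟩ := hg'
      obtain ⟨F', hF'1, hF'2⟩ := hgood k hk
      refine ⟨F', hF'1, fun y hy hyg => hF'2 y hy ?_⟩
      rw [Scheme.basicOpen_mul] at hyg
      exact hyg.1

end Groth.Agent.Lib.Helper69
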