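import Mathlib.RingTheory.GradedAlgebra.Basic
import Mathlib.RingTheory.GradedAlgebra.Homogeneous.Ideal
import Mathlib.RingTheory.Noetherian.Basic
import Mathlib.RingTheory.FiniteType
import Mathlib.RingTheory.Polynomial.Basic

set_option autoImplicit false
universe u
open DirectSum

namespace Groth.Agent.Lib.Helper69

section Key

variable {R A : Type*} [CommRing R] [CommRing A] [Algebra R A]
  (𝒜 : ℤ → Submodule R A) [GradedAlgebra 𝒜]

/-- Key lemma: a homogeneous element of the ideal generated by homogeneous elements `f i`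
is a combination with homogeneous coefficients of the complementary degrees. -/
theorem exists_homogeneous_coeff {ι : Type*} [Fintype ι] (f : ι → A) (deg : ι → ℤ)
    (hf : ∀ i, f i ∈ 𝒜 (deg i)) {n : ℤ} {y : A} (hy : y ∈ 𝒜 n)
    (hmem : y ∈ Ideal.span (Set.range f)) :
    ∃ c : ι → A, (∀ i, c i ∈ 𝒜 (n - deg i)) ∧ y = ∑ i, c i * f i := by
  obtain ⟨a, rfl⟩ := (Ideal.mem_span_range_iff_exists_fun).mp hmem
  refine ⟨fun i => (decompose 𝒜 (a i) (n - deg i) : A), fun i => SetLike.coe_mem _, ?_⟩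
  have h1 : (decompose 𝒜 (∑ i, a i * f i) n : A) = ∑ i, a i * f i :=
    decompose_of_mem_same 𝒜 hy
  rw [← h1, decompose_sum, DFinsupp.finsetSum_apply, AddSubmonoidClass.coe_finsetSum]
  refine Finset.sum_congr rfl fun i _ => ?_
  have := coe_decompose_mul_add_of_right_mem 𝒜 (i := n - deg i) (a := a i) (hf i)
  rw [sub_add_cancel] at this
  exact this

/-- Variant of the key lemma for a finset of homogeneous generators of a common degree. -/
theorem exists_homogeneous_coeff_finset (T : Finset A) (deg : A → ℤ)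
    (hT : ∀ t ∈ T, t ∈ 𝒜 (deg t)) {n : ℤ} {y : A} (hy : y ∈ 𝒜 n)
    (hmem : y ∈ Ideal.span (T : Set A)) :
    ∃ c : A → A, (∀ t ∈ T, c t ∈ 𝒜 (n - deg t)) ∧ y = ∑ t ∈ T, c t * t := by
  classical
  have hmem' : y ∈ Ideal.span (Set.range (fun t : T => (t : A))) := by
    have : Set.range (fun t : T => (t : A)) = (T : Set A) := Subtype.range_coe
    rw [this]; exact hmem
  obtain ⟨c, hc, hyc⟩ := exists_homogeneous_coeff 𝒜 (fun t : T => (t : A)) (fun t => deg t)
    (fun t => hT t t.2) hy hmem'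
  refine ⟨fun a => if h : a ∈ T then c ⟨a, h⟩ else 0, fun t ht => ?_, ?_⟩
  · simp only [ht, dif_pos]; exact hc ⟨t, ht⟩
  · rw [hyc, ← Finset.sum_coe_sort T]
    refine Finset.sum_congr rfl fun t _ => ?_
    simp only [t.2, dif_pos]

variable (h2 : ∀ I : Ideal A, I.IsHomogeneous 𝒜 → I.FG)

include h2 in
theorem exists_finset_span_eq (S : Set A) (hS : ∀ x ∈ S, SetLike.IsHomogeneousElem 𝒜 x) :
    ∃ T : Finset A, (T : Set A) ⊆ S ∧ Ideal.span S = Ideal.span (T : Set A) :=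
  (Submodule.fg_span_iff_fg_span_finset_subset S).mp (h2 _ (Ideal.homogeneous_span 𝒜 S hS))

include h2 in
/-- Every homogeneous piece is generated over `𝒜 0` by finitely many elements. -/
theorem exists_finset_piece (n : ℤ) :
    ∃ T : Finset A, (∀ t ∈ T, t ∈ 𝒜 n) ∧
      ∀ x ∈ 𝒜 n, ∃ c : A → A, (∀ t ∈ T, c t ∈ 𝒜 0) ∧ x = ∑ t ∈ T, c t * t := by
  obtain ⟨T, hTS, hT⟩ := exists_finset_span_eq 𝒜 h2 (𝒜 n : Set A) (fun x hx => ⟨n, hx⟩)
  refine ⟨T, fun t ht => hTS ht, fun x hx => ?_⟩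
  have hx' : x ∈ Ideal.span (T : Set A) := hT ▸ Ideal.subset_span hx
  obtain ⟨c, hc, hxc⟩ := exists_homogeneous_coeff_finset 𝒜 T (fun _ => n) (fun t ht => hTS ht)
    hx hx'
  exact ⟨c, fun t ht => by simpa using hc t ht, hxc⟩

include h2 in
theorem isNoetherianRing_zero : IsNoetherianRing (𝒜 0) := by
  rw [isNoetherianRing_iff_ideal_fg]
  intro I₀
  obtain ⟨T, hTS, hT⟩ := exists_finset_span_eq 𝒜 h2 ((fun x : 𝒜 0 => (x : A)) '' (I₀ : Set (𝒜 0)))
    (by rintro _ ⟨x, -, rfl⟩; exact ⟨0, x.2⟩)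
  classical
  have hT0 : ∀ t ∈ T, t ∈ 𝒜 0 := fun t ht => by
    obtain ⟨x, -, rfl⟩ := hTS ht; exact x.2
  refine ⟨T.attach.image (fun t => (⟨t.1, hT0 t.1 t.2⟩ : 𝒜 0)), le_antisymm ?_ ?_⟩
  · rw [Ideal.span_le]  -- Submodule.span_le
    intro y hy
    simp only [Finset.coe_image, Set.mem_image, Finset.mem_coe, Finset.mem_attach, true_and] at hy
    obtain ⟨t, rfl⟩ := hy
    obtain ⟨x, hx, hxt⟩ := hTS t.2
    have : x = ⟨t.1, hT0 t.1 t.2⟩ := Subtype.ext hxt
    rw [← this]; exact hx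
  · intro x hx
    have hx' : (x : A) ∈ Ideal.span (T : Set A) := hT ▸ Ideal.subset_span ⟨x, hx, rfl⟩
    obtain ⟨c, hc, hxc⟩ := exists_homogeneous_coeff_finset 𝒜 T (fun _ => 0) hT0 x.2 hx'
    have hc0 : ∀ t ∈ T, c t ∈ 𝒜 0 := fun t ht => by simpa using hc t ht
    have : x = ∑ t ∈ T.attach, (⟨c t.1, hc0 t.1 t.2⟩ : 𝒜 0) * (⟨t.1, hT0 t.1 t.2⟩ : 𝒜 0) := by
      apply Subtype.ext
      rw [hxc, ← Finset.sum_attach]
      simp
    rw [this]
    refine Ideal.sum_mem _ fun t _ => Ideal.mul_mem_left _ _ (Ideal.subset_span ?_)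
    simp only [Finset.coe_image, Set.mem_image, Finset.mem_coe, Finset.mem_attach, true_and]
    exact ⟨t, rfl⟩

include h2 in
theorem adjoin_fg (ε : ℤ) :
    (Algebra.adjoin (𝒜 0) {a : A | ∃ m : ℕ, a ∈ 𝒜 (ε * m)}).FG := by
  classical
  obtain ⟨T, hTS, hT⟩ := exists_finset_span_eq 𝒜 h2 {a | ∃ m : ℕ, 0 < m ∧ a ∈ 𝒜 (ε * m)}
    (fun x ⟨m, _, hx⟩ => ⟨_, hx⟩)
  choose! mdeg hmdeg using (fun t (ht : t ∈ T) => hTS ht)
  let d := T.sup mdeg + 1
  choose Tn hTn1 hTn2 using fun m : ℕ => exists_finset_piece 𝒜 h2 (ε * m)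
  let G : Finset A := T ∪ (Finset.range d).biUnion Tn
  have hG : (G : Set A) ⊆ {a | ∃ m : ℕ, a ∈ 𝒜 (ε * m)} := by
    intro g hg
    simp only [G, Finset.coe_union, Finset.coe_biUnion, Set.mem_union, Finset.mem_coe,
      Set.mem_iUnion] at hg
    rcases hg with hg | ⟨m, -, hg⟩
    · exact ⟨mdeg g, (hmdeg g hg).2⟩
    · exact ⟨m, hTn1 m g hg⟩
  have key : ∀ m : ℕ, ∀ a ∈ 𝒜 (ε * m), a ∈ Algebra.adjoin (𝒜 0) (G : Set A) := by
    intro m
    induction m using Nat.strong_induction_on with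
    | _ m ih =>
      intro a ha
      by_cases hm : m < d
      · obtain ⟨c, hc, rfl⟩ := hTn2 m a ha
        refine Subalgebra.sum_mem _ fun t ht => Subalgebra.mul_mem _ ?_ (Algebra.subset_adjoin ?_)
        · exact (Algebra.adjoin (𝒜 0) _).algebraMap_mem ⟨c t, hc t ht⟩
        · simp only [G, Finset.coe_union, Finset.coe_biUnion, Set.mem_union, Finset.mem_coe,
            Set.mem_iUnion]
          exact Or.inr ⟨m, Finset.mem_range.mpr hm, ht⟩
      · have hmpos : 0 < m := by omega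
        have ha' : a ∈ Ideal.span (T : Set A) := hT ▸ Ideal.subset_span ⟨m, hmpos, ha⟩
        obtain ⟨c, hc, rfl⟩ := exists_homogeneous_coeff_finset 𝒜 T (fun t => ε * mdeg t)
          (fun t ht => (hmdeg t ht).2) ha ha'
        refine Subalgebra.sum_mem _ fun t ht => Subalgebra.mul_mem _ ?_
          (Algebra.subset_adjoin (by simp [G, ht]))
        have hlt : mdeg t < d := Nat.lt_succ_of_le (Finset.le_sup ht)
        have hle : mdeg t ≤ m := by omega
        have hpos := (hmdeg t ht).1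
        have heq : ε * m - ε * mdeg t = ε * ((m - mdeg t : ℕ) : ℤ) := by
          push_cast [hle]; ring
        exact ih (m - mdeg t) (by omega) _ (heq ▸ hc t ht)
  refine ⟨G, le_antisymm (Algebra.adjoin_mono hG) (Algebra.adjoin_le ?_)⟩
  rintro a ⟨m, ha⟩
  exact key m a ha

end Key

end Groth.Agent.Lib.Helper69
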