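import Mathlib

/-!
# Scheme-theoretic image of an integral morphism with finite fibres (helper69)

`main`: for `f : X ⟶ Y`, `g : Y ⟶ S` separated with `f ≫ g` integral with finite fibres, the
scheme-theoretic image of `f` is integral over `S` with finite fibres — *assuming* the Chevalley-type
statement `Chev` (= statement S0593: the target of a surjective universally closed morphism from an
affine scheme is affine), which is passed as a hypothesis.
-/

set_option autoImplicit false
universe u
open CategoryTheory CategoryTheory.Limits AlgebraicGeometry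

namespace Groth.Agent.Lib.Helper69.ImageIntegral

/-- Chevalley-type hypothesis (statement S0593). -/
def Chev : Prop := ∀ (X S : Scheme.{u}) (f : X ⟶ S) [IsAffine X] [Surjective f] [UniversallyClosed f],
  IsAffine S

theorem surjective_of_universallyClosed_of_isDominant {X Y : Scheme.{u}} (t : X ⟶ Y)
    [UniversallyClosed t] [IsDominant t] : Surjective t := by
  constructor
  rw [← Set.range_eq_univ, ← (t.isClosedMap.isClosed_range).closure_eq]
  exact t.denseRange.closure_eq

theorem main (chev : Chev.{u}) {X Y S : Scheme.{u}} (f : X ⟶ Y) (g : Y ⟶ S)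
    [IsSeparated g] [IsIntegralHom (f ≫ g)] (hfin : ∀ s : S, Set.Finite ((f ≫ g).base ⁻¹' {s})) :
    IsIntegralHom (f.imageι ≫ g) ∧ ∀ s : S, Set.Finite ((f.imageι ≫ g).base ⁻¹' {s}) := by
  have hf : IsIntegralHom f := IsIntegralHom.of_comp f g
  have hsurj : Surjective f.toImage := surjective_of_universallyClosed_of_isDominant _
  have hcomp : f.toImage ≫ (f.imageι ≫ g) = f ≫ g := by
    rw [← Category.assoc, f.toImage_imageι]
  have huc : UniversallyClosed (f.imageι ≫ g) := by
    have : UniversallyClosed (f.toImage ≫ (f.imageι ≫ g)) := by rw [hcomp]; infer_instance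
    exact UniversallyClosed.of_comp_surjective f.toImage _
  refine ⟨?_, ?_⟩
  · rw [IsIntegralHom.iff_universallyClosed_and_isAffineHom]
    refine ⟨huc, ?_⟩
    rw [isAffineHom_iff]
    intro V hV
    -- the preimage in `X` is affine
    have hXV : IsAffineOpen ((f ≫ g) ⁻¹ᵁ V) := hV.preimage (f ≫ g)
    let W : f.image.Opens := (f.imageι ≫ g) ⁻¹ᵁ V
    have hle : (f ≫ g) ⁻¹ᵁ V = f.toImage ⁻¹ᵁ W := by
      rw [← hcomp]; rfl
    -- the restricted map
    have : IsAffine (f.toImage ⁻¹ᵁ W).toScheme := by
      rw [← hle]; exact hXV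
    have h1 : Surjective (f.toImage ∣_ W) := IsZariskiLocalAtTarget.restrict hsurj W
    have h2 : UniversallyClosed (f.toImage ∣_ W) :=
      IsZariskiLocalAtTarget.restrict (P := @UniversallyClosed) (inferInstance : UniversallyClosed f.toImage) W
    exact chev _ _ (f.toImage ∣_ W)
  · intro s
    have hsub : (f.imageι ≫ g).base ⁻¹' {s} ⊆ f.toImage '' ((f ≫ g).base ⁻¹' {s}) := by
      intro y hy
      obtain ⟨x, rfl⟩ := hsurj.surj y
      refine ⟨x, ?_, rfl⟩
      change (f ≫ g) x = s
      rw [← hcomp]
      exact hy
    exact ((hfin s).image _).subset hsub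

end Groth.Agent.Lib.Helper69.ImageIntegral
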