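import Mathlib
import Groth.Agent.Lib.Helper69.LocalTarget

set_option autoImplicit false
universe u
open CategoryTheory AlgebraicGeometry TopologicalSpace

namespace Groth.Agent.Lib.Helper69


/-- A morphism which restricts to closed immersions over a family of opens of the target
covering the image is an immersion. -/
theorem isImmersion_of_forall_exists_isClosedImmersion_restrict {X Y : Scheme.{u}} (f : X ⟶ Y)
    (H : ∀ x : X, ∃ V : Y.Opens, f.base x ∈ V ∧ IsClosedImmersion (f ∣_ V)) : IsImmersion f := by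
  choose V hxV hV using H
  let W : Y.Opens := ⨆ x, V x
  have hW : IsClosedImmersion (f ∣_ W) := by
    apply restrict_of_forall_exists (P := @IsClosedImmersion)
    intro y hy
    obtain ⟨x, hx⟩ : ∃ x, y ∈ V x := by simpa [W] using hy
    exact ⟨V x, hx, hV x⟩
  have htop : f ⁻¹ᵁ W = ⊤ := by
    rw [eq_top_iff]
    intro x _
    change f.base x ∈ (⨆ x, V x : Y.Opens)
    simp only [TopologicalSpace.Opens.mem_iSup]
    exact ⟨x, hxV x⟩
  have hιs : Surjective (f ⁻¹ᵁ W).ι := by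
    constructor
    intro x
    exact ⟨⟨x, htop ▸ trivial⟩, rfl⟩
  have hιi : IsIso (f ⁻¹ᵁ W).ι :=
    (isIso_iff_isOpenImmersion_and_surjective _).mpr ⟨inferInstance, hιs⟩
  have hcomp : IsImmersion ((f ⁻¹ᵁ W).ι ≫ f) := by
    rw [← morphismRestrict_ι]
    infer_instance
  have : f = inv (f ⁻¹ᵁ W).ι ≫ ((f ⁻¹ᵁ W).ι ≫ f) := by simp
  rw [this]
  infer_instance

/-- Generators of a finite-type algebra over `R` which is a localization `A_f`: numerators of a
finite generating set, together with the image of `R` and the inverse of `f`, generate it as a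
ring. -/
theorem exists_finset_closure_eq_top_of_finiteType_of_isLocalization_away
    {R A B : Type u} [CommRing R] [CommRing A] [CommRing B] [Algebra A B] (f : A)
    [IsLocalization.Away f B] (φ : R →+* B) (hφ : φ.FiniteType) (w : B)
    (hw : w * algebraMap A B f = 1) :
    ∃ T : Finset A, Subring.closure (Set.range φ ∪ (algebraMap A B '' (T : Set A)) ∪ {w}) = ⊤ := by
  classical
  let _ := φ.toAlgebra
  have hft : Algebra.FiniteType R B := hφ
  obtain ⟨s, hs⟩ := hft.out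
  have key : ∀ a : B, ∃ g : A, ∃ N : ℕ, a * algebraMap A B f ^ N = algebraMap A B g := by
    intro a
    obtain ⟨⟨g, ⟨_, N, rfl⟩⟩, h⟩ := IsLocalization.surj (Submonoid.powers f) a
    exact ⟨g, N, by simpa using h⟩
  choose g N hgN using key
  refine ⟨s.image g, ?_⟩
  set C := Subring.closure (Set.range φ ∪ (algebraMap A B '' ((s.image g : Finset A) : Set A)) ∪ {w})
    with hC
  have h1 : ∀ r, φ r ∈ C := fun r => Subring.subset_closure (Or.inl (Or.inl ⟨r, rfl⟩))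
  have h2 : ∀ a ∈ s, algebraMap A B (g a) ∈ C := fun a ha =>
    Subring.subset_closure (Or.inl (Or.inr ⟨g a, Finset.mem_coe.mpr (Finset.mem_image_of_mem g ha), rfl⟩))
  have h3 : w ∈ C := Subring.subset_closure (Or.inr rfl)
  have h4 : ∀ a ∈ s, a ∈ C := by
    intro a ha
    have : a = algebraMap A B (g a) * w ^ N a := by
      rw [← hgN a, mul_assoc, ← mul_pow, mul_comm (algebraMap A B f), hw, one_pow, mul_one]
    rw [this]
    exact C.mul_mem (h2 a ha) (C.pow_mem h3 _)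
  rw [eq_top_iff]
  rintro b -
  have hb : b ∈ Algebra.adjoin R (s : Set B) := by rw [hs]; trivial
  induction hb using Algebra.adjoin_induction with
  | mem x hx => exact h4 x hx
  | algebraMap r => exact h1 r
  | add x y _ _ hx hy => exact C.add_mem hx hy
  | mul x y _ _ hx hy => exact C.mul_mem hx hy



theorem surjective_appLE_of_closure_eq_top {X P S : Scheme.{u}} (i : X ⟶ P) (q : P ⟶ S)
    (U : S.Opens) (c₀ : Γ(P, ⊤)) {K : Type*} (c : K → Γ(P, ⊤)) (V : P.Opens)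
    (hVU : V ≤ q ⁻¹ᵁ U) (hVc : V ≤ P.basicOpen c₀) (D : X.Opens) (e : D ≤ i ⁻¹ᵁ V)
    (w : Γ(X, D)) (hw : w * (i.appLE ⊤ D le_top).hom c₀ = 1)
    (hgen : Subring.closure (Set.range ((i ≫ q).appLE U D (e.trans (i.preimage_mono hVU))).hom ∪
      Set.range (fun k => (i.appLE ⊤ D le_top).hom (c k)) ∪ {w}) = ⊤) :
    Function.Surjective (i.appLE V D e).hom := by
  rw [← RingHom.range_eq_top, eq_top_iff, ← hgen, Subring.closure_le]
  have hres : ∀ a : Γ(P, ⊤), (i.appLE ⊤ D le_top).hom a =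
      (i.appLE V D e).hom ((P.presheaf.map (homOfLE (le_top : V ≤ ⊤)).op).hom a) := by
    intro a
    rw [← CommRingCat.comp_apply, Scheme.Hom.map_appLE]
  rintro b ((⟨a, rfl⟩ | ⟨k, rfl⟩) | rfl)
  · refine ⟨(q.appLE U V hVU).hom a, ?_⟩
    rw [← CommRingCat.comp_apply, Scheme.Hom.appLE_comp_appLE]
  · exact ⟨_, (hres (c k)).symm⟩
  · -- the unit
    have hu : IsUnit ((P.presheaf.map (homOfLE (le_top : V ≤ ⊤)).op).hom c₀) := by
      have h1 := RingedSpace.isUnit_res_basicOpen P.toRingedSpace c₀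
      have : (P.presheaf.map (homOfLE (le_top : V ≤ ⊤)).op).hom c₀ =
          (P.presheaf.map (homOfLE hVc).op).hom
            ((P.presheaf.map (homOfLE (le_top : P.basicOpen c₀ ≤ ⊤)).op).hom c₀) := by
        rw [← CommRingCat.comp_apply, ← Functor.map_comp]
        rfl
      rw [this]
      exact h1.map _
    obtain ⟨u, hu'⟩ := hu
    refine ⟨((u⁻¹ : (Γ(P, V))ˣ) : Γ(P, V)), ?_⟩
    have h2 : (i.appLE V D e).hom ((u⁻¹ : (Γ(P, V))ˣ) : Γ(P, V)) * (i.appLE ⊤ D le_top).hom c₀ = 1 := by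
      rw [hres c₀, ← hu', ← map_mul, Units.inv_mul, map_one]
    calc (i.appLE V D e).hom ((u⁻¹ : (Γ(P, V))ˣ) : Γ(P, V))
        = (i.appLE V D e).hom ((u⁻¹ : (Γ(P, V))ˣ) : Γ(P, V)) * (b * (i.appLE ⊤ D le_top).hom c₀) := by
          rw [hw, mul_one]
      _ = b * ((i.appLE V D e).hom ((u⁻¹ : (Γ(P, V))ˣ) : Γ(P, V)) * (i.appLE ⊤ D le_top).hom c₀) := by ring
      _ = b := by rw [h2, mul_one]



theorem surjective_appLE_congr {X Y : Scheme.{u}} (f : X ⟶ Y) {U U' : Y.Opens} {D D' : X.Opens}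
    (hU : U' = U) (hD : D' = D) (e : D ≤ f ⁻¹ᵁ U) (e' : D' ≤ f ⁻¹ᵁ U')
    (h : Function.Surjective (f.appLE U D e).hom) : Function.Surjective (f.appLE U' D' e').hom := by
  subst hU hD
  exact h

theorem range_appLE_congr {X Y : Scheme.{u}} {f g : X ⟶ Y} (h : f = g) {U : Y.Opens} {D : X.Opens}
    (e : D ≤ f ⁻¹ᵁ U) (e' : D ≤ g ⁻¹ᵁ U) :
    Set.range (f.appLE U D e).hom = Set.range (g.appLE U D e').hom := by
  subst h
  rfl

open AffineSpace in
theorem isClosedImmersion_homOfVector_restrict {X S : Scheme.{u}} (π : X ⟶ S) {n : Type u}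
    (v : n → Γ(X, ⊤)) (U : S.Opens) (hU : IsAffineOpen U) (k₀ : n)
    (hf : IsAffineOpen (X.basicOpen (v k₀))) (hfU : X.basicOpen (v k₀) ≤ π ⁻¹ᵁ U)
    (w : Γ(X, X.basicOpen (v k₀)))
    (hw : w * algebraMap Γ(X, ⊤) Γ(X, X.basicOpen (v k₀)) (v k₀) = 1)
    (hgen : Subring.closure (Set.range (π.appLE U (X.basicOpen (v k₀)) hfU).hom ∪
      Set.range (fun k => algebraMap Γ(X, ⊤) Γ(X, X.basicOpen (v k₀)) (v k)) ∪ {w}) = ⊤) :
    homOfVector π v ⁻¹ᵁ ((𝔸(n; S) ↘ S) ⁻¹ᵁ U ⊓ 𝔸(n; S).basicOpen (coord S k₀)) =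
      X.basicOpen (v k₀) ∧
    IsClosedImmersion (homOfVector π v ∣_ ((𝔸(n; S) ↘ S) ⁻¹ᵁ U ⊓ 𝔸(n; S).basicOpen (coord S k₀))) := by
  set i := homOfVector π v with hi
  set V : 𝔸(n; S).Opens := (𝔸(n; S) ↘ S) ⁻¹ᵁ U ⊓ 𝔸(n; S).basicOpen (coord S k₀) with hV
  have hpre : i ⁻¹ᵁ V = X.basicOpen (v k₀) := by
    rw [hV, Scheme.Hom.preimage_inf, ← Scheme.Hom.comp_preimage, Scheme.preimage_basicOpen]
    rw [hi, homOfVector_over]
    have : (homOfVector π v).app ⊤ (coord S k₀) = v k₀ := homOfVector_appTop_coord π v k₀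
    rw [this]
    exact inf_eq_right.mpr hfU
  refine ⟨hpre, ?_⟩
  have hVaff : IsAffineOpen V := by
    have h1 : IsAffineOpen ((𝔸(n; S) ↘ S) ⁻¹ᵁ U) := hU.preimage (𝔸(n; S) ↘ S)
    have h2 := h1.basicOpen (𝔸(n; S).presheaf.map (homOfLE le_top).op (coord S k₀))
    rwa [Scheme.basicOpen_res] at h2
  have hDaff : IsAffineOpen (i ⁻¹ᵁ V) := hpre ▸ hf
  haveI : IsAffine (V : Scheme) := hVaff
  haveI : IsAffine ((i ⁻¹ᵁ V : X.Opens) : Scheme) := hDaff
  apply IsClosedImmersion.of_surjective_of_isAffine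
  rw [Scheme.Hom.appTop, morphismRestrict_app']
  have e : X.basicOpen (v k₀) ≤ i ⁻¹ᵁ V := hpre.ge
  refine surjective_appLE_congr i (U := V) (D := X.basicOpen (v k₀)) ?_ ?_ e _ ?_
  · simp
  · simp [hpre]
  · have happ : ∀ a : Γ(𝔸(n; S), ⊤), (i.appLE ⊤ (X.basicOpen (v k₀)) le_top).hom a =
        algebraMap Γ(X, ⊤) Γ(X, X.basicOpen (v k₀)) (i.appTop a) := by
      intro a
      rfl
    refine surjective_appLE_of_closure_eq_top i (𝔸(n; S) ↘ S) U (coord S k₀) (coord S) V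
      inf_le_left inf_le_right (X.basicOpen (v k₀)) e w ?_ ?_
    · rw [happ, hi, homOfVector_appTop_coord]
      exact hw
    · rw [← hgen]
      congr 3
      · exact range_appLE_congr (homOfVector_over π v) _ _
      · refine congrArg Set.range (funext fun k => ?_)
        rw [happ]
        exact congrArg _ (homOfVector_appTop_coord π v k)

open AffineSpace in
theorem isClosedImmersion_homOfVector_restrict' {X S : Scheme.{u}} (π : X ⟶ S) {n : Type u}
    (v : n → Γ(X, ⊤)) (U : S.Opens) (hU : IsAffineOpen U) (k₀ : n) (f₀ : Γ(X, ⊤)) (hk₀ : v k₀ = f₀)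
    (hf : IsAffineOpen (X.basicOpen f₀)) (hfU : X.basicOpen f₀ ≤ π ⁻¹ᵁ U)
    (w : Γ(X, X.basicOpen f₀))
    (hw : w * algebraMap Γ(X, ⊤) Γ(X, X.basicOpen f₀) f₀ = 1)
    (hgen : Subring.closure (Set.range (π.appLE U (X.basicOpen f₀) hfU).hom ∪
      Set.range (fun k => algebraMap Γ(X, ⊤) Γ(X, X.basicOpen f₀) (v k)) ∪ {w}) = ⊤) :
    homOfVector π v ⁻¹ᵁ ((𝔸(n; S) ↘ S) ⁻¹ᵁ U ⊓ 𝔸(n; S).basicOpen (coord S k₀)) =
      X.basicOpen f₀ ∧
    IsClosedImmersion (homOfVector π v ∣_ ((𝔸(n; S) ↘ S) ⁻¹ᵁ U ⊓ 𝔸(n; S).basicOpen (coord S k₀))) := by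
  subst hk₀
  exact isClosedImmersion_homOfVector_restrict π v U hU k₀ hf hfU w hw hgen

open AffineSpace in
theorem exists_immersion_affineSpace {X S : Scheme.{u}} (π : X ⟶ S)
    [LocallyOfFiniteType π] [X.IsQuasiAffine] :
    ∃ (n : ℕ) (i : X ⟶ 𝔸(ULift.{u} (Fin n); S)), IsImmersion i ∧ i ≫ (𝔸(ULift.{u} (Fin n); S) ↘ S) = π := by
  classical
  -- Step 1: choose data per point
  have H1 : ∀ x : X, ∃ (U : S.Opens) (f : Γ(X, ⊤)), IsAffineOpen U ∧
      IsAffineOpen (X.basicOpen f) ∧ x ∈ X.basicOpen f ∧ X.basicOpen f ≤ π ⁻¹ᵁ U := by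
    intro x
    obtain ⟨_, ⟨U, hU : IsAffineOpen U, rfl⟩, hxU, -⟩ :=
      S.isBasis_affineOpens.exists_subset_of_mem_open (Set.mem_univ (π.base x)) isOpen_univ
    obtain ⟨_, ⟨_, ⟨f, hf, rfl⟩, rfl⟩, hxf, hfU⟩ :=
      (Scheme.IsQuasiAffine.isBasis_basicOpen X).exists_subset_of_mem_open
        (show x ∈ ((π ⁻¹ᵁ U : X.Opens) : Set X) from hxU) (π ⁻¹ᵁ U).2
    exact ⟨U, f, hU, hf, hxf, hfU⟩
  choose U f hU hf hxf hfU using H1
  -- Step 2: finite subcover
  obtain ⟨t, ht⟩ := isCompact_univ.elim_finite_subcover (fun x => ((X.basicOpen (f x) : X.Opens) : Set X))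
    (fun x => (X.basicOpen (f x)).2) (fun x _ => Set.mem_iUnion.mpr ⟨x, hxf x⟩)
  -- Step 3: generators
  have H3 : ∀ x : X, ∃ (w : Γ(X, X.basicOpen (f x))) (T : Finset Γ(X, ⊤)),
      w * algebraMap Γ(X, ⊤) Γ(X, X.basicOpen (f x)) (f x) = 1 ∧
      Subring.closure (Set.range (π.appLE (U x) (X.basicOpen (f x)) (hfU x)).hom ∪
        (algebraMap Γ(X, ⊤) Γ(X, X.basicOpen (f x)) '' (T : Set Γ(X, ⊤))) ∪ {w}) = ⊤ := by
    intro x
    haveI : IsLocalization.Away (f x) Γ(X, X.basicOpen (f x)) :=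
      isLocalization_basicOpen_of_qcqs isCompact_univ isQuasiSeparated_univ (f x)
    have hft : (π.appLE (U x) (X.basicOpen (f x)) (hfU x)).hom.FiniteType :=
      HasRingHomProperty.appLE (P := @LocallyOfFiniteType) π inferInstance ⟨U x, hU x⟩
        ⟨X.basicOpen (f x), hf x⟩ (hfU x)
    obtain ⟨w, hw⟩ : ∃ w, w * algebraMap Γ(X, ⊤) Γ(X, X.basicOpen (f x)) (f x) = 1 := by
      have := IsLocalization.Away.algebraMap_isUnit (S := Γ(X, X.basicOpen (f x))) (f x)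
      obtain ⟨w, hw⟩ := this.exists_left_inv
      exact ⟨w, hw⟩
    obtain ⟨T, hT⟩ := exists_finset_closure_eq_top_of_finiteType_of_isLocalization_away (f x)
      (π.appLE (U x) (X.basicOpen (f x)) (hfU x)).hom hft w hw
    exact ⟨w, T, hw, hT⟩
  choose w T hw hT using H3
  -- Step 4: total finset
  let TT : Finset Γ(X, ⊤) := t.biUnion T ∪ t.image f
  let n := TT.card
  let eT : TT ≃ Fin n := TT.equivFin
  let v : ULift.{u} (Fin n) → Γ(X, ⊤) := fun k => (eT.symm k.down : Γ(X, ⊤))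
  have hv : ∀ a ∈ TT, ∃ k, v k = a := by
    intro a ha
    exact ⟨⟨eT ⟨a, ha⟩⟩, by simp [v]⟩
  refine ⟨n, homOfVector π v, ?_, homOfVector_over π v⟩
  apply isImmersion_of_forall_exists_isClosedImmersion_restrict
  intro y
  obtain ⟨x, hxt, hyx⟩ : ∃ x ∈ t, y ∈ X.basicOpen (f x) := by
    have := ht (Set.mem_univ y)
    simpa using this
  obtain ⟨k₀, hk₀⟩ := hv (f x) (Finset.mem_union_right _ (Finset.mem_image_of_mem f hxt))
  have key := isClosedImmersion_homOfVector_restrict' π v (U x) (hU x) k₀ (f x) hk₀ (hf x)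
    (hfU x) (w x) (hw x) ?_
  · refine ⟨_, ?_, key.2⟩
    have : y ∈ homOfVector π v ⁻¹ᵁ ((𝔸(ULift.{u} (Fin n); S) ↘ S) ⁻¹ᵁ U x ⊓
        𝔸(ULift.{u} (Fin n); S).basicOpen (coord S k₀)) := by
      rw [key.1]
      exact hyx
    exact this
  · rw [eq_top_iff, ← hT x]
    apply Subring.closure_mono
    apply Set.union_subset_union_left
    apply Set.union_subset_union_right
    rintro _ ⟨a, ha, rfl⟩
    obtain ⟨k, hk⟩ := hv a (Finset.mem_union_left _ (Finset.mem_biUnion.mpr ⟨x, hxt, ha⟩))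
    exact ⟨k, by simp only [hk]⟩

end Groth.Agent.Lib.Helper69
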