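import Groth.Agent.Lib.Helper69.InertiaSplit

/-!
# Quotients of étale algebras by finite groups are étale (helper69)
-/

set_option autoImplicit false
set_option linter.unusedSectionVars false
set_option linter.style.haveILetI false

namespace Groth.Agent.Lib.Helper69.GaloisRing

open TensorProduct

/-- flatness descends along a faithfully flat extension on the source side. -/
theorem flat_of_flat_of_faithfullyFlat (R C B : Type*) [CommRing R] [CommRing C] [CommRing B]
    [Algebra R C] [Algebra C B] [Algebra R B] [IsScalarTower R C B] [Module.Flat R B]
    [Module.FaithfullyFlat C B] : Module.Flat R C := by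
  rw [Module.Flat.iff_lTensor_preserves_injective_linearMap]
  intro N P _ _ _ _ f hf
  have h1 : Function.Injective (LinearMap.lTensor B f) :=
    Module.Flat.lTensor_preserves_injective_linearMap f hf
  have h2 := AlgebraTensorModule.lTensor_comp_cancelBaseChange (R := R) (A := C) (B := C)
    (M := B) f
  have h3 : Function.Injective
      (AlgebraTensorModule.lTensor C B (AlgebraTensorModule.lTensor C C f)) := by
    have h4 : Function.Injective ((AlgebraTensorModule.cancelBaseChange R C C B P).toLinearMap ∘ₗ
        AlgebraTensorModule.lTensor C B (AlgebraTensorModule.lTensor C C f)) := by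
      rw [← h2]
      exact h1.comp (AlgebraTensorModule.cancelBaseChange R C C B N).injective
    rw [LinearMap.coe_comp] at h4
    exact Function.Injective.of_comp h4
  have h5 : Function.Injective ((AlgebraTensorModule.lTensor C C f).lTensor B) := h3
  rw [Module.FaithfullyFlat.lTensor_injective_iff_injective] at h5
  exact h5

/-- **Theorem A**: the ring of invariants of a finite group acting on an étale algebra over a
noetherian ring is étale, and the algebra is étale over its invariants. -/
theorem etale_invariants (R C : Type*) {B G : Type*} [CommRing R] [CommRing C] [CommRing B]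
    [Algebra R C] [Algebra C B] [Algebra R B] [IsScalarTower R C B] [Group G] [Finite G]
    [MulSemiringAction G B] [SMulCommClass G C B] [Algebra.IsInvariant C B G]
    [IsNoetherianRing R] [Algebra.Etale R B]
    (hinj : Function.Injective (algebraMap C B)) :
    Algebra.Etale C B ∧ Algebra.Etale R C := by
  haveI : SMulCommClass G R B := ⟨fun g r b => by
    rw [← algebraMap_smul C r b, smul_comm, algebraMap_smul]⟩
  haveI : Algebra.IsIntegral C B := Algebra.IsInvariant.isIntegral C B G
  haveI : Algebra.FiniteType C B := .of_restrictScalars_finiteType R C B
  haveI : Module.Finite C B := Algebra.IsIntegral.finite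
  haveI : Algebra.FiniteType R C :=
    ⟨fg_of_fg_of_fg R C B (Algebra.FiniteType.out) (Module.Finite.fg_top) hinj⟩
  haveI : IsNoetherianRing C := Algebra.FiniteType.isNoetherianRing R C
  haveI : Algebra.FinitePresentation C B := Algebra.FinitePresentation.of_finiteType.mp inferInstance
  haveI : Algebra.FinitePresentation R C := Algebra.FinitePresentation.of_finiteType.mp inferInstance
  haveI : Algebra.FormallyUnramified C B := .of_restrictScalars R C B
  obtain ⟨e, he, hme⟩ := exists_idempotent_moveIdeal (G := G) R (B := B)
  haveI : Module.Flat C B := flat_of_moveIdeal_idempotent C hinj e he hme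
  haveI hCB : Algebra.Etale C B := .of_formallyUnramified_of_flat
  haveI : FaithfulSMul C B := (faithfulSMul_iff_algebraMap_injective C B).mpr hinj
  haveI : Module.FaithfullyFlat C B :=
    Module.FaithfullyFlat.of_comap_surjective (Algebra.IsIntegral.comap_surjective C B)
  haveI : Module.Flat R C := flat_of_flat_of_faithfullyFlat R C B
  haveI : Algebra.FormallyUnramified R C := by
    constructor
    have e1 := KaehlerDifferential.tensorKaehlerEquivOfFormallyEtale R C B
    haveI : Subsingleton (B ⊗[C] Ω[C⁄R]) := e1.toEquiv.subsingleton
    exact (Module.FaithfullyFlat.subsingleton_tensorProduct_iff_right C B).mp inferInstance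
  exact ⟨hCB, .of_formallyUnramified_of_flat⟩

theorem finite_of_injective_of_noetherian (R C B : Type*) [CommRing R] [CommRing C] [CommRing B]
    [Algebra R C] [Algebra C B] [Algebra R B] [IsScalarTower R C B]
    [IsNoetherianRing R] [Module.Finite R B]
    (hinj : Function.Injective (algebraMap C B)) : Module.Finite R C :=
  haveI : IsNoetherian R B := isNoetherian_of_isNoetherianRing_of_finite R B
  Module.Finite.of_injective (IsScalarTower.toAlgHom R C B).toLinearMap hinj

end Groth.Agent.Lib.Helper69.GaloisRing
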