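import Groth.Agent.Lib.Helper69.GaloisRing2

/-!
# Induction from the stabilizer of an idempotent (helper69)
-/

set_option autoImplicit false
set_option linter.unusedSectionVars false
set_option linter.style.haveILetI false

namespace Groth.Agent.Lib.Helper69.GaloisRing
open scoped Pointwise

section cosetSum
variable {B G : Type*} [CommRing B] [Group G] [Fintype G] [MulSemiringAction G B]
  (N : Subgroup G) [DecidablePred (· ∈ N)]

/-- `∑_{hN ∈ G/N} h • d` for an `N`-invariant `d`. -/
noncomputable def cosetTerm (d : B) (hd : ∀ n ∈ N, n • d = d) (q : G ⧸ N) : B :=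
  Quotient.liftOn' q (fun h => h • d) (by
    intro a b hab
    rw [QuotientGroup.leftRel_apply] at hab
    have := hd _ hab
    change a • d = b • d
    calc a • d = a • ((a⁻¹ * b) • d) := by rw [this]
      _ = b • d := by rw [smul_smul, mul_inv_cancel_left])

@[simp] theorem cosetTerm_mk (d : B) (hd : ∀ n ∈ N, n • d = d) (h : G) :
    cosetTerm N d hd (QuotientGroup.mk h) = h • d := rfl

theorem smul_cosetTerm (d : B) (hd : ∀ n ∈ N, n • d = d) (g : G) (q : G ⧸ N) :
    g • cosetTerm N d hd q = cosetTerm N d hd (g • q) := by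
  induction q using QuotientGroup.induction_on with
  | H h => rw [cosetTerm_mk, smul_smul]; rfl

/-- the sum over cosets. -/
noncomputable def cosetSum (d : B) (hd : ∀ n ∈ N, n • d = d) : B :=
  ∑ q : G ⧸ N, cosetTerm N d hd q

theorem smul_cosetSum (d : B) (hd : ∀ n ∈ N, n • d = d) (g : G) :
    g • cosetSum N d hd = cosetSum N d hd := by
  unfold cosetSum
  rw [Finset.smul_sum]
  simp only [smul_cosetTerm]
  exact Fintype.sum_equiv (MulAction.toPerm g) _ _ (fun q => rfl)

theorem cosetSum_mul (d ε : B) (hd : ∀ n ∈ N, n • d = d) (hdε : d * ε = d)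
    (horth : ∀ h : G, h ∉ N → (h • ε) * ε = 0) :
    cosetSum N d hd * ε = d := by
  unfold cosetSum
  rw [Finset.sum_mul, Finset.sum_eq_single (QuotientGroup.mk 1 : G ⧸ N)]
  · rw [cosetTerm_mk, one_smul, hdε]
  · intro q _ hq
    induction q using QuotientGroup.induction_on with
    | H h =>
      have hh : h ∉ N := by
        intro hmem
        apply hq
        rw [QuotientGroup.eq]
        simpa using hmem
      rw [cosetTerm_mk, ← hdε, smul_mul', mul_assoc, horth h hh, mul_zero]
  · intro h; exact absurd (Finset.mem_univ _) h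

end cosetSum

section IND

theorem mem_span_one_sub_iff {B : Type*} [CommRing B] {ε : B} (hε : IsIdempotentElem ε) (b : B) :
    b ∈ Ideal.span {1 - ε} ↔ b * ε = 0 := by
  rw [Ideal.mem_span_singleton']
  constructor
  · rintro ⟨a, rfl⟩
    rw [mul_assoc, sub_mul, one_mul, hε.eq, sub_self, mul_zero]
  · intro h
    exact ⟨b, by rw [mul_sub, mul_one, h, sub_zero]⟩

variable (C : Type*) {B G : Type*} [CommRing C] [CommRing B] [Algebra C B] [Group G] [Finite G]
  [MulSemiringAction G B] [SMulCommClass G C B] [Algebra.IsInvariant C B G]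

theorem flat_quotient_of_stabilizer (hinj : Function.Injective (algebraMap C B))
    (ε : B) (hε : IsIdempotentElem ε)
    (horth : ∀ h : G, h • ε = ε ∨ (h • ε) * ε = 0)
    (htm : ∀ n : G, n • ε = ε → (∀ b : B, (n • b - b) * ε = 0) ∨
      (∃ m ∈ moveIdeal (B := B) n, m * ε = ε)) :
    Module.Flat C (B ⧸ Ideal.span {1 - ε}) := by
  classical
  cases nonempty_fintype G
  set P : Ideal B := Ideal.span {1 - ε} with hP
  set p : Ideal C := P.under C with hp
  let N : Subgroup G := MulAction.stabilizer G ε
  have hN : ∀ n : G, n ∈ N ↔ n • ε = ε := fun n => MulAction.mem_stabilizer_iff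
  have horth' : ∀ h : G, h ∉ N → (h • ε) * ε = 0 := fun h hh =>
    (horth h).resolve_left (fun h' => hh ((hN h).mpr h'))
  have hNP : N ≤ MulAction.stabilizer G P := by
    intro n hn
    rw [MulAction.mem_stabilizer_iff, Ideal.pointwise_smul_def, hP, Ideal.map_span,
      Set.image_singleton]
    congr 2
    change n • (1 - ε) = 1 - ε
    rw [smul_sub, smul_one, (hN n).mp hn]
  let φ : N →* ((B ⧸ P) ≃ₐ[C ⧸ p] (B ⧸ P)) :=
    (Ideal.Quotient.stabilizerHom P p G).comp (Subgroup.inclusion hNP)
  letI : MulSemiringAction N (B ⧸ P) := MulSemiringAction.compHom _ φ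
  have hact : ∀ (n : N) (b : B), n • (Ideal.Quotient.mk P b) = Ideal.Quotient.mk P (n.1 • b) :=
    fun n b => rfl
  haveI : SMulCommClass N (C ⧸ p) (B ⧸ P) := ⟨fun n c a => by
    change φ n (c • a) = c • φ n a
    exact map_smul (φ n) c a⟩
  have hmemP : ∀ b : B, b ∈ P ↔ b * ε = 0 := mem_span_one_sub_iff hε
  -- invariants
  haveI : Algebra.IsInvariant (C ⧸ p) (B ⧸ P) N := ⟨by
    intro a ha
    obtain ⟨b, rfl⟩ := Ideal.Quotient.mk_surjective a
    have hd : ∀ n ∈ N, n • (b * ε) = b * ε := by
      intro n hn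
      have h1 := ha ⟨n, hn⟩
      rw [hact, Ideal.Quotient.eq, hmemP] at h1
      rw [smul_mul', (hN n).mp hn]
      rw [sub_mul, sub_eq_zero] at h1
      exact h1
    obtain ⟨c, hc⟩ := Algebra.IsInvariant.isInvariant (A := C) (G := G)
      (cosetSum N (b * ε) hd) (fun g => smul_cosetSum N _ hd g)
    refine ⟨Ideal.Quotient.mk p c, ?_⟩
    rw [Ideal.Quotient.algebraMap_mk_of_liesOver, hc, Ideal.Quotient.eq, hmemP, sub_mul,
      cosetSum_mul N (b * ε) ε hd (by rw [mul_assoc, hε.eq]) horth', sub_self]⟩
  have hinj' : Function.Injective (algebraMap (C ⧸ p) (B ⧸ P)) :=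
    FaithfulSMul.algebraMap_injective _ _
  have htm' : ∀ n : N, (∀ a : B ⧸ P, n • a = a) ∨ moveIdeal (B := B ⧸ P) n = ⊤ := by
    intro n
    rcases htm n.1 ((hN n.1).mp n.2) with h1 | ⟨m, hm, hmε⟩
    · left
      intro a
      obtain ⟨b, rfl⟩ := Ideal.Quotient.mk_surjective a
      rw [hact, Ideal.Quotient.eq, hmemP]
      exact h1 b
    · right
      rw [Ideal.eq_top_iff_one]
      have hle : moveIdeal (B := B) n.1 ≤ (moveIdeal (B := B ⧸ P) n).comap (Ideal.Quotient.mk P) := by
        unfold moveIdeal
        rw [Ideal.span_le]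
        rintro _ ⟨b, rfl⟩
        show Ideal.Quotient.mk P (n.1 • b - b) ∈
          Ideal.span (Set.range fun a : B ⧸ P => n • a - a)
        rw [map_sub, ← hact]
        exact Ideal.subset_span ⟨Ideal.Quotient.mk P b, rfl⟩
      have h1 := hle hm
      rw [Ideal.mem_comap] at h1
      have h2 : Ideal.Quotient.mk P m = 1 := by
        rw [← map_one (Ideal.Quotient.mk P), Ideal.Quotient.eq, hmemP, sub_mul, one_mul, hmε,
          sub_self]
      rwa [h2] at h1
  haveI : Module.Projective (C ⧸ p) (B ⧸ P) :=
    (projective_of_trivial_or_move (C ⧸ p) (A := B ⧸ P) (N := N) hinj' htm').2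
  -- `C ⧸ p` is flat over `C`
  have hεN : ∀ n ∈ N, n • ε = ε := fun n hn => (hN n).mp hn
  obtain ⟨E, hE⟩ := Algebra.IsInvariant.isInvariant (A := C) (G := G)
    (cosetSum N ε hεN) (fun g => smul_cosetSum N _ hεN g)
  have hEε : cosetSum N ε hεN * ε = ε := cosetSum_mul N ε ε hεN hε.eq horth'
  have hEterm : ∀ q : G ⧸ N, cosetSum N ε hεN * cosetTerm N ε hεN q = cosetTerm N ε hεN q := by
    intro q
    induction q using QuotientGroup.induction_on with
    | H h =>
      rw [cosetTerm_mk]
      have := congrArg (fun b => h • b) hEε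
      simp only [smul_mul', smul_cosetSum] at this
      exact this
  have hEidem : IsIdempotentElem E := by
    apply hinj
    rw [map_mul, hE]
    calc cosetSum N ε hεN * cosetSum N ε hεN
        = cosetSum N ε hεN * ∑ q : G ⧸ N, cosetTerm N ε hεN q := rfl
      _ = ∑ q : G ⧸ N, cosetSum N ε hεN * cosetTerm N ε hεN q := Finset.mul_sum _ _ _
      _ = ∑ q : G ⧸ N, cosetTerm N ε hεN q := by simp only [hEterm]
      _ = cosetSum N ε hεN := rfl
  have hpE : p = Ideal.span {1 - E} := by
    apply le_antisymm
    · intro c hc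
      have hc' : algebraMap C B c * ε = 0 := (hmemP _).mp hc
      have hcE : c * E = 0 := by
        apply hinj
        rw [map_mul, map_zero, hE, cosetSum, Finset.mul_sum]
        apply Finset.sum_eq_zero
        intro q _
        induction q using QuotientGroup.induction_on with
        | H h =>
          rw [cosetTerm_mk]
          have := congrArg (fun b => h • b) hc'
          simp only [smul_mul', smul_algebraMap, smul_zero] at this
          exact this
      rw [Ideal.mem_span_singleton']
      exact ⟨c, by rw [mul_sub, mul_one, hcE, sub_zero]⟩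
    · rw [Ideal.span_le, Set.singleton_subset_iff]
      change algebraMap C B (1 - E) ∈ P
      rw [hmemP, map_sub, map_one, hE, sub_mul, one_mul, hEε, sub_self]
  haveI : Module.Flat C (C ⧸ p) := by
    rw [hpE]
    haveI := IsLocalization.Away.quotient_of_isIdempotentElem hEidem
    exact IsLocalization.flat (C ⧸ Ideal.span {1 - E}) (Submonoid.powers E)
  exact Module.Flat.trans C (C ⧸ p) (B ⧸ P)

end IND

end Groth.Agent.Lib.Helper69.GaloisRing
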