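import Groth.Agent.Lib.Helper69.InertiaInd

/-!
# Splitting a ring with a finite group action by inertia type (helper69)

If every ideal `(g • b - b)` is generated by an idempotent, `B` is flat over the invariants.
-/

set_option autoImplicit false
set_option linter.unusedSectionVars false
set_option linter.style.haveILetI false

namespace Groth.Agent.Lib.Helper69.GaloisRing

section conj
variable {B G : Type*} [CommRing B] [Group G] [MulSemiringAction G B]

theorem smul_mem_moveIdeal (h g : G) (b : B) (hb : b ∈ moveIdeal (B := B) g) :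
    h • b ∈ moveIdeal (B := B) (h * g * h⁻¹) := by
  have hle : moveIdeal (B := B) g ≤
      (moveIdeal (B := B) (h * g * h⁻¹)).comap (MulSemiringAction.toRingHom G B h) := by
    unfold moveIdeal
    rw [Ideal.span_le]
    rintro _ ⟨x, rfl⟩
    show h • (g • x - x) ∈ Ideal.span (Set.range fun b : B => (h * g * h⁻¹) • b - b)
    refine Ideal.subset_span ⟨h • x, ?_⟩
    simp only [smul_sub, smul_smul, inv_mul_cancel_right]
  exact hle hb

variable (e : G → B) (he : ∀ g, IsIdempotentElem (e g))
  (hme : ∀ g, moveIdeal (B := B) g = Ideal.span {1 - e g})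

include he hme in
theorem smul_e (h g : G) : h • e g = e (h * g * h⁻¹) := by
  have hidem : IsIdempotentElem (h • e g) := by
    change h • e g * h • e g = h • e g
    rw [← smul_mul', (he g).eq]
  -- `1 - h • e g ∈ moveIdeal (h g h⁻¹)`
  have h1 : 1 - h • e g ∈ Ideal.span {1 - e (h * g * h⁻¹)} := by
    rw [← hme]
    have : (1 : B) - e g ∈ moveIdeal (B := B) g := by rw [hme]; exact Ideal.subset_span rfl
    have := smul_mem_moveIdeal h g _ this
    rwa [smul_sub, smul_one] at this
  -- `1 - e (h g h⁻¹)` is killed by `h • e g`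
  have h2 : (1 - e (h * g * h⁻¹)) * h • e g = 0 := by
    have : (1 : B) - e (h * g * h⁻¹) ∈ moveIdeal (B := B) (h * g * h⁻¹) := by
      rw [hme]; exact Ideal.subset_span rfl
    have := smul_mem_moveIdeal h⁻¹ _ _ this
    have hconj : h⁻¹ * (h * g * h⁻¹) * h⁻¹⁻¹ = g := by group
    rw [hconj, hme, mem_span_one_sub_iff (he g)] at this
    have := congrArg (fun b => h • b) this
    simp only [smul_mul', smul_smul, mul_inv_cancel, one_smul, smul_zero] at this
    exact this
  rw [mem_span_one_sub_iff (he _)] at h1
  rw [sub_mul, one_mul, sub_eq_zero] at h1 h2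
  rw [h2, mul_comm]
  exact h1.symm

end conj

section eps
variable {B G : Type*} [CommRing B] [Group G] [Fintype G] [MulSemiringAction G B]
variable (e : G → B)

/-- the idempotent cutting out the locus with inertia type `τ`. -/
noncomputable def eps (τ : G → Bool) : B := ∏ g, (if τ g then e g else 1 - e g)

variable {e} (he : ∀ g, IsIdempotentElem (e g))

include he in
theorem factor_idem (τ : G → Bool) (g : G) :
    IsIdempotentElem (if τ g then e g else 1 - e g) := by
  split_ifs
  · exact he g
  · exact (he g).one_sub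

include he in
theorem eps_idem (τ : G → Bool) : IsIdempotentElem (eps e τ) := by
  unfold eps IsIdempotentElem
  rw [← Finset.prod_mul_distrib]
  exact Finset.prod_congr rfl fun g _ => (factor_idem he τ g).eq

include he in
theorem eps_mul_e_of_true (τ : G → Bool) (g : G) (hg : τ g = true) : eps e τ * e g = eps e τ := by
  obtain ⟨c, hc⟩ := Finset.dvd_prod_of_mem (fun g => if τ g then e g else 1 - e g)
    (Finset.mem_univ g)
  unfold eps
  rw [hc]
  simp only [hg, if_true]
  rw [mul_comm, ← mul_assoc, (he g).eq]

include he in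
theorem eps_mul_e_of_false (τ : G → Bool) (g : G) (hg : τ g = false) : eps e τ * e g = 0 := by
  obtain ⟨c, hc⟩ := Finset.dvd_prod_of_mem (fun g => if τ g then e g else 1 - e g)
    (Finset.mem_univ g)
  unfold eps
  rw [hc]
  simp only [hg, Bool.false_eq_true, if_false]
  rw [mul_comm, ← mul_assoc, mul_sub, mul_one, (he g).eq, sub_self, zero_mul]

include he in
theorem eps_orth (τ τ' : G → Bool) (h : τ ≠ τ') : eps e τ * eps e τ' = 0 := by
  obtain ⟨g, hg⟩ := Function.ne_iff.mp h
  cases h1 : τ g
  · have h2 : τ' g = true := by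
      cases h3 : τ' g
      · exact absurd (h1.trans h3.symm) hg
      · rfl
    rw [← eps_mul_e_of_true he τ' g h2, mul_comm (eps e τ'), ← mul_assoc,
      eps_mul_e_of_false he τ g h1, zero_mul]
  · have h2 : τ' g = false := by
      cases h3 : τ' g
      · rfl
      · exact absurd (h1.trans h3.symm) hg
    rw [← eps_mul_e_of_true he τ g h1, mul_assoc, mul_comm (e g), eps_mul_e_of_false he τ' g h2,
      mul_zero]

theorem sum_eps [DecidableEq G] : ∑ τ : G → Bool, eps e τ = 1 := by
  have := Finset.prod_univ_sum (fun _ : G => (Finset.univ : Finset Bool))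
    (fun g b => if b then e g else 1 - e g)
  rw [Fintype.piFinset_univ] at this
  unfold eps
  rw [← this]
  simp

variable (hme : ∀ g, moveIdeal (B := B) g = Ideal.span {1 - e g})

include he hme in
theorem smul_eps (h : G) (τ : G → Bool) :
    h • eps e τ = eps e (fun g' => τ (h⁻¹ * g' * h)) := by
  unfold eps
  rw [Finset.smul_prod']
  refine Fintype.prod_equiv (MulAut.conj h).toEquiv _ _ fun g => ?_
  have hc : h⁻¹ * ((MulAut.conj h).toEquiv g) * h = g := by
    change h⁻¹ * (h * g * h⁻¹) * h = g
    group
  change _ = if τ (h⁻¹ * ((MulAut.conj h).toEquiv g) * h) then e (h * g * h⁻¹)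
    else 1 - e (h * g * h⁻¹)
  rw [hc]
  split_ifs
  · exact smul_e e he hme h g
  · rw [smul_sub, smul_one, smul_e e he hme h g]

include he hme in
theorem eps_horth (τ : G → Bool) (h : G) :
    h • eps e τ = eps e τ ∨ (h • eps e τ) * eps e τ = 0 := by
  rw [smul_eps he hme]
  by_cases hτ : (fun g' => τ (h⁻¹ * g' * h)) = τ
  · left; rw [hτ]
  · right; exact eps_orth he _ _ hτ

include he hme in
theorem eps_htm (τ : G → Bool) (n : G) :
    (∀ b : B, (n • b - b) * eps e τ = 0) ∨ (∃ m ∈ moveIdeal (B := B) n, m * eps e τ = eps e τ) := by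
  cases hn : τ n
  · right
    refine ⟨1 - e n, by rw [hme]; exact Ideal.subset_span rfl, ?_⟩
    rw [sub_mul, one_mul, mul_comm, eps_mul_e_of_false he τ n hn, sub_zero]
  · left
    intro b
    have hb : n • b - b ∈ Ideal.span {1 - e n} := by
      rw [← hme]; exact Ideal.subset_span ⟨b, rfl⟩
    rw [mem_span_one_sub_iff (he n)] at hb
    rw [← eps_mul_e_of_true he τ n hn, mul_comm (eps e τ), ← mul_assoc, hb, zero_mul]

end eps

section flat
variable (C : Type*) {B G : Type*} [CommRing C] [CommRing B] [Algebra C B] [Group G] [Finite G]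
  [MulSemiringAction G B] [SMulCommClass G C B] [Algebra.IsInvariant C B G]

/-- **Theorem T**: if every ideal `(g • b - b)` is generated by an idempotent, then `B` is flat
over the ring of invariants. -/
theorem flat_of_moveIdeal_idempotent (hinj : Function.Injective (algebraMap C B))
    (e : G → B) (he : ∀ g, IsIdempotentElem (e g))
    (hme : ∀ g, moveIdeal (B := B) g = Ideal.span {1 - e g}) : Module.Flat C B := by
  classical
  cases nonempty_fintype G
  have hflat : ∀ τ : G → Bool, Module.Flat C (B ⧸ Ideal.span {1 - eps e τ}) := fun τ =>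
    flat_quotient_of_stabilizer C hinj (eps e τ) (eps_idem he τ) (eps_horth he hme τ)
      (fun n _ => eps_htm he hme τ n)
  let i : B →ₗ[C] (∀ τ : G → Bool, B ⧸ Ideal.span {1 - eps e τ}) :=
    LinearMap.pi fun τ => ((Ideal.span {1 - eps e τ}).mkQ).restrictScalars C
  let rτ : ∀ τ : G → Bool, (B ⧸ Ideal.span {1 - eps e τ}) →ₗ[C] B := fun τ =>
    ((Ideal.span {1 - eps e τ}).liftQ (LinearMap.mulRight B (eps e τ)) (by
      rw [Ideal.span, Submodule.span_le]
      rintro _ rfl
      change (1 - eps e τ) * eps e τ = 0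
      rw [sub_mul, one_mul, (eps_idem he τ).eq, sub_self])).restrictScalars C
  let r : (∀ τ : G → Bool, B ⧸ Ideal.span {1 - eps e τ}) →ₗ[C] B :=
    ∑ τ, (rτ τ).comp (LinearMap.proj τ)
  haveI : Module.Flat C (∀ τ : G → Bool, B ⧸ Ideal.span {1 - eps e τ}) :=
    Module.Flat.of_linearEquiv
      (DFinsupp.linearEquivFunOnFintype (R := C)
        (M := fun τ : G → Bool => B ⧸ Ideal.span {1 - eps e τ})).symm
  refine Module.Flat.of_retract i r ?_
  ext b
  change (∑ τ, (rτ τ).comp (LinearMap.proj τ)) (i b) = b
  rw [LinearMap.sum_apply]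
  have : ∀ τ : G → Bool, ((rτ τ).comp (LinearMap.proj τ)) (i b) = b * eps e τ := fun τ => rfl
  simp_rw [this]
  rw [← Finset.mul_sum, sum_eps, mul_one]

end flat

section unram

open TensorProduct in
/-- **Lemma U**: for an unramified algebra with a group acting, the ideals `(g • b - b)` are
generated by idempotents. -/
theorem exists_idempotent_moveIdeal (R : Type*) {B G : Type*} [CommRing R] [CommRing B]
    [Algebra R B] [Group G]
    [MulSemiringAction G B] [SMulCommClass G R B] [Algebra.EssFiniteType R B]
    [Algebra.FormallyUnramified R B] :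
    ∃ e : G → B, (∀ g, IsIdempotentElem (e g)) ∧
      ∀ g, moveIdeal (B := B) g = Ideal.span {1 - e g} := by
  let t := Algebra.FormallyUnramified.elem R B
  have ht1 : ∀ s, ((1 : B) ⊗ₜ[R] s - s ⊗ₜ[R] (1 : B)) * t = 0 :=
    Algebra.FormallyUnramified.one_tmul_sub_tmul_one_mul_elem
  have ht2 : Algebra.TensorProduct.lmul' R t = 1 := Algebra.FormallyUnramified.lmul_elem
  have hker : ∀ x ∈ KaehlerDifferential.ideal R B, x * t = 0 := by
    intro x hx
    rw [← KaehlerDifferential.span_range_eq_ideal] at hx
    induction hx using Submodule.span_induction with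
    | mem x hx => obtain ⟨s, rfl⟩ := hx; exact ht1 s
    | zero => exact zero_mul _
    | add x y _ _ hx hy => rw [add_mul, hx, hy, add_zero]
    | smul a x _ hx => rw [smul_eq_mul, mul_assoc, hx, mul_zero]
  have h1t : 1 - t ∈ KaehlerDifferential.ideal R B := by
    rw [KaehlerDifferential.ideal, RingHom.mem_ker, map_sub, map_one, ht2, sub_self]
  have htidem : IsIdempotentElem t := by
    have := hker _ h1t
    rw [sub_mul, one_mul, sub_eq_zero] at this
    exact this.symm
  refine ⟨fun g => mu R g t, fun g => htidem.map (mu R g), fun g => ?_⟩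
  apply le_antisymm
  · unfold moveIdeal
    rw [Ideal.span_le]
    rintro _ ⟨b, rfl⟩
    rw [SetLike.mem_coe, mem_span_one_sub_iff (htidem.map (mu R g))]
    have := congrArg (mu R g) (ht1 b)
    rw [map_mul, map_sub, mu_tmul, mu_tmul, map_zero, one_mul, smul_one, mul_one] at this
    exact this
  · rw [Ideal.span_le, Set.singleton_subset_iff, SetLike.mem_coe]
    have h3 : (1 : B) - mu R g t = mu R g (1 - t) := by rw [map_sub, map_one]
    rw [h3]
    rw [← KaehlerDifferential.span_range_eq_ideal] at h1t
    have h2 := Ideal.mem_map_of_mem (mu R g).toRingHom h1t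
    rw [Ideal.map_span] at h2
    refine Ideal.span_mono ?_ h2
    rintro _ ⟨_, ⟨s, rfl⟩, rfl⟩
    refine ⟨s, ?_⟩
    change _ = mu R g _
    rw [map_sub, mu_tmul, mu_tmul, one_mul, smul_one, mul_one]

end unram

end Groth.Agent.Lib.Helper69.GaloisRing
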