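import Mathlib

set_option autoImplicit false
universe u
open Function

namespace Groth.Agent.Lib.Helper69.PiTensorNontrivial

open scoped TensorProduct
open PiTensorProduct

variable {ι : Type*} {κ : Type*} [Field κ] {L : ι → Type*} [∀ i, CommRing (L i)]
  [∀ i, Algebra κ (L i)] [∀ i, Nontrivial (L i)]

theorem exists_ret (i : ι) : ∃ r : L i →ₗ[κ] κ, r 1 = 1 := by
  have hinj : Function.Injective (Algebra.linearMap κ (L i)) :=
    (algebraMap κ (L i)).injective
  obtain ⟨g, hg⟩ := LinearMap.exists_leftInverse_of_injective (Algebra.linearMap κ (L i))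
    (LinearMap.ker_eq_bot.mpr hinj)
  refine ⟨g, ?_⟩
  have := congrArg (fun f : κ →ₗ[κ] κ => f 1) hg
  simpa using this

/-- a `κ`-linear retraction of the structure map. -/
noncomputable def ret (i : ι) : L i →ₗ[κ] κ := (exists_ret (κ := κ) (L := L) i).choose

theorem ret_one (i : ι) : ret (κ := κ) (L := L) i 1 = 1 := (exists_ret (κ := κ) (L := L) i).choose_spec

/-- the restricted infinite product of the retractions. -/
noncomputable def val (x : ∀ i, L i) : κ :=
  open Classical in
  if (mulSupport fun i => ret (κ := κ) (L := L) i (x i)).Finite then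
    ∏ᶠ i, ret (κ := κ) (L := L) i (x i) else 0

theorem val_one : val (κ := κ) (L := L) 1 = 1 := by
  unfold val
  have h : (fun i => ret (κ := κ) (L := L) i ((1 : ∀ i, L i) i)) = fun _ => 1 := by
    funext i
    exact ret_one i
  rw [h]
  simp

theorem exists_val_update [DecidableEq ι] (x : ∀ i, L i) (i : ι) :
    ∃ C : κ, ∀ a : L i, val (κ := κ) (L := L) (update x i a) = ret i a * C := by
  classical
  set g : ι → κ := fun j => ret (κ := κ) (L := L) j (x j) with hg
  have hga : ∀ a : L i, ∀ j, j ≠ i → ret (κ := κ) (L := L) j (update x i a j) = g j := by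
    intro a j hj
    rw [update_of_ne hj]
  have hsupp : ∀ a : L i, (mulSupport fun j => ret (κ := κ) (L := L) j (update x i a j)) \ {i} =
      mulSupport g \ {i} := by
    intro a
    ext j
    simp only [Set.mem_diff, mem_mulSupport, Set.mem_singleton_iff]
    constructor
    · rintro ⟨h1, h2⟩
      exact ⟨by rwa [hga a j h2] at h1, h2⟩
    · rintro ⟨h1, h2⟩
      exact ⟨by rwa [hga a j h2], h2⟩
  have hfin : ∀ a : L i, (mulSupport fun j => ret (κ := κ) (L := L) j (update x i a j)).Finite ↔
      (mulSupport g \ {i}).Finite := by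
    intro a
    rw [← hsupp a]
    constructor
    · intro h; exact h.subset Set.diff_subset
    · intro h
      exact (h.union (Set.finite_singleton i)).subset (by
        intro j hj
        by_cases hji : j = i
        · right; exact hji
        · left; exact ⟨hj, hji⟩)
  by_cases hF : (mulSupport g \ {i}).Finite
  · refine ⟨∏ᶠ (j) (_ : j ≠ i), g j, fun a => ?_⟩
    unfold val
    rw [if_pos ((hfin a).mpr hF)]
    rw [← mul_finprod_cond_ne i ((hfin a).mpr hF)]
    congr 1
    · rw [update_self]
    · exact finprod_congr fun j => finprod_congr fun hj => hga a j hj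
  · refine ⟨0, fun a => ?_⟩
    unfold val
    rw [if_neg (fun h => hF ((hfin a).mp h)), mul_zero]

/-- `val` as a multilinear map. -/
noncomputable def valM : MultilinearMap κ L κ where
  toFun := val
  map_update_add' := by
    intro _ x i a b
    obtain ⟨C, hC⟩ := exists_val_update (κ := κ) x i
    rw [hC, hC, hC, map_add, add_mul]
  map_update_smul' := by
    intro _ x i c a
    obtain ⟨C, hC⟩ := exists_val_update (κ := κ) x i
    rw [hC, hC, map_smul, smul_eq_mul, smul_eq_mul, mul_assoc]

theorem nontrivial_piTensorProduct : Nontrivial (⨂[κ] i, L i) := by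
  refine ⟨⟨1, 0, fun h => ?_⟩⟩
  have h1 : PiTensorProduct.lift (valM (κ := κ) (L := L)) (tprod κ 1) = 1 := by
    rw [PiTensorProduct.lift.tprod]
    exact val_one
  have h2 : (tprod κ (1 : ∀ i, L i)) = 0 := h
  rw [h2, map_zero] at h1
  exact zero_ne_one h1

end Groth.Agent.Lib.Helper69.PiTensorNontrivial
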