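import Mathlib
import Groth.Agent.Lib.Helper69.PiTensorNontrivial

set_option autoImplicit false
universe u
open CategoryTheory AlgebraicGeometry

namespace Groth.Agent.Lib.Helper69.InfProdSurj

open scoped TensorProduct
open Groth.Agent.Lib.Helper69.PiTensorNontrivial

theorem main {S : Scheme.{u}} {I : Type u} (T : I → Over S)
    (hT : ∀ i, Surjective (T i).hom) (c : Limits.Fan T) (hc : Limits.IsLimit c) :
    Surjective c.pt.hom := by
  classical
  refine ⟨fun s => ?_⟩
  let f : ∀ i, (T i).left ⟶ S := fun i => (T i).hom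
  have hs : ∀ i, ∃ t : (T i).left, f i t = s := fun i => (hT i).surj s
  choose t ht using hs
  let κ : Type u := S.residueField s
  let L : I → Type u := fun i => (T i).left.residueField (t i)
  let ψ : ∀ i, S.residueField s ⟶ (T i).left.residueField (t i) := fun i =>
    (S.residueFieldCongr (ht i)).inv ≫ (f i).residueFieldMap (t i)
  letI : ∀ i, CommRing (L i) := fun i => inferInstanceAs (CommRing ((T i).left.residueField (t i)))
  letI : ∀ i, Algebra κ (L i) := fun i => (ψ i).hom.toAlgebra
  haveI : ∀ i, Nontrivial (L i) := fun i =>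
    inferInstanceAs (Nontrivial ((T i).left.residueField (t i)))
  haveI : Nontrivial (⨂[κ] i, L i) := nontrivial_piTensorProduct
  let R : CommRingCat.{u} := CommRingCat.of (⨂[κ] i, L i)
  let a : S.residueField s ⟶ R := CommRingCat.ofHom (algebraMap κ (⨂[κ] i, L i))
  let σ : ∀ i, (T i).left.residueField (t i) ⟶ R := fun i =>
    CommRingCat.ofHom (PiTensorProduct.singleAlgHom (R := κ) (A := L) i).toRingHom
  have hσ : ∀ i, ψ i ≫ σ i = a := by
    intro i
    apply CommRingCat.hom_ext
    apply RingHom.ext
    intro x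
    exact (PiTensorProduct.singleAlgHom (R := κ) (A := L) i).commutes x
  let g : ∀ i, Spec R ⟶ (T i).left := fun i =>
    Spec.map (σ i) ≫ (T i).left.fromSpecResidueField (t i)
  have hg : ∀ i, g i ≫ (T i).hom = Spec.map a ≫ S.fromSpecResidueField s := by
    intro i
    change (Spec.map (σ i) ≫ (T i).left.fromSpecResidueField (t i)) ≫ f i = _
    rw [Category.assoc, ← Scheme.Hom.SpecMap_residueFieldMap_fromSpecResidueField,
      ← Scheme.residueFieldCongr_fromSpecResidueField (ht i).symm, ← hσ i]
    rw [Spec.map_comp, Spec.map_comp, Category.assoc, Category.assoc]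
    rfl
  let pt : Over S := Over.mk (Spec.map a ≫ S.fromSpecResidueField s)
  let fan : Limits.Fan T := Limits.Fan.mk pt fun i => Over.homMk (g i) (hg i)
  let l : pt ⟶ c.pt := hc.lift fan
  have hl : l.left ≫ c.pt.hom = Spec.map a ≫ S.fromSpecResidueField s := Over.w l
  obtain ⟨w⟩ : Nonempty (Spec R) := inferInstance
  refine ⟨l.left w, ?_⟩
  have := congrArg (fun φ : Spec R ⟶ S => φ w) hl
  simp only [Scheme.Hom.comp_apply] at this
  rw [Scheme.fromSpecResidueField_apply] at this
  exact this

end Groth.Agent.Lib.Helper69.InfProdSurj
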