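import Mathlib

open CategoryTheory AlgebraicGeometry TopologicalSpace Limits MvPolynomial TensorProduct

universe u v w

namespace Groth.Agent.Lib.Helper69.Jouanolou

section Ring

variable {A : Type u} [CommRing A] {ι : Type v} [Fintype ι] (f : ι → A)

/-- The relation `Σ f_i x_i - 1`. -/
noncomputable def rel : MvPolynomial (Option ι) A := ∑ i, C (f i) * X (some i) - 1

/-- The Jouanolou ring `A[x_i, t]/(Σ f_i x_i - 1)`. -/
def JRing : Type _ := MvPolynomial (Option ι) A ⧸ Ideal.span {rel f}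

noncomputable instance : CommRing (JRing f) :=
  inferInstanceAs (CommRing (MvPolynomial (Option ι) A ⧸ Ideal.span {rel f}))
noncomputable instance : Algebra A (JRing f) :=
  inferInstanceAs (Algebra A (MvPolynomial (Option ι) A ⧸ Ideal.span {rel f}))

/-- The quotient map as an algebra hom. -/
noncomputable def mkJ : MvPolynomial (Option ι) A →ₐ[A] JRing f :=
  Ideal.Quotient.mkₐ A (Ideal.span {rel f})

lemma mkJ_surjective : Function.Surjective (mkJ f) := Ideal.Quotient.mk_surjective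

lemma mkJ_rel : mkJ f (rel f) = 0 :=
  Ideal.Quotient.eq_zero_iff_mem.mpr (Ideal.subset_span rfl)

noncomputable def xv (i : ι) : JRing f := mkJ f (X (some i))
noncomputable def tv : JRing f := mkJ f (X none)

lemma sum_xv : ∑ i, algebraMap A (JRing f) (f i) * xv f i = 1 := by
  have h := mkJ_rel f
  rw [rel, map_sub, map_one, sub_eq_zero, map_sum] at h
  refine (Finset.sum_congr rfl fun i _ => ?_).trans h
  rw [map_mul, xv, ← MvPolynomial.algebraMap_eq, AlgHom.commutes]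

variable {R : Type w} [CommRing R] [Algebra A R] (r : ι → R)

noncomputable def toPolyAux : MvPolynomial (Option ι) A →ₐ[A] MvPolynomial ι R :=
  aeval (fun o => match o with
    | none => ∑ j, C (algebraMap A R (f j)) * X j
    | some i => X i - (∑ j, C (algebraMap A R (f j)) * X j - 1) * C (r i))

lemma toPolyAux_rel (hr : ∑ i, algebraMap A R (f i) * r i = 1) : toPolyAux f r (rel f) = 0 := by
  have hr' : ∑ i, (C (algebraMap A R (f i)) : MvPolynomial ι R) * C (r i) = 1 := by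
    simp_rw [← C_mul]; rw [← map_sum, hr, C_1]
  simp only [rel, toPolyAux, map_sub, map_sum, map_mul, aeval_X, map_one, algHom_C,
    MvPolynomial.algebraMap_apply]
  set S : MvPolynomial ι R := ∑ j, C (algebraMap A R (f j)) * X j with hS
  have key : ∑ x, (C (algebraMap A R (f x)) : MvPolynomial ι R) * ((S - 1) * C (r x)) =
      (S - 1) * 1 := by
    rw [← hr', Finset.mul_sum]
    exact Finset.sum_congr rfl fun i _ => by ring
  simp only [mul_sub, Finset.sum_sub_distrib]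
  rw [key, ← hS]
  ring

noncomputable def toPolyJ (hr : ∑ i, algebraMap A R (f i) * r i = 1) :
    JRing f →ₐ[A] MvPolynomial ι R :=
  Ideal.Quotient.liftₐ (Ideal.span {rel f}) (toPolyAux f r) (fun a ha => by
    have : Ideal.span {rel f} ≤ RingHom.ker (toPolyAux f r).toRingHom := by
      rw [Ideal.span_le, Set.singleton_subset_iff]
      exact toPolyAux_rel f r hr
    exact this ha)

lemma toPolyJ_mkJ (hr : ∑ i, algebraMap A R (f i) * r i = 1) (p : MvPolynomial (Option ι) A) :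
    toPolyJ f r hr (mkJ f p) = toPolyAux f r p := rfl

lemma toPolyJ_xv (hr : ∑ i, algebraMap A R (f i) * r i = 1) (i : ι) :
    toPolyJ f r hr (xv f i) =
      X i - (∑ j, C (algebraMap A R (f j)) * X j - 1) * C (r i) := by
  rw [xv, toPolyJ_mkJ]; simp [toPolyAux]

lemma toPolyJ_tv (hr : ∑ i, algebraMap A R (f i) * r i = 1) :
    toPolyJ f r hr (tv f) = ∑ j, C (algebraMap A R (f j)) * X j := by
  rw [tv, toPolyJ_mkJ]; simp [toPolyAux]

noncomputable def toPoly (hr : ∑ i, algebraMap A R (f i) * r i = 1) :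
    R ⊗[A] JRing f →ₐ[R] MvPolynomial ι R :=
  Algebra.TensorProduct.lift (Algebra.ofId R _) (toPolyJ f r hr) (fun _ _ => Commute.all _ _)

noncomputable def yv (i : ι) : R ⊗[A] JRing f := 1 ⊗ₜ xv f i + r i ⊗ₜ (tv f - 1)

noncomputable def ofPoly : MvPolynomial ι R →ₐ[R] R ⊗[A] JRing f :=
  aeval (yv f r)

lemma sum_yv (hr : ∑ i, algebraMap A R (f i) * r i = 1) :
    ∑ j, (algebraMap A R (f j) ⊗ₜ[A] (1 : JRing f)) * yv f r j =
      (1 : R) ⊗ₜ[A] tv f := by
  have h1 : ∀ j, (algebraMap A R (f j) ⊗ₜ[A] (1 : JRing f)) * yv f r j =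
      (1 : R) ⊗ₜ[A] (algebraMap A (JRing f) (f j) * xv f j) +
        (algebraMap A R (f j) * r j) ⊗ₜ[A] (tv f - 1) := by
    intro j
    rw [yv, mul_add, Algebra.TensorProduct.tmul_mul_tmul, Algebra.TensorProduct.tmul_mul_tmul,
      mul_one, one_mul, one_mul]
    congr 1
    rw [Algebra.algebraMap_eq_smul_one, Algebra.algebraMap_eq_smul_one (f j),
      TensorProduct.smul_tmul, smul_mul_assoc, one_mul]
  simp_rw [h1]
  rw [Finset.sum_add_distrib, ← TensorProduct.tmul_sum, ← TensorProduct.sum_tmul, hr, sum_xv,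
    ← TensorProduct.tmul_add]
  congr 1
  ring

lemma ofPoly_sum (hr : ∑ i, algebraMap A R (f i) * r i = 1) :
    ofPoly f r (∑ j, C (algebraMap A R (f j)) * X j) = (1 : R) ⊗ₜ[A] tv f := by
  rw [← sum_yv f r hr, map_sum]
  refine Finset.sum_congr rfl fun j _ => ?_
  rw [map_mul, ofPoly, aeval_X, aeval_C, Algebra.TensorProduct.algebraMap_apply]
  rfl

lemma toPoly_ofPoly (hr : ∑ i, algebraMap A R (f i) * r i = 1) :
    (toPoly f r hr).comp (ofPoly f r) = AlgHom.id R _ := by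
  apply MvPolynomial.algHom_ext
  intro i
  simp only [AlgHom.comp_apply, ofPoly, aeval_X, yv, map_add, toPoly,
    Algebra.TensorProduct.lift_tmul, map_one, one_mul, toPolyJ_xv, map_sub, toPolyJ_tv,
    AlgHom.id_apply, Algebra.ofId_apply, MvPolynomial.algebraMap_eq]
  ring

lemma ofPoly_toPoly (hr : ∑ i, algebraMap A R (f i) * r i = 1) :
    (ofPoly f r).comp (toPoly f r hr) = AlgHom.id R _ := by
  apply Algebra.TensorProduct.ext
  · ext
  · rw [← AlgHom.cancel_right (mkJ_surjective f)]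
    apply MvPolynomial.algHom_ext
    intro o
    cases o with
    | none =>
      change ofPoly f r (toPoly f r hr ((1 : R) ⊗ₜ[A] tv f)) = (1 : R) ⊗ₜ[A] tv f
      rw [toPoly, Algebra.TensorProduct.lift_tmul, map_one, one_mul, toPolyJ_tv, ofPoly_sum f r hr]
    | some i =>
      change ofPoly f r (toPoly f r hr ((1 : R) ⊗ₜ[A] xv f i)) = (1 : R) ⊗ₜ[A] xv f i
      rw [toPoly, Algebra.TensorProduct.lift_tmul, map_one, one_mul, toPolyJ_xv, map_sub, map_mul,
        map_sub, ofPoly_sum f r hr, map_one]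
      rw [ofPoly, aeval_X, aeval_C, Algebra.TensorProduct.algebraMap_apply, yv,
        Algebra.TensorProduct.one_def, ← TensorProduct.tmul_sub,
        Algebra.TensorProduct.tmul_mul_tmul, one_mul, mul_one]
      simp

/-- The base change of the Jouanolou ring along `A → R` is a polynomial ring as soon as
`Σ f_i r_i = 1` in `R`. -/
noncomputable def equiv (hr : ∑ i, algebraMap A R (f i) * r i = 1) :
    R ⊗[A] JRing f ≃ₐ[R] MvPolynomial ι R :=
  AlgEquiv.ofAlgHom (toPoly f r hr) (ofPoly f r) (toPoly_ofPoly f r hr) (ofPoly_toPoly f r hr)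

end Ring

section Scheme

variable (X : Scheme.{u}) [X.IsQuasiAffine]

lemma exists_family : ∃ (n : ℕ) (f : ULift.{u} (Fin n) → Γ(X, ⊤)),
    Set.range X.toSpecΓ = (PrimeSpectrum.zeroLocus (Set.range f))ᶜ := by
  have h1 : IsCompact (Set.range X.toSpecΓ) := isCompact_range X.toSpecΓ.continuous
  have h2 : IsOpen (Set.range X.toSpecΓ) := X.toSpecΓ.isOpenEmbedding.isOpen_range
  obtain ⟨t, ht⟩ := PrimeSpectrum.isCompact_isOpen_iff.mp ⟨h1, h2⟩
  refine ⟨t.card, fun i => (t.equivFin.symm i.down : Γ(X, ⊤)), ?_⟩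
  have hrange : Set.range (fun i : ULift.{u} (Fin t.card) =>
      (t.equivFin.symm i.down : Γ(X, ⊤))) = (t : Set Γ(X, ⊤)) := by
    ext a
    constructor
    · rintro ⟨i, rfl⟩
      exact (t.equivFin.symm i.down).2
    · intro ha
      exact ⟨⟨t.equivFin ⟨a, ha⟩⟩, by simp⟩
  rw [← ht, hrange]

theorem main : ∃ (n : ℕ) (T : Scheme.{u}) (_ : IsAffine T) (p : T ⟶ X),
      ∀ (X' : Scheme.{u}) [IsAffine X'] (g : X' ⟶ X),
        ∃ e : Limits.pullback g p ≅ 𝔸(ULift.{u} (Fin n); X'),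
          e.hom ≫ (𝔸(ULift.{u} (Fin n); X') ↘ X') = Limits.pullback.fst g p := by
  obtain ⟨n, f, hf⟩ := exists_family X
  let φ : Γ(X, ⊤) ⟶ CommRingCat.of (JRing f) :=
    CommRingCat.ofHom (algebraMap Γ(X, ⊤) (JRing f))
  have H : Set.range (Spec.map φ) ⊆ Set.range X.toSpecΓ := by
    rw [hf]
    rintro _ ⟨q, rfl⟩ hq
    have hq' : ∀ i, algebraMap Γ(X, ⊤) (JRing f) (f i) ∈ q.asIdeal := fun i =>
      hq (Set.mem_range_self i)
    apply q.isPrime.ne_top
    rw [Ideal.eq_top_iff_one, ← sum_xv f]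
    exact Ideal.sum_mem _ fun i _ => Ideal.mul_mem_right _ _ (hq' i)
  let p : Spec (CommRingCat.of (JRing f)) ⟶ X := IsOpenImmersion.lift X.toSpecΓ (Spec.map φ) H
  have hp : p ≫ X.toSpecΓ = Spec.map φ := IsOpenImmersion.lift_fac _ _ _
  refine ⟨n, Spec (CommRingCat.of (JRing f)), inferInstance, p, fun X' _ g => ?_⟩
  let _ : Algebra Γ(X, ⊤) Γ(X', ⊤) := g.appTop.hom.toAlgebra
  have hψ : CommRingCat.ofHom (algebraMap Γ(X, ⊤) Γ(X', ⊤)) = g.appTop := rfl
  have hg : g ≫ X.toSpecΓ = X'.isoSpec.hom ≫ Spec.map g.appTop := by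
    rw [Scheme.isoSpec_hom, Scheme.toSpecΓ_naturality]
  obtain ⟨r, hr⟩ : ∃ r : ULift.{u} (Fin n) → Γ(X', ⊤),
      ∑ i, algebraMap Γ(X, ⊤) Γ(X', ⊤) (f i) * r i = 1 := by
    have hI : Ideal.span (Set.range fun i => algebraMap Γ(X, ⊤) Γ(X', ⊤) (f i)) = ⊤ := by
      by_contra hne
      obtain ⟨m, hm, hle⟩ := Ideal.exists_le_maximal _ hne
      let y : Spec Γ(X', ⊤) := ⟨m, hm.isPrime⟩
      have h1 : Spec.map g.appTop y ∈ Set.range X.toSpecΓ := by
        refine ⟨g (X'.isoSpec.inv y), ?_⟩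
        rw [← Scheme.Hom.comp_apply, hg, ← Scheme.Hom.comp_apply, Iso.inv_hom_id_assoc]
      rw [hf] at h1
      apply h1
      rintro _ ⟨i, rfl⟩
      exact hle (Ideal.subset_span ⟨i, rfl⟩)
    have h1 : (1 : Γ(X', ⊤)) ∈ Ideal.span (Set.range fun i =>
        algebraMap Γ(X, ⊤) Γ(X', ⊤) (f i)) := by rw [hI]; trivial
    obtain ⟨c, hc⟩ := Ideal.mem_span_range_iff_exists_fun.mp h1
    exact ⟨c, by rw [← hc]; exact Finset.sum_congr rfl fun i _ => mul_comm _ _⟩
  let E := equiv f r hr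
  have h0 := isPullback_SpecMap_of_isPushout _ _ _ _
    (CommRingCat.isPushout_tensorProduct Γ(X, ⊤) Γ(X', ⊤) (JRing f))
  let e₁ : Spec (.of (Γ(X', ⊤) ⊗[Γ(X, ⊤)] JRing f)) ≅ 𝔸(ULift.{u} (Fin n); X') :=
    Scheme.Spec.mapIso E.symm.toCommRingCatIso.op ≪≫ (AffineSpace.isoOfIsAffine _ X').symm
  have h1 : IsPullback (𝔸(ULift.{u} (Fin n); X') ↘ X')
      (e₁.inv ≫ Spec.map (CommRingCat.ofHom (S := Γ(X', ⊤) ⊗[Γ(X, ⊤)] JRing f)
        Algebra.TensorProduct.includeRight.toRingHom))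
      (g ≫ X.toSpecΓ) (p ≫ X.toSpecΓ) := by
    refine h0.of_iso e₁ X'.isoSpec.symm (Iso.refl _) (Iso.refl _) ?_ ?_ ?_ ?_
    · simp only [e₁, Iso.trans_hom, Iso.symm_hom, Functor.mapIso_hom, Iso.op_hom,
        Scheme.Spec_map, Quiver.Hom.unop_op, Category.assoc,
        AffineSpace.isoOfIsAffine_inv_over]
      rw [← Spec.map_comp_assoc]
      congr 2
      ext x
      change (x ⊗ₜ[Γ(X, ⊤)] (1 : JRing f)) = E.symm (C x)
      rw [← MvPolynomial.algebraMap_eq, AlgEquiv.commutes,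
        Algebra.TensorProduct.algebraMap_apply]
      rfl
    · simp
    · rw [Iso.refl_hom, Category.comp_id, hψ, hg, Iso.symm_hom, Iso.inv_hom_id_assoc]
    · rw [Iso.refl_hom, Iso.refl_hom, Category.comp_id, Category.id_comp, hp]
  have h2 : IsPullback (𝟙 (Spec (CommRingCat.of (JRing f)))) p (p ≫ X.toSpecΓ) X.toSpecΓ :=
    IsPullback.of_horiz_isIso_mono ⟨by simp⟩
  have h3 : IsPullback (𝔸(ULift.{u} (Fin n); X') ↘ X')
      (e₁.inv ≫ Spec.map (CommRingCat.ofHom (S := Γ(X', ⊤) ⊗[Γ(X, ⊤)] JRing f)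
        Algebra.TensorProduct.includeRight.toRingHom)) g p := by
    refine (IsPullback.of_right (h₁₂ := 𝟙 _) ?_ ?_ h2).flip
    · rw [Category.comp_id]; exact h1.flip
    · rw [← cancel_mono X.toSpecΓ, Category.assoc, Category.assoc]
      exact h1.w.symm
  exact ⟨h3.isoPullback.symm, h3.isoPullback_inv_fst⟩

end Scheme

end Groth.Agent.Lib.Helper69.Jouanolou
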