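import Mathlib
import Groth.Agent.Lib.Helper42.ProjMap
import Groth.Agent.Lib.Helper17.ProjClosed
import Groth.Agent.Lib.Helper96.ProjSpaceGlobal
import Groth.Prelude.Def_CohB1

set_option autoImplicit false
universe u
open AlgebraicGeometry CategoryTheory Limits TopologicalSpace Opposite

namespace Groth.Agent.Lib.Helper69.LinEmb
open Groth.Agent.Lib.Helper96.ProjSpaceGlobal

variable (k : Type u) [CommRing k] {a N : ℕ} (σ : Fin (a + 1) → Fin (N + 1))

open Classical in
/-- the images of the coordinates under a coordinate projection. -/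
noncomputable def coordFun (j : Fin (N + 1)) : MvPolynomial (Fin (a + 1)) k :=
  if h : ∃ i, σ i = j then MvPolynomial.X h.choose else 0

theorem coordFun_isHomogeneous (j : Fin (N + 1)) : (coordFun k σ j).IsHomogeneous 1 := by
  unfold coordFun
  split_ifs with h
  · exact MvPolynomial.isHomogeneous_X k _
  · exact MvPolynomial.isHomogeneous_zero _ _ _

theorem coordFun_apply (hσ : Function.Injective σ) (i : Fin (a + 1)) :
    coordFun k σ (σ i) = MvPolynomial.X i := by
  unfold coordFun
  have h : ∃ i', σ i' = σ i := ⟨i, rfl⟩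
  rw [dif_pos h]
  exact congrArg _ (hσ h.choose_spec)

theorem coordFun_of_not_mem (j : Fin (N + 1)) (h : ¬ ∃ i, σ i = j) : coordFun k σ j = 0 := by
  unfold coordFun
  rw [dif_neg h]

/-- the coordinate projection as a graded ring homomorphism. -/
noncomputable def coordHom : CohB1.polyGrading N k →+*ᵍ CohB1.polyGrading a k where
  toRingHom := (MvPolynomial.aeval (coordFun k σ) :
    MvPolynomial (Fin (N + 1)) k →ₐ[k] MvPolynomial (Fin (a + 1)) k).toRingHom
  map_mem := fun {d x} hx => by
    have h := MvPolynomial.IsHomogeneous.aeval (S := k) hx (coordFun k σ)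
      (coordFun_isHomogeneous k σ)
    rw [one_mul] at h
    exact h

theorem coordHom_X (j : Fin (N + 1)) : coordHom k σ (MvPolynomial.X j) = coordFun k σ j := by
  change MvPolynomial.aeval (coordFun k σ) (MvPolynomial.X j) = _
  rw [MvPolynomial.aeval_X]

theorem coordHom_C (r : k) : coordHom k σ (MvPolynomial.C r) = MvPolynomial.C r := by
  change MvPolynomial.aeval (coordFun k σ) (MvPolynomial.C r) = _
  rw [MvPolynomial.aeval_C]; rfl

theorem coordHom_surjective (hσ : Function.Injective σ) : Function.Surjective (coordHom k σ) := by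
  intro p
  induction p using MvPolynomial.induction_on with
  | C r => exact ⟨MvPolynomial.C r, coordHom_C k σ r⟩
  | add p q hp hq =>
    obtain ⟨p', rfl⟩ := hp
    obtain ⟨q', rfl⟩ := hq
    exact ⟨p' + q', map_add _ _ _⟩
  | mul_X p i hp =>
    obtain ⟨p', rfl⟩ := hp
    refine ⟨p' * MvPolynomial.X (σ i), ?_⟩
    rw [map_mul, coordHom_X, coordFun_apply k σ hσ]

theorem irrelevant_le (hσ : Function.Injective σ) :
    HomogeneousIdeal.irrelevant (CohB1.polyGrading a k) ≤
      (HomogeneousIdeal.irrelevant (CohB1.polyGrading N k)).map (coordHom k σ) :=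
  Groth.Agent.Lib.Helper17.PC.irrelevant_le_map_of_surjective _ _ (coordHom_surjective k σ hσ)

/-- the linear embedding `P^a ⟶ P^N` attached to an injection of coordinates. -/
noncomputable def linEmb (hσ : Function.Injective σ) :
    Proj (CohB1.polyGrading a k) ⟶ Proj (CohB1.polyGrading N k) :=
  Proj.map (coordHom k σ) (irrelevant_le k σ hσ)

instance isClosedImmersion_linEmb (hσ : Function.Injective σ) :
    IsClosedImmersion (linEmb k σ hσ) :=
  Groth.Agent.Lib.Helper17.PC.isClosedImmersion_map_of_surjective _ _ (coordHom_surjective k σ hσ) _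

theorem linEmb_toSpec' (hσ : Function.Injective σ) :
    linEmb k σ hσ ≫ (Proj.toSpecZero (CohB1.polyGrading N k) ≫
      Spec.map (CommRingCat.ofHom (algebraMap k (CohB1.polyGrading N k 0)))) =
    Proj.toSpecZero (CohB1.polyGrading a k) ≫
      Spec.map (CommRingCat.ofHom (algebraMap k (CohB1.polyGrading a k 0))) := by
  unfold linEmb
  rw [← Category.assoc, Groth.Agent.Lib.Helper42.map_toSpecZero, Category.assoc, ← Spec.map_comp]
  congr 2
  apply CommRingCat.hom_ext
  apply RingHom.ext
  intro r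
  apply Subtype.ext
  exact coordHom_C k σ r

theorem linEmb_toSpec (hσ : Function.Injective σ) :
    (linEmb k σ hσ : CohB1.ProjSpace a k ⟶ CohB1.ProjSpace N k) ≫ CohB1.ProjSpace.toSpec N k =
      CohB1.ProjSpace.toSpec a k :=
  linEmb_toSpec' k σ hσ

theorem linEmb_preimage_basicOpen (hσ : Function.Injective σ) (j : Fin (N + 1))
    (h : ¬ ∃ i, σ i = j) :
    linEmb k σ hσ ⁻¹ᵁ Proj.basicOpen (CohB1.polyGrading N k) (MvPolynomial.X j) = ⊥ := by
  unfold linEmb
  rw [Proj.map_preimage_basicOpen, coordHom_X, coordFun_of_not_mem k σ j h, Proj.basicOpen_zero]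

theorem exists_mem_basicOpen (y : Proj (CohB1.polyGrading N k)) :
    ∃ j : Fin (N + 1), y ∈ Proj.basicOpen (CohB1.polyGrading N k) (MvPolynomial.X j) := by
  obtain ⟨i, z, hz⟩ := (cov N k).openCover.exists_eq y
  refine ⟨i, ?_⟩
  have hop := Proj.opensRange_awayι (CohB1.polyGrading N k)
    (MvPolynomial.X i : MvPolynomial (Fin (N + 1)) k) (X_mem i) one_pos
  rw [← hop]
  exact ⟨z, hz⟩

theorem disjoint_range_linEmb {b : ℕ} (τ : Fin (b + 1) → Fin (N + 1))
    (hσ : Function.Injective σ) (hτ : Function.Injective τ)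
    (hd : ∀ i i', σ i ≠ τ i') :
    Disjoint (Set.range (linEmb k σ hσ)) (Set.range (linEmb k τ hτ)) := by
  rw [Set.disjoint_left]
  rintro z ⟨x, rfl⟩ ⟨y, hy⟩
  obtain ⟨j, hj⟩ := exists_mem_basicOpen k (linEmb k σ hσ x)
  by_cases h : ∃ i, σ i = j
  · obtain ⟨i, rfl⟩ := h
    have h' : ¬ ∃ i', τ i' = σ i := fun ⟨i', hi'⟩ => hd i i' hi'.symm
    have hbot := linEmb_preimage_basicOpen k τ hτ (σ i) h'
    have : y ∈ linEmb k τ hτ ⁻¹ᵁ Proj.basicOpen (CohB1.polyGrading N k) (MvPolynomial.X (σ i)) := by
      show linEmb k τ hτ y ∈ Proj.basicOpen (CohB1.polyGrading N k) (MvPolynomial.X (σ i))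
      rw [hy]; exact hj
    rw [hbot] at this
    exact this
  · have hbot := linEmb_preimage_basicOpen k σ hσ j h
    have : x ∈ linEmb k σ hσ ⁻¹ᵁ Proj.basicOpen (CohB1.polyGrading N k) (MvPolynomial.X j) := hj
    rw [hbot] at this
    exact this

end Groth.Agent.Lib.Helper69.LinEmb
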