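import Mathlib
import Groth.Agent.Lib.Helper69.PnChart

set_option autoImplicit false
universe u v
open MvPolynomial

namespace Groth.Agent.Lib.Helper69.MulRho
open Groth.Agent.Lib.Helper69.PnChart

variable {n : ℕ} {R : Type u} {B : Type v} [CommRing R] [CommRing B]

/-- the product of the linear forms `x_i t + y_i`. -/
noncomputable def prodPoly (x y : Fin n → B) : Polynomial B :=
  ∏ i, (Polynomial.C (x i) * Polynomial.X + Polynomial.C (y i))

theorem natDegree_prodPoly_le (x y : Fin n → B) : (prodPoly x y).natDegree ≤ n := by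
  unfold prodPoly
  refine (Polynomial.natDegree_prod_le _ _).trans ?_
  have h1 : ∀ i : Fin n, (Polynomial.C (x i) * Polynomial.X + Polynomial.C (y i) : Polynomial B).natDegree ≤ 1 := by
    intro i
    refine (Polynomial.natDegree_add_le _ _).trans ?_
    rw [max_le_iff]
    exact ⟨(Polynomial.natDegree_C_mul_le _ _).trans Polynomial.natDegree_X_le, by simp⟩
  calc ∑ i : Fin n, (Polynomial.C (x i) * Polynomial.X + Polynomial.C (y i) : Polynomial B).natDegree
      ≤ ∑ _i : Fin n, 1 := Finset.sum_le_sum fun i _ => h1 i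
    _ = n := by simp

theorem prodPoly_map {C : Type*} [CommRing C] (φ : B →+* C) (x y : Fin n → B) :
    (prodPoly x y).map φ = prodPoly (fun i => φ (x i)) (fun i => φ (y i)) := by
  simp [prodPoly, Polynomial.map_prod]

theorem prodPoly_smul (d x y : Fin n → B) :
    prodPoly (fun i => d i * x i) (fun i => d i * y i) = Polynomial.C (∏ i, d i) * prodPoly x y := by
  unfold prodPoly
  rw [map_prod, ← Finset.prod_mul_distrib]
  refine Finset.prod_congr rfl fun i _ => ?_
  simp only [map_mul]
  ring

theorem prodPoly_ne_zero [IsDomain B] (x y : Fin n → B) (h : ∀ i, x i ≠ 0 ∨ y i ≠ 0) :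
    prodPoly x y ≠ 0 := by
  unfold prodPoly
  rw [Finset.prod_ne_zero_iff]
  intro i _ h0
  have h1 := congrArg (fun p => Polynomial.coeff p 1) h0
  have h2 := congrArg (fun p => Polynomial.coeff p 0) h0
  simp at h1 h2
  rcases h i with h | h
  · exact h h1
  · exact h h2

/-- the ring map `R[T_0..T_n] → B`, `T_j ↦ coeff_j ∏ (x_i t + y_i)`. -/
noncomputable def mulRho (c : R →+* B) (x y : Fin n → B) : MvPolynomial (Fin (n + 1)) R →+* B :=
  eval₂Hom c (fun j => (prodPoly x y).coeff j)

@[simp] theorem mulRho_X (c : R →+* B) (x y : Fin n → B) (j : Fin (n + 1)) :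
    mulRho c x y (X j) = (prodPoly x y).coeff j := by
  simp [mulRho]

@[simp] theorem mulRho_C (c : R →+* B) (x y : Fin n → B) (r : R) :
    mulRho c x y (C r) = c r := by
  simp [mulRho]

theorem mulRho_comp {C : Type*} [CommRing C] (φ : B →+* C) (c : R →+* B) (x y : Fin n → B) :
    φ.comp (mulRho c x y) = mulRho (φ.comp c) (fun i => φ (x i)) (fun i => φ (y i)) := by
  apply MvPolynomial.ringHom_ext
  · intro r; simp
  · intro j
    simp only [RingHom.comp_apply, mulRho_X, ← prodPoly_map, Polynomial.coeff_map]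

theorem mulRho_twist (c : R →+* B) (d x y : Fin n → B) {k : ℕ} {s : MvPolynomial (Fin (n + 1)) R}
    (hs : s.IsHomogeneous k) :
    mulRho c (fun i => d i * x i) (fun i => d i * y i) s = (∏ i, d i) ^ k * mulRho c x y s := by
  have h1 : mulRho c (fun i => d i * x i) (fun i => d i * y i) s =
      eval₂ c (fun j : Fin (n + 1) => (prodPoly x y).coeff j * ∏ i, d i) s := by
    simp only [mulRho, coe_eval₂Hom]
    congr 1
    funext j
    rw [prodPoly_smul, Polynomial.coeff_C_mul, mul_comm]
  rw [h1, eval₂_mul_of_isHomogeneous c _ _ hs, mul_comm]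
  rfl

theorem exists_mulRho_X_ne_zero [IsDomain B] (c : R →+* B) (x y : Fin n → B)
    (h : ∀ i, x i ≠ 0 ∨ y i ≠ 0) : ∃ j : Fin (n + 1), mulRho c x y (X j) ≠ 0 := by
  have hne := prodPoly_ne_zero x y h
  obtain ⟨m, hm⟩ : ∃ m, (prodPoly x y).coeff m ≠ 0 := by
    by_contra hcon
    push Not at hcon
    exact hne (Polynomial.ext fun m => by simpa using hcon m)
  have hmn : m ≤ n := by
    by_contra hlt
    exact hm (Polynomial.coeff_eq_zero_of_natDegree_lt
      (lt_of_le_of_lt (natDegree_prodPoly_le x y) (not_le.mp hlt)))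
  exact ⟨⟨m, Nat.lt_succ_of_le hmn⟩, by simpa using hm⟩

end Groth.Agent.Lib.Helper69.MulRho
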