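import Mathlib
import Groth.Agent.Lib.Helper69.MulRho
import Groth.Agent.Lib.Helper17.UPFromRing
import Groth.Agent.Lib.Helper96.ProjSpaceGlobal

/-!
# Quasi-finiteness of the chart ring maps of the multiplication map `(P¹)ⁿ → Pⁿ` (helper69)
-/

set_option autoImplicit false
universe u v
open TensorProduct HomogeneousLocalization

namespace Groth.Agent.Lib.Helper69.MulQF
open Groth.Agent.Lib.Helper69.MulRho Groth.Agent.Lib.Helper17.UPFromRing
  Groth.Agent.Lib.Helper96.ProjSpaceGlobal

/-- an algebra generated by finitely many elements, each a root of a polynomial with a unit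
coefficient, is quasi-finite. -/
theorem quasiFinite_of_adjoin {R : Type u} {S : Type v} [CommRing R] [CommRing S] [Algebra R S]
    (s : Set S) (hs : s.Finite) (hgen : Algebra.adjoin R s = ⊤)
    (h : ∀ x ∈ s, ∃ P : Polynomial R, (∃ k, IsUnit (P.coeff k)) ∧ Polynomial.aeval x P = 0) :
    Algebra.QuasiFinite R S := by
  refine ⟨fun P hP => ?_⟩
  have : Algebra.FiniteType R S := ⟨⟨hs.toFinset, by simpa using hgen⟩⟩
  have : Algebra.FiniteType P.ResidueField (P.Fiber S) := inferInstance
  have hmem : ∀ x : S, IsIntegral P.ResidueField ((1 : P.ResidueField) ⊗ₜ[R] x : P.Fiber S) := by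
    intro x
    have hx : x ∈ Algebra.adjoin R s := by rw [hgen]; trivial
    induction hx using Algebra.adjoin_induction with
    | mem x hx =>
      obtain ⟨Q, ⟨k, hk⟩, hQ⟩ := h x hx
      apply IsAlgebraic.isIntegral
      refine ⟨Q.map (algebraMap R P.ResidueField), ?_, ?_⟩
      · intro h0
        have h1 := congrArg (fun p => Polynomial.coeff p k) h0
        simp only [Polynomial.coeff_map, Polynomial.coeff_zero] at h1
        exact (hk.map (algebraMap R P.ResidueField)).ne_zero h1
      · rw [Polynomial.aeval_map_algebraMap]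
        have h2 := Polynomial.aeval_algHom_apply
          (Algebra.TensorProduct.includeRight : S →ₐ[R] P.ResidueField ⊗[R] S) x Q
        rw [hQ, map_zero] at h2
        exact h2
    | algebraMap r =>
      have h1 := (Algebra.TensorProduct.includeRight : S →ₐ[R] P.ResidueField ⊗[R] S).commutes r
      have h2 : ((1 : P.ResidueField) ⊗ₜ[R] (algebraMap R S r) : P.Fiber S) =
          algebraMap P.ResidueField (P.Fiber S) (algebraMap R P.ResidueField r) := by
        rw [← IsScalarTower.algebraMap_apply R P.ResidueField (P.Fiber S)]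
        exact h1
      rw [h2]
      exact isIntegral_algebraMap
    | add x y _ _ hx hy =>
      rw [TensorProduct.tmul_add]; exact hx.add hy
    | mul x y _ _ hx hy =>
      have : ((1 : P.ResidueField) ⊗ₜ[R] (x * y) : P.Fiber S) =
          ((1 : P.ResidueField) ⊗ₜ[R] x) * ((1 : P.ResidueField) ⊗ₜ[R] y) := by
        rw [Algebra.TensorProduct.tmul_mul_tmul, mul_one]
      rw [this]; exact hx.mul hy
  have : Algebra.IsIntegral P.ResidueField (P.Fiber S) := by
    refine ⟨fun t => ?_⟩
    induction t using TensorProduct.induction_on with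
    | zero => exact isIntegral_zero
    | tmul a x =>
      have : (a ⊗ₜ[R] x : P.Fiber S) = a • ((1 : P.ResidueField) ⊗ₜ[R] x) := by
        rw [TensorProduct.smul_tmul', smul_eq_mul, mul_one]
      rw [this]
      exact (hmem x).smul a
    | add t t' ht ht' => exact ht.add ht'
  exact Algebra.IsIntegral.finite

section identity
variable {n : ℕ} {C : Type v} [CommRing C]

theorem sum_coeff_prodPoly (x y : Fin n → C) (s r : C) :
    ∑ k ∈ Finset.range (n + 1), (prodPoly x y).coeff k * s ^ k * r ^ (n - k) =
      ∏ i, (x i * s + y i * r) := by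
  have h0 : ∀ i : Fin n, (Polynomial.C (x i) * Polynomial.X + Polynomial.C (y i) :
      Polynomial C).natDegree ≤ 1 := by
    intro i
    refine (Polynomial.natDegree_add_le _ _).trans ?_
    rw [max_le_iff]
    exact ⟨(Polynomial.natDegree_C_mul_le _ _).trans Polynomial.natDegree_X_le, by simp⟩
  have h1 := Polynomial.homogenize_finsetProd (s := (Finset.univ : Finset (Fin n)))
    (p := fun i : Fin n => Polynomial.C (x i) * Polynomial.X + Polynomial.C (y i))
    (n := fun _ => 1) (fun i _ => h0 i)
  have hsum : (∑ _i : Fin n, 1) = n := by simp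
  rw [hsum] at h1
  have h2 : ∀ i : Fin n, Polynomial.homogenize
      (Polynomial.C (x i) * Polynomial.X + Polynomial.C (y i)) 1 =
      MvPolynomial.C (x i) * MvPolynomial.X 0 + MvPolynomial.C (y i) * MvPolynomial.X 1 := by
    intro i
    rw [Polynomial.homogenize_add, Polynomial.homogenize_C_mul,
      Polynomial.homogenize_X one_ne_zero, Polynomial.homogenize_C]
    simp
  simp only [h2] at h1
  have h3 := congrArg (MvPolynomial.eval ![s, r]) h1
  rw [map_prod] at h3
  simp only [map_add, map_mul, MvPolynomial.eval_C, MvPolynomial.eval_X, Matrix.cons_val_zero,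
    Matrix.cons_val_one] at h3
  rw [← h3]
  unfold prodPoly Polynomial.homogenize
  rw [map_sum, Finset.Nat.sum_antidiagonal_eq_sum_range_succ_mk]
  refine Finset.sum_congr rfl fun k hk => ?_
  rw [MvPolynomial.eval_monomial]
  simp [Finsupp.prod_fintype, Fin.prod_univ_two, mul_assoc]

end identity

section core
variable {R : Type u} [CommRing R] {n : ℕ} {C : Type v} [CommRing C] (c : R →+* C)
  (x y : Fin n → C) (j : Fin (n + 1))

/-- `w k = T_k / T_j`. -/
noncomputable def w (k : ℕ) :
    Away (CohB1.polyGrading n R) (MvPolynomial.X j : MvPolynomial (Fin (n + 1)) R) :=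
  if h : k < n + 1 then Away.mk (CohB1.polyGrading n R) (X_mem j) 1 (MvPolynomial.X ⟨k, h⟩)
    (by simpa using X_mem (R := R) ⟨k, h⟩) else 0

theorem w_self : w (R := R) j (j : ℕ) = 1 := by
  unfold w
  rw [dif_pos j.2]
  have h := mk_eq_toAway (R := R) j 1 (MvPolynomial.X j) (by simpa using X_mem (R := R) j) 1
    (by simp)
  rw [map_one] at h
  exact h

variable (hu : IsUnit (mulRho c x y (MvPolynomial.X j)))

theorem psi_w (k : ℕ) (hk : k < n + 1) :
    awayLift (CohB1.polyGrading n R) (mulRho c x y) (MvPolynomial.X j) hu (w j k) *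
      (prodPoly x y).coeff j = (prodPoly x y).coeff k := by
  unfold w
  rw [dif_pos hk]
  have h := awayLift_mk (CohB1.polyGrading n R) (mulRho c x y) (MvPolynomial.X j) hu (X_mem j) 1
    (MvPolynomial.X ⟨k, hk⟩) (by simpa using X_mem (R := R) ⟨k, hk⟩)
  rw [pow_one, mulRho_X, mulRho_X] at h
  exact h

/-- a polynomial with a unit coefficient killing `g`, when `g ^ e k = y_i ^ k * x_i ^ (n - k)`. -/
theorem exists_poly (i : Fin n) (g : C) (e : ℕ → ℕ)
    (he : ∀ k ≤ n, ∀ k' ≤ n, e k = e k' → k = k')
    (hg : ∀ k ≤ n, g ^ e k = y i ^ k * x i ^ (n - k)) :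
    ∃ P : Polynomial (Away (CohB1.polyGrading n R)
        (MvPolynomial.X j : MvPolynomial (Fin (n + 1)) R)),
      (∃ k, IsUnit (P.coeff k)) ∧
        P.eval₂ (awayLift (CohB1.polyGrading n R) (mulRho c x y) (MvPolynomial.X j) hu) g = 0 := by
  refine ⟨∑ k ∈ Finset.range (n + 1), Polynomial.monomial (e k) ((-1) ^ k * w j k),
    ⟨e j, ?_⟩, ?_⟩
  · rw [Polynomial.finsetSum_coeff]
    have : ∀ k ∈ Finset.range (n + 1),
        (Polynomial.monomial (e k) ((-1) ^ k * w (R := R) j k)).coeff (e j) =
          if k = (j : ℕ) then (-1) ^ (j : ℕ) * w (R := R) j (j : ℕ) else 0 := by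
      intro k hk
      rw [Polynomial.coeff_monomial]
      have hk' : k ≤ n := Nat.lt_succ_iff.mp (Finset.mem_range.mp hk)
      by_cases hkj : k = (j : ℕ)
      · rw [if_pos hkj, hkj, if_pos rfl]
      · rw [if_neg hkj, if_neg]
        intro h
        exact hkj (he k hk' j (Nat.lt_succ_iff.mp j.2) h)
    rw [Finset.sum_congr rfl this, Finset.sum_ite_eq' _ (j : ℕ), if_pos (Finset.mem_range.mpr j.2),
      w_self, mul_one]
    exact IsUnit.pow _ (IsUnit.neg (isUnit_one (M := Away (CohB1.polyGrading n R)
      (MvPolynomial.X j : MvPolynomial (Fin (n + 1)) R))))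
  · apply hu.mul_left_injective
    simp only
    rw [zero_mul, Polynomial.eval₂_finsetSum, Finset.sum_mul, mulRho_X]
    have h1 := sum_coeff_prodPoly x y (-(y i)) (x i)
    have h2 : ∏ l, (x l * -(y i) + y l * x i) = 0 :=
      Finset.prod_eq_zero (Finset.mem_univ i) (by ring)
    rw [h2] at h1
    rw [← h1]
    refine Finset.sum_congr rfl fun k hk => ?_
    have hk' : k < n + 1 := Finset.mem_range.mp hk
    rw [Polynomial.eval₂_monomial, map_mul, map_pow, map_neg, map_one,
      hg k (Nat.lt_succ_iff.mp hk'), ← psi_w c x y j hu k hk', neg_pow (y i)]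
    ring

theorem coeff_prodPoly_mem (k : ℕ) :
    (prodPoly x y).coeff k ∈ Subring.closure (Set.range x ∪ Set.range y) := by
  set K := Subring.closure (Set.range x ∪ Set.range y) with hK
  let x' : Fin n → K := fun i => ⟨x i, Subring.subset_closure (Or.inl ⟨i, rfl⟩)⟩
  let y' : Fin n → K := fun i => ⟨y i, Subring.subset_closure (Or.inr ⟨i, rfl⟩)⟩
  have h := prodPoly_map K.subtype x' y'
  have h2 : prodPoly x y = (prodPoly x' y').map K.subtype := h.symm
  rw [h2, Polynomial.coeff_map]
  exact ((prodPoly x' y').coeff k).2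

theorem quasiFinite_awayLift (hxy : ∀ i, x i = 1 ∨ y i = 1)
    (hgen : ∀ a : C, ∃ m : ℕ, a * (mulRho c x y (MvPolynomial.X j)) ^ m ∈
      Subring.closure (Set.range x ∪ Set.range y)) :
    (awayLift (CohB1.polyGrading n R) (mulRho c x y) (MvPolynomial.X j) hu).QuasiFinite := by
  set ψ := awayLift (CohB1.polyGrading n R) (mulRho c x y) (MvPolynomial.X j) hu with hψ
  let _ : Algebra (Away (CohB1.polyGrading n R)
    (MvPolynomial.X j : MvPolynomial (Fin (n + 1)) R)) C := ψ.toAlgebra
  change Algebra.QuasiFinite (Away (CohB1.polyGrading n R)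
    (MvPolynomial.X j : MvPolynomial (Fin (n + 1)) R)) C
  let S₁ : Subalgebra (Away (CohB1.polyGrading n R)
    (MvPolynomial.X j : MvPolynomial (Fin (n + 1)) R)) C :=
    Algebra.adjoin _ (Set.range x ∪ Set.range y)
  have hev : ∀ (g : S₁) (P : Polynomial (Away (CohB1.polyGrading n R)
      (MvPolynomial.X j : MvPolynomial (Fin (n + 1)) R))), P.eval₂ ψ (g : C) = 0 →
      Polynomial.aeval g P = 0 := by
    intro g P hP
    apply Subtype.ext
    have h1 := Polynomial.aeval_algHom_apply S₁.val g P
    rw [Polynomial.aeval_def] at h1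
    exact h1.symm.trans hP
  have hS₁ : Algebra.QuasiFinite (Away (CohB1.polyGrading n R)
      (MvPolynomial.X j : MvPolynomial (Fin (n + 1)) R)) S₁ := by
    apply quasiFinite_of_adjoin ((Subtype.val : S₁ → C) ⁻¹' (Set.range x ∪ Set.range y))
    · exact ((Set.finite_range x).union (Set.finite_range y)).preimage
        Subtype.val_injective.injOn
    · exact Algebra.adjoin_adjoin_coe_preimage
    · intro g hg
      have hone : g = 1 → ∃ P : Polynomial (Away (CohB1.polyGrading n R)
          (MvPolynomial.X j : MvPolynomial (Fin (n + 1)) R)),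
          (∃ k, IsUnit (P.coeff k)) ∧ Polynomial.aeval g P = 0 := by
        intro h1
        refine ⟨Polynomial.X - 1, ⟨1, by
          rw [Polynomial.coeff_sub, Polynomial.coeff_X_one, Polynomial.coeff_one]; simp⟩, ?_⟩
        simp [h1]
      rcases hg with ⟨i, hi⟩ | ⟨i, hi⟩
      · rcases hxy i with h1 | h1
        · exact hone (Subtype.ext (hi.symm.trans h1))
        · obtain ⟨P, hPu, hP⟩ := exists_poly c x y j hu i (x i) (fun k => n - k)
            (by intro k hk k' hk' h; omega) (by intro k hk; rw [h1]; simp)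
          refine ⟨P, hPu, hev g P ?_⟩
          rw [← hi]; exact hP
      · rcases hxy i with h1 | h1
        · obtain ⟨P, hPu, hP⟩ := exists_poly c x y j hu i (y i) (fun k => k)
            (by intro k hk k' hk' h; exact h) (by intro k hk; rw [h1]; simp)
          refine ⟨P, hPu, hev g P ?_⟩
          rw [← hi]; exact hP
        · exact hone (Subtype.ext (hi.symm.trans h1))
  have hKle : ∀ a ∈ Subring.closure (Set.range x ∪ Set.range y), a ∈ S₁ := by
    intro a ha
    have : Subring.closure (Set.range x ∪ Set.range y) ≤ S₁.toSubring :=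
      Subring.closure_le.mpr Algebra.subset_adjoin
    exact this ha
  have hfj : mulRho c x y (MvPolynomial.X j) ∈ S₁ := by
    rw [mulRho_X]; exact hKle _ (coeff_prodPoly_mem x y _)
  refine Algebra.QuasiFinite.of_forall_exists_mul_mem_range S₁.val (fun a => ?_)
  obtain ⟨m, hm⟩ := hgen a
  refine ⟨⟨_, S₁.pow_mem hfj m⟩, hu.pow m, ?_⟩
  exact ⟨⟨_, hKle _ hm⟩, rfl⟩

end core

end Groth.Agent.Lib.Helper69.MulQF
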