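import Mathlib
import Groth.Agent.Lib.Helper17.UPFromRing

set_option autoImplicit false
universe u
open AlgebraicGeometry CategoryTheory Limits TopologicalSpace Opposite HomogeneousLocalization

namespace Groth.Agent.Lib.Helper69.ProjFrame
open Groth.Agent.Lib.Helper17.OFrac Groth.Agent.Lib.Helper17.UPChart

variable {R A : Type u} [CommRing R] [CommRing A] [Algebra R A] (𝒜 : ℕ → Submodule R A)
  [GradedAlgebra 𝒜]

theorem dehom_twist {t t' : A} (ht : t ∈ 𝒜 1) (ht' : t' ∈ 𝒜 1) (V : (Proj 𝒜).Opens)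
    (hV : V ≤ Proj.basicOpen 𝒜 t) (hV' : V ≤ Proj.basicOpen 𝒜 t') {k : ℕ} {s : A} (hs : s ∈ 𝒜 k) :
    (Proj 𝒜).presheaf.map (homOfLE hV').op (dehom 𝒜 ht' s) =
      ((Proj 𝒜).presheaf.map (homOfLE hV').op (dehom 𝒜 ht' t)) ^ k *
        (Proj 𝒜).presheaf.map (homOfLE hV).op (dehom 𝒜 ht s) := by
  have G1 : Good 𝒜 (Proj.basicOpen 𝒜 t') k s (t' ^ k) := good_chart 𝒜 ht' hs
  have G2 : Good 𝒜 (Proj.basicOpen 𝒜 t') 1 t (t' ^ 1) := good_chart 𝒜 ht' ht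
  have G3 : Good 𝒜 (Proj.basicOpen 𝒜 t) k s (t ^ k) := good_chart 𝒜 ht hs
  rw [dehom_of_mem 𝒜 ht' hs, dehom_of_mem 𝒜 ht' ht, dehom_of_mem 𝒜 ht hs,
    res_oFrac 𝒜 (homOfLE hV') G1, res_oFrac 𝒜 (homOfLE hV') G2, res_oFrac 𝒜 (homOfLE hV) G3,
    oFrac_pow 𝒜 (G2.mono hV') k, oFrac_mul 𝒜 ((G2.mono hV').pow k) (G3.mono hV)]
  refine oFrac_eq 𝒜 (G1.mono hV') (((G2.mono hV').pow k).mul (G3.mono hV)) ?_
  ring

variable {X : Scheme.{u}} (p : X ⟶ Proj 𝒜)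

/-- the pullback along `p` of dehomogenisation with respect to `t`. -/
noncomputable def lam {t : A} (ht : t ∈ 𝒜 1) (W : X.Opens)
    (hW : W ≤ p ⁻¹ᵁ Proj.basicOpen 𝒜 t) : A →+* Γ(X, W) :=
  (p.appLE (Proj.basicOpen 𝒜 t) W hW).hom.comp (dehom 𝒜 ht)

theorem lam_res {t : A} (ht : t ∈ 𝒜 1) {W W' : X.Opens} (h : W' ≤ W)
    (hW : W ≤ p ⁻¹ᵁ Proj.basicOpen 𝒜 t) :
    (X.presheaf.map (homOfLE h).op).hom.comp (lam 𝒜 p ht W hW) = lam 𝒜 p ht W' (h.trans hW) := by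
  unfold lam
  rw [← RingHom.comp_assoc, ← CommRingCat.hom_comp, Scheme.Hom.appLE_map]

theorem lam_self {t : A} (ht : t ∈ 𝒜 1) (W : X.Opens)
    (hW : W ≤ p ⁻¹ᵁ Proj.basicOpen 𝒜 t) : lam 𝒜 p ht W hW t = 1 := by
  unfold lam
  have G : Good 𝒜 (Proj.basicOpen 𝒜 t) 1 t (t ^ 1) := good_chart 𝒜 ht ht
  rw [RingHom.comp_apply, dehom_of_mem 𝒜 ht ht]
  have : oFrac 𝒜 (Proj.basicOpen 𝒜 t) 1 t (t ^ 1) = 1 := by
    have G' : Good 𝒜 (Proj.basicOpen 𝒜 t) 1 t t := by simpa using G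
    rw [pow_one]; exact oFrac_self 𝒜 G'
  rw [this, map_one]

theorem lam_twist {t t' : A} (ht : t ∈ 𝒜 1) (ht' : t' ∈ 𝒜 1) (W : X.Opens)
    (hW : W ≤ p ⁻¹ᵁ Proj.basicOpen 𝒜 t) (hW' : W ≤ p ⁻¹ᵁ Proj.basicOpen 𝒜 t')
    {k : ℕ} {s : A} (hs : s ∈ 𝒜 k) :
    lam 𝒜 p ht' W hW' s = (lam 𝒜 p ht' W hW' t) ^ k * lam 𝒜 p ht W hW s := by
  set V : (Proj 𝒜).Opens := Proj.basicOpen 𝒜 t ⊓ Proj.basicOpen 𝒜 t' with hVdef
  have hWV : W ≤ p ⁻¹ᵁ V := by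
    rw [hVdef, Scheme.Hom.preimage_inf]; exact le_inf hW hW'
  have e1 : ∀ a, (p.appLE (Proj.basicOpen 𝒜 t') W hW').hom a =
      (p.appLE V W hWV).hom ((Proj 𝒜).presheaf.map (homOfLE (inf_le_right : V ≤ _)).op a) := by
    intro a
    rw [← CommRingCat.comp_apply, Scheme.Hom.map_appLE]
  have e2 : ∀ a, (p.appLE (Proj.basicOpen 𝒜 t) W hW).hom a =
      (p.appLE V W hWV).hom ((Proj 𝒜).presheaf.map (homOfLE (inf_le_left : V ≤ _)).op a) := by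
    intro a
    rw [← CommRingCat.comp_apply, Scheme.Hom.map_appLE]
  unfold lam
  simp only [RingHom.comp_apply]
  rw [e1, e1, e2, dehom_twist 𝒜 ht ht' V inf_le_left inf_le_right hs, map_mul, map_pow]

end Groth.Agent.Lib.Helper69.ProjFrame
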