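import Mathlib
import Groth.Agent.Lib.Helper69.MulRho
import Groth.Agent.Lib.Helper69.ProjFrame
import Groth.Agent.Lib.Helper17.UPGlueHom
import Groth.Agent.Lib.Helper96.ProjSpaceGlobal

set_option autoImplicit false
universe u
open AlgebraicGeometry CategoryTheory Limits TopologicalSpace Opposite HomogeneousLocalization

namespace Groth.Agent.Lib.Helper69.MulMap
open Groth.Agent.Lib.Helper69.MulRho Groth.Agent.Lib.Helper69.ProjFrame
  Groth.Agent.Lib.Helper96.ProjSpaceGlobal Groth.Agent.Lib.Helper17.UPFromRing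

/-- the base ring. -/
abbrev R0 : Type u := ULift.{u} ℤ

/-- the canonical ring map from the base ring. -/
def cZ (B : Type u) [CommRing B] : R0.{u} →+* B :=
  (Int.castRingHom B).comp ULift.ringEquiv.toRingHom

theorem ringHom_R0_ext {B : Type u} [CommRing B] (φ ψ : R0.{u} →+* B) : φ = ψ := by
  have h : φ.comp (ULift.ringEquiv.symm : ℤ ≃+* R0.{u}).toRingHom =
      ψ.comp (ULift.ringEquiv.symm : ℤ ≃+* R0.{u}).toRingHom := RingHom.ext_int _ _
  apply RingHom.ext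
  intro r
  have h2 := congrArg (fun f : ℤ →+* B => f (ULift.ringEquiv r)) h
  simp only [RingHom.comp_apply, RingEquiv.toRingHom_eq_coe, RingHom.coe_coe,
    RingEquiv.symm_apply_apply] at h2
  exact h2

variable {n : ℕ} {X : Scheme.{u}} (p : Fin n → (X ⟶ Proj (CohB1.polyGrading 1 R0.{u})))

/-- the standard charts of `P¹`. -/
noncomputable def D (b : Fin (1 + 1)) : (Proj (CohB1.polyGrading 1 R0.{u})).Opens :=
  Proj.basicOpen (CohB1.polyGrading 1 R0.{u}) (MvPolynomial.X b)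

theorem exists_mem_D (y : Proj (CohB1.polyGrading 1 R0.{u})) : ∃ b, y ∈ D b := by
  obtain ⟨i, z, hz⟩ := (cov 1 R0.{u}).openCover.exists_eq y
  refine ⟨i, ?_⟩
  have hop := Proj.opensRange_awayι (CohB1.polyGrading 1 R0.{u})
    (MvPolynomial.X i : MvPolynomial (Fin (1 + 1)) R0.{u}) (X_mem i) one_pos
  show y ∈ Proj.basicOpen (CohB1.polyGrading 1 R0.{u}) (MvPolynomial.X i)
  rw [← hop]
  exact ⟨z, hz⟩

/-- the open where `p i` lands in the chart `u i` for all `i`. -/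
def Wu (u : Fin n → Fin (1 + 1)) : X.Opens :=
  ⟨{x | ∀ i, p i x ∈ D (u i)}, by
    have : {x : X | ∀ i, p i x ∈ D (u i)} = ⋂ i, (((p i) ⁻¹ᵁ D (u i) : X.Opens) : Set X) := by
      ext x; simp
    rw [this]
    exact isOpen_iInter_of_finite fun i => ((p i) ⁻¹ᵁ D (u i)).2⟩

theorem Wu_le (u : Fin n → Fin (1 + 1)) (i : Fin n) : Wu p u ≤ (p i) ⁻¹ᵁ D (u i) :=
  fun _ hx => hx i

theorem exists_mem_Wu (x : X) : ∃ u, x ∈ Wu p u := by
  choose u hu using fun i => exists_mem_D (p i x)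
  exact ⟨u, hu⟩

/-- the frame of `p i` on an open `W ≤ Wu u`. -/
noncomputable def lamW (u : Fin n → Fin (1 + 1)) (W : X.Opens) (hW : W ≤ Wu p u) (i : Fin n) :
    MvPolynomial (Fin (1 + 1)) R0.{u} →+* Γ(X, W) :=
  lam (CohB1.polyGrading 1 R0.{u}) (p i) (X_mem (u i)) W (hW.trans (Wu_le p u i))

/-- the ring map `ℤ[T_0..T_n] → Γ(X, W)` on an open `W ≤ Wu u`. -/
noncomputable def rhoW (u : Fin n → Fin (1 + 1)) (W : X.Opens) (hW : W ≤ Wu p u) :
    MvPolynomial (Fin (n + 1)) R0.{u} →+* Γ(X, W) :=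
  mulRho (cZ Γ(X, W)) (fun i => lamW p u W hW i (MvPolynomial.X 0))
    (fun i => lamW p u W hW i (MvPolynomial.X 1))

theorem rhoW_res (u : Fin n → Fin (1 + 1)) {W W' : X.Opens} (h : W' ≤ W) (hW : W ≤ Wu p u) :
    (X.presheaf.map (homOfLE h).op).hom.comp (rhoW p u W hW) = rhoW p u W' (h.trans hW) := by
  unfold rhoW
  rw [mulRho_comp]
  congr 1
  · exact ringHom_R0_ext _ _
  · funext i
    exact congrArg (fun φ : MvPolynomial (Fin (1 + 1)) R0.{u} →+* Γ(X, W') => φ (MvPolynomial.X 0))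
      (lam_res (CohB1.polyGrading 1 R0.{u}) (p i) (X_mem (u i)) h (hW.trans (Wu_le p u i)))
  · funext i
    exact congrArg (fun φ : MvPolynomial (Fin (1 + 1)) R0.{u} →+* Γ(X, W') => φ (MvPolynomial.X 1))
      (lam_res (CohB1.polyGrading 1 R0.{u}) (p i) (X_mem (u i)) h (hW.trans (Wu_le p u i)))

/-- the transition unit between two frames. -/
noncomputable def dW (u u' : Fin n → Fin (1 + 1)) (W : X.Opens) (hW' : W ≤ Wu p u') (i : Fin n) :
    Γ(X, W) := lamW p u' W hW' i (MvPolynomial.X (u i))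

theorem lamW_twist (u u' : Fin n → Fin (1 + 1)) (W : X.Opens) (hW : W ≤ Wu p u) (hW' : W ≤ Wu p u')
    (i : Fin n) (b : Fin (1 + 1)) :
    lamW p u' W hW' i (MvPolynomial.X b) = dW p u u' W hW' i * lamW p u W hW i (MvPolynomial.X b) := by
  have h := lam_twist (CohB1.polyGrading 1 R0.{u}) (p i) (X_mem (u i)) (X_mem (u' i)) W
    (hW.trans (Wu_le p u i)) (hW'.trans (Wu_le p u' i)) (k := 1) (X_mem b)
  rw [pow_one] at h
  exact h

theorem dW_mul (u u' : Fin n → Fin (1 + 1)) (W : X.Opens) (hW : W ≤ Wu p u) (hW' : W ≤ Wu p u')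
    (i : Fin n) : dW p u u' W hW' i * dW p u' u W hW i = 1 := by
  have h := lamW_twist p u u' W hW hW' i (u' i)
  have h1 : lamW p u' W hW' i (MvPolynomial.X (u' i)) = 1 :=
    lam_self (CohB1.polyGrading 1 R0.{u}) (p i) (X_mem (u' i)) W _
  rw [h1] at h
  exact h.symm

theorem isUnit_prod_dW (u u' : Fin n → Fin (1 + 1)) (W : X.Opens) (hW : W ≤ Wu p u)
    (hW' : W ≤ Wu p u') : IsUnit (∏ i, dW p u u' W hW' i) := by
  refine IsUnit.of_mul_eq_one (∏ i, dW p u' u W hW i) ?_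
  rw [← Finset.prod_mul_distrib]
  exact Finset.prod_eq_one fun i _ => dW_mul p u u' W hW hW' i

theorem rhoW_twist (u u' : Fin n → Fin (1 + 1)) (W : X.Opens) (hW : W ≤ Wu p u) (hW' : W ≤ Wu p u')
    (k : ℕ) (s : MvPolynomial (Fin (n + 1)) R0.{u}) (hs : s ∈ CohB1.polyGrading n R0.{u} k) :
    rhoW p u' W hW' s = (∏ i, dW p u u' W hW' i) ^ k * rhoW p u W hW s := by
  unfold rhoW
  have hx : (fun i => lamW p u' W hW' i (MvPolynomial.X 0)) =
      fun i => dW p u u' W hW' i * lamW p u W hW i (MvPolynomial.X 0) :=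
    funext fun i => lamW_twist p u u' W hW hW' i 0
  have hy : (fun i => lamW p u' W hW' i (MvPolynomial.X 1)) =
      fun i => dW p u u' W hW' i * lamW p u W hW i (MvPolynomial.X 1) :=
    funext fun i => lamW_twist p u u' W hW hW' i 1
  rw [hx, hy]
  exact mulRho_twist _ _ _ _ hs

/-- the `j`-th coefficient section on `Wu u`. -/
noncomputable def fU (u : Fin n → Fin (1 + 1)) (j : Fin (n + 1)) : Γ(X, Wu p u) :=
  rhoW p u (Wu p u) le_rfl (MvPolynomial.X j)

/-- the open `W_{u,j}` where the `j`-th coefficient is invertible. -/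
noncomputable def Wuj (k : (Fin n → Fin (1 + 1)) × Fin (n + 1)) : X.Opens :=
  X.basicOpen (fU p k.1 k.2)

theorem Wuj_le (k : (Fin n → Fin (1 + 1)) × Fin (n + 1)) : Wuj p k ≤ Wu p k.1 :=
  X.basicOpen_le _

theorem isUnit_rhoW_of_le (k : (Fin n → Fin (1 + 1)) × Fin (n + 1)) (W : X.Opens)
    (hW : W ≤ Wuj p k) :
    IsUnit (rhoW p k.1 W (hW.trans (Wuj_le p k)) (MvPolynomial.X k.2)) := by
  have h1 := rhoW_res p k.1 (hW.trans (Wuj_le p k)) (le_refl (Wu p k.1))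
  have h2 : rhoW p k.1 W (hW.trans (Wuj_le p k)) (MvPolynomial.X k.2) =
      (X.presheaf.map (homOfLE (hW.trans (Wuj_le p k))).op).hom (fU p k.1 k.2) := by
    rw [← h1]; rfl
  rw [h2]
  have h3 : IsUnit ((X.presheaf.map (homOfLE (Wuj_le p k)).op).hom (fU p k.1 k.2)) :=
    X.toRingedSpace.isUnit_res_basicOpen (fU p k.1 k.2)
  have h4 : (X.presheaf.map (homOfLE (hW.trans (Wuj_le p k))).op).hom (fU p k.1 k.2) =
      (X.presheaf.map (homOfLE hW).op).hom
        ((X.presheaf.map (homOfLE (Wuj_le p k)).op).hom (fU p k.1 k.2)) := by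
    rw [← CommRingCat.comp_apply, ← Functor.map_comp]
    rfl
  rw [h4]
  exact h3.map _

/-- the local pieces of the multiplication map. -/
noncomputable def gk (k : (Fin n → Fin (1 + 1)) × Fin (n + 1)) :
    (Wuj p k).toScheme ⟶ Proj (CohB1.polyGrading n R0.{u}) :=
  fromRing (CohB1.polyGrading n R0.{u}) (Wuj p k) (rhoW p k.1 (Wuj p k) (Wuj_le p k))
    (X_mem k.2) one_pos (isUnit_rhoW_of_le p k (Wuj p k) le_rfl)

theorem homOfLE_gk (k : (Fin n → Fin (1 + 1)) × Fin (n + 1)) (W : X.Opens) (hW : W ≤ Wuj p k) :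
    X.homOfLE hW ≫ gk p k =
      fromRing (CohB1.polyGrading n R0.{u}) W (rhoW p k.1 W (hW.trans (Wuj_le p k)))
        (X_mem k.2) one_pos (isUnit_rhoW_of_le p k W hW) := by
  unfold gk
  rw [fromRing_restrict]
  congr 1
  exact rhoW_res p k.1 hW (Wuj_le p k)

theorem gk_compat (k k' : (Fin n → Fin (1 + 1)) × Fin (n + 1)) :
    X.homOfLE (inf_le_left : Wuj p k ⊓ Wuj p k' ≤ Wuj p k) ≫ gk p k =
      X.homOfLE (inf_le_right : Wuj p k ⊓ Wuj p k' ≤ Wuj p k') ≫ gk p k' := by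
  rw [homOfLE_gk, homOfLE_gk]
  set W := Wuj p k ⊓ Wuj p k' with hWdef
  have hW : W ≤ Wu p k.1 := inf_le_left.trans (Wuj_le p k)
  have hW' : W ≤ Wu p k'.1 := inf_le_right.trans (Wuj_le p k')
  have hu := isUnit_rhoW_of_le p k W inf_le_left
  have hu' := isUnit_rhoW_of_le p k' W inf_le_right
  -- unit of `rhoW u (X j')`
  have htw := rhoW_twist p k.1 k'.1 W hW hW'
  have hd := isUnit_prod_dW p k.1 k'.1 W hW hW'
  have hu'' : IsUnit (rhoW p k.1 W hW (MvPolynomial.X k'.2)) := by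
    have h1 := htw 1 (MvPolynomial.X k'.2) (X_mem k'.2)
    rw [h1] at hu'
    exact isUnit_of_mul_isUnit_right hu'
  rw [fromRing_indep (CohB1.polyGrading n R0.{u}) W (rhoW p k.1 W hW) (X_mem k.2) one_pos hu
    (X_mem k'.2) one_pos hu'']
  exact (fromRing_twist (CohB1.polyGrading n R0.{u}) W (rhoW p k.1 W hW) (X_mem k'.2) one_pos hu''
    (rhoW p k'.1 W hW') _ hd htw hu').symm

theorem exists_mem_Wuj_of_mem (u : Fin n → Fin (1 + 1)) (x : X) (hx : x ∈ Wu p u) :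
    ∃ j, x ∈ Wuj p (u, j) := by
  let ev : Γ(X, Wu p u) →+* X.residueField x := (X.evaluation (Wu p u) x hx).hom
  have hcomp := mulRho_comp ev (cZ Γ(X, Wu p u))
    (fun i => lamW p u (Wu p u) le_rfl i (MvPolynomial.X 0))
    (fun i => lamW p u (Wu p u) le_rfl i (MvPolynomial.X 1))
  have h01 : ∀ b : Fin (1 + 1), b = 0 ∨ b = 1 := by decide
  have hne : ∀ i, ev (lamW p u (Wu p u) le_rfl i (MvPolynomial.X 0)) ≠ 0 ∨
      ev (lamW p u (Wu p u) le_rfl i (MvPolynomial.X 1)) ≠ 0 := by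
    intro i
    have hs : lamW p u (Wu p u) le_rfl i (MvPolynomial.X (u i)) = 1 :=
      lam_self (CohB1.polyGrading 1 R0.{u}) (p i) (X_mem (u i)) _ _
    rcases h01 (u i) with h | h
    · left; rw [h] at hs; rw [hs, map_one]; exact one_ne_zero
    · right; rw [h] at hs; rw [hs, map_one]; exact one_ne_zero
  obtain ⟨j, hj⟩ := exists_mulRho_X_ne_zero (ev.comp (cZ Γ(X, Wu p u))) _ _ hne
  refine ⟨j, ?_⟩
  rw [← hcomp] at hj
  exact (X.evaluation_ne_zero_iff_mem_basicOpen x hx (fU p u j)).mp hj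

theorem exists_mem_Wuj (x : X) : ∃ k, x ∈ Wuj p k := by
  obtain ⟨u, hx⟩ := exists_mem_Wu p x
  obtain ⟨j, hj⟩ := exists_mem_Wuj_of_mem p u x hx
  exact ⟨(u, j), hj⟩

/-- the multiplication map `X ⟶ Pⁿ` attached to `n` morphisms `X ⟶ P¹`. -/
noncomputable def mulMap : X ⟶ Proj (CohB1.polyGrading n R0.{u}) :=
  (Groth.Agent.Lib.Helper17.UPGlueHom.exists_glue (Wuj p) (exists_mem_Wuj p) (gk p)
    (gk_compat p)).choose

theorem ι_mulMap (k : (Fin n → Fin (1 + 1)) × Fin (n + 1)) : (Wuj p k).ι ≫ mulMap p = gk p k :=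
  (Groth.Agent.Lib.Helper17.UPGlueHom.exists_glue (Wuj p) (exists_mem_Wuj p) (gk p)
    (gk_compat p)).choose_spec k

end Groth.Agent.Lib.Helper69.MulMap
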