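import Mathlib
import Groth.Agent.Lib.Helper69.MulMap

set_option autoImplicit false
universe u
open AlgebraicGeometry CategoryTheory Limits TopologicalSpace Opposite HomogeneousLocalization

namespace Groth.Agent.Lib.Helper69.MulMap
open Groth.Agent.Lib.Helper69.MulRho Groth.Agent.Lib.Helper69.ProjFrame
  Groth.Agent.Lib.Helper96.ProjSpaceGlobal Groth.Agent.Lib.Helper17.UPFromRing
  Groth.Agent.Lib.Helper17.UPProj

section fromRingComp
variable {R A : Type u} [CommRing R] [CommRing A] [Algebra R A] (𝒜 : ℕ → Submodule R A)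
  [GradedAlgebra 𝒜]

theorem fromRing_comp {X X' : Scheme.{u}} (h : X' ⟶ X) (W : X.Opens) (W' : X'.Opens)
    (e : W' ≤ h ⁻¹ᵁ W) (ρ : A →+* Γ(X, W)) {f : A} {d : ℕ} (hf : f ∈ 𝒜 d) (hd : 0 < d)
    (hu : IsUnit (ρ f)) :
    h.resLE W W' e ≫ fromRing 𝒜 W ρ hf hd hu =
      fromRing 𝒜 W' ((h.appLE W W' e).hom.comp ρ) hf hd (hu.map (h.appLE W W' e).hom) := by
  unfold fromRing ofAway
  rw [Scheme.toSpecΓ_naturality_assoc, ← Spec.map_comp_assoc]
  congr 3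
  rw [← awayLift_comp 𝒜 ρ f hu _ hf]
  apply CommRingCat.hom_ext
  rw [CommRingCat.hom_comp, CommRingCat.hom_ofHom, CommRingCat.hom_ofHom, ← RingHom.comp_assoc,
    ← RingHom.comp_assoc]
  congr 1
  have h1 : (h.resLE W W' e).appTop = W.topIso.hom ≫ h.appLE W W' e ≫ W'.topIso.inv :=
    Scheme.Hom.resLE_app_top h e
  have key : W.topIso.inv ≫ (h.resLE W W' e).appTop = h.appLE W W' e ≫ W'.topIso.inv := by
    rw [h1, Iso.inv_hom_id_assoc]
  have key2 := congrArg CommRingCat.Hom.hom key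
  rw [CommRingCat.hom_comp, CommRingCat.hom_comp] at key2
  exact key2

end fromRingComp

section lamComp
variable {R A : Type u} [CommRing R] [CommRing A] [Algebra R A] (𝒜 : ℕ → Submodule R A)
  [GradedAlgebra 𝒜]

theorem lam_comp {X X' : Scheme.{u}} (h : X' ⟶ X) (p : X ⟶ Proj 𝒜) {t : A} (ht : t ∈ 𝒜 1)
    (W : X.Opens) (hW : W ≤ p ⁻¹ᵁ Proj.basicOpen 𝒜 t) (W' : X'.Opens) (e : W' ≤ h ⁻¹ᵁ W) :
    lam 𝒜 (h ≫ p) ht W' (e.trans (by
        rw [Scheme.Hom.comp_preimage]; exact (Opens.map h.base).monotone hW)) =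
      (h.appLE W W' e).hom.comp (lam 𝒜 p ht W hW) := by
  unfold lam
  rw [← RingHom.comp_assoc, ← CommRingCat.hom_comp, Scheme.Hom.appLE_comp_appLE]

end lamComp

section naturality
variable {n : ℕ} {X X' : Scheme.{u}} (h : X' ⟶ X)
  (p : Fin n → (X ⟶ Proj (CohB1.polyGrading 1 R0.{u})))

theorem Wu_comp (u : Fin n → Fin (1 + 1)) : Wu (fun i => h ≫ p i) u = h ⁻¹ᵁ Wu p u := by
  ext x
  simp only [Wu]
  rfl

theorem rhoW_comp (u : Fin n → Fin (1 + 1)) (W : X.Opens) (hW : W ≤ Wu p u) (W' : X'.Opens)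
    (e : W' ≤ h ⁻¹ᵁ W) (hW' : W' ≤ Wu (fun i => h ≫ p i) u) :
    rhoW (fun i => h ≫ p i) u W' hW' = (h.appLE W W' e).hom.comp (rhoW p u W hW) := by
  unfold rhoW
  rw [mulRho_comp]
  congr 1
  · exact ringHom_R0_ext _ _
  · funext i
    exact congrArg (fun φ : MvPolynomial (Fin (1 + 1)) R0.{u} →+* Γ(X', W') => φ (MvPolynomial.X 0))
      (lam_comp (CohB1.polyGrading 1 R0.{u}) h (p i) (X_mem (u i)) W (hW.trans (Wu_le p u i)) W' e)
  · funext i
    exact congrArg (fun φ : MvPolynomial (Fin (1 + 1)) R0.{u} →+* Γ(X', W') => φ (MvPolynomial.X 1))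
      (lam_comp (CohB1.polyGrading 1 R0.{u}) h (p i) (X_mem (u i)) W (hW.trans (Wu_le p u i)) W' e)

theorem Wuj_comp (k : (Fin n → Fin (1 + 1)) × Fin (n + 1)) :
    Wuj (fun i => h ≫ p i) k = h ⁻¹ᵁ Wuj p k := by
  have e : Wu (fun i => h ≫ p i) k.1 ≤ h ⁻¹ᵁ Wu p k.1 := (Wu_comp h p k.1).le
  have h1 : fU (fun i => h ≫ p i) k.1 k.2 =
      (h.appLE (Wu p k.1) (Wu (fun i => h ≫ p i) k.1) e).hom (fU p k.1 k.2) := by
    unfold fU
    rw [rhoW_comp h p k.1 (Wu p k.1) le_rfl (Wu (fun i => h ≫ p i) k.1) e le_rfl]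
    rfl
  unfold Wuj
  rw [h1]
  have h2 := Scheme.basicOpen_appLE h (Wu (fun i => h ≫ p i) k.1) (Wu p k.1) e (fU p k.1 k.2)
  refine h2.trans ?_
  rw [Wu_comp]
  exact inf_eq_right.mpr ((Opens.map h.base).monotone (X.basicOpen_le _))

theorem mulMap_comp : h ≫ mulMap p = mulMap (fun i => h ≫ p i) := by
  have hcov : IsOpenCover (Wuj (fun i => h ≫ p i)) := by
    rw [IsOpenCover]
    apply top_unique
    intro x _
    obtain ⟨k, hk⟩ := exists_mem_Wuj (fun i => h ≫ p i) x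
    exact Opens.mem_iSup.mpr ⟨k, hk⟩
  refine (X'.openCoverOfIsOpenCover _ hcov).hom_ext _ _ fun k => ?_
  change (Wuj (fun i => h ≫ p i) k).ι ≫ h ≫ mulMap p =
    (Wuj (fun i => h ≫ p i) k).ι ≫ mulMap (fun i => h ≫ p i)
  have e : Wuj (fun i => h ≫ p i) k ≤ h ⁻¹ᵁ Wuj p k := (Wuj_comp h p k).le
  rw [ι_mulMap, ← Scheme.Hom.resLE_comp_ι_assoc h e, ι_mulMap]
  unfold gk
  rw [fromRing_comp]
  congr 1
  exact (rhoW_comp h p k.1 (Wuj p k) (Wuj_le p k) _ e _).symm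

end naturality

end Groth.Agent.Lib.Helper69.MulMap
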