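import Mathlib
import Groth.Agent.Lib.Helper69.MulMapNat

set_option autoImplicit false
universe u
open AlgebraicGeometry CategoryTheory Limits TopologicalSpace Opposite HomogeneousLocalization

namespace Groth.Agent.Lib.Helper69.MulMap
open Groth.Agent.Lib.Helper69.MulRho Groth.Agent.Lib.Helper69.ProjFrame
  Groth.Agent.Lib.Helper96.ProjSpaceGlobal Groth.Agent.Lib.Helper17.UPFromRing
  Groth.Agent.Lib.Helper17.UPProj Groth.Agent.Lib.Helper17.UPChart Groth.Agent.Lib.Helper17.OFrac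

variable {T : Scheme.{u}}

/-- the ring map `T_b ↦ 1`, `T_c ↦ z` (`c ≠ b`). -/
noncomputable def rhoPt (b : Fin (1 + 1)) (z : Γ(T, ⊤)) :
    MvPolynomial (Fin (1 + 1)) R0.{u} →+* Γ(T, ⊤) :=
  MvPolynomial.eval₂Hom (cZ Γ(T, ⊤)) (Function.update (fun _ => z) b 1)

theorem rhoPt_self (b : Fin (1 + 1)) (z : Γ(T, ⊤)) : rhoPt b z (MvPolynomial.X b) = 1 := by
  simp [rhoPt]

theorem rhoPt_other (b c : Fin (1 + 1)) (hc : c ≠ b) (z : Γ(T, ⊤)) :
    rhoPt b z (MvPolynomial.X c) = z := by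
  simp [rhoPt, hc]

theorem isUnit_rhoPt (b : Fin (1 + 1)) (z : Γ(T, ⊤)) : IsUnit (rhoPt b z (MvPolynomial.X b)) := by
  rw [rhoPt_self]; exact isUnit_one

/-- the `T`-point `(1 : z)` or `(z : 1)` of `P¹`. -/
noncomputable def pt (b : Fin (1 + 1)) (z : Γ(T, ⊤)) : T ⟶ Proj (CohB1.polyGrading 1 R0.{u}) :=
  ofAway (CohB1.polyGrading 1 R0.{u}) (X_mem b) one_pos
    (awayLift (CohB1.polyGrading 1 R0.{u}) (rhoPt b z) (MvPolynomial.X b) (isUnit_rhoPt b z))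

theorem pt_preimage (b : Fin (1 + 1)) (z : Γ(T, ⊤)) : pt b z ⁻¹ᵁ D b = ⊤ :=
  ofAway_preimage _ _ _ _

theorem lam_pt (b : Fin (1 + 1)) (z : Γ(T, ⊤)) :
    lam (CohB1.polyGrading 1 R0.{u}) (pt b z) (X_mem b) ⊤ (pt_preimage b z).ge = rhoPt b z := by
  apply MvPolynomial.ringHom_ext
  · intro r
    exact congrArg (fun φ : R0.{u} →+* Γ(T, ⊤) => φ r) (ringHom_R0_ext
      ((lam (CohB1.polyGrading 1 R0.{u}) (pt b z) (X_mem b) ⊤ (pt_preimage b z).ge).comp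
        MvPolynomial.C) ((rhoPt b z).comp MvPolynomial.C))
  · intro c
    have hc : (MvPolynomial.X c : MvPolynomial (Fin (1 + 1)) R0.{u}) ∈
        CohB1.polyGrading 1 R0.{u} (1 • 1) := by simpa using X_mem (R := R0.{u}) c
    have h1 := ofAway_appLE_oFrac (CohB1.polyGrading 1 R0.{u}) (X_mem b)
      (awayLift (CohB1.polyGrading 1 R0.{u}) (rhoPt b z) (MvPolynomial.X b) (isUnit_rhoPt b z))
      1 (MvPolynomial.X c) hc
    have h2 := awayLift_mk (CohB1.polyGrading 1 R0.{u}) (rhoPt b z) (MvPolynomial.X b)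
      (isUnit_rhoPt b z) (X_mem b) 1 (MvPolynomial.X c) hc
    rw [rhoPt_self, one_pow, mul_one] at h2
    unfold lam
    rw [RingHom.comp_apply, dehom_of_mem (CohB1.polyGrading 1 R0.{u}) (X_mem b) (X_mem c)]
    exact h1.trans h2

theorem hom_ext_D {q q' : T ⟶ Proj (CohB1.polyGrading 1 R0.{u})} (b : Fin (1 + 1))
    (hq : q ⁻¹ᵁ D b = ⊤) (hq' : q' ⁻¹ᵁ D b = ⊤)
    (h : lam (CohB1.polyGrading 1 R0.{u}) q (X_mem b) ⊤ hq.ge =
      lam (CohB1.polyGrading 1 R0.{u}) q' (X_mem b) ⊤ hq'.ge) : q = q' := by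
  refine hom_ext_of_appLE q q' (fun _ : Unit => (⊤ : T.Opens)) (fun _ => ⟨(), trivial⟩)
    (fun _ => D b) (fun _ => Proj.isAffineOpen_basicOpen _ _ (X_mem b) one_pos)
    (fun _ => hq.ge) (fun _ => hq'.ge) (fun _ => ?_)
  apply CommRingCat.hom_ext
  apply RingHom.ext
  intro s
  obtain ⟨a, rfl⟩ := dehom_surjective (CohB1.polyGrading 1 R0.{u}) (X_mem b) s
  exact congrArg (fun φ : MvPolynomial (Fin (1 + 1)) R0.{u} →+* Γ(T, ⊤) => φ a) h

theorem appLE_top_top {T' : Scheme.{u}} (h : T' ⟶ T) : h.appLE ⊤ ⊤ le_top = h.appTop := by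
  simp [Scheme.Hom.appLE, Scheme.Hom.appTop]

theorem comp_pt {T' : Scheme.{u}} (h : T' ⟶ T) (b : Fin (1 + 1)) (z : Γ(T, ⊤)) :
    h ≫ pt b z = pt b (h.appTop.hom z) := by
  have hq : (h ≫ pt b z) ⁻¹ᵁ D b = ⊤ := by
    rw [Scheme.Hom.comp_preimage, pt_preimage]; rfl
  refine hom_ext_D b hq (pt_preimage b _) ?_
  rw [lam_pt]
  have h1 := lam_comp (CohB1.polyGrading 1 R0.{u}) h (pt b z) (X_mem b) ⊤ (pt_preimage b z).ge ⊤
    le_top
  refine h1.trans ?_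
  rw [lam_pt]
  apply MvPolynomial.ringHom_ext
  · intro r
    exact congrArg (fun φ : R0.{u} →+* Γ(T', ⊤) => φ r) (ringHom_R0_ext
      (((h.appLE ⊤ ⊤ le_top).hom.comp (rhoPt b z)).comp MvPolynomial.C)
      ((rhoPt b (h.appTop.hom z)).comp MvPolynomial.C))
  · intro c
    have h01 : c = b ∨ c ≠ b := em _
    rcases h01 with rfl | hc
    · rw [RingHom.comp_apply, rhoPt_self, rhoPt_self, map_one]
    · rw [RingHom.comp_apply, rhoPt_other _ _ hc, rhoPt_other _ _ hc, appLE_top_top]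

end Groth.Agent.Lib.Helper69.MulMap
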