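import Mathlib
import Groth.Agent.Lib.Helper69.PtChart
import Groth.Agent.Lib.Helper69.MulQF

set_option autoImplicit false
universe u
open AlgebraicGeometry CategoryTheory Limits TopologicalSpace Opposite HomogeneousLocalization

namespace Groth.Agent.Lib.Helper69.MulMap
open Groth.Agent.Lib.Helper69.MulRho Groth.Agent.Lib.Helper69.ProjFrame
  Groth.Agent.Lib.Helper96.ProjSpaceGlobal Groth.Agent.Lib.Helper17.UPFromRing
  Groth.Agent.Lib.Helper17.UPProj Groth.Agent.Lib.Helper17.UPChart Groth.Agent.Lib.Helper17.OFrac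
  Groth.Agent.Lib.Helper69.MulQF

section fromRingLQF
variable {R A : Type u} [CommRing R] [CommRing A] [Algebra R A] (𝒜 : ℕ → Submodule R A)
  [GradedAlgebra 𝒜]

theorem locallyQuasiFinite_fromRing {X : Scheme.{u}} (W : X.Opens) (hW : IsAffineOpen W)
    (ρ : A →+* Γ(X, W)) {f : A} {d : ℕ} (hf : f ∈ 𝒜 d) (hd : 0 < d) (hu : IsUnit (ρ f))
    (h : (awayLift 𝒜 ρ f hu).QuasiFinite) : LocallyQuasiFinite (fromRing 𝒜 W ρ hf hd hu) := by
  unfold fromRing ofAway
  have : IsAffine W.toScheme := hW
  have : LocallyQuasiFinite (Spec.map (CommRingCat.ofHom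
      (W.topIso.inv.hom.comp (awayLift 𝒜 ρ f hu)))) := by
    rw [HasRingHomProperty.Spec_iff (P := @LocallyQuasiFinite)]
    simp only [CommRingCat.hom_ofHom]
    refine RingHom.QuasiFinite.comp ?_ h
    exact RingHom.QuasiFinite.of_finite (RingHom.Finite.of_surjective _
      (ConcreteCategory.bijective_of_isIso W.topIso.inv).2)
  infer_instance

end fromRingLQF

section qscheme
variable {n : ℕ} {T : Scheme.{u}}

theorem rhoW_X_res (p : Fin n → (T ⟶ Proj (CohB1.polyGrading 1 R0.{u}))) (u : Fin n → Fin (1 + 1))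
    (W : T.Opens) (hW : W ≤ Wu p u) (j : Fin (n + 1)) :
    rhoW p u W hW (MvPolynomial.X j) = (T.presheaf.map (homOfLE hW).op).hom (fU p u j) := by
  rw [← rhoW_res p u hW le_rfl]; rfl

variable (u : Fin n → Fin (1 + 1)) (z : Fin n → Γ(T, ⊤))

theorem Wu_pt : Wu (fun i => pt (u i) (z i)) u = ⊤ := by
  apply top_unique
  intro x _ i
  have hx : x ∈ (pt (u i) (z i)) ⁻¹ᵁ D (u i) := by rw [pt_preimage]; trivial
  exact hx

theorem lamW_pt (W : T.Opens) (hW : W ≤ Wu (fun i => pt (u i) (z i)) u) (i : Fin n) :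
    lamW (fun i => pt (u i) (z i)) u W hW i =
      (T.presheaf.map (homOfLE (le_top : W ≤ ⊤)).op).hom.comp (rhoPt (u i) (z i)) := by
  unfold lamW
  rw [← lam_pt, lam_res]

theorem locallyQuasiFinite_mulMap_pt [IsAffine T] (hz : Subring.closure (Set.range z) = ⊤) :
    LocallyQuasiFinite (mulMap (fun i => pt (u i) (z i))) := by
  set p : Fin n → (T ⟶ Proj (CohB1.polyGrading 1 R0.{u})) := fun i => pt (u i) (z i) with hp
  have hWu : Wu p u = ⊤ := Wu_pt u z
  have hcov : IsOpenCover (fun j : Fin (n + 1) => Wuj p (u, j)) := by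
    rw [IsOpenCover]
    apply top_unique
    intro x _
    obtain ⟨j, hj⟩ := exists_mem_Wuj_of_mem p u x (by rw [hWu]; trivial)
    exact Opens.mem_iSup.mpr ⟨j, hj⟩
  rw [IsZariskiLocalAtSource.iff_of_openCover (P := @LocallyQuasiFinite)
    (T.openCoverOfIsOpenCover _ hcov)]
  intro (j : Fin (n + 1))
  change LocallyQuasiFinite ((Wuj p (u, j)).ι ≫ mulMap p)
  rw [ι_mulMap]
  have hWaff : IsAffineOpen (Wu p u) := by rw [hWu]; exact isAffineOpen_top T
  have hVaff : IsAffineOpen (Wuj p (u, j)) := hWaff.basicOpen _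
  have hV : Wuj p (u, j) ≤ Wu p u := Wuj_le p (u, j)
  have h01 : ∀ b : Fin (1 + 1), b = 0 ∨ b = 1 := by decide
  refine locallyQuasiFinite_fromRing _ _ hVaff _ _ _ _ ?_
  refine quasiFinite_awayLift (cZ _) (fun i => lamW p u (Wuj p (u, j)) hV i (MvPolynomial.X 0))
    (fun i => lamW p u (Wuj p (u, j)) hV i (MvPolynomial.X 1)) j _ ?_ ?_
  · intro i
    have hs : lamW p u (Wuj p (u, j)) hV i (MvPolynomial.X (u i)) = 1 :=
      lam_self (CohB1.polyGrading 1 R0.{u}) (p i) (X_mem (u i)) _ _
    rcases h01 (u i) with h | h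
    · left; rw [h] at hs; exact hs
    · right; rw [h] at hs; exact hs
  · intro a
    set K := Subring.closure
      (Set.range (fun i => lamW p u (Wuj p (u, j)) hV i (MvPolynomial.X 0)) ∪
        Set.range (fun i => lamW p u (Wuj p (u, j)) hV i (MvPolynomial.X 1))) with hK
    let r : Γ(T, ⊤) →+* Γ(T, Wuj p (u, j)) := (T.presheaf.map (homOfLE le_top).op).hom
    have hr : ∀ i, r (z i) ∈ K := by
      intro i
      apply Subring.subset_closure
      have hl := lamW_pt u z (Wuj p (u, j)) hV i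
      rcases h01 (u i) with h | h
      · right
        refine ⟨i, ?_⟩
        change lamW p u (Wuj p (u, j)) hV i (MvPolynomial.X 1) = _
        rw [hl, RingHom.comp_apply, rhoPt_other _ _ (by rw [h]; decide)]
      · left
        refine ⟨i, ?_⟩
        change lamW p u (Wuj p (u, j)) hV i (MvPolynomial.X 0) = _
        rw [hl, RingHom.comp_apply, rhoPt_other _ _ (by rw [h]; decide)]
    have hK' : ∀ b' : Γ(T, ⊤), r b' ∈ K := by
      intro b'
      have h1 : Subring.closure (Set.range z) ≤ K.comap r := by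
        rw [Subring.closure_le]
        rintro _ ⟨i, rfl⟩
        exact hr i
      have h2 : b' ∈ Subring.closure (Set.range z) := by rw [hz]; trivial
      exact h1 h2
    have hloc : IsLocalization.Away (fU p u j) Γ(T, T.basicOpen (fU p u j)) :=
      hWaff.isLocalization_basicOpen (fU p u j)
    obtain ⟨⟨b, s⟩, hbs⟩ := IsLocalization.surj (S := Γ(T, T.basicOpen (fU p u j)))
      (Submonoid.powers (fU p u j)) a
    obtain ⟨m, hm⟩ := s.2
    refine ⟨m, ?_⟩
    have e1 : mulRho (cZ _) (fun i => lamW p u (Wuj p (u, j)) hV i (MvPolynomial.X 0))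
        (fun i => lamW p u (Wuj p (u, j)) hV i (MvPolynomial.X 1)) (MvPolynomial.X j) =
        (T.presheaf.map (homOfLE hV).op).hom (fU p u j) := rhoW_X_res p u _ hV j
    rw [e1]
    have e2 : a * ((T.presheaf.map (homOfLE hV).op).hom (fU p u j)) ^ m =
        (T.presheaf.map (homOfLE hV).op).hom b := by
      have h := hbs
      simp only at h
      rw [← hm] at h
      simp only [map_pow] at h
      exact h
    rw [e2]
    have e3 : (T.presheaf.map (homOfLE hV).op).hom b =
        r ((T.presheaf.map (homOfLE (hWu.ge : ⊤ ≤ Wu p u)).op).hom b) := by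
      change _ = (T.presheaf.map (homOfLE le_top).op).hom _
      rw [← CommRingCat.comp_apply, ← Functor.map_comp]
      rfl
    rw [e3]
    exact hK' _

end qscheme

end Groth.Agent.Lib.Helper69.MulMap
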