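import Mathlib
import Groth.Agent.Lib.Helper69.MulLQF

set_option autoImplicit false
universe u
open AlgebraicGeometry CategoryTheory Limits TopologicalSpace Opposite HomogeneousLocalization

namespace Groth.Agent.Lib.Helper69.MulMap
open Groth.Agent.Lib.Helper69.MulRho Groth.Agent.Lib.Helper69.ProjFrame
  Groth.Agent.Lib.Helper96.ProjSpaceGlobal Groth.Agent.Lib.Helper17.UPFromRing
  Groth.Agent.Lib.Helper17.UPProj Groth.Agent.Lib.Helper17.UPChart Groth.Agent.Lib.Helper17.OFrac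
  Groth.Agent.Lib.Helper17.ProjGlobal

section An
variable (n : ℕ)

/-- the coordinate ring of affine `n`-space over `ℤ`. -/
abbrev Bn : Type u := MvPolynomial (Fin n) R0.{u}

/-- affine `n`-space over `ℤ`. -/
noncomputable abbrev An : Scheme.{u} := Spec (CommRingCat.of (Bn.{u} n))

/-- the coordinate functions. -/
noncomputable def zA (i : Fin n) : Γ(An.{u} n, ⊤) :=
  (Scheme.ΓSpecIso (CommRingCat.of (Bn.{u} n))).inv.hom (MvPolynomial.X i)

theorem closure_X : Subring.closure (Set.range (MvPolynomial.X : Fin n → Bn.{u} n)) = ⊤ := by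
  apply top_unique
  intro f _
  clear * -
  induction f using MvPolynomial.induction_on with
  | C a =>
    have : (MvPolynomial.C a : Bn.{u} n) = ((a.down : ℤ) : Bn.{u} n) := by
      rw [← map_intCast (MvPolynomial.C : R0.{u} →+* Bn.{u} n)]
      congr 1
    rw [this]
    exact intCast_mem _ _
  | add f g hf hg => exact Subring.add_mem _ hf hg
  | mul_X f i hf => exact Subring.mul_mem _ hf (Subring.subset_closure ⟨i, rfl⟩)

theorem closure_zA : Subring.closure (Set.range (zA.{u} n)) = ⊤ := by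
  have h1 : Set.range (zA.{u} n) =
      (Scheme.ΓSpecIso (CommRingCat.of (Bn.{u} n))).inv.hom ''
        Set.range (MvPolynomial.X : Fin n → Bn.{u} n) := by
    rw [← Set.range_comp]; rfl
  rw [h1, ← RingHom.map_closure, closure_X, ← RingHom.range_eq_map, RingHom.range_eq_top]
  exact (ConcreteCategory.bijective_of_isIso (Scheme.ΓSpecIso (CommRingCat.of (Bn.{u} n))).inv).2

end An

section ptinj
variable {T : Scheme.{u}}

theorem lam_eq_of_eq_pt (b : Fin (1 + 1)) (z : Γ(T, ⊤)) (q : T ⟶ Proj (CohB1.polyGrading 1 R0.{u}))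
    (h : q = pt b z) (hq : q ⁻¹ᵁ D b = ⊤) :
    lam (CohB1.polyGrading 1 R0.{u}) q (X_mem b) ⊤ hq.ge = rhoPt b z := by
  subst h
  exact lam_pt b z

/-- the other index. -/
def oth (b : Fin (1 + 1)) : Fin (1 + 1) := if b = 0 then 1 else 0

theorem oth_ne (b : Fin (1 + 1)) : oth b ≠ b := by
  revert b; decide

theorem eq_or_eq_oth (b c : Fin (1 + 1)) : c = b ∨ c = oth b := by
  revert b c; decide

theorem pt_injective (b : Fin (1 + 1)) (z z' : Γ(T, ⊤)) (h : pt b z = pt b z') : z = z' := by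
  have h1 := lam_eq_of_eq_pt b z' (pt b z) h (pt_preimage b z)
  rw [lam_pt] at h1
  have h2 := congrArg (fun φ : MvPolynomial (Fin (1 + 1)) R0.{u} →+* Γ(T, ⊤) =>
    φ (MvPolynomial.X (oth b))) h1
  simp only [rhoPt_other _ _ (oth_ne b)] at h2
  exact h2

theorem An_hom_ext {n : ℕ} (u : Fin n → Fin (1 + 1)) (γ γ' : T ⟶ An.{u} n)
    (h : ∀ i, γ ≫ pt (u i) (zA n i) = γ' ≫ pt (u i) (zA n i)) : γ = γ' := by
  apply ext_of_isAffine
  apply CommRingCat.hom_ext
  refine RingHom.eq_of_eqOn_set_dense (closure_zA n) ?_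
  rintro _ ⟨i, rfl⟩
  have h1 := h i
  rw [comp_pt, comp_pt] at h1
  exact pt_injective _ _ _ h1

end ptinj

section alpha
variable {n : ℕ} {Y : Scheme.{u}} (q : Fin n → (Y ⟶ Proj (CohB1.polyGrading 1 R0.{u})))
  (u : Fin n → Fin (1 + 1)) (hq : ∀ i, q i ⁻¹ᵁ D (u i) = ⊤)

/-- the ring map of the chart map. -/
noncomputable def theta : Bn.{u} n →+* Γ(Y, ⊤) :=
  MvPolynomial.eval₂Hom (cZ Γ(Y, ⊤))
    (fun i => lam (CohB1.polyGrading 1 R0.{u}) (q i) (X_mem (u i)) ⊤ (hq i).ge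
      (MvPolynomial.X (oth (u i))))

/-- the chart map `Y ⟶ Aⁿ` of a tuple of maps to `P¹` landing in the charts `u`. -/
noncomputable def alpha : Y ⟶ An.{u} n :=
  Y.toSpecΓ ≫ Spec.map (CommRingCat.ofHom (theta q u hq))

theorem alpha_appTop (i : Fin n) :
    (alpha q u hq).appTop.hom (zA n i) = theta q u hq (MvPolynomial.X i) := by
  have h1 : gHom (alpha q u hq) = CommRingCat.ofHom (theta q u hq) := by
    unfold alpha
    rw [gHom_comp_specMap]
    unfold gHom
    rw [Scheme.toSpecΓ_appTop, Iso.inv_hom_id, Category.comp_id]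
  have h2 := congrArg (fun φ => (CommRingCat.Hom.hom φ) (MvPolynomial.X i)) h1
  exact h2

theorem alpha_pt (i : Fin n) : alpha q u hq ≫ pt (u i) (zA n i) = q i := by
  rw [comp_pt, alpha_appTop]
  refine hom_ext_D (u i) (pt_preimage _ _) (hq i) ?_
  rw [lam_pt]
  apply MvPolynomial.ringHom_ext
  · intro r
    exact congrArg (fun φ : R0.{u} →+* Γ(Y, ⊤) => φ r) (ringHom_R0_ext
      ((rhoPt (u i) (theta q u hq (MvPolynomial.X i))).comp MvPolynomial.C)
      ((lam (CohB1.polyGrading 1 R0.{u}) (q i) (X_mem (u i)) ⊤ (hq i).ge).comp MvPolynomial.C))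
  · intro c
    rcases eq_or_eq_oth (u i) c with rfl | rfl
    · rw [rhoPt_self, lam_self]
    · rw [rhoPt_other _ _ (oth_ne _)]
      simp [theta]

end alpha

/-- `X` with the maps `p i` is a product of `n` copies of `P¹` (over the integers). -/
structure IsProd {n : ℕ} {X : Scheme.{u}}
    (p : Fin n → (X ⟶ Proj (CohB1.polyGrading 1 R0.{u}))) : Prop where
  exists_lift : ∀ {T : Scheme.{u}} (q : Fin n → (T ⟶ Proj (CohB1.polyGrading 1 R0.{u}))),
    ∃ l : T ⟶ X, ∀ i, l ≫ p i = q i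
  hom_ext : ∀ {T : Scheme.{u}} (l l' : T ⟶ X), (∀ i, l ≫ p i = l' ≫ p i) → l = l'

section chart
variable {n : ℕ} {X : Scheme.{u}} {p : Fin n → (X ⟶ Proj (CohB1.polyGrading 1 R0.{u}))}

theorem exists_chartIso (hp : IsProd p) (u : Fin n → Fin (1 + 1)) :
    ∃ e : An.{u} n ≅ (Wu p u).toScheme, ∀ i, e.hom ≫ (Wu p u).ι ≫ p i = pt (u i) (zA n i) := by
  obtain ⟨β, hβ⟩ := hp.exists_lift (fun i => pt (u i) (zA n i))
  have hq : ∀ i, ((Wu p u).ι ≫ p i) ⁻¹ᵁ D (u i) = ⊤ := by
    intro i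
    apply top_unique
    intro x _
    have hx : (Wu p u).ι x ∈ Set.range (Wu p u).ι := ⟨x, rfl⟩
    rw [Scheme.Opens.range_ι] at hx
    exact hx i
  have hα := alpha_pt (fun i => (Wu p u).ι ≫ p i) u hq
  set α := alpha (fun i => (Wu p u).ι ≫ p i) u hq with hαdef
  have hβW : Set.range β ⊆ Set.range (Wu p u).ι := by
    rw [Scheme.Opens.range_ι]
    rintro _ ⟨x, rfl⟩ i
    have hx : x ∈ (β ≫ p i) ⁻¹ᵁ D (u i) := by rw [hβ, pt_preimage]; trivial
    exact hx
  have hβ' : IsOpenImmersion.lift (Wu p u).ι β hβW ≫ (Wu p u).ι = β :=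
    IsOpenImmersion.lift_fac _ _ _
  set β' := IsOpenImmersion.lift (Wu p u).ι β hβW with hβ'def
  have h1 : α ≫ β = (Wu p u).ι :=
    hp.hom_ext _ _ (fun i => by rw [Category.assoc, hβ, hα])
  have h2 : α ≫ β' = 𝟙 _ := by
    rw [← cancel_mono (Wu p u).ι, Category.assoc, hβ', h1, Category.id_comp]
  have h3 : β' ≫ α = 𝟙 _ :=
    An_hom_ext u _ _ (fun i => by
      rw [Category.assoc, hα, ← Category.assoc, hβ', hβ, Category.id_comp])
  refine ⟨⟨β', α, h3, h2⟩, fun i => ?_⟩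
  change β' ≫ (Wu p u).ι ≫ p i = _
  rw [← Category.assoc, hβ', hβ]

theorem locallyQuasiFinite_mulMap (hp : IsProd p) : LocallyQuasiFinite (mulMap p) := by
  have hcov : IsOpenCover (Wu p) := by
    rw [IsOpenCover]
    apply top_unique
    intro x _
    obtain ⟨u, hu⟩ := exists_mem_Wu p x
    exact Opens.mem_iSup.mpr ⟨u, hu⟩
  rw [IsZariskiLocalAtSource.iff_of_openCover (P := @LocallyQuasiFinite)
    (X.openCoverOfIsOpenCover _ hcov)]
  intro (u : Fin n → Fin (1 + 1))
  change LocallyQuasiFinite ((Wu p u).ι ≫ mulMap p)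
  obtain ⟨e, he⟩ := exists_chartIso hp u
  rw [← MorphismProperty.cancel_left_of_respectsIso @LocallyQuasiFinite e.hom, mulMap_comp,
    mulMap_comp]
  have : (fun i => e.hom ≫ (Wu p u).ι ≫ p i) = fun i => pt (u i) (zA n i) := funext he
  rw [this]
  exact locallyQuasiFinite_mulMap_pt u (zA n) (closure_zA n)

end chart

end Groth.Agent.Lib.Helper69.MulMap
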