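import Mathlib
import Groth.Agent.Lib.Helper69.MulChart
import Groth.Agent.Lib.Helper42.ProjIntegral

set_option autoImplicit false
universe u
open AlgebraicGeometry CategoryTheory Limits TopologicalSpace Opposite HomogeneousLocalization

namespace Groth.Agent.Lib.Helper69.MulMap
open Groth.Agent.Lib.Helper69.MulRho Groth.Agent.Lib.Helper69.ProjFrame
  Groth.Agent.Lib.Helper96.ProjSpaceGlobal Groth.Agent.Lib.Helper17.UPFromRing
  Groth.Agent.Lib.Helper17.UPProj Groth.Agent.Lib.Helper17.UPChart Groth.Agent.Lib.Helper17.OFrac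
  Groth.Agent.Lib.Helper17.ProjGlobal Groth.Agent.Lib.Helper69.PnChart

section esymm
variable {n : ℕ} {C : Type u} [CommRing C]

theorem coeff_prodPoly_one (y : Fin n → C) (k : ℕ) (hk : k ≤ n) :
    (prodPoly (fun _ => (1 : C)) y).coeff k = (Finset.univ.val.map y).esymm (n - k) := by
  unfold prodPoly
  have h1 : (∏ i : Fin n, (Polynomial.C (1 : C) * Polynomial.X + Polynomial.C (y i))) =
      ((Finset.univ : Finset (Fin n)).val.map fun i => Polynomial.X + Polynomial.C (y i)).prod := by
    simp [Finset.prod_eq_multiset_prod]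
  rw [h1, Multiset.prod_X_add_C_coeff' _ _ (by simpa using hk)]
  simp

theorem coeff_prodPoly_one_last (y : Fin n → C) :
    (prodPoly (fun _ => (1 : C)) y).coeff n = 1 := by
  rw [coeff_prodPoly_one y n le_rfl, Nat.sub_self]
  simp [Multiset.esymm]

/-- the reindexing `i ↦ n - 1 - i` of the coordinates of the chart `T_n ≠ 0`. -/
def eIdx (n : ℕ) : Fin n ≃ {k : Fin (n + 1) // k ≠ Fin.last n} :=
  Fin.revPerm.trans (finSuccAboveEquiv (Fin.last n))

theorem eIdx_val (i : Fin n) : ((eIdx n i).1 : ℕ) = n - (i + 1) := by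
  simp [eIdx, finSuccAboveEquiv_apply, Fin.succAbove_last, Fin.val_rev]

theorem injective_awayLift_of_injective (Θ : Bn.{u} n →+* C) (hΘ : Function.Injective Θ)
    (hu : IsUnit (mulRho (cZ C) (fun _ => (1 : C)) (fun i => Θ (MvPolynomial.X i))
      (MvPolynomial.X (Fin.last n)))) :
    Function.Injective (awayLift (CohB1.polyGrading n R0.{u})
      (mulRho (cZ C) (fun _ => (1 : C)) (fun i => Θ (MvPolynomial.X i)))
      (MvPolynomial.X (Fin.last n)) hu) := by
  set y : Fin n → C := fun i => Θ (MvPolynomial.X i) with hy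
  set ρ := mulRho (cZ C) (fun _ => (1 : C)) y with hρ
  set ψ := awayLift (CohB1.polyGrading n R0.{u}) ρ (MvPolynomial.X (Fin.last n)) hu with hψ
  have hlast : ρ (MvPolynomial.X (Fin.last n)) = 1 := by
    rw [hρ, mulRho_X]; exact coeff_prodPoly_one_last y
  have hzc : ∀ k : {k : Fin (n + 1) // k ≠ Fin.last n},
      ψ (zc (Fin.last n) k) = (prodPoly (fun _ => (1 : C)) y).coeff (k.1 : ℕ) := by
    intro k
    have h := awayLift_mk (CohB1.polyGrading n R0.{u}) ρ (MvPolynomial.X (Fin.last n)) hu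
      (X_mem (Fin.last n)) 1 (MvPolynomial.X k.1) (by simpa using X_mem (R := R0.{u}) k.1)
    rw [hlast, one_pow, mul_one] at h
    have h' : ρ (MvPolynomial.X k.1) = (prodPoly (fun _ => (1 : C)) y).coeff (k.1 : ℕ) := by
      rw [hρ, mulRho_X]
    exact h.trans h'
  -- the composite with the chart and the reindexing is `Θ ∘ esymm`
  let G : Bn.{u} n →+* C :=
    (ψ.comp (bwd (Fin.last n))).comp (MvPolynomial.rename (eIdx n) : Bn.{u} n →ₐ[R0.{u}] _).toRingHom
  let E : Bn.{u} n →+* Bn.{u} n :=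
    (MvPolynomial.aeval (fun i : Fin n => MvPolynomial.esymm (Fin n) R0.{u} (i + 1)) :
      Bn.{u} n →ₐ[R0.{u}] Bn.{u} n).toRingHom
  have hGE : G = Θ.comp E := by
    apply MvPolynomial.ringHom_ext
    · intro r
      exact congrArg (fun φ : R0.{u} →+* C => φ r) (ringHom_R0_ext
        (G.comp MvPolynomial.C) ((Θ.comp E).comp MvPolynomial.C))
    · intro i
      have h1 : G (MvPolynomial.X i) = ψ (zc (Fin.last n) (eIdx n i)) := by
        simp [G, bwd]
      have h2 : (Θ.comp E) (MvPolynomial.X i) =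
          Θ (MvPolynomial.esymm (Fin n) R0.{u} (i + 1)) := by
        simp [E]
      rw [h1, h2, hzc, coeff_prodPoly_one y _ (by rw [eIdx_val]; omega), eIdx_val]
      have h3 : n - (n - ((i : ℕ) + 1)) = (i : ℕ) + 1 := by omega
      rw [h3]
      simp only [MvPolynomial.esymm, map_sum, map_prod, hy, Finset.esymm_map_val]
  have hE : Function.Injective E := by
    intro a b hab
    apply MvPolynomial.esymmAlgHom_fin_injective R0.{u} (le_refl n)
    apply Subtype.ext
    rw [MvPolynomial.esymmAlgHom_apply, MvPolynomial.esymmAlgHom_apply]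
    exact hab
  have hG : Function.Injective G := by rw [hGE]; exact hΘ.comp hE
  -- conclude
  intro a b hab
  have hbij : Function.Surjective (fun c : Bn.{u} n =>
      bwd (Fin.last n) (MvPolynomial.rename (eIdx n) c)) := by
    intro a
    refine ⟨MvPolynomial.rename (eIdx n).symm (fwd (Fin.last n) a), ?_⟩
    simp only [MvPolynomial.rename_rename]
    have : (eIdx n) ∘ (eIdx n).symm = id := by funext k; simp
    rw [this, MvPolynomial.rename_id_apply]
    exact congrArg (fun φ : _ →+* _ => φ a) (bwd_comp_fwd (Fin.last n))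
  obtain ⟨a', rfl⟩ := hbij a
  obtain ⟨b', rfl⟩ := hbij b
  have : G a' = G b' := hab
  rw [hG this]

end esymm

section dominance
variable (n : ℕ)

instance : IsDomain R0.{u} := MulEquiv.isDomain ℤ (ULift.ringEquiv : ULift.{u} ℤ ≃+* ℤ).toMulEquiv

theorem irrelevant_ne_bot :
    (HomogeneousIdeal.irrelevant (CohB1.polyGrading n R0.{u})).toIdeal ≠ ⊥ := by
  intro h
  have h1 : (MvPolynomial.X 0 : MvPolynomial (Fin (n + 1)) R0.{u}) ∈
      (HomogeneousIdeal.irrelevant (CohB1.polyGrading n R0.{u})).toIdeal := by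
    change _ ∈ HomogeneousIdeal.irrelevant (CohB1.polyGrading n R0.{u})
    rw [HomogeneousIdeal.mem_irrelevant_iff]
    exact DirectSum.decompose_of_mem_ne (CohB1.polyGrading n R0.{u}) (X_mem 0) one_ne_zero
  rw [h] at h1
  exact MvPolynomial.X_ne_zero 0 h1

theorem isDominant_awayι (j : Fin (n + 1)) :
    IsDominant (Proj.awayι (CohB1.polyGrading n R0.{u})
      (MvPolynomial.X j : MvPolynomial (Fin (n + 1)) R0.{u}) (X_mem j) one_pos) := by
  haveI := Groth.Agent.Lib.Helper42.proj_irreducibleSpace (CohB1.polyGrading n R0.{u})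
    (irrelevant_ne_bot n)
  constructor
  have h1 : Set.range (Proj.awayι (CohB1.polyGrading n R0.{u})
      (MvPolynomial.X j : MvPolynomial (Fin (n + 1)) R0.{u}) (X_mem j) one_pos) =
      ((Proj.basicOpen (CohB1.polyGrading n R0.{u}) (MvPolynomial.X j) :
        (Proj (CohB1.polyGrading n R0.{u})).Opens) : Set (Proj (CohB1.polyGrading n R0.{u}))) := by
    rw [← Proj.opensRange_awayι (CohB1.polyGrading n R0.{u}) _ (X_mem j) one_pos]
    rfl
  change Dense (Set.range _)
  rw [h1]
  exact IsOpen.dense (Proj.basicOpen (CohB1.polyGrading n R0.{u}) (MvPolynomial.X j)).2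
    (Groth.Agent.Lib.Helper42.basicOpen_nonempty (CohB1.polyGrading n R0.{u}) one_pos (X_mem j)
      (MvPolynomial.X_ne_zero j))

theorem isDominant_mulMap_pt0 : IsDominant (mulMap (fun i => pt 0 (zA.{u} n i))) := by
  set p' : Fin n → (An.{u} n ⟶ Proj (CohB1.polyGrading 1 R0.{u})) := fun i => pt 0 (zA n i)
    with hp'
  set u0 : Fin n → Fin (1 + 1) := fun _ => 0 with hu0
  have hWu : Wu p' u0 = ⊤ := Wu_pt u0 (zA n)
  have hV : Wuj p' (u0, Fin.last n) ≤ Wu p' u0 := Wuj_le p' (u0, Fin.last n)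
  have hx : ∀ (W : (An.{u} n).Opens) (hW : W ≤ Wu p' u0),
      (fun i => lamW p' u0 W hW i (MvPolynomial.X 0)) = fun _ => 1 := fun W hW =>
    funext fun i => lam_self (CohB1.polyGrading 1 R0.{u}) (p' i) (X_mem (u0 i)) _ _
  have hfU : fU p' u0 (Fin.last n) = 1 := by
    unfold fU rhoW
    rw [mulRho_X, hx]
    exact coeff_prodPoly_one_last _
  have hVtop : Wuj p' (u0, Fin.last n) = ⊤ := by
    unfold Wuj
    simp only
    rw [hfU, Scheme.basicOpen_one, hWu]
  have hWaff : IsAffineOpen (Wu p' u0) := by rw [hWu]; exact isAffineOpen_top _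
  have hVaff : IsAffineOpen (Wuj p' (u0, Fin.last n)) := hWaff.basicOpen _
  haveI : IsAffine (Wuj p' (u0, Fin.last n)).toScheme := hVaff
  suffices h : IsDominant ((Wuj p' (u0, Fin.last n)).ι ≫ mulMap p') from
    IsDominant.of_comp (Wuj p' (u0, Fin.last n)).ι _
  rw [ι_mulMap]
  unfold gk fromRing ofAway
  -- injectivity of the ring map
  let r : Γ(An.{u} n, ⊤) →+* Γ(An.{u} n, Wuj p' (u0, Fin.last n)) :=
    ((An.{u} n).presheaf.map (homOfLE le_top).op).hom
  have hr : Function.Injective r := by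
    have hli : Function.LeftInverse
        ((An.{u} n).presheaf.map (homOfLE hVtop.ge).op).hom r := by
      intro a
      change ((An.{u} n).presheaf.map (homOfLE hVtop.ge).op).hom
        (((An.{u} n).presheaf.map (homOfLE le_top).op).hom a) = a
      rw [← CommRingCat.comp_apply, ← Functor.map_comp]
      have : (homOfLE (le_top : Wuj p' (u0, Fin.last n) ≤ ⊤)).op ≫ (homOfLE hVtop.ge).op =
          𝟙 _ := Subsingleton.elim _ _
      rw [this, CategoryTheory.Functor.map_id]
      rfl
    exact hli.injective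
  let Θ : Bn.{u} n →+* Γ(An.{u} n, Wuj p' (u0, Fin.last n)) :=
    r.comp (Scheme.ΓSpecIso (CommRingCat.of (Bn.{u} n))).inv.hom
  have hΘ : Function.Injective Θ :=
    hr.comp (ConcreteCategory.bijective_of_isIso
      (Scheme.ΓSpecIso (CommRingCat.of (Bn.{u} n))).inv).1
  have hy : (fun i => lamW p' u0 (Wuj p' (u0, Fin.last n)) hV i (MvPolynomial.X 1)) =
      fun i => Θ (MvPolynomial.X i) := by
    funext i
    rw [lamW_pt u0 (zA n) _ hV i, RingHom.comp_apply, rhoPt_other _ _ (by decide)]
    rfl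
  have hρ : rhoW p' u0 (Wuj p' (u0, Fin.last n)) hV =
      mulRho (cZ _) (fun _ => 1) (fun i => Θ (MvPolynomial.X i)) := by
    unfold rhoW
    rw [hx, hy]
  have hinj : ∀ hu, Function.Injective (awayLift (CohB1.polyGrading n R0.{u})
      (rhoW p' u0 (Wuj p' (u0, Fin.last n)) hV) (MvPolynomial.X (Fin.last n)) hu) := by
    rw [hρ]
    intro hu
    exact injective_awayLift_of_injective Θ hΘ hu
  haveI : IsDominant (Spec.map (CommRingCat.ofHom
      ((Wuj p' (u0, Fin.last n)).topIso.inv.hom.comp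
        (awayLift (CohB1.polyGrading n R0.{u})
          (rhoW p' u0 (Wuj p' (u0, Fin.last n)) hV) (MvPolynomial.X (Fin.last n))
          (isUnit_rhoW_of_le p' (u0, Fin.last n) _ le_rfl))))) := by
    constructor
    refine (PrimeSpectrum.denseRange_comap_iff_ker_le_nilRadical
      (f := (Wuj p' (u0, Fin.last n)).topIso.inv.hom.comp
        (awayLift (CohB1.polyGrading n R0.{u})
          (rhoW p' u0 (Wuj p' (u0, Fin.last n)) hV) (MvPolynomial.X (Fin.last n))
          (isUnit_rhoW_of_le p' (u0, Fin.last n) _ le_rfl)))).mpr ?_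
    have hφ : Function.Injective ((Wuj p' (u0, Fin.last n)).topIso.inv.hom.comp
        (awayLift (CohB1.polyGrading n R0.{u})
          (rhoW p' u0 (Wuj p' (u0, Fin.last n)) hV) (MvPolynomial.X (Fin.last n))
          (isUnit_rhoW_of_le p' (u0, Fin.last n) _ le_rfl))) :=
      (ConcreteCategory.bijective_of_isIso (Wuj p' (u0, Fin.last n)).topIso.inv).1.comp
        (hinj _)
    rw [(RingHom.injective_iff_ker_eq_bot _).mp hφ]
    exact bot_le
  haveI := isDominant_awayι n (Fin.last n)
  infer_instance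

variable {n}

theorem isDominant_mulMap {X : Scheme.{u}} {p : Fin n → (X ⟶ Proj (CohB1.polyGrading 1 R0.{u}))}
    (hp : IsProd p) : IsDominant (mulMap p) := by
  obtain ⟨e, he⟩ := exists_chartIso hp (fun _ => 0)
  have h : e.hom ≫ (Wu p (fun _ => 0)).ι ≫ mulMap p = mulMap (fun i => pt 0 (zA n i)) := by
    rw [mulMap_comp, mulMap_comp]
    congr 1
    funext i
    exact he i
  haveI : IsDominant (e.hom ≫ (Wu p (fun _ => 0)).ι ≫ mulMap p) := by
    rw [h]; exact isDominant_mulMap_pt0 n
  haveI : IsDominant ((Wu p (fun _ => 0)).ι ≫ mulMap p) := IsDominant.of_comp e.hom _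
  exact IsDominant.of_comp (Wu p (fun _ => 0)).ι _

theorem isFinite_surjective_mulMap {X : Scheme.{u}}
    {p : Fin n → (X ⟶ Proj (CohB1.polyGrading 1 R0.{u}))} (hp : IsProd p)
    [IsProper (mulMap p)] : IsFinite (mulMap p) ∧ Surjective (mulMap p) := by
  haveI := locallyQuasiFinite_mulMap hp
  haveI := isDominant_mulMap hp
  exact ⟨IsFinite.of_isProper_of_locallyQuasiFinite _,
    surjective_of_isDominant_of_isClosed_range _ (mulMap p).isClosedMap.isClosed_range⟩

end dominance

end Groth.Agent.Lib.Helper69.MulMap
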