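import Groth.Agent.Lib.Helper69.QuotChart
import Mathlib.AlgebraicGeometry.Morphisms.Flat
import Mathlib.RingTheory.Flat.Basic
import Mathlib.RingTheory.IsTensorProduct
import Mathlib.Algebra.Category.Ring.Constructions

/-!
# Helper library (helper69): quotients by finite groups commute with flat base change

`invariants_baseChange`: pure algebra; if `A → B` identifies `A` with the invariants of `B` and `A'`
is flat over `A`, then `A' → A' ⊗[A] B` identifies `A'` with the invariants.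
`isQuot_of_isPullback_of_flat`: `SGA1.IsQuot` is stable under flat base change.
-/

set_option autoImplicit false
universe u
open CategoryTheory CategoryTheory.Limits AlgebraicGeometry TopologicalSpace Opposite TensorProduct

namespace Groth.Agent.Lib.Helper69

theorem invariants_baseChange {A A' B B' : Type u} [CommRing A] [CommRing A'] [CommRing B]
    [CommRing B']
    [Algebra A A'] [Algebra A B] [Algebra A' B'] [Algebra B B'] [Algebra A B']
    [IsScalarTower A A' B'] [IsScalarTower A B B'] [Algebra.IsPushout A A' B B'] [Module.Flat A A']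
    {G : Type*} [Finite G] (σ : G → B →+* B) (σ' : G → B' →+* B')
    (hσA : ∀ g a, σ g (algebraMap A B a) = algebraMap A B a)
    (hσ'A : ∀ g a', σ' g (algebraMap A' B' a') = algebraMap A' B' a')
    (hσσ' : ∀ g b, σ' g (algebraMap B B' b) = algebraMap B B' (σ g b))
    (hinj : Function.Injective (algebraMap A B))
    (hrange : ∀ b, (∀ g, σ g b = b) → b ∈ Set.range (algebraMap A B)) :
    Function.Injective (algebraMap A' B') ∧
      ∀ b', (∀ g, σ' g b' = b') → b' ∈ Set.range (algebraMap A' B') := by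
  classical
  cases nonempty_fintype G
  let φg : G → B →ₗ[A] B := fun g =>
    { toFun := fun b => σ g b - b
      map_add' := by intros; simp only [map_add]; ring
      map_smul' := by intro a b; simp [Algebra.smul_def, hσA, mul_sub] }
  let φ : B →ₗ[A] (G → B) := LinearMap.pi φg
  let f : A →ₗ[A] B := Algebra.linearMap A B
  have hex : Function.Exact f φ := by
    intro b
    constructor
    · intro hb
      apply hrange
      intro g
      have := congrFun hb g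
      simpa [φ, φg, sub_eq_zero] using this
    · rintro ⟨a, rfl⟩
      ext g
      simp [φ, φg, f, hσA]
  have hex' := Module.Flat.lTensor_exact A' hex
  let e := Algebra.IsPushout.equiv A A' B B'
  have he : ∀ g (x : A' ⊗[A] B), σ' g (e x) - e x = e ((φg g).lTensor A' x) := by
    intro g x
    induction x with
    | zero => simp
    | add x y hx hy => simp only [map_add]; rw [← hx, ← hy]; ring
    | tmul a b => simp [e, Algebra.IsPushout.equiv_tmul, φg, hσ'A, hσσ', mul_sub]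
  have hpi : ∀ (x : A' ⊗[A] B), TensorProduct.piRight A A A' (fun _ : G => B) (φ.lTensor A' x) =
      fun g => (φg g).lTensor A' x := by
    intro x
    induction x with
    | zero => ext g; simp
    | add x y hx hy => ext g; simp only [map_add, hx, hy, Pi.add_apply]
    | tmul a b => ext g; simp [φ]
  have hmap : ∀ a' : A', algebraMap A' B' a' = e (f.lTensor A' (a' ⊗ₜ[A] (1 : A))) := by
    intro a'
    simp [e, f, Algebra.IsPushout.equiv_tmul]
  refine ⟨?_, ?_⟩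
  · intro a₁ a₂ h12
    rw [hmap, hmap] at h12
    have h1 := e.injective h12
    have h2 := Module.Flat.lTensor_preserves_injective_linearMap (M := A') f hinj h1
    have := congrArg (TensorProduct.rid A A') h2
    simpa using this
  · intro b' hb'
    obtain ⟨x, rfl⟩ := e.surjective b'
    have hx : φ.lTensor A' x = 0 := by
      apply (TensorProduct.piRight A A A' (fun _ : G => B)).injective
      rw [hpi, map_zero]
      ext g
      have := he g x
      rw [hb' g, sub_self] at this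
      exact e.injective (by rw [← this]; simp)
    obtain ⟨y, rfl⟩ := (hex' x).mp hx
    refine ⟨TensorProduct.rid A A' y, ?_⟩
    rw [hmap]
    congr 2
    have : (TensorProduct.rid A A' y) ⊗ₜ[A] (1 : A) = y := by
      rw [← TensorProduct.rid_symm_apply, LinearEquiv.symm_apply_apply]
    exact this

variable {X Y X' Y' : Scheme.{u}} {G : Type u} [Group G] [Finite G]

theorem sections_baseChange_of_flat (ρ : G →* Aut X) (p : X ⟶ Y) (hp : SGA1.IsQuot ρ p)
    (qY : Y' ⟶ Y) [Flat qY] (pX : X' ⟶ X) (p' : X' ⟶ Y') (hX : IsPullback pX p' p qY)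
    (ρ' : G →* Aut X') (hρ₁ : ∀ g : G, (ρ' g).hom ≫ pX = pX ≫ (ρ g).hom)
    (hρ₂ : ∀ g : G, (ρ' g).hom ≫ p' = p')
    (V : Y.Opens) (hV : IsAffineOpen V) (V' : Y'.Opens) (hV' : IsAffineOpen V')
    (hle : V' ≤ qY ⁻¹ᵁ V) :
    Function.Injective (p'.app V').hom ∧
      ∀ s : Γ(X', p' ⁻¹ᵁ V'), (∀ g : G, sectionAct ρ' p' hρ₂ V' g s = s) →
        s ∈ Set.range (p'.app V').hom := by
  haveI : IsAffineHom p := hp.affine
  have hUX : IsAffineOpen (p ⁻¹ᵁ V) := hV.preimage p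
  have hUY : p' ⁻¹ᵁ V' = pX ⁻¹ᵁ (p ⁻¹ᵁ V) ⊓ p' ⁻¹ᵁ V' := by
    rw [← Scheme.Hom.comp_preimage, hX.w, Scheme.Hom.comp_preimage]
    exact (inf_eq_right.mpr (fun x hx => hle hx)).symm
  have hpo := (isIso_pushoutSection_iff hX hle (le_refl _) hUY).mp
    (isIso_pushoutSection_of_isAffineOpen hX hle le_rfl hUY hV hV' hUX)
  have eβ : p' ⁻¹ᵁ V' ≤ pX ⁻¹ᵁ (p ⁻¹ᵁ V) := by rw [hUY]; exact inf_le_left
  letI i1 : Algebra Γ(Y, V) Γ(Y', V') := (qY.appLE V V' hle).hom.toAlgebra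
  letI i2 : Algebra Γ(Y, V) Γ(X, p ⁻¹ᵁ V) := (p.appLE V (p ⁻¹ᵁ V) le_rfl).hom.toAlgebra
  letI i3 : Algebra Γ(Y', V') Γ(X', p' ⁻¹ᵁ V') := (p'.appLE V' (p' ⁻¹ᵁ V') le_rfl).hom.toAlgebra
  letI i4 : Algebra Γ(X, p ⁻¹ᵁ V) Γ(X', p' ⁻¹ᵁ V') :=
    (pX.appLE (p ⁻¹ᵁ V) (p' ⁻¹ᵁ V') eβ).hom.toAlgebra
  letI i5 : Algebra Γ(Y, V) Γ(X', p' ⁻¹ᵁ V') :=
    ((pX.appLE (p ⁻¹ᵁ V) (p' ⁻¹ᵁ V') eβ).hom.comp (p.appLE V (p ⁻¹ᵁ V) le_rfl).hom).toAlgebra
  haveI t1 : IsScalarTower Γ(Y, V) Γ(X, p ⁻¹ᵁ V) Γ(X', p' ⁻¹ᵁ V') :=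
    IsScalarTower.of_algebraMap_eq' rfl
  haveI t2 : IsScalarTower Γ(Y, V) Γ(Y', V') Γ(X', p' ⁻¹ᵁ V') := by
    apply IsScalarTower.of_algebraMap_eq'
    have := congrArg (fun f => f.hom) hpo.w
    exact this
  haveI hflat : Module.Flat Γ(Y, V) Γ(Y', V') := Scheme.Hom.flat_appLE qY hV hV' hle
  haveI hpush : Algebra.IsPushout Γ(Y, V) Γ(Y', V') Γ(X, p ⁻¹ᵁ V) Γ(X', p' ⁻¹ᵁ V') :=
    CommRingCat.isPushout_iff_isPushout.mp hpo.flip
  have hmain := invariants_baseChange (A := Γ(Y, V)) (A' := Γ(Y', V')) (B := Γ(X, p ⁻¹ᵁ V))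
    (B' := Γ(X', p' ⁻¹ᵁ V')) (fun g => sectionAct ρ p hp.inv V g)
    (fun g => sectionAct ρ' p' hρ₂ V' g) ?_ ?_ ?_ ?_ ?_
  · have happ : (algebraMap Γ(Y', V') Γ(X', p' ⁻¹ᵁ V')) = (p'.app V').hom := by
      change (p'.appLE V' (p' ⁻¹ᵁ V') le_rfl).hom = _
      rw [Scheme.Hom.appLE_eq_app]
    rw [happ] at hmain
    exact hmain
  · intro g a
    change sectionAct ρ p hp.inv V g ((p.appLE V (p ⁻¹ᵁ V) le_rfl).hom a) =
      (p.appLE V (p ⁻¹ᵁ V) le_rfl).hom a
    rw [Scheme.Hom.appLE_eq_app]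
    exact sectionAct_app' ρ p hp.inv V g a
  · intro g a
    change sectionAct ρ' p' hρ₂ V' g ((p'.appLE V' (p' ⁻¹ᵁ V') le_rfl).hom a) =
      (p'.appLE V' (p' ⁻¹ᵁ V') le_rfl).hom a
    rw [Scheme.Hom.appLE_eq_app]
    exact sectionAct_app' ρ' p' hρ₂ V' g a
  · intro g b
    have h1 : pX.appLE (p ⁻¹ᵁ V) (p' ⁻¹ᵁ V') eβ ≫
        (ρ' g).hom.appLE (p' ⁻¹ᵁ V') (p' ⁻¹ᵁ V') (SGA1.preimage_le_of_inv ρ' p' hρ₂ g V') =
        (ρ g).hom.appLE (p ⁻¹ᵁ V) (p ⁻¹ᵁ V) (SGA1.preimage_le_of_inv ρ p hp.inv g V) ≫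
          pX.appLE (p ⁻¹ᵁ V) (p' ⁻¹ᵁ V') eβ := by
      rw [Scheme.Hom.appLE_comp_appLE, Scheme.Hom.appLE_comp_appLE]
      exact appLE_congr_hom (hρ₁ g) _ _ _ _
    have h2 := congrArg (fun f => f.hom b) h1
    simp only [CommRingCat.hom_comp, RingHom.comp_apply] at h2
    exact h2
  · have : (algebraMap Γ(Y, V) Γ(X, p ⁻¹ᵁ V)) = (p.app V).hom := by
      change (p.appLE V (p ⁻¹ᵁ V) le_rfl).hom = _
      rw [Scheme.Hom.appLE_eq_app]
    rw [this]
    exact hp.injective V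
  · intro b hb
    have : (algebraMap Γ(Y, V) Γ(X, p ⁻¹ᵁ V)) = (p.app V).hom := by
      change (p.appLE V (p ⁻¹ᵁ V) le_rfl).hom = _
      rw [Scheme.Hom.appLE_eq_app]
    rw [this]
    exact (hp.range_iff V b).mpr hb

/-- Quotients by finite groups commute with flat base change. -/
theorem isQuot_of_isPullback_of_flat (ρ : G →* Aut X) (p : X ⟶ Y) (hp : SGA1.IsQuot ρ p)
    (qY : Y' ⟶ Y) [Flat qY] (pX : X' ⟶ X) (p' : X' ⟶ Y') (hX : IsPullback pX p' p qY)
    (ρ' : G →* Aut X') (hρ₁ : ∀ g : G, (ρ' g).hom ≫ pX = pX ≫ (ρ g).hom)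
    (hρ₂ : ∀ g : G, (ρ' g).hom ≫ p' = p') : SGA1.IsQuot ρ' p' := by
  haveI : IsAffineHom p := hp.affine
  haveI : IsAffineHom p' := MorphismProperty.of_isPullback hX hp.affine
  refine isQuot_of_basis ρ' p' hρ₂
    {V' : Y'.Opens | IsAffineOpen V' ∧ ∃ V : Y.Opens, IsAffineOpen V ∧ V' ≤ qY ⁻¹ᵁ V} ?_ ?_ ?_
  · rw [Opens.isBasis_iff_nbhd]
    intro U y hy
    obtain ⟨V, hV, hyV, -⟩ := Opens.isBasis_iff_nbhd.mp Y.isBasis_affineOpens
      (show qY y ∈ (⊤ : Y.Opens) from trivial)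
    obtain ⟨V', hV', hyV', hle⟩ := Opens.isBasis_iff_nbhd.mp Y'.isBasis_affineOpens
      (show y ∈ U ⊓ qY ⁻¹ᵁ V from ⟨hy, hyV⟩)
    exact ⟨V', ⟨hV', V, hV, le_trans hle inf_le_right⟩, hyV', le_trans hle inf_le_left⟩
  · rintro V' ⟨hV', V, hV, hle⟩
    exact (sections_baseChange_of_flat ρ p hp qY pX p' hX ρ' hρ₁ hρ₂ V hV V' hV' hle).1
  · rintro V' ⟨hV', V, hV, hle⟩
    exact (sections_baseChange_of_flat ρ p hp qY pX p' hX ρ' hρ₁ hρ₂ V hV V' hV' hle).2

end Groth.Agent.Lib.Helper69
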