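import Groth.Agent.Lib.Helper69.QuotChart
import Groth.Agent.S2925
import Groth.Agent.S2908

/-!
# Helper library (helper69): restriction of `SGA1.IsQuot` to charts, uniqueness of quotients,
saturated opens
-/

set_option autoImplicit false
universe u
open CategoryTheory CategoryTheory.Limits AlgebraicGeometry TopologicalSpace Opposite

namespace Groth.Agent.Lib.Helper69

variable {X Y X' Y' : Scheme.{u}} {G : Type u} [Group G] (ρ : G →* Aut X) (p : X ⟶ Y)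

/-- If `p` is a quotient, then a chart `p'` of `p` has the section properties of a quotient over
opens of the form `jY ⁻¹ᵁ V`, `V ≤ range jY`. -/
theorem sections_to_chart (hq : SGA1.IsQuot ρ p) (ρ' : G →* Aut X') (p' : X' ⟶ Y')
    (hinv' : ∀ g : G, (ρ' g).hom ≫ p' = p')
    (jX : X' ⟶ X) (jY : Y' ⟶ Y) [IsOpenImmersion jX] [IsOpenImmersion jY]
    (hsq : jX ≫ p = p' ≫ jY) (hpre : p ⁻¹ᵁ jY.opensRange ≤ jX.opensRange)
    (heq : ∀ g : G, (ρ' g).hom ≫ jX = jX ≫ (ρ g).hom) (V : Y.Opens) (hV : V ≤ jY.opensRange) :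
    Function.Injective (p'.app (jY ⁻¹ᵁ V)).hom ∧
      ∀ s : Γ(X', p' ⁻¹ᵁ (jY ⁻¹ᵁ V)), (∀ g : G, sectionAct ρ' p' hinv' (jY ⁻¹ᵁ V) g s = s) →
        s ∈ Set.range (p'.app (jY ⁻¹ᵁ V)).hom := by
  have hinv := hq.inv
  have hpt : ∀ x' : X', p (jX x') = jY (p' x') := fun x' => by
    rw [← Scheme.Hom.comp_apply, hsq, Scheme.Hom.comp_apply]
  have e : p' ⁻¹ᵁ (jY ⁻¹ᵁ V) ≤ jX ⁻¹ᵁ (p ⁻¹ᵁ V) := by
    intro x' hx'
    change p (jX x') ∈ V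
    rw [hpt]
    exact hx'
  have e' : jX ⁻¹ᵁ (p ⁻¹ᵁ V) ≤ p' ⁻¹ᵁ (jY ⁻¹ᵁ V) := by
    intro x' hx'
    change jY (p' x') ∈ V
    rw [← hpt]
    exact hx'
  have hUle : p ⁻¹ᵁ V ≤ jX.opensRange := le_trans (fun x hx => hV hx) hpre
  have hα : IsIso (jY.app V) := jY.isIso_app V hV
  have hβ : IsIso (jX.appLE (p ⁻¹ᵁ V) (p' ⁻¹ᵁ (jY ⁻¹ᵁ V)) e) := by
    have h1 : IsIso (jX.app (p ⁻¹ᵁ V)) := jX.isIso_app _ hUle
    have h2 : IsIso (X'.presheaf.map (homOfLE e).op) := by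
      have : IsIso (homOfLE e) := ⟨homOfLE e', rfl, rfl⟩
      infer_instance
    rw [Scheme.Hom.appLE]
    infer_instance
  have hsquare : p.app V ≫ jX.appLE (p ⁻¹ᵁ V) (p' ⁻¹ᵁ (jY ⁻¹ᵁ V)) e =
      jY.app V ≫ p'.app (jY ⁻¹ᵁ V) := by
    rw [← Scheme.Hom.comp_appLE, ← Scheme.Hom.appLE_eq_app (f := p'), ← Scheme.Hom.comp_appLE]
    exact appLE_congr_hom hsq _ _ _ _
  have hsq_apply : ∀ a : Γ(Y, V),
      (jX.appLE (p ⁻¹ᵁ V) (p' ⁻¹ᵁ (jY ⁻¹ᵁ V)) e).hom ((p.app V).hom a) =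
        (p'.app (jY ⁻¹ᵁ V)).hom ((jY.app V).hom a) := fun a => by
    have := congrArg (fun f => f.hom a) hsquare
    simpa using this
  have hβbij : Function.Bijective (jX.appLE (p ⁻¹ᵁ V) (p' ⁻¹ᵁ (jY ⁻¹ᵁ V)) e).hom :=
    ConcreteCategory.bijective_of_isIso _
  have hαbij : Function.Bijective (jY.app V).hom := ConcreteCategory.bijective_of_isIso _
  have hact : ∀ (g : G) (s : Γ(X, p ⁻¹ᵁ V)),
      sectionAct ρ' p' hinv' (jY ⁻¹ᵁ V) g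
        ((jX.appLE (p ⁻¹ᵁ V) (p' ⁻¹ᵁ (jY ⁻¹ᵁ V)) e).hom s) =
      (jX.appLE (p ⁻¹ᵁ V) (p' ⁻¹ᵁ (jY ⁻¹ᵁ V)) e).hom (sectionAct ρ p hinv V g s) := by
    intro g s
    have h1 : jX.appLE (p ⁻¹ᵁ V) (p' ⁻¹ᵁ (jY ⁻¹ᵁ V)) e ≫
        (ρ' g).hom.appLE (p' ⁻¹ᵁ (jY ⁻¹ᵁ V)) (p' ⁻¹ᵁ (jY ⁻¹ᵁ V))
          (SGA1.preimage_le_of_inv ρ' p' hinv' g _) =
        (ρ g).hom.appLE (p ⁻¹ᵁ V) (p ⁻¹ᵁ V) (SGA1.preimage_le_of_inv ρ p hinv g V) ≫
          jX.appLE (p ⁻¹ᵁ V) (p' ⁻¹ᵁ (jY ⁻¹ᵁ V)) e := by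
      rw [Scheme.Hom.appLE_comp_appLE, Scheme.Hom.appLE_comp_appLE]
      exact appLE_congr_hom (heq g) _ _ _ _
    have h2 := congrArg (fun f => f.hom s) h1
    simp only [CommRingCat.hom_comp, RingHom.comp_apply] at h2
    exact h2
  refine ⟨?_, ?_⟩
  · intro a b hab
    obtain ⟨a₀, rfl⟩ := hαbij.2 a
    obtain ⟨b₀, rfl⟩ := hαbij.2 b
    rw [← hsq_apply, ← hsq_apply] at hab
    rw [hq.injective V (hβbij.1 hab)]
  · intro s' hs'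
    obtain ⟨s, rfl⟩ := hβbij.2 s'
    have hs : ∀ g : G, sectionAct ρ p hinv V g s = s := by
      intro g
      apply hβbij.1
      rw [← hact, hs' g]
    obtain ⟨t, rfl⟩ := (hq.range_iff V s).mpr hs
    exact ⟨(jY.app V).hom t, (hsq_apply t).symm⟩

/-- A chart of a quotient (cartesian square of equivariant open immersions) is a quotient. -/
theorem isQuot_restrict_chart (hq : SGA1.IsQuot ρ p) (ρ' : G →* Aut X') (p' : X' ⟶ Y')
    (jX : X' ⟶ X) (jY : Y' ⟶ Y) [IsOpenImmersion jX] [IsOpenImmersion jY]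
    (hsq : jX ≫ p = p' ≫ jY) (hpre : p ⁻¹ᵁ jY.opensRange ≤ jX.opensRange)
    (heq : ∀ g : G, (ρ' g).hom ≫ jX = jX ≫ (ρ g).hom) : SGA1.IsQuot ρ' p' := by
  have hinv' : ∀ g : G, (ρ' g).hom ≫ p' = p' := by
    intro g
    rw [← cancel_mono jY, Category.assoc, ← hsq, ← Category.assoc, heq, Category.assoc, hq.inv]
  have hrange : p ⁻¹ᵁ jY.opensRange = jX.opensRange := by
    apply le_antisymm hpre
    rintro x ⟨x', rfl⟩
    change p (jX x') ∈ jY.opensRange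
    rw [← Scheme.Hom.comp_apply, hsq, Scheme.Hom.comp_apply]
    exact ⟨p' x', rfl⟩
  have hpb : IsPullback p' jX jY p := IsOpenImmersion.isPullback p' jX jY p hsq hrange
  haveI : IsAffineHom p' := MorphismProperty.of_isPullback hpb.flip hq.affine
  refine isQuot_of_basis ρ' p' hinv' {V₁ : Y'.Opens | ∃ V : Y.Opens, V ≤ jY.opensRange ∧
    V₁ = jY ⁻¹ᵁ V} ?_ ?_ ?_
  · rw [Opens.isBasis_iff_nbhd]
    intro U y hy
    refine ⟨U, ⟨jY ''ᵁ U, ?_, (jY.preimage_image_eq U).symm⟩, hy, le_rfl⟩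
    rintro _ ⟨y', -, rfl⟩
    exact ⟨y', rfl⟩
  · rintro _ ⟨V, hV, rfl⟩
    exact (sections_to_chart ρ p hq ρ' p' hinv' jX jY hsq hpre heq V hV).1
  · rintro _ ⟨V, hV, rfl⟩
    exact (sections_to_chart ρ p hq ρ' p' hinv' jX jY hsq hpre heq V hV).2

variable [Finite G]

/-- Two quotients of the same action are canonically isomorphic. -/
theorem isQuot_unique {Y₂ : Scheme.{u}} (p₂ : X ⟶ Y₂) (h₁ : SGA1.IsQuot ρ p)
    (h₂ : SGA1.IsQuot ρ p₂) : ∃ e : Y ≅ Y₂, p ≫ e.hom = p₂ := by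
  obtain ⟨a, ha, -⟩ := Groth.Agent.S2925.result ρ p h₁ Y₂ p₂ h₂.inv
  obtain ⟨b, hb, -⟩ := Groth.Agent.S2925.result ρ p₂ h₂ Y p h₁.inv
  obtain ⟨c, -, hc⟩ := Groth.Agent.S2925.result ρ p h₁ Y p h₁.inv
  obtain ⟨d, -, hd⟩ := Groth.Agent.S2925.result ρ p₂ h₂ Y₂ p₂ h₂.inv
  refine ⟨⟨a, b, ?_, ?_⟩, ha⟩
  · have e1 : p ≫ a ≫ b = p := by rw [← Category.assoc, ha, hb]
    rw [hc (a ≫ b) e1, hc (𝟙 _) (Category.comp_id _)]
  · have e1 : p₂ ≫ b ≫ a = p₂ := by rw [← Category.assoc, hb, ha]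
    rw [hd (b ≫ a) e1, hd (𝟙 _) (Category.comp_id _)]

/-- Factorizations through a quotient are unique. -/
theorem isQuot_hom_ext (h₁ : SGA1.IsQuot ρ p) {Z : Scheme.{u}} (a b : Y ⟶ Z)
    (hab : p ≫ a = p ≫ b) : a = b := by
  have hinv : ∀ g : G, (ρ g).hom ≫ (p ≫ a) = p ≫ a := fun g => by
    rw [← Category.assoc, h₁.inv]
  obtain ⟨c, -, hc⟩ := Groth.Agent.S2925.result ρ p h₁ Z (p ≫ a) hinv
  rw [hc a rfl, hc b hab.symm]

/-- An invariant open of the source of a quotient is the preimage of an open of the target. -/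
theorem exists_opens_preimage_eq (h₁ : SGA1.IsQuot ρ p) (O : X.Opens)
    (hO : ∀ (g : G) (x : X), x ∈ O → (ρ g).hom x ∈ O) : ∃ V : Y.Opens, p ⁻¹ᵁ V = O := by
  obtain ⟨hsurj, horb, hquot⟩ := Groth.Agent.S2908.result ρ p h₁
  have hsat : p.base ⁻¹' (p.base '' (O : Set X)) = (O : Set X) := by
    apply Set.Subset.antisymm
    · rintro x ⟨x', hx', hxx'⟩
      obtain ⟨g, hg⟩ := (horb x' x).mp hxx'
      rw [← hg]
      exact hO g x' hx'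
    · exact Set.subset_preimage_image _ _
  have hopen : IsOpen (p.base '' (O : Set X)) := by
    rw [← hquot.isOpen_preimage, hsat]
    exact O.isOpen
  refine ⟨⟨_, hopen⟩, ?_⟩
  ext x
  change x ∈ p.base ⁻¹' (p.base '' (O : Set X)) ↔ x ∈ (O : Set X)
  rw [hsat]

end Groth.Agent.Lib.Helper69
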