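import Groth.Prelude.Def_SymProd
import Groth.Agent.Lib.Helper69.Quot4
import Mathlib.AlgebraicGeometry.Limits

/-!
# Helper library (helper69): box opens in fibre powers

`exists_basicOpen_le_of_finset`: finitely many points of an open subset of an affine open lie in a
basic open inside it (prime avoidance). `boxOpen f d V U`: the open of the `d`-fold fibre power of
`f : X ⟶ S` of points over `V` with all coordinates in `U`; it is stable under permutations and
affine when `U`, `V` are affine and `U ≤ f⁻¹V`.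
-/

set_option autoImplicit false
universe u
open CategoryTheory CategoryTheory.Limits AlgebraicGeometry TopologicalSpace Opposite

namespace Groth.Agent.Lib.Helper69

namespace SymBox

section Avoid

variable {X : Scheme.{u}} {U : X.Opens} (hU : IsAffineOpen U)

include hU in
/-- Finitely many points of an open subset of an affine open lie in a basic open inside it. -/
theorem exists_basicOpen_le_of_finset (O : X.Opens) (T : Finset X) (hTU : ∀ x ∈ T, x ∈ U)
    (hTO : ∀ x ∈ T, x ∈ O) :
    ∃ h : Γ(X, U), X.basicOpen h ≤ O ∧ ∀ x ∈ T, x ∈ X.basicOpen h := by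
  classical
  by_cases hne : T.Nonempty
  swap
  · refine ⟨0, ?_, fun x hx => (hne ⟨x, hx⟩).elim⟩
    rw [Scheme.basicOpen_zero]
    exact bot_le
  obtain ⟨x₀, hx₀⟩ := hne
  let ι := {x : X // x ∈ T}
  let Q : ι → Ideal Γ(X, U) := fun x => (hU.primeIdealOf ⟨x.1, hTU x.1 x.2⟩).asIdeal
  choose b hb1 hb2 using fun x : ι => hU.exists_basicOpen_le ⟨x.1, hTO x.1 x.2⟩ (hTU x.1 x.2)
  have hbQ : ∀ x, b x ∉ Q x := fun x =>
    (mem_basicOpen_iff_notMem_primeIdealOf hU _ (hTU x.1 x.2) (b x)).mp (hb2 x)
  let I : Ideal Γ(X, U) := Ideal.span (Set.range b)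
  have hI : ¬ ((I : Set Γ(X, U)) ⊆ ⋃ x ∈ ((Finset.univ : Finset ι) : Set ι), Q x) := by
    rw [Ideal.subset_union_prime ⟨x₀, hx₀⟩ ⟨x₀, hx₀⟩
      (fun x _ _ _ => (hU.primeIdealOf _).isPrime)]
    rintro ⟨x, -, hx⟩
    exact hbQ x (hx (Ideal.subset_span ⟨x, rfl⟩))
  obtain ⟨c, hcI, hcQ⟩ := Set.not_subset.mp hI
  have hcQ' : ∀ x, c ∉ Q x := fun x hcx =>
    hcQ (Set.mem_biUnion (Finset.mem_coe.mpr (Finset.mem_univ x)) hcx)
  refine ⟨c, ?_, fun x hx => ?_⟩
  · intro x' hx'
    have hx'U : x' ∈ U := X.basicOpen_le c hx'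
    rw [mem_basicOpen_iff_notMem_primeIdealOf hU x' hx'U] at hx'
    have h3 : ∃ x, b x ∉ (hU.primeIdealOf ⟨x', hx'U⟩).asIdeal := by
      by_contra hall
      push Not at hall
      apply hx'
      have : I ≤ (hU.primeIdealOf ⟨x', hx'U⟩).asIdeal := by
        rw [Ideal.span_le]
        rintro _ ⟨x, rfl⟩
        exact hall x
      exact this hcI
    obtain ⟨x, hx⟩ := h3
    exact hb1 x ((mem_basicOpen_iff_notMem_primeIdealOf hU x' hx'U (b x)).mpr hx)
  · exact (mem_basicOpen_iff_notMem_primeIdealOf hU x (hTU x hx) c).mpr (hcQ' ⟨x, hx⟩)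

end Avoid

section Box

variable {X S : Scheme.{u}} (f : X ⟶ S) (d : ℕ)

/-- The "box" open of the fibre power: points over `V` all of whose coordinates lie in `U`. -/
noncomputable def boxOpen (V : S.Opens) (U : X.Opens) : (SymProd.fibPow f d).Opens :=
  (WidePullback.base (fun _ : Fin d => f)) ⁻¹ᵁ V ⊓
    Finset.univ.inf (fun i : Fin d => (WidePullback.π (fun _ : Fin d => f) i) ⁻¹ᵁ U)

theorem mem_boxOpen (V : S.Opens) (U : X.Opens) (x : ↥(SymProd.fibPow f d)) :
    x ∈ boxOpen f d V U ↔ (WidePullback.base (fun _ : Fin d => f)) x ∈ V ∧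
      ∀ i : Fin d, (WidePullback.π (fun _ : Fin d => f) i) x ∈ U := by
  unfold boxOpen
  rw [← SetLike.mem_coe, Opens.coe_inf, Opens.coe_finset_inf, Finset.inf_set_eq_iInter]
  simp only [Set.mem_inter_iff, Set.mem_iInter, Finset.mem_univ, true_implies,
    Function.comp_apply]
  exact Iff.rfl

theorem permHom_mem_boxOpen (V : S.Opens) (U : X.Opens) (σ : Equiv.Perm (Fin d))
    (x : ↥(SymProd.fibPow f d)) (hx : x ∈ boxOpen f d V U) :
    (SymProd.permHom f d σ) x ∈ boxOpen f d V U := by
  rw [mem_boxOpen] at hx ⊢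
  refine ⟨?_, fun i => ?_⟩
  · rw [← Scheme.Hom.comp_apply, SymProd.permHom_base]
    exact hx.1
  · rw [← Scheme.Hom.comp_apply, SymProd.permHom_π]
    exact hx.2 _

theorem permHom_preimage_boxOpen (V : S.Opens) (U : X.Opens) (σ : Equiv.Perm (Fin d)) :
    (SymProd.permHom f d σ) ⁻¹ᵁ boxOpen f d V U = boxOpen f d V U := by
  apply le_antisymm
  · intro x hx
    have h1 := permHom_mem_boxOpen f d V U σ⁻¹ _ hx
    rw [← Scheme.Hom.comp_apply, ← SymProd.permHom_mul, inv_mul_cancel, SymProd.permHom_one] at h1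
    exact h1
  · intro x hx
    exact permHom_mem_boxOpen f d V U σ x hx

variable {V : S.Opens} {U : X.Opens}

theorem isAffineOpen_boxOpen (hV : IsAffineOpen V) (hU : IsAffineOpen U) (hUV : U ≤ f ⁻¹ᵁ V) :
    IsAffineOpen (boxOpen f d V U) := by
  haveI : IsAffine (V : Scheme.{u}) := hV
  haveI : IsAffine (U : Scheme.{u}) := hU
  let g : (U : Scheme.{u}) ⟶ (V : Scheme.{u}) := f.resLE V U hUV
  have hg : g ≫ V.ι = U.ι ≫ f := Scheme.Hom.resLE_comp_ι f hUV
  let P' : Scheme.{u} := widePullback (V : Scheme.{u}) (fun _ : Fin d => (U : Scheme.{u}))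
    (fun _ => g)
  haveI : ∀ i : WidePullbackShape (Fin d), IsAffine ((WidePullbackShape.wideCospan
      (V : Scheme.{u}) (fun _ : Fin d => (U : Scheme.{u})) (fun _ => g)).obj i) := by
    rintro (_ | i)
    · exact hV
    · exact hU
  haveI : IsAffine P' := Scheme.isAffine_of_isLimit _ (limit.isLimit _)
  let W := boxOpen f d V U
  -- the map from the box to the wide pullback of the restrictions
  have hb : Set.range (W.ι ≫ WidePullback.base (fun _ : Fin d => f)) ⊆ Set.range V.ι := by
    rintro _ ⟨z, rfl⟩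
    rw [Scheme.Opens.range_ι]
    exact ((mem_boxOpen f d V U _).mp z.2).1
  have hπ : ∀ i : Fin d, Set.range (W.ι ≫ WidePullback.π (fun _ : Fin d => f) i) ⊆
      Set.range U.ι := by
    rintro i _ ⟨z, rfl⟩
    rw [Scheme.Opens.range_ι]
    exact ((mem_boxOpen f d V U _).mp z.2).2 i
  let k : (W : Scheme.{u}) ⟶ P' :=
    WidePullback.lift (IsOpenImmersion.lift V.ι _ hb)
      (fun i => IsOpenImmersion.lift U.ι _ (hπ i)) (by
        intro i
        rw [← cancel_mono V.ι, Category.assoc, hg, IsOpenImmersion.lift_fac_assoc,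
          IsOpenImmersion.lift_fac, Category.assoc, WidePullback.π_arrow])
  let j : P' ⟶ SymProd.fibPow f d :=
    WidePullback.lift (WidePullback.base (fun _ : Fin d => g) ≫ V.ι)
      (fun i => WidePullback.π (fun _ : Fin d => g) i ≫ U.ι) (by
        intro i
        rw [Category.assoc, ← hg, ← Category.assoc, WidePullback.π_arrow])
  have hj : Set.range j ⊆ Set.range W.ι := by
    rintro _ ⟨z, rfl⟩
    rw [Scheme.Opens.range_ι]
    change j z ∈ boxOpen f d V U
    rw [mem_boxOpen]
    refine ⟨?_, fun i => ?_⟩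
    · rw [← Scheme.Hom.comp_apply, WidePullback.lift_base, Scheme.Hom.comp_apply]
      exact (WidePullback.base (fun _ : Fin d => g) z).2
    · rw [← Scheme.Hom.comp_apply, WidePullback.lift_π, Scheme.Hom.comp_apply]
      exact (WidePullback.π (fun _ : Fin d => g) i z).2
  let j' : P' ⟶ (W : Scheme.{u}) := IsOpenImmersion.lift W.ι j hj
  have hkj : k ≫ j' = 𝟙 _ := by
    rw [← cancel_mono W.ι, Category.assoc, IsOpenImmersion.lift_fac, Category.id_comp]
    apply WidePullback.hom_ext
    · intro i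
      rw [Category.assoc, WidePullback.lift_π, ← Category.assoc, WidePullback.lift_π,
        IsOpenImmersion.lift_fac]
    · rw [Category.assoc, WidePullback.lift_base, ← Category.assoc, WidePullback.lift_base,
        IsOpenImmersion.lift_fac]
  have hjk : j' ≫ k = 𝟙 _ := by
    apply WidePullback.hom_ext
    · intro i
      rw [Category.assoc, WidePullback.lift_π, Category.id_comp, ← cancel_mono U.ι,
        Category.assoc, IsOpenImmersion.lift_fac, ← Category.assoc, IsOpenImmersion.lift_fac,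
        WidePullback.lift_π]
    · rw [Category.assoc, WidePullback.lift_base, Category.id_comp, ← cancel_mono V.ι,
        Category.assoc, IsOpenImmersion.lift_fac, ← Category.assoc, IsOpenImmersion.lift_fac,
        WidePullback.lift_base]
  haveI : IsIso k := ⟨j', hkj, hjk⟩
  exact IsAffine.of_isIso k

end Box

end SymBox

end Groth.Agent.Lib.Helper69
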