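import Groth.Agent.Lib.Helper69.SymChart
import Groth.Agent.S13605

/-!
# Helper library (helper69): existence of box charts of symmetric powers

`exists_chart`: for an (AF) morphism `f : X ⟶ S` and a `d`-th symmetric power `(Y, q, g)`, every point
of `Y` has an affine open neighbourhood `W'` with `q⁻¹W' = U^d_V` (a box open) for affine opens
`V ⊆ S` (in a prescribed affine cover) and `U ⊆ f⁻¹V`, and `W' ⊆ g⁻¹V`; all `d ≥ 0`.
-/

set_option autoImplicit false
universe u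
open CategoryTheory CategoryTheory.Limits AlgebraicGeometry TopologicalSpace Opposite

namespace Groth.Agent.Lib.Helper69

namespace SymChart
open SymBox

variable {X S Y : Scheme.{u}} (f : X ⟶ S) (d : ℕ)

theorem exists_chart (hAF : SymProd.IsAF f)
    (𝒮 : Set S.Opens) (h𝒮 : ∀ V ∈ 𝒮, IsAffineOpen V) (hcov : ∀ s : S, ∃ V ∈ 𝒮, s ∈ V)
    (q : SymProd.fibPow f d ⟶ Y) (g : Y ⟶ S) (hq : SymProd.IsSymProd f d q g) (y : Y) :
    ∃ V ∈ 𝒮, ∃ (U : X.Opens) (W' : Y.Opens), IsAffineOpen U ∧ U ≤ f ⁻¹ᵁ V ∧ y ∈ W' ∧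
      IsAffineOpen W' ∧ q ⁻¹ᵁ W' = boxOpen f d V U ∧ W' ≤ g ⁻¹ᵁ V := by
  have hQ := hq.isQuot
  obtain ⟨hsurj, -, -⟩ := Groth.Agent.S2908.result (SymProd.permActU f d) q hQ
  have hle : ∀ (V : S.Opens) (U : X.Opens) (W' : Y.Opens), q ⁻¹ᵁ W' = boxOpen f d V U →
      W' ≤ g ⁻¹ᵁ V := by
    intro V U W' hW' y' hy'
    obtain ⟨x, rfl⟩ := hsurj y'
    have hx : x ∈ boxOpen f d V U := by rw [← hW']; exact hy'
    have h1 := ((mem_boxOpen f d V U x).mp hx).1
    change g (q x) ∈ V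
    rw [← Scheme.Hom.comp_apply, hq.over]
    exact h1
  rcases Nat.eq_zero_or_pos d with rfl | hd
  · obtain ⟨V, hV𝒮, hsV⟩ := hcov (g y)
    have hbox : q ⁻¹ᵁ (g ⁻¹ᵁ V) = boxOpen f 0 V ⊥ := by
      ext x
      rw [SetLike.mem_coe, SetLike.mem_coe, mem_boxOpen]
      constructor
      · intro hx
        refine ⟨?_, fun i => i.elim0⟩
        change g (q x) ∈ V at hx
        rwa [← Scheme.Hom.comp_apply, hq.over] at hx
      · intro hx
        change g (q x) ∈ V
        rw [← Scheme.Hom.comp_apply, hq.over]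
        exact hx.1
    refine ⟨V, hV𝒮, ⊥, g ⁻¹ᵁ V, isAffineOpen_bot X, bot_le, hsV, ?_, hbox, le_rfl⟩
    apply isAffineOpen_of_isAffineOpen_preimage (SymProd.permActU f 0) q hQ
    rw [hbox]
    exact isAffineOpen_boxOpen f 0 (h𝒮 V hV𝒮) (isAffineOpen_bot X) bot_le
  · obtain ⟨V, hV𝒮, U, hU, hUV, W, hWset, -, -, W', hyW', hW'aff, hW'⟩ :=
      Groth.Agent.S13605.result f hAF 𝒮 h𝒮 hcov d hd q g hq y
    have hWbox : W = boxOpen f d V U := by
      ext z
      rw [hWset, SetLike.mem_coe, mem_boxOpen]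
      simp only [Set.mem_iInter, Set.mem_preimage, SetLike.mem_coe]
      constructor
      · intro hz
        refine ⟨?_, hz⟩
        have h0 := hUV (hz ⟨0, hd⟩)
        change f ((WidePullback.π (fun _ : Fin d => f) ⟨0, hd⟩) z) ∈ V at h0
        rwa [← Scheme.Hom.comp_apply, WidePullback.π_arrow] at h0
      · exact fun hz => hz.2
    rw [hWbox] at hW'
    exact ⟨V, hV𝒮, U, W', hU, hUV, hyW', hW'aff, hW', hle V U W' hW'⟩

end SymChart

end Groth.Agent.Lib.Helper69
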