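import Groth.Agent.Lib.Helper69.TSBaseChange
import Groth.Agent.Lib.Helper69.QuotFlat
import Groth.Agent.Lib.Helper69.SymChart2

/-!
# Helper library (helper69): symmetric powers of flat (AF) morphisms commute with base change

* `invariants_pushout_of_TS`: the algebraic core. If `C ⊆ D` is (equivariantly, `R`-linearly) the pair
  `TS^n(M) ⊆ T^n(M)` for a flat `R`-module `M`, then for any `R → R'` the pushouts `C' → D'` again
  identify `C'` with the invariants of `D'` (uses `TSBC.lTensor_subtype_injective`,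
  `TSBC.mem_range_lTensor_subtype`).
* `sections_baseChange_of_flat_local`: quotient section properties over one affine open pass to affine
  opens of a flat base change.
* `sections_chart`, `isPullback_c`, `isPullback_q'`, `isSymProd_baseChange`: the scheme-level statement.
-/

set_option autoImplicit false
set_option linter.unusedSectionVars false
set_option linter.style.haveILetI false

namespace Groth.Agent.Lib.Helper69.SymBC
open scoped TensorProduct
open CategoryTheory CategoryTheory.Limits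
open Groth.Agent.Lib.Helper16.FlatTensor
universe u

/-- **Algebraic core.** A pushout of the pair "invariants ⊆ ring with action" along `R → R'`,
when the pair is `R`-linearly and equivariantly `TS^n(M) ⊆ T^n(M)` for a flat `R`-module `M`. -/
theorem invariants_pushout_of_TS {R R' C C' D D' : CommRingCat.{u}}
    (rc : R ⟶ C) (cd : C ⟶ D) (rd : R ⟶ D) (rr' : R ⟶ R') (r'c' : R' ⟶ C') (cc' : C ⟶ C')
    (c'd' : C' ⟶ D') (dd' : D ⟶ D') (r'd' : R' ⟶ D')
    (hrd : rc ≫ cd = rd) (hr'd' : r'c' ≫ c'd' = r'd') (hsq : cc' ≫ c'd' = cd ≫ dd')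
    (hC : IsPushout rc rr' cc' r'c') (hD : IsPushout rd rr' dd' r'd')
    {M : Type u} [AddCommGroup M] [Module R M] [Module.Flat R M] (n : ℕ)
    (Φ : D ≃+ (⨂[R] _ : Fin n, M)) (hΦ : ∀ (r : R) (d : D), Φ (rd.hom r * d) = r • Φ d)
    (σ : Equiv.Perm (Fin n) → (D ⟶ D)) (π : Equiv.Perm (Fin n) → Equiv.Perm (Fin n))
    (hπ : Function.Surjective π)
    (hΦσ : ∀ τ (d : D), Φ ((σ τ).hom d) =
      PiTensorProduct.reindex R (fun _ : Fin n => M) (π τ) (Φ d))
    (hcd : Function.Injective cd.hom)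
    (hrange : ∀ d : D, (∀ τ, (σ τ).hom d = d) → d ∈ Set.range cd.hom)
    (hinvC : ∀ τ, cd ≫ σ τ = cd)
    (σ' : Equiv.Perm (Fin n) → (D' ⟶ D'))
    (hσ'R' : ∀ τ, r'd' ≫ σ' τ = r'd') (hσσ' : ∀ τ, dd' ≫ σ' τ = σ τ ≫ dd') :
    Function.Injective c'd'.hom ∧
      ∀ d' : D', (∀ τ, (σ' τ).hom d' = d') → d' ∈ Set.range c'd'.hom := by
  -- elementwise forms
  have erd : ∀ r : R, cd.hom (rc.hom r) = rd.hom r := fun r => by
    rw [← hrd]; rfl
  have er'd' : ∀ r' : R', c'd'.hom (r'c'.hom r') = r'd'.hom r' := fun r' => by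
    rw [← hr'd']; rfl
  have esq : ∀ c : C, c'd'.hom (cc'.hom c) = dd'.hom (cd.hom c) := fun c => by
    have := congrArg (fun φ => φ.hom c) hsq
    simpa using this
  have einvC : ∀ τ (c : C), (σ τ).hom (cd.hom c) = cd.hom c := fun τ c => by
    have := congrArg (fun φ => φ.hom c) (hinvC τ)
    simpa using this
  have eσ'R' : ∀ τ (r' : R'), (σ' τ).hom (r'd'.hom r') = r'd'.hom r' := fun τ r' => by
    have := congrArg (fun φ => φ.hom r') (hσ'R' τ)
    simpa using this
  have eσσ' : ∀ τ (d : D), (σ' τ).hom (dd'.hom d) = dd'.hom ((σ τ).hom d) := fun τ d => by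
    have := congrArg (fun φ => φ.hom d) (hσσ' τ)
    simpa using this
  -- algebra structures
  letI aRR' : Algebra R R' := rr'.hom.toAlgebra
  letI aRC : Algebra R C := rc.hom.toAlgebra
  letI aRD : Algebra R D := rd.hom.toAlgebra
  letI aR'C' : Algebra R' C' := r'c'.hom.toAlgebra
  letI aCC' : Algebra C C' := cc'.hom.toAlgebra
  letI aRC' : Algebra R C' := (rc ≫ cc').hom.toAlgebra
  letI aR'D' : Algebra R' D' := r'd'.hom.toAlgebra
  letI aDD' : Algebra D D' := dd'.hom.toAlgebra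
  letI aRD' : Algebra R D' := (rd ≫ dd').hom.toAlgebra
  haveI t1 : IsScalarTower R C C' := IsScalarTower.of_algebraMap_eq' rfl
  haveI t2 : IsScalarTower R R' C' := by
    apply IsScalarTower.of_algebraMap_eq'
    exact congrArg (fun f => f.hom) hC.w
  haveI t3 : IsScalarTower R D D' := IsScalarTower.of_algebraMap_eq' rfl
  haveI t4 : IsScalarTower R R' D' := by
    apply IsScalarTower.of_algebraMap_eq'
    exact congrArg (fun f => f.hom) hD.w
  haveI pC : Algebra.IsPushout R R' C C' := CommRingCat.isPushout_iff_isPushout.mp hC.flip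
  haveI pD : Algebra.IsPushout R R' D D' := CommRingCat.isPushout_iff_isPushout.mp hD.flip
  -- linear maps
  let fCD : C →ₗ[R] D :=
    { toFun := cd.hom
      map_add' := map_add _
      map_smul' := fun r c => by
        rw [Algebra.smul_def, Algebra.smul_def, map_mul]
        congr 1
        exact erd r }
  let ΦL : D ≃ₗ[R] (⨂[R] _ : Fin n, M) :=
    { Φ with
      map_smul' := fun r d => by
        rw [Algebra.smul_def]
        exact hΦ r d }
  let sL : Equiv.Perm (Fin n) → D →ₗ[R] D := fun τ =>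
    { toFun := (σ τ).hom
      map_add' := map_add _
      map_smul' := fun r d => by
        rw [Algebra.smul_def, Algebra.smul_def, map_mul]
        congr 1
        change (σ τ).hom (rd.hom r) = rd.hom r
        rw [← erd, einvC] }
  have hΦσL : ∀ τ, (PiTensorProduct.reindex R (fun _ : Fin n => M) (π τ)).toLinearMap ∘ₗ
      ΦL.toLinearMap = ΦL.toLinearMap ∘ₗ sL τ := by
    intro τ
    apply LinearMap.ext
    intro d
    exact (hΦσ τ d).symm
  have hmemTS : ∀ c : C, Φ (cd.hom c) ∈ TSsub R M n := by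
    intro c
    rw [mem_TSsub]
    intro τ'
    obtain ⟨τ, rfl⟩ := hπ τ'
    rw [← hΦσ, einvC]
  let θ : C →ₗ[R] TSsub R M n := (ΦL.toLinearMap ∘ₗ fCD).codRestrict _ hmemTS
  have hθbij : Function.Bijective θ := by
    constructor
    · intro a b hab
      have h1 := congrArg Subtype.val hab
      exact hcd (Φ.injective h1)
    · rintro ⟨t, ht⟩
      have hinv : ∀ τ, (σ τ).hom (Φ.symm t) = Φ.symm t := by
        intro τ
        apply Φ.injective
        rw [hΦσ, AddEquiv.apply_symm_apply]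
        exact (mem_TSsub t).1 ht (π τ)
      obtain ⟨c, hc⟩ := hrange _ hinv
      refine ⟨c, Subtype.ext ?_⟩
      change Φ (cd.hom c) = t
      rw [hc, AddEquiv.apply_symm_apply]
  let θe : C ≃ₗ[R] TSsub R M n := LinearEquiv.ofBijective θ hθbij
  have hkey : (TSsub R M n).subtype ∘ₗ θe.toLinearMap = ΦL.toLinearMap ∘ₗ fCD := by
    apply LinearMap.ext
    intro c
    rfl
  have hfCD : fCD = ΦL.symm.toLinearMap ∘ₗ (TSsub R M n).subtype ∘ₗ θe.toLinearMap := by
    rw [hkey, ← LinearMap.comp_assoc]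
    apply LinearMap.ext
    intro c
    simp
  -- universal exactness
  have hUE1 : Function.Injective (fCD.lTensor R') := by
    rw [hfCD, LinearMap.lTensor_comp, LinearMap.lTensor_comp, LinearMap.coe_comp,
      LinearMap.coe_comp]
    refine Function.Injective.comp ?_ (Function.Injective.comp ?_ ?_)
    · exact (LinearEquiv.lTensor R' ΦL.symm).injective
    · exact TSBC.lTensor_subtype_injective
    · exact (LinearEquiv.lTensor R' θe).injective
  have hUE2 : ∀ z : R' ⊗[R] D, (∀ τ, (sL τ).lTensor R' z = z) →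
      z ∈ LinearMap.range (fCD.lTensor R') := by
    intro z hz
    have h1 : ∀ τ' : Equiv.Perm (Fin n),
        (PiTensorProduct.reindex R (fun _ : Fin n => M) τ').toLinearMap.lTensor R'
          (ΦL.toLinearMap.lTensor R' z) = ΦL.toLinearMap.lTensor R' z := by
      intro τ'
      obtain ⟨τ, rfl⟩ := hπ τ'
      rw [← LinearMap.comp_apply, ← LinearMap.lTensor_comp, hΦσL, LinearMap.lTensor_comp,
        LinearMap.comp_apply, hz τ]
    obtain ⟨w₁, hw₁⟩ := TSBC.mem_range_lTensor_subtype _ h1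
    refine ⟨θe.symm.toLinearMap.lTensor R' w₁, ?_⟩
    rw [← LinearMap.comp_apply, ← LinearMap.lTensor_comp, hfCD]
    have h2 : (ΦL.symm.toLinearMap ∘ₗ (TSsub R M n).subtype ∘ₗ θe.toLinearMap) ∘ₗ
        θe.symm.toLinearMap = ΦL.symm.toLinearMap ∘ₗ (TSsub R M n).subtype := by
      apply LinearMap.ext
      intro t
      simp
    rw [h2, LinearMap.lTensor_comp, LinearMap.comp_apply, hw₁, ← LinearMap.comp_apply,
      ← LinearMap.lTensor_comp]
    have h3 : ΦL.symm.toLinearMap ∘ₗ ΦL.toLinearMap = LinearMap.id := by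
      apply LinearMap.ext
      intro d
      simp
    rw [h3, LinearMap.lTensor_id, LinearMap.id_apply]
  -- the pushout identifications
  let eC := Algebra.IsPushout.equiv R R' C C'
  let eD := Algebra.IsPushout.equiv R R' D D'
  have hmap : ∀ x : R' ⊗[R] C, c'd'.hom (eC x) = eD (fCD.lTensor R' x) := by
    intro x
    induction x with
    | zero => simp
    | add x y hx hy => simp only [map_add, hx, hy]
    | tmul r' c =>
      rw [LinearMap.lTensor_tmul, Algebra.IsPushout.equiv_tmul, Algebra.IsPushout.equiv_tmul,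
        map_mul]
      congr 1
      · exact er'd' r'
      · exact esq c
  have hact : ∀ τ (x : R' ⊗[R] D), (σ' τ).hom (eD x) = eD ((sL τ).lTensor R' x) := by
    intro τ x
    induction x with
    | zero => simp
    | add x y hx hy => simp only [map_add, hx, hy]
    | tmul r' d =>
      rw [LinearMap.lTensor_tmul, Algebra.IsPushout.equiv_tmul, Algebra.IsPushout.equiv_tmul,
        map_mul]
      congr 1
      · exact eσ'R' τ r'
      · exact eσσ' τ d
  refine ⟨?_, ?_⟩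
  · intro a b hab
    obtain ⟨x, rfl⟩ := eC.surjective a
    obtain ⟨y, rfl⟩ := eC.surjective b
    rw [hmap, hmap] at hab
    rw [hUE1 (eD.injective hab)]
  · intro d' hd'
    obtain ⟨z, rfl⟩ := eD.surjective d'
    have hz : ∀ τ, (sL τ).lTensor R' z = z := by
      intro τ
      apply eD.injective
      rw [← hact, hd' τ]
    obtain ⟨w, hw⟩ := hUE2 z hz
    refine ⟨eC w, ?_⟩
    rw [hmap, hw]

section LocalFlat
open AlgebraicGeometry TopologicalSpace Opposite

variable {X Y X' Y' : Scheme.{u}} {G : Type u} [Group G] [Finite G]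

/-- local version of `sections_baseChange_of_flat`: only the section properties over the affine
open `V` are needed. -/
theorem sections_baseChange_of_flat_local (ρ : G →* Aut X) (p : X ⟶ Y) [IsAffineHom p]
    (hinv : ∀ g : G, (ρ g).hom ≫ p = p)
    (qY : Y' ⟶ Y) [Flat qY] (pX : X' ⟶ X) (p' : X' ⟶ Y') (hX : IsPullback pX p' p qY)
    (ρ' : G →* Aut X') (hρ₁ : ∀ g : G, (ρ' g).hom ≫ pX = pX ≫ (ρ g).hom)
    (hρ₂ : ∀ g : G, (ρ' g).hom ≫ p' = p')
    (V : Y.Opens) (hV : IsAffineOpen V)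
    (hVinj : Function.Injective (p.app V).hom)
    (hVrange : ∀ s : Γ(X, p ⁻¹ᵁ V), (∀ g : G, sectionAct ρ p hinv V g s = s) →
      s ∈ Set.range (p.app V).hom)
    (V' : Y'.Opens) (hV' : IsAffineOpen V')
    (hle : V' ≤ qY ⁻¹ᵁ V) :
    Function.Injective (p'.app V').hom ∧
      ∀ s : Γ(X', p' ⁻¹ᵁ V'), (∀ g : G, sectionAct ρ' p' hρ₂ V' g s = s) →
        s ∈ Set.range (p'.app V').hom := by
  have hUX : IsAffineOpen (p ⁻¹ᵁ V) := hV.preimage p
  have hUY : p' ⁻¹ᵁ V' = pX ⁻¹ᵁ (p ⁻¹ᵁ V) ⊓ p' ⁻¹ᵁ V' := by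
    rw [← Scheme.Hom.comp_preimage, hX.w, Scheme.Hom.comp_preimage]
    exact (inf_eq_right.mpr (fun x hx => hle hx)).symm
  have hpo := (isIso_pushoutSection_iff hX hle (le_refl _) hUY).mp
    (isIso_pushoutSection_of_isAffineOpen hX hle le_rfl hUY hV hV' hUX)
  have eβ : p' ⁻¹ᵁ V' ≤ pX ⁻¹ᵁ (p ⁻¹ᵁ V) := by rw [hUY]; exact inf_le_left
  letI i1 : Algebra Γ(Y, V) Γ(Y', V') := (qY.appLE V V' hle).hom.toAlgebra
  letI i2 : Algebra Γ(Y, V) Γ(X, p ⁻¹ᵁ V) := (p.appLE V (p ⁻¹ᵁ V) le_rfl).hom.toAlgebra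
  letI i3 : Algebra Γ(Y', V') Γ(X', p' ⁻¹ᵁ V') := (p'.appLE V' (p' ⁻¹ᵁ V') le_rfl).hom.toAlgebra
  letI i4 : Algebra Γ(X, p ⁻¹ᵁ V) Γ(X', p' ⁻¹ᵁ V') :=
    (pX.appLE (p ⁻¹ᵁ V) (p' ⁻¹ᵁ V') eβ).hom.toAlgebra
  letI i5 : Algebra Γ(Y, V) Γ(X', p' ⁻¹ᵁ V') :=
    ((pX.appLE (p ⁻¹ᵁ V) (p' ⁻¹ᵁ V') eβ).hom.comp (p.appLE V (p ⁻¹ᵁ V) le_rfl).hom).toAlgebra
  haveI t1 : IsScalarTower Γ(Y, V) Γ(X, p ⁻¹ᵁ V) Γ(X', p' ⁻¹ᵁ V') :=
    IsScalarTower.of_algebraMap_eq' rfl
  haveI t2 : IsScalarTower Γ(Y, V) Γ(Y', V') Γ(X', p' ⁻¹ᵁ V') := by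
    apply IsScalarTower.of_algebraMap_eq'
    have := congrArg (fun f => f.hom) hpo.w
    exact this
  haveI hflat : Module.Flat Γ(Y, V) Γ(Y', V') := Scheme.Hom.flat_appLE qY hV hV' hle
  haveI hpush : Algebra.IsPushout Γ(Y, V) Γ(Y', V') Γ(X, p ⁻¹ᵁ V) Γ(X', p' ⁻¹ᵁ V') :=
    CommRingCat.isPushout_iff_isPushout.mp hpo.flip
  have hmain := invariants_baseChange (A := Γ(Y, V)) (A' := Γ(Y', V')) (B := Γ(X, p ⁻¹ᵁ V))
    (B' := Γ(X', p' ⁻¹ᵁ V')) (fun g => sectionAct ρ p hinv V g)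
    (fun g => sectionAct ρ' p' hρ₂ V' g) ?_ ?_ ?_ ?_ ?_
  · have happ : (algebraMap Γ(Y', V') Γ(X', p' ⁻¹ᵁ V')) = (p'.app V').hom := by
      change (p'.appLE V' (p' ⁻¹ᵁ V') le_rfl).hom = _
      rw [Scheme.Hom.appLE_eq_app]
    rw [happ] at hmain
    exact hmain
  · intro g a
    change sectionAct ρ p hinv V g ((p.appLE V (p ⁻¹ᵁ V) le_rfl).hom a) =
      (p.appLE V (p ⁻¹ᵁ V) le_rfl).hom a
    rw [Scheme.Hom.appLE_eq_app]
    exact sectionAct_app' ρ p hinv V g a
  · intro g a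
    change sectionAct ρ' p' hρ₂ V' g ((p'.appLE V' (p' ⁻¹ᵁ V') le_rfl).hom a) =
      (p'.appLE V' (p' ⁻¹ᵁ V') le_rfl).hom a
    rw [Scheme.Hom.appLE_eq_app]
    exact sectionAct_app' ρ' p' hρ₂ V' g a
  · intro g b
    have h1 : pX.appLE (p ⁻¹ᵁ V) (p' ⁻¹ᵁ V') eβ ≫
        (ρ' g).hom.appLE (p' ⁻¹ᵁ V') (p' ⁻¹ᵁ V') (SGA1.preimage_le_of_inv ρ' p' hρ₂ g V') =
        (ρ g).hom.appLE (p ⁻¹ᵁ V) (p ⁻¹ᵁ V) (SGA1.preimage_le_of_inv ρ p hinv g V) ≫
          pX.appLE (p ⁻¹ᵁ V) (p' ⁻¹ᵁ V') eβ := by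
      rw [Scheme.Hom.appLE_comp_appLE, Scheme.Hom.appLE_comp_appLE]
      exact appLE_congr_hom (hρ₁ g) _ _ _ _
    have h2 := congrArg (fun f => f.hom b) h1
    simp only [CommRingCat.hom_comp, RingHom.comp_apply] at h2
    exact h2
  · have : (algebraMap Γ(Y, V) Γ(X, p ⁻¹ᵁ V)) = (p.app V).hom := by
      change (p.appLE V (p ⁻¹ᵁ V) le_rfl).hom = _
      rw [Scheme.Hom.appLE_eq_app]
    rw [this]
    exact hVinj
  · intro b hb
    have : (algebraMap Γ(Y, V) Γ(X, p ⁻¹ᵁ V)) = (p.app V).hom := by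
      change (p.appLE V (p ⁻¹ᵁ V) le_rfl).hom = _
      rw [Scheme.Hom.appLE_eq_app]
    rw [this]
    exact hVrange b hb

end LocalFlat

section Chart
open AlgebraicGeometry TopologicalSpace Opposite SymBox SymChart

variable {X S S' Y : Scheme.{u}} (f : X ⟶ S) (n : ℕ) (q : SymProd.fibPow f n ⟶ Y) (g : Y ⟶ S)
  (hq : SymProd.IsSymProd f n q g) (b : S' ⟶ S)
  (c : SymProd.fibPow (pullback.snd f b) n ⟶ SymProd.fibPow f n)
  (hcπ : ∀ i : Fin n, c ≫ WidePullback.π (fun _ => f) i =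
    WidePullback.π (fun _ => pullback.snd f b) i ≫ pullback.fst f b)
  (hcb : c ≫ WidePullback.base (fun _ => f) = WidePullback.base (fun _ => pullback.snd f b) ≫ b)
  (q' : SymProd.fibPow (pullback.snd f b) n ⟶ pullback g b)
  (hq'₁ : q' ≫ pullback.fst g b = c ≫ q)
  (hq'₂ : q' ≫ pullback.snd g b = WidePullback.base (fun _ => pullback.snd f b))

include hcπ hcb in
theorem perm_comp_c (τ : Equiv.Perm (Fin n)) :
    SymProd.permHom (pullback.snd f b) n τ ≫ c = c ≫ SymProd.permHom f n τ := by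
  apply WidePullback.hom_ext
  · intro i
    rw [Category.assoc, Category.assoc, hcπ, SymProd.permHom_π, hcπ, SymProd.permHom_π_assoc]
  · rw [Category.assoc, Category.assoc, hcb, SymProd.permHom_base, hcb, SymProd.permHom_base_assoc]

include hcπ hcb hq hq'₁ hq'₂ in
theorem inv_q' (σ : ULift.{u} (Equiv.Perm (Fin n))) :
    (SymProd.permActU (pullback.snd f b) n σ).hom ≫ q' = q' := by
  rw [SymProd.permActU_hom]
  apply pullback.hom_ext
  · rw [Category.assoc, hq'₁, ← Category.assoc, perm_comp_c f n b c hcπ hcb, Category.assoc]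
    have := hq.isQuot.inv σ
    rw [SymProd.permActU_hom] at this
    rw [this]
  · rw [Category.assoc, hq'₂, SymProd.permHom_base]

include hq hcπ hcb hq'₁ hq'₂ in
/-- the section properties of the base-changed quotient map over a product chart. -/
theorem sections_chart
    (hPB : IsPullback c (WidePullback.base (fun _ : Fin n => pullback.snd f b))
      (WidePullback.base (fun _ : Fin n => f)) b)
    {V : S.Opens} {U : X.Opens} (hV : IsAffineOpen V) (hU : IsAffineOpen U) (hUV : U ≤ f ⁻¹ᵁ V)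
    (hflat : (f.appLE V U hUV).hom.Flat)
    (W' : Y.Opens) (hW'aff : IsAffineOpen W') (hW' : q ⁻¹ᵁ W' = boxOpen f n V U)
    (e : W' ≤ g ⁻¹ᵁ V) (V' : S'.Opens) (hV' : IsAffineOpen V') (hV'V : V' ≤ b ⁻¹ᵁ V)
    (hinv' : ∀ σ : ULift.{u} (Equiv.Perm (Fin n)),
      (SymProd.permActU (pullback.snd f b) n σ).hom ≫ q' = q') :
    IsAffineOpen (pullback.fst g b ⁻¹ᵁ W' ⊓ pullback.snd g b ⁻¹ᵁ V') ∧
    Function.Injective (q'.app (pullback.fst g b ⁻¹ᵁ W' ⊓ pullback.snd g b ⁻¹ᵁ V')).hom ∧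
      ∀ s, (∀ σ, sectionAct (SymProd.permActU (pullback.snd f b) n) q' hinv'
          (pullback.fst g b ⁻¹ᵁ W' ⊓ pullback.snd g b ⁻¹ᵁ V') σ s = s) →
        s ∈ Set.range (q'.app (pullback.fst g b ⁻¹ᵁ W' ⊓ pullback.snd g b ⁻¹ᵁ V')).hom := by
  set W'' : (pullback g b).Opens := pullback.fst g b ⁻¹ᵁ W' ⊓ pullback.snd g b ⁻¹ᵁ V' with hW''
  have hbox := isAffineOpen_boxOpen f n hV hU hUV
  have HA : IsPullback (pullback.fst g b) (pullback.snd g b) g b := IsPullback.of_hasPullback g b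
  -- affineness of the chart
  have hW''aff : IsAffineOpen W'' := by
    have : IsAffine (V : Scheme.{u}) := hV
    have : IsAffine (V' : Scheme.{u}) := hV'
    have : IsAffine (W' : Scheme.{u}) := hW'aff
    exact .of_isIso (Scheme.Hom.isPullback_resLE HA hV'V e hW'').isoPullback.hom
  refine ⟨hW''aff, ?_⟩
  -- the preimage of the chart
  have hUY : q' ⁻¹ᵁ W'' = c ⁻¹ᵁ (boxOpen f n V U) ⊓
      (WidePullback.base (fun _ : Fin n => pullback.snd f b)) ⁻¹ᵁ V' := by
    rw [hW'', Scheme.Hom.preimage_inf, ← Scheme.Hom.comp_preimage, ← Scheme.Hom.comp_preimage,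
      hq'₁, hq'₂, Scheme.Hom.comp_preimage, hW']
  have hpoA := (isIso_pushoutSection_iff HA hV'V e hW'').mp
    (isIso_pushoutSection_of_isAffineOpen HA hV'V e hW'' hV hV' hW'aff)
  have hpoB := (isIso_pushoutSection_iff hPB hV'V (box_le_base f n) hUY).mp
    (isIso_pushoutSection_of_isAffineOpen hPB hV'V (box_le_base f n) hUY hV hV' hbox)
  -- module structure
  letI alg : Algebra Γ(S, V) Γ(X, U) := (f.appLE V U hUV).hom.toAlgebra
  have halg : algebraMap Γ(S, V) Γ(X, U) = (f.appLE V U hUV).hom := rfl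
  haveI : Module.Flat Γ(S, V) Γ(X, U) := hflat
  obtain ⟨hinj, hrange⟩ := sections_of_preimage_eq f n q g hq W' _ hW'
    (fun σ => (permHom_preimage_boxOpen f n V U σ).ge)
  let ΦE : Γ(SymProd.fibPow f n, boxOpen f n V U) ≃+ (⨂[Γ(S, V)] _ : Fin n, Γ(X, U)) :=
    { toFun := (Φ f n hV hU hUV halg).hom
      invFun := Ψr f n hUV halg
      left_inv := fun s => Ψr_Φ_apply f n hV hU hUV halg hbox s
      right_inv := fun t => Φ_Ψr_apply f n hV hU hUV halg t
      map_add' := map_add _ }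
  have e1 : q' ⁻¹ᵁ W'' ≤ c ⁻¹ᵁ (boxOpen f n V U) := by rw [hUY]; exact inf_le_left
  have e2 : q' ⁻¹ᵁ W'' ≤ (WidePullback.base (fun _ : Fin n => pullback.snd f b)) ⁻¹ᵁ V' := by
    rw [hUY]; exact inf_le_right
  have e3 : W'' ≤ pullback.fst g b ⁻¹ᵁ W' := inf_le_left
  have e4 : W'' ≤ pullback.snd g b ⁻¹ᵁ V' := inf_le_right
  have hmain := invariants_pushout_of_TS
    (R := Γ(S, V)) (R' := Γ(S', V')) (C := Γ(Y, W')) (C' := Γ(pullback g b, W''))
    (D := Γ(SymProd.fibPow f n, boxOpen f n V U))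
    (D' := Γ(SymProd.fibPow (pullback.snd f b) n, q' ⁻¹ᵁ W''))
    (g.appLE V W' e) (q.appLE W' (boxOpen f n V U) hW'.ge) (βV f n) (b.appLE V V' hV'V)
    ((pullback.snd g b).appLE V' W'' e4) ((pullback.fst g b).appLE W' W'' e3)
    (q'.appLE W'' (q' ⁻¹ᵁ W'') le_rfl) (c.appLE (boxOpen f n V U) (q' ⁻¹ᵁ W'') e1)
    ((WidePullback.base (fun _ : Fin n => pullback.snd f b)).appLE V' (q' ⁻¹ᵁ W'') e2)
    ?_ ?_ ?_ hpoA hpoB (M := Γ(X, U)) n ΦE ?_
    (fun τ => act f n τ) (fun τ => τ.symm) (fun τ => ⟨τ.symm, by simp⟩) ?_ hinj ?_ ?_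
    (fun τ => (SymProd.permHom (pullback.snd f b) n τ).appLE (q' ⁻¹ᵁ W'') (q' ⁻¹ᵁ W'')
      (SGA1.preimage_le_of_inv (SymProd.permActU (pullback.snd f b) n) q' hinv' ⟨τ⟩ W'')) ?_ ?_
  · obtain ⟨h1, h2⟩ := hmain
    rw [Scheme.Hom.appLE_eq_app] at h1 h2
    refine ⟨h1, fun s hs => h2 s (fun τ => hs ⟨τ⟩)⟩
  · -- hrd
    unfold βV
    rw [Scheme.Hom.appLE_comp_appLE]
    exact appLE_congr_hom hq.over _ _ _ _
  · -- hr'd'
    rw [Scheme.Hom.appLE_comp_appLE]
    exact appLE_congr_hom hq'₂ _ _ _ _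
  · -- hsq
    rw [Scheme.Hom.appLE_comp_appLE, Scheme.Hom.appLE_comp_appLE]
    exact appLE_congr_hom hq'₁ _ _ _ _
  · -- hΦ
    intro r d
    change (Φ f n hV hU hUV halg).hom ((βV f n).hom r * d) = r • (Φ f n hV hU hUV halg).hom d
    rw [map_mul, Algebra.smul_def]
    congr 1
    have h2 := congrArg (fun φ => φ.hom r) (βV_Φ f n hV hU hUV halg)
    simp only [CommRingCat.hom_comp, RingHom.comp_apply] at h2
    exact h2
  · -- hΦσ
    intro τ d
    change (Φ f n hV hU hUV halg).hom ((act f n τ).hom d) =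
      PiTensorProduct.reindex Γ(S, V) (fun _ : Fin n => Γ(X, U)) τ.symm
        ((Φ f n hV hU hUV halg).hom d)
    have h1 := act_Ψ f n hUV halg τ ((Φ f n hV hU hUV halg).hom d)
    rw [Ψr_Φ_apply f n hV hU hUV halg hbox] at h1
    rw [h1, Φ_Ψr_apply]
  · -- hrange
    intro d hd
    exact (hrange d).mpr hd
  · -- hinvC
    intro τ
    apply CommRingCat.hom_ext
    apply RingHom.ext
    intro x
    exact (hrange ((q.appLE W' (boxOpen f n V U) hW'.ge).hom x)).mp ⟨x, rfl⟩ τ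
  · -- hσ'R'
    intro τ
    rw [Scheme.Hom.appLE_comp_appLE]
    exact appLE_congr_hom (SymProd.permHom_base (pullback.snd f b) n τ) _ _ _ _
  · -- hσσ'
    intro τ
    unfold act
    rw [Scheme.Hom.appLE_comp_appLE, Scheme.Hom.appLE_comp_appLE]
    exact appLE_congr_hom (perm_comp_c f n b c hcπ hcb τ) _ _ _ _

include hcπ hcb in
/-- the fibre power of the base change is the base change of the fibre power. -/
theorem isPullback_c :
    IsPullback c (WidePullback.base (fun _ : Fin n => pullback.snd f b))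
      (WidePullback.base (fun _ : Fin n => f)) b := by
  have hcond : ∀ (s : PullbackCone (WidePullback.base (fun _ : Fin n => f)) b) (i : Fin n),
      (s.fst ≫ WidePullback.π (fun _ : Fin n => f) i) ≫ f = s.snd ≫ b := by
    intro s i
    rw [Category.assoc, WidePullback.π_arrow, s.condition]
  refine ⟨⟨hcb⟩, ⟨PullbackCone.IsLimit.mk hcb
    (fun s => WidePullback.lift s.snd
      (fun i => pullback.lift (s.fst ≫ WidePullback.π (fun _ : Fin n => f) i) s.snd (hcond s i))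
      (fun i => pullback.lift_snd _ _ _)) ?_ ?_ ?_⟩⟩
  · intro s
    apply WidePullback.hom_ext
    · intro i
      rw [Category.assoc, hcπ, WidePullback.lift_π_assoc, pullback.lift_fst]
    · rw [Category.assoc, hcb, WidePullback.lift_base_assoc, s.condition]
  · intro s
    exact WidePullback.lift_base _ _ _ _
  · intro s m h1 h2
    apply WidePullback.hom_ext
    · intro i
      rw [WidePullback.lift_π]
      apply pullback.hom_ext
      · rw [pullback.lift_fst, Category.assoc, ← hcπ, ← Category.assoc, h1]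
      · rw [pullback.lift_snd, Category.assoc, WidePullback.π_arrow, h2]
    · rw [WidePullback.lift_base, h2]

include hcπ hcb hq hq'₁ hq'₂ in
/-- the base-changed quotient map is a base change of the quotient map. -/
theorem isPullback_q' : IsPullback c q' q (pullback.fst g b) := by
  have hPB := isPullback_c f n b c hcπ hcb
  have HA : IsPullback (pullback.fst g b) (pullback.snd g b) g b := IsPullback.of_hasPullback g b
  have h1 : IsPullback (q' ≫ pullback.snd g b) c b (q ≫ g) := by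
    rw [hq'₂, hq.over]
    exact hPB.flip
  exact (IsPullback.of_right h1 hq'₁ HA.flip).flip

end Chart

section Main
open AlgebraicGeometry TopologicalSpace Opposite SymBox SymChart

/-- **Symmetric powers of flat (AF) morphisms commute with arbitrary base change.** -/
theorem isSymProd_baseChange {X S S' Y : Scheme.{u}} (f : X ⟶ S) [Flat f]
    (hAF : SymProd.IsAF f) (n : ℕ) (q : SymProd.fibPow f n ⟶ Y) (g : Y ⟶ S)
    (hq : SymProd.IsSymProd f n q g) (b : S' ⟶ S)
    (c : SymProd.fibPow (pullback.snd f b) n ⟶ SymProd.fibPow f n)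
    (hcπ : ∀ i : Fin n, c ≫ WidePullback.π (fun _ => f) i =
      WidePullback.π (fun _ => pullback.snd f b) i ≫ pullback.fst f b)
    (hcb : c ≫ WidePullback.base (fun _ => f) =
      WidePullback.base (fun _ => pullback.snd f b) ≫ b)
    (q' : SymProd.fibPow (pullback.snd f b) n ⟶ pullback g b)
    (hq'₁ : q' ≫ pullback.fst g b = c ≫ q)
    (hq'₂ : q' ≫ pullback.snd g b = WidePullback.base (fun _ => pullback.snd f b)) :
    SymProd.IsSymProd (pullback.snd f b) n q' (pullback.snd g b) := by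
  refine ⟨?_, hq'₂⟩
  have hPB := isPullback_c f n b c hcπ hcb
  have hinv' := inv_q' f n q g hq b c hcπ hcb q' hq'₁ hq'₂
  haveI : IsAffineHom q := hq.isQuot.affine
  haveI : IsAffineHom q' :=
    MorphismProperty.of_isPullback (isPullback_q' f n q g hq b c hcπ hcb q' hq'₁ hq'₂)
      hq.isQuot.affine
  refine isQuot_of_basis (SymProd.permActU (pullback.snd f b) n) q' hinv'
    {O : (pullback g b).Opens | IsAffineOpen O ∧ ∃ (V : S.Opens) (U : X.Opens) (W' : Y.Opens)
      (V' : S'.Opens), IsAffineOpen V ∧ IsAffineOpen U ∧ U ≤ f ⁻¹ᵁ V ∧ IsAffineOpen W' ∧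
        q ⁻¹ᵁ W' = boxOpen f n V U ∧ W' ≤ g ⁻¹ᵁ V ∧ IsAffineOpen V' ∧ V' ≤ b ⁻¹ᵁ V ∧
        O ≤ pullback.fst g b ⁻¹ᵁ W' ⊓ pullback.snd g b ⁻¹ᵁ V'} ?_ ?_ ?_
  · rw [Opens.isBasis_iff_nbhd]
    intro O₀ y' hy'
    obtain ⟨V, hV, U, W', hU, hUV, hy, hW'aff, hW', e⟩ :=
      SymChart.exists_chart f n hAF {V | IsAffineOpen V} (fun V hV => hV)
        (fun s => by
          obtain ⟨_, ⟨V, hV, rfl⟩, hs, -⟩ := S.isBasis_affineOpens.exists_subset_of_mem_open
            (Set.mem_univ s) isOpen_univ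
          exact ⟨V, hV, hs⟩) q g hq (pullback.fst g b y')
    have hV₀ : IsAffineOpen V := hV
    have hs' : pullback.snd g b y' ∈ b ⁻¹ᵁ V := by
      change b (pullback.snd g b y') ∈ V
      rw [← Scheme.Hom.comp_apply, ← pullback.condition, Scheme.Hom.comp_apply]
      exact e hy
    obtain ⟨V', hV', hs'V', hV'V⟩ := Opens.isBasis_iff_nbhd.mp S'.isBasis_affineOpens hs'
    have hy'W : y' ∈ pullback.fst g b ⁻¹ᵁ W' ⊓ pullback.snd g b ⁻¹ᵁ V' := ⟨hy, hs'V'⟩
    obtain ⟨O, hO, hyO, hle⟩ := Opens.isBasis_iff_nbhd.mp (pullback g b).isBasis_affineOpens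
      (show y' ∈ O₀ ⊓ (pullback.fst g b ⁻¹ᵁ W' ⊓ pullback.snd g b ⁻¹ᵁ V') from ⟨hy', hy'W⟩)
    exact ⟨O, ⟨hO, V, U, W', V', hV₀, hU, hUV, hW'aff, hW', e, hV', hV'V,
      le_trans hle inf_le_right⟩, hyO, le_trans hle inf_le_left⟩
  · rintro O ⟨hO, V, U, W', V', hV, hU, hUV, hW'aff, hW', e, hV', hV'V, hOW⟩
    obtain ⟨haff, hinj, hrange⟩ := sections_chart f n q g hq b c hcπ hcb q' hq'₁ hq'₂ hPB hV hU hUV
      (HasRingHomProperty.appLE @Flat f ‹Flat f› ⟨V, hV⟩ ⟨U, hU⟩ hUV) W' hW'aff hW' e V' hV' hV'V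
      hinv'
    exact (sections_baseChange_of_flat_local (SymProd.permActU (pullback.snd f b) n) q' hinv'
      (𝟙 _) (𝟙 _) q' (IsPullback.id_horiz q') (SymProd.permActU (pullback.snd f b) n)
      (fun σ => by simp) hinv' _ haff hinj hrange O hO (by simpa using hOW)).1
  · rintro O ⟨hO, V, U, W', V', hV, hU, hUV, hW'aff, hW', e, hV', hV'V, hOW⟩
    obtain ⟨haff, hinj, hrange⟩ := sections_chart f n q g hq b c hcπ hcb q' hq'₁ hq'₂ hPB hV hU hUV
      (HasRingHomProperty.appLE @Flat f ‹Flat f› ⟨V, hV⟩ ⟨U, hU⟩ hUV) W' hW'aff hW' e V' hV' hV'V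
      hinv'
    exact (sections_baseChange_of_flat_local (SymProd.permActU (pullback.snd f b) n) q' hinv'
      (𝟙 _) (𝟙 _) q' (IsPullback.id_horiz q') (SymProd.permActU (pullback.snd f b) n)
      (fun σ => by simp) hinv' _ haff hinj hrange O hO (by simpa using hOW)).2

end Main

end Groth.Agent.Lib.Helper69.SymBC
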