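import Mathlib

set_option autoImplicit false
universe v u
open CategoryTheory CategoryTheory.Limits

namespace Groth.Agent.Lib.Helper69.WidePB

variable {C : Type u} [Category.{v} C] [HasFiniteWidePullbacks C]

section step
variable {S : C} {n : ℕ} (X : Fin (n + 1) → C) (f : ∀ i, X i ⟶ S)

/-- forgetting the `0`-th factor. -/
noncomputable def forget0 :
    widePullback S X f ⟶ widePullback S (fun i : Fin n => X i.succ) (fun i => f i.succ) :=
  WidePullback.lift (WidePullback.base f) (fun i => WidePullback.π f i.succ)
    (fun i => WidePullback.π_arrow f i.succ)

theorem isPullback_forget0 :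
    IsPullback (forget0 X f) (WidePullback.π f 0)
      (WidePullback.base (fun i : Fin n => f i.succ)) (f 0) := by
  have w : forget0 X f ≫ WidePullback.base (fun i : Fin n => f i.succ) =
      WidePullback.π f 0 ≫ f 0 := by
    unfold forget0
    rw [WidePullback.lift_base, WidePullback.π_arrow]
  refine ⟨⟨w⟩, ⟨PullbackCone.IsLimit.mk w
    (fun s => WidePullback.lift (s.fst ≫ WidePullback.base (fun i : Fin n => f i.succ))
      (Fin.cases (motive := fun j => s.pt ⟶ X j) s.snd
        (fun i => s.fst ≫ WidePullback.π (fun i : Fin n => f i.succ) i))
      (fun j => by
        refine Fin.cases ?_ (fun i => ?_) j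
        · exact s.condition.symm
        · simp only [Fin.cases_succ, Category.assoc]
          rw [WidePullback.π_arrow])) ?_ ?_ ?_⟩⟩
  · intro s
    apply WidePullback.hom_ext
    · intro i
      unfold forget0
      rw [Category.assoc, WidePullback.lift_π, WidePullback.lift_π, Fin.cases_succ]
    · unfold forget0
      rw [Category.assoc, WidePullback.lift_base, WidePullback.lift_base]
  · intro s
    rw [WidePullback.lift_π, Fin.cases_zero]
  · intro s m h1 h2
    apply WidePullback.hom_ext
    · intro j
      rw [WidePullback.lift_π]
      refine Fin.cases ?_ (fun i => ?_) j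
      · rw [Fin.cases_zero]; exact h2
      · rw [Fin.cases_succ, ← h1]
        unfold forget0
        rw [Category.assoc, WidePullback.lift_π]
    · rw [WidePullback.lift_base, ← h1]
      unfold forget0
      rw [Category.assoc, WidePullback.lift_base]

end step

/-- the structure map of a finite fibre product of morphisms in a class stable under base change
and composition is in the class. -/
theorem base_mem (P : MorphismProperty C) [P.IsMultiplicative] [P.IsStableUnderBaseChange]
    {S : C} : ∀ (n : ℕ) (X : Fin n → C) (f : ∀ i, X i ⟶ S), (∀ i, P (f i)) →
      P (WidePullback.base f) := by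
  intro n
  induction n with
  | zero =>
    intro X f _
    have hiso : IsIso (WidePullback.base f) := by
      refine ⟨WidePullback.lift (𝟙 S) (fun i => i.elim0) (fun i => i.elim0), ?_, ?_⟩
      · apply WidePullback.hom_ext
        · intro i; exact i.elim0
        · rw [Category.assoc, WidePullback.lift_base, Category.comp_id, Category.id_comp]
      · rw [WidePullback.lift_base]
    exact P.of_isIso _
  | succ n ih =>
    intro X f hf
    have h1 : P (forget0 X f) := P.of_isPullback (isPullback_forget0 X f).flip (hf 0)
    have h2 : P (WidePullback.base (fun i : Fin n => f i.succ)) := ih _ _ (fun i => hf i.succ)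
    have h3 : WidePullback.base f = forget0 X f ≫ WidePullback.base (fun i : Fin n => f i.succ) := by
      unfold forget0
      rw [WidePullback.lift_base]
    rw [h3]
    exact P.comp_mem _ _ h1 h2

end Groth.Agent.Lib.Helper69.WidePB
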