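import Mathlib
import Groth.Agent.Lib.Helper69.MulDom
import Groth.Agent.Lib.Helper69.WidePB
import Groth.Agent.Lib.Helper69.SymBC
import Groth.Agent.Lib.Helper17.ProjSpaceProper

set_option autoImplicit false
universe u
open AlgebraicGeometry CategoryTheory Limits TopologicalSpace Opposite

namespace Groth.Agent.Lib.Helper69.MulFinal
open Groth.Agent.Lib.Helper69.MulMap

/-- `P¹` over the integers. -/
noncomputable abbrev f0 : CohB1.ProjSpace 1 R0.{u} ⟶ Spec (CommRingCat.of R0.{u}) :=
  CohB1.ProjSpace.toSpec 1 R0.{u}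

variable (n : ℕ)

/-- the projections of `(P¹)ⁿ`. -/
noncomputable def p0 (i : Fin n) :
    SymProd.fibPow f0.{u} n ⟶ Proj (CohB1.polyGrading 1 R0.{u}) :=
  WidePullback.π (fun _ : Fin n => f0.{u}) i

theorem isProd_p0 : IsProd (p0.{u} n) where
  exists_lift := by
    intro T q
    refine ⟨WidePullback.lift (specULiftZIsTerminal.from T) q
      (fun i => specULiftZIsTerminal.hom_ext _ _), fun i => ?_⟩
    exact WidePullback.lift_π _ _ _ _ i
  hom_ext := by
    intro T l l' h
    exact WidePullback.hom_ext _ _ _ h (specULiftZIsTerminal.hom_ext _ _)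

/-- the multiplication map over the integers. -/
noncomputable def Φ0 : SymProd.fibPow f0.{u} n ⟶ CohB1.ProjSpace n R0.{u} :=
  mulMap (p0.{u} n)

instance isProper_Φ0 : IsProper (Φ0.{u} n) := by
  have hb : IsProper (WidePullback.base (fun _ : Fin n => f0.{u})) :=
    WidePB.base_mem @IsProper n _ _
      (fun _ => Groth.Agent.Lib.Helper17.ProjSpaceProper.isProper_toSpec 1 R0.{u})
  have hcomp : Φ0.{u} n ≫ CohB1.ProjSpace.toSpec n R0.{u} =
      WidePullback.base (fun _ : Fin n => f0.{u}) := specULiftZIsTerminal.hom_ext _ _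
  haveI : IsProper (Φ0.{u} n ≫ CohB1.ProjSpace.toSpec n R0.{u}) := by rw [hcomp]; exact hb
  haveI : IsSeparated (CohB1.ProjSpace.toSpec n R0.{u}) :=
    haveI := Groth.Agent.Lib.Helper17.ProjSpaceProper.isProper_toSpec n R0.{u}
    inferInstance
  exact IsProper.of_comp (Φ0.{u} n) (CohB1.ProjSpace.toSpec n R0.{u})

theorem isFinite_surjective_Φ0 : IsFinite (Φ0.{u} n) ∧ Surjective (Φ0.{u} n) :=
  haveI : IsProper (mulMap (p0.{u} n)) := isProper_Φ0 n
  isFinite_surjective_mulMap (isProd_p0 n)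

section baseChange
variable (S : Scheme.{u})

/-- the structure map of `S` over the integers. -/
noncomputable abbrev bS : S ⟶ Spec (CommRingCat.of R0.{u}) := specULiftZIsTerminal.from S

/-- the comparison map `(P¹_S)ⁿ ⟶ (P¹)ⁿ`. -/
noncomputable def cS :
    SymProd.fibPow (pullback.snd f0.{u} (bS S)) n ⟶ SymProd.fibPow f0.{u} n :=
  WidePullback.lift (WidePullback.base _ ≫ bS S)
    (fun i => WidePullback.π _ i ≫ pullback.fst f0.{u} (bS S))
    (fun i => by rw [Category.assoc, pullback.condition, ← Category.assoc, WidePullback.π_arrow])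

theorem main :
    ∃ φ : widePullback S (fun _ : Fin n => CohB1.ProjSpaceOver 1 S)
        (fun _ => CohB1.ProjSpaceOver.toBase 1 S) ⟶ CohB1.ProjSpaceOver n S,
      IsFinite φ ∧ Surjective φ ∧
        φ ≫ CohB1.ProjSpaceOver.toBase n S =
          WidePullback.base (fun _ => CohB1.ProjSpaceOver.toBase 1 S) := by
  change ∃ φ : SymProd.fibPow (pullback.snd f0.{u} (bS S)) n ⟶
      pullback (CohB1.ProjSpace.toSpec n R0.{u}) (bS S),
    IsFinite φ ∧ Surjective φ ∧ φ ≫ pullback.snd _ _ =
      WidePullback.base (fun _ : Fin n => pullback.snd f0.{u} (bS S))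
  have hcπ : ∀ i, cS n S ≫ WidePullback.π (fun _ => f0.{u}) i =
      WidePullback.π (fun _ => pullback.snd f0.{u} (bS S)) i ≫ pullback.fst f0.{u} (bS S) :=
    fun i => WidePullback.lift_π _ _ _ _ i
  have hcb : cS n S ≫ WidePullback.base (fun _ => f0.{u}) =
      WidePullback.base (fun _ => pullback.snd f0.{u} (bS S)) ≫ bS S :=
    WidePullback.lift_base _ _ _ _
  have hPB := SymBC.isPullback_c f0.{u} n (bS S) (cS n S) hcπ hcb
  let φ : SymProd.fibPow (pullback.snd f0.{u} (bS S)) n ⟶
      pullback (CohB1.ProjSpace.toSpec n R0.{u}) (bS S) :=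
    pullback.lift (cS n S ≫ Φ0 n) (WidePullback.base _) (specULiftZIsTerminal.hom_ext _ _)
  have hφ1 : φ ≫ pullback.fst _ _ = cS n S ≫ Φ0 n := pullback.lift_fst _ _ _
  have hφ2 : φ ≫ pullback.snd _ _ = WidePullback.base _ := pullback.lift_snd _ _ _
  have HA : IsPullback (pullback.fst (CohB1.ProjSpace.toSpec n R0.{u}) (bS S))
      (pullback.snd _ _) (CohB1.ProjSpace.toSpec n R0.{u}) (bS S) := IsPullback.of_hasPullback _ _
  have hcomp : Φ0.{u} n ≫ CohB1.ProjSpace.toSpec n R0.{u} =
      WidePullback.base (fun _ : Fin n => f0.{u}) := specULiftZIsTerminal.hom_ext _ _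
  have h1 : IsPullback (φ ≫ pullback.snd _ _) (cS n S) (bS S)
      (Φ0.{u} n ≫ CohB1.ProjSpace.toSpec n R0.{u}) := by
    rw [hφ2, hcomp]
    exact hPB.flip
  have hsq : IsPullback φ (cS n S) (pullback.fst _ _) (Φ0 n) :=
    IsPullback.of_right h1 hφ1 HA.flip
  obtain ⟨hfin, hsurj⟩ := isFinite_surjective_Φ0.{u} n
  exact ⟨φ, MorphismProperty.of_isPullback hsq.flip hfin,
    MorphismProperty.of_isPullback hsq.flip hsurj, hφ2⟩

end baseChange

end Groth.Agent.Lib.Helper69.MulFinal
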