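/-
helper69: factoring a multilinear alternating morphism `M₂^n ⟶ N` through `M₃^n` for an exact
sequence `M₁ ⟶ M₂ ⟶ M₃ ⟶ 0` of sheaves of points; coordinate projections of powers.
-/
import Groth.Agent.Lib.Helper69.CGrpLocal4
import Groth.Prelude.Def_W4c1extbt15Mult

set_option autoImplicit false
set_option linter.unusedSectionVars false
universe u w
open CategoryTheory CategoryTheory.Limits MonoidalCategory CartesianMonoidalCategory MonObj AlgebraicGeometry Opposite

namespace Groth.Agent.Lib.Helper69.MultAlt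
open Groth.Agent.Lib.Helper69.CGrpLocal MultSch

section tuple
variable {C : Type*} [Category C] [CartesianMonoidalCategory C]

/-- coordinate projections of the `n`-fold power. -/
def proj (M : C) : (n : ℕ) → Fin n → (MultSch.pow M n ⟶ M)
  | 0, l => l.elim0
  | n + 1, l => Fin.cases (fst M (MultSch.pow M n)) (fun l' => snd M (MultSch.pow M n) ≫ proj M n l') l

theorem tuple_proj {M T : C} : ∀ {n : ℕ} (x : Fin n → (T ⟶ M)) (l : Fin n),
    MultSch.tuple x ≫ proj M n l = x l
  | 0, _, l => l.elim0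
  | n + 1, x, l => by
    change lift (x 0) (MultSch.tuple fun i => x i.succ) ≫ proj M (n + 1) l = x l
    refine Fin.cases ?_ (fun l' => ?_) l
    · change lift (x 0) _ ≫ fst _ _ = _
      rw [lift_fst]
    · change lift (x 0) _ ≫ snd _ _ ≫ proj M n l' = _
      rw [lift_snd_assoc, tuple_proj]

theorem tuple_proj_id (M : C) : ∀ (n : ℕ), MultSch.tuple (proj M n) = 𝟙 (MultSch.pow M n)
  | 0 => toUnit_unique _ _
  | n + 1 => by
    have h2 : MultSch.tuple (fun i : Fin n => snd M (MultSch.pow M n) ≫ proj M n i) =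
        snd M (MultSch.pow M n) := by
      rw [← comp_tuple, tuple_proj_id M n, Category.comp_id]
    change lift (fst M (MultSch.pow M n))
      (MultSch.tuple fun i : Fin n => snd M (MultSch.pow M n) ≫ proj M n i) = 𝟙 (M ⊗ MultSch.pow M n)
    rw [h2, lift_fst_snd]

theorem eq_tuple {M T : C} {n : ℕ} (g : T ⟶ MultSch.pow M n) :
    g = MultSch.tuple (fun l => g ≫ proj M n l) := by
  rw [← comp_tuple, tuple_proj_id, Category.comp_id]

theorem comp_update {M T T' : C} {n : ℕ} (f : T' ⟶ T) (x : Fin n → (T ⟶ M)) (i : Fin n) (y : T ⟶ M) :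
    (fun l => f ≫ Function.update x i y l) = Function.update (fun l => f ≫ x l) i (f ≫ y) := by
  funext l
  by_cases hl : l = i
  · subst hl
    rw [Function.update_self, Function.update_self]
  · rw [Function.update_of_ne hl, Function.update_of_ne hl]

theorem update_comp {M M' T : C} {n : ℕ} (π : M ⟶ M') (x : Fin n → (T ⟶ M)) (i : Fin n) (y : T ⟶ M) :
    (fun l => Function.update x i y l ≫ π) = Function.update (fun l => x l ≫ π) i (y ≫ π) := by
  funext l
  by_cases hl : l = i
  · subst hl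
    rw [Function.update_self, Function.update_self]
  · rw [Function.update_of_ne hl, Function.update_of_ne hl]

end tuple

variable {S : Scheme.{u}} (K : Precoverage Scheme.{u}) [(QuotSh.J K S).Subcanonical]
variable {M₁ M₂ M₃ N : Over S}
  [GrpObj M₁] [IsCommMonObj M₁] [GrpObj M₂] [IsCommMonObj M₂] [GrpObj M₃] [IsCommMonObj M₃]
  [GrpObj N] [IsCommMonObj N]
variable (j : M₁ ⟶ M₂) (π : M₂ ⟶ M₃) [IsMonHom j] [IsMonHom π] {n : ℕ} (φ : MultSch.pow M₂ n ⟶ N)

/-- `φ'` restricts to `φ` on points. -/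
def Star (φ' : MultSch.pow M₃ n ⟶ N) : Prop :=
  ∀ (T : Over S) (x : Fin n → (T ⟶ M₂)),
    MultSch.tuple x ≫ φ = MultSch.tuple (fun l => x l ≫ π) ≫ φ'

variable {j π φ}

theorem van_slot (hn : 1 ≤ n) (hmult : MultSch.IsMultilinear φ) (halt : MultSch.IsAlternating φ)
    (hvan : ∀ (T : Over S) (y : T ⟶ M₁) (x : Fin n → (T ⟶ M₂)), x ⟨0, hn⟩ = y ≫ j →
      MultSch.tuple x ≫ φ = 1)
    (T : Over S) (i : Fin n) (y : T ⟶ M₁) (x : Fin n → (T ⟶ M₂)) (hx : x i = y ≫ j) :
    MultSch.tuple x ≫ φ = 1 := by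
  by_cases hi : i = ⟨0, hn⟩
  · subst hi
    exact hvan T y x hx
  set i₀ : Fin n := ⟨0, hn⟩ with hi₀
  have hi' : i₀ ≠ i := Ne.symm hi
  let F : (T ⟶ M₂) → (T ⟶ M₂) → (T ⟶ N) := fun s t =>
    MultSch.tuple (Function.update (Function.update x i₀ s) i t) ≫ φ
  have hF1 : ∀ s t t', F s (t * t') = F s t * F s t' := fun s t t' =>
    hmult T (Function.update x i₀ s) i t t'
  have hF2 : ∀ s s' t, F (s * s') t = F s t * F s' t := by
    intro s s' t
    change MultSch.tuple (Function.update (Function.update x i₀ (s * s')) i t) ≫ φ =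
      MultSch.tuple (Function.update (Function.update x i₀ s) i t) ≫ φ *
      MultSch.tuple (Function.update (Function.update x i₀ s') i t) ≫ φ
    rw [Function.update_comm hi' (s * s') t x, Function.update_comm hi' s t x,
      Function.update_comm hi' s' t x]
    exact hmult T (Function.update x i t) i₀ s s'
  have hF3 : ∀ s, F s s = 1 := fun s => halt T _ i₀ i hi' (by
    rw [Function.update_self, Function.update_of_ne hi', Function.update_self])
  have hF4 : F (x i) (x i₀) = 1 := hvan T y _ (by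
    rw [Function.update_of_ne hi', Function.update_self, hx])
  have h1 : F (x i * x i₀) (x i * x i₀) = 1 := hF3 _
  rw [hF1, hF2, hF2, hF3, hF3, hF4] at h1
  simp only [_root_.one_mul, _root_.mul_one] at h1
  have h2 : Function.update (Function.update x i₀ (x i₀)) i (x i) = x := by
    rw [Function.update_eq_self, Function.update_eq_self]
  change MultSch.tuple (Function.update (Function.update x i₀ (x i₀)) i (x i)) ≫ φ = 1 at h1
  rw [h2] at h1
  exact h1

include K in
theorem indep_slot (w : j ≫ π = 1) (hex : (CGrpSh.seq K j π w).Exact)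
    (hmult : MultSch.IsMultilinear φ)
    (hvan : ∀ (T : Over S) (i : Fin n) (y : T ⟶ M₁) (x : Fin n → (T ⟶ M₂)), x i = y ≫ j →
      MultSch.tuple x ≫ φ = 1)
    {T : Over S} (x : Fin n → (T ⟶ M₂)) (i : Fin n) (y' : T ⟶ M₂) (h : x i ≫ π = y' ≫ π) :
    MultSch.tuple x ≫ φ = MultSch.tuple (Function.update x i y') ≫ φ := by
  set z : T ⟶ M₂ := (x i)⁻¹ * y' with hz
  have hy' : y' = x i * z := by rw [hz, mul_inv_cancel_left]
  have hzπ : z ≫ π = 1 := by
    rw [hz, MonObj.mul_comp, GrpObj.inv_comp, h, inv_mul_cancel]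
  obtain ⟨R, hR, hlift⟩ := exists_sieve_lift_of_exact K j π w hex z hzπ
  have h1 : MultSch.tuple (Function.update x i z) ≫ φ = 1 := by
    apply hom_ext_of_sieve K R hR
    intro T' f hf
    obtain ⟨y'', hy''⟩ := hlift f hf
    rw [MonObj.comp_one, ← Category.assoc, comp_tuple, comp_update, ← hy'']
    exact hvan T' i y'' _ (by rw [Function.update_self])
  rw [hy', hmult T x i (x i) z, h1, _root_.mul_one, Function.update_eq_self]

include K in
theorem indep (w : j ≫ π = 1) (hex : (CGrpSh.seq K j π w).Exact)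
    (hmult : MultSch.IsMultilinear φ)
    (hvan : ∀ (T : Over S) (i : Fin n) (y : T ⟶ M₁) (x : Fin n → (T ⟶ M₂)), x i = y ≫ j →
      MultSch.tuple x ≫ φ = 1)
    {T : Over S} (x x' : Fin n → (T ⟶ M₂)) (h : ∀ l, x l ≫ π = x' l ≫ π) :
    MultSch.tuple x ≫ φ = MultSch.tuple x' ≫ φ := by
  classical
  have key : ∀ (s : Finset (Fin n)) (x : Fin n → (T ⟶ M₂)), (∀ l, l ∉ s → x l = x' l) →
      (∀ l, x l ≫ π = x' l ≫ π) → MultSch.tuple x ≫ φ = MultSch.tuple x' ≫ φ := by
    intro s
    induction s using Finset.induction_on with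
    | empty =>
      intro x hx _
      have : x = x' := funext fun l => hx l (Finset.notMem_empty l)
      rw [this]
    | insert a s _ ih =>
      intro x hx hπ
      rw [indep_slot K w hex hmult hvan x a (x' a) (hπ a)]
      apply ih
      · intro l hl
        by_cases hla : l = a
        · subst hla
          rw [Function.update_self]
        · rw [Function.update_of_ne hla]
          exact hx l (by simp [hla, hl])
      · intro l
        by_cases hla : l = a
        · subst hla
          rw [Function.update_self]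
        · rw [Function.update_of_ne hla]
          exact hπ l
  exact key Finset.univ x (fun l hl => absurd (Finset.mem_univ l) hl) h

include K in
theorem exists_star (w : j ≫ π = 1) (hex : (CGrpSh.seq K j π w).Exact)
    (hepi : Epi (CGrpSh.ptsMap K π)) (hmult : MultSch.IsMultilinear φ)
    (hvan : ∀ (T : Over S) (i : Fin n) (y : T ⟶ M₁) (x : Fin n → (T ⟶ M₂)), x i = y ≫ j →
      MultSch.tuple x ≫ φ = 1) :
    ∃ φ' : MultSch.pow M₃ n ⟶ N, Star π φ φ' := by
  obtain ⟨R, hR, hlift⟩ := exists_sieve_lift_fin K π hepi (proj M₃ n)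
  have hlift' : ∀ (T' : Over S) (f : T' ⟶ MultSch.pow M₃ n) (_ : R f),
      ∃ y : Fin n → (T' ⟶ M₂), ∀ l, y l ≫ π = f ≫ proj M₃ n l := fun T' f hf => hlift f hf
  choose ysel hysel using hlift'
  let a : ∀ ⦃T' : Over S⦄ (f : T' ⟶ MultSch.pow M₃ n), R f → (T' ⟶ N) := fun T' f hf =>
    MultSch.tuple (ysel T' f hf) ≫ φ
  have ha : ∀ ⦃T' : Over S⦄ (f : T' ⟶ MultSch.pow M₃ n) (hf : R f) (y : Fin n → (T' ⟶ M₂)),
      (∀ l, y l ≫ π = f ≫ proj M₃ n l) → a f hf = MultSch.tuple y ≫ φ := by
    intro T' f hf y hy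
    apply indep K w hex hmult hvan
    intro l
    rw [hysel T' f hf l, hy l]
  obtain ⟨φ', hφ'⟩ := exists_glue K R hR a (by
    intro T₁ T₂ Z g₁ g₂ f₁ f₂ h₁ h₂ hc
    change g₁ ≫ (MultSch.tuple _ ≫ φ) = g₂ ≫ (MultSch.tuple _ ≫ φ)
    rw [← Category.assoc g₁, ← Category.assoc g₂, comp_tuple, comp_tuple]
    apply indep K w hex hmult hvan
    intro l
    rw [Category.assoc, Category.assoc, hysel _ f₁ h₁, hysel _ f₂ h₂, ← Category.assoc,
      ← Category.assoc g₂, hc])
  refine ⟨φ', ?_⟩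
  intro T x
  apply hom_ext_of_sieve K (R.pullback (MultSch.tuple (fun l => x l ≫ π)))
    ((QuotSh.J K S).pullback_stable _ hR)
  intro T' h hh
  have hh' : R (h ≫ MultSch.tuple (fun l => x l ≫ π)) := hh
  rw [← Category.assoc h (MultSch.tuple _) φ', hφ' _ hh',
    ha _ hh' (fun l => h ≫ x l) (fun l => by rw [Category.assoc, Category.assoc, tuple_proj]),
    ← Category.assoc, comp_tuple]

include K in
theorem star_unique (hepi : Epi (CGrpSh.ptsMap K π)) (φ' φ'' : MultSch.pow M₃ n ⟶ N)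
    (h' : Star π φ φ') (h'' : Star π φ φ'') : φ'' = φ' := by
  obtain ⟨R, hR, hlift⟩ := exists_sieve_lift_fin K π hepi (proj M₃ n)
  apply hom_ext_of_sieve K R hR
  intro T' f hf
  obtain ⟨y, hy⟩ := hlift f hf
  have hf' : f = MultSch.tuple (fun l => y l ≫ π) := by
    rw [eq_tuple f]
    congr 1
    funext l
    rw [hy l]
  rw [hf', ← h', ← h'']

include K in
theorem star_mult (hepi : Epi (CGrpSh.ptsMap K π)) (hmult : MultSch.IsMultilinear φ)
    (φ' : MultSch.pow M₃ n ⟶ N) (h' : Star π φ φ') : MultSch.IsMultilinear φ' := by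
  intro T x i y z
  obtain ⟨R₀, hR₀, hl₀⟩ := exists_sieve_lift_fin K π hepi x
  obtain ⟨R₁, hR₁, hl₁⟩ := exists_sieve_lift K π hepi y
  obtain ⟨R₂, hR₂, hl₂⟩ := exists_sieve_lift K π hepi z
  apply hom_ext_of_sieve K (R₀ ⊓ (R₁ ⊓ R₂)) ((QuotSh.J K S).intersection_covering hR₀
    ((QuotSh.J K S).intersection_covering hR₁ hR₂))
  intro T' f hf
  obtain ⟨x₁, hx₁⟩ := hl₀ f hf.1
  obtain ⟨y₁, hy₁⟩ := hl₁ f hf.2.1
  obtain ⟨z₁, hz₁⟩ := hl₂ f hf.2.2
  have hx₁' : (fun l => f ≫ x l) = fun l => x₁ l ≫ π := funext fun l => (hx₁ l).symm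
  rw [MonObj.comp_mul, ← Category.assoc, ← Category.assoc, ← Category.assoc, comp_tuple, comp_tuple,
    comp_tuple, comp_update, comp_update, comp_update, MonObj.comp_mul, ← hy₁, ← hz₁,
    ← MonObj.mul_comp, hx₁', ← update_comp, ← update_comp, ← update_comp, ← h', ← h', ← h', hmult]

include K in
theorem star_lin {R : Type w} [CommRing R] (ρ₂ : MultSch.RMod R M₂) (ρ₃ : MultSch.RMod R M₃)
    (ρN : MultSch.RMod R N) (hπ : ∀ a : R, π ≫ ρ₃.act a = ρ₂.act a ≫ π)
    (hepi : Epi (CGrpSh.ptsMap K π)) (hlin : MultSch.IsRLinear ρ₂ ρN φ)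
    (φ' : MultSch.pow M₃ n ⟶ N) (h' : Star π φ φ') : MultSch.IsRLinear ρ₃ ρN φ' := by
  intro T x i a
  obtain ⟨R₀, hR₀, hl₀⟩ := exists_sieve_lift_fin K π hepi x
  apply hom_ext_of_sieve K R₀ hR₀
  intro T' f hf
  obtain ⟨x₁, hx₁⟩ := hl₀ f hf
  have hx₁' : (fun l => f ≫ x l) = fun l => x₁ l ≫ π := funext fun l => (hx₁ l).symm
  rw [← Category.assoc, ← Category.assoc, ← Category.assoc, comp_tuple, comp_tuple, comp_update,
    ← Category.assoc, ← hx₁ i, Category.assoc, hπ, ← Category.assoc, hx₁', ← update_comp, ← h', ← h',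
    hlin]

include K in
theorem star_alt (hepi : Epi (CGrpSh.ptsMap K π)) (halt : MultSch.IsAlternating φ)
    (φ' : MultSch.pow M₃ n ⟶ N) (h' : Star π φ φ') : MultSch.IsAlternating φ' := by
  intro T x i k hik hx
  obtain ⟨R₀, hR₀, hl₀⟩ := exists_sieve_lift_fin K π hepi x
  apply hom_ext_of_sieve K R₀ hR₀
  intro T' f hf
  obtain ⟨y, hy⟩ := hl₀ f hf
  rw [MonObj.comp_one, ← Category.assoc, comp_tuple]
  have h1 := halt T' (Function.update y k (y i)) i k hik (by
    rw [Function.update_self, Function.update_of_ne hik])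
  rw [h'] at h1
  rw [← h1]
  congr 2
  funext l
  by_cases hl : l = k
  · subst hl
    rw [Function.update_self, hy i, hx]
  · rw [Function.update_of_ne hl, hy l]

end Groth.Agent.Lib.Helper69.MultAlt
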