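/-
helper69: factoring a morphism `P × M × Q ⟶ N`, additive in `M` and trivial on the image of
`M' ⟶ M`, through `P × M'' × Q` for an exact sequence `M' ⟶ M ⟶ M'' ⟶ 0` of sheaves of points.
-/
import Groth.Agent.Lib.Helper69.CGrpLocal4
import Groth.Prelude.Def_W4c1extbt15Mult

set_option autoImplicit false
set_option linter.unusedSectionVars false
universe u w
open CategoryTheory CategoryTheory.Limits MonoidalCategory CartesianMonoidalCategory MonObj AlgebraicGeometry Opposite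

namespace Groth.Agent.Lib.Helper69.MultSlot
open Groth.Agent.Lib.Helper69.CGrpLocal

variable {S : Scheme.{u}} (K : Precoverage Scheme.{u}) [(QuotSh.J K S).Subcanonical]
variable {P Q M' M M'' N : Over S}
  [GrpObj M'] [IsCommMonObj M'] [GrpObj M] [IsCommMonObj M] [GrpObj M''] [IsCommMonObj M'']
  [GrpObj N] [IsCommMonObj N]
variable (j : M' ⟶ M) (π : M ⟶ M'') [IsMonHom j] [IsMonHom π] (ψ : P ⊗ (M ⊗ Q) ⟶ N)

/-- `ψ'` restricts to `ψ` on points. -/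
def Star (ψ' : P ⊗ (M'' ⊗ Q) ⟶ N) : Prop :=
  ∀ (T : Over S) (p : T ⟶ P) (q : T ⟶ Q) (y : T ⟶ M),
    lift p (lift (y ≫ π) q) ≫ ψ' = lift p (lift y q) ≫ ψ

theorem eq_lift3 {A B C T : Over S} (f : T ⟶ A ⊗ (B ⊗ C)) :
    f = lift (f ≫ fst _ _) (lift (f ≫ snd _ _ ≫ fst _ _) (f ≫ snd _ _ ≫ snd _ _)) := by
  apply CartesianMonoidalCategory.hom_ext
  · simp
  · apply CartesianMonoidalCategory.hom_ext <;> simp

theorem lift3_comp {T : Over S} (p : T ⟶ P) (q : T ⟶ Q) (y : T ⟶ M) :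
    lift p (lift y q) ≫ (P ◁ (π ▷ Q)) = lift p (lift (y ≫ π) q) := by
  simp

theorem comp_lift3 {A B C T T' : Over S} (f : T' ⟶ T) (p : T ⟶ A) (y : T ⟶ B) (q : T ⟶ C) :
    f ≫ lift p (lift y q) = lift (f ≫ p) (lift (f ≫ y) (f ≫ q)) := by
  rw [comp_lift, comp_lift]

theorem lift3_id {A B C : Over S} :
    lift (fst A (B ⊗ C)) (lift (snd _ _ ≫ fst _ _) (snd _ _ ≫ snd _ _)) = 𝟙 (A ⊗ (B ⊗ C)) := by
  apply CartesianMonoidalCategory.hom_ext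
  · simp
  · apply CartesianMonoidalCategory.hom_ext <;> simp

theorem star_iff (ψ' : P ⊗ (M'' ⊗ Q) ⟶ N) : Star π ψ ψ' ↔ (P ◁ (π ▷ Q)) ≫ ψ' = ψ := by
  constructor
  · intro h
    have h1 := h (P ⊗ (M ⊗ Q)) (fst _ _) (snd _ _ ≫ snd _ _) (snd _ _ ≫ fst _ _)
    rw [← lift3_comp π (fst _ _) (snd _ _ ≫ snd _ _) (snd _ _ ≫ fst _ _), lift3_id,
      Category.id_comp, Category.id_comp] at h1
    exact h1
  · intro h T p q y
    rw [← lift3_comp π p q y, Category.assoc, h]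

variable {π ψ}

include K in
theorem indep (w : j ≫ π = 1) (hex : (CGrpSh.seq K j π w).Exact)
    (hadd : ∀ (T : Over S) (p : T ⟶ P) (q : T ⟶ Q) (y z : T ⟶ M),
      lift p (lift (y * z) q) ≫ ψ = (lift p (lift y q) ≫ ψ) * (lift p (lift z q) ≫ ψ))
    (hvan : ∀ (T : Over S) (p : T ⟶ P) (q : T ⟶ Q) (y' : T ⟶ M'), lift p (lift (y' ≫ j) q) ≫ ψ = 1)
    {T : Over S} (p : T ⟶ P) (q : T ⟶ Q) (y y' : T ⟶ M) (h : y ≫ π = y' ≫ π) :
    lift p (lift y q) ≫ ψ = lift p (lift y' q) ≫ ψ := by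
  set z : T ⟶ M := y⁻¹ * y' with hz
  have hy' : y' = y * z := by rw [hz, mul_inv_cancel_left]
  have hzπ : z ≫ π = 1 := by
    rw [hz, MonObj.mul_comp, GrpObj.inv_comp, h, inv_mul_cancel]
  obtain ⟨R, hR, hlift⟩ := exists_sieve_lift_of_exact K j π w hex z hzπ
  have h1 : lift p (lift z q) ≫ ψ = 1 := by
    apply hom_ext_of_sieve K R hR
    intro T' f hf
    obtain ⟨y'', hy''⟩ := hlift f hf
    rw [MonObj.comp_one, ← Category.assoc, comp_lift3, ← hy'', hvan]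
  rw [hy', hadd, h1, _root_.mul_one]

include K in
theorem exists_star (w : j ≫ π = 1) (hex : (CGrpSh.seq K j π w).Exact)
    (hepi : Epi (CGrpSh.ptsMap K π))
    (hadd : ∀ (T : Over S) (p : T ⟶ P) (q : T ⟶ Q) (y z : T ⟶ M),
      lift p (lift (y * z) q) ≫ ψ = (lift p (lift y q) ≫ ψ) * (lift p (lift z q) ≫ ψ))
    (hvan : ∀ (T : Over S) (p : T ⟶ P) (q : T ⟶ Q) (y' : T ⟶ M'), lift p (lift (y' ≫ j) q) ≫ ψ = 1) :
    ∃ ψ' : P ⊗ (M'' ⊗ Q) ⟶ N, Star π ψ ψ' := by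
  obtain ⟨R, hR, hlift⟩ := exists_sieve_lift K π hepi (snd P (M'' ⊗ Q) ≫ fst M'' Q)
  have hlift' : ∀ (T' : Over S) (f : T' ⟶ P ⊗ (M'' ⊗ Q)) (_ : R f),
      ∃ y : T' ⟶ M, y ≫ π = f ≫ snd _ _ ≫ fst _ _ := fun T' f hf => hlift f hf
  choose ysel hysel using hlift'
  let a : ∀ ⦃T' : Over S⦄ (f : T' ⟶ P ⊗ (M'' ⊗ Q)), R f → (T' ⟶ N) := fun T' f hf =>
    lift (f ≫ fst _ _) (lift (ysel T' f hf) (f ≫ snd _ _ ≫ snd _ _)) ≫ ψ
  have ha : ∀ ⦃T' : Over S⦄ (f : T' ⟶ P ⊗ (M'' ⊗ Q)) (hf : R f) (y : T' ⟶ M),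
      y ≫ π = f ≫ snd _ _ ≫ fst _ _ →
      a f hf = lift (f ≫ fst _ _) (lift y (f ≫ snd _ _ ≫ snd _ _)) ≫ ψ := by
    intro T' f hf y hy
    apply indep K j w hex hadd hvan
    rw [hysel T' f hf, hy]
  obtain ⟨ψ', hψ'⟩ := exists_glue K R hR a (by
    intro T₁ T₂ Z g₁ g₂ f₁ f₂ h₁ h₂ hc
    change g₁ ≫ (lift _ (lift _ _) ≫ ψ) = g₂ ≫ (lift _ (lift _ _) ≫ ψ)
    rw [← Category.assoc g₁, ← Category.assoc g₂, comp_lift3, comp_lift3, ← Category.assoc g₁ f₁,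
      ← Category.assoc g₁ f₁, ← Category.assoc g₂ f₂, ← Category.assoc g₂ f₂, hc]
    apply indep K j w hex hadd hvan
    rw [Category.assoc, Category.assoc, hysel _ f₁ h₁, hysel _ f₂ h₂, ← Category.assoc,
      ← Category.assoc g₂, hc])
  refine ⟨ψ', ?_⟩
  intro T p q y
  apply hom_ext_of_sieve K (R.pullback (lift p (lift (y ≫ π) q)))
    ((QuotSh.J K S).pullback_stable _ hR)
  intro T' h hh
  have hh' : R (h ≫ lift p (lift (y ≫ π) q)) := hh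
  rw [← Category.assoc, hψ' _ hh', ha _ hh' (h ≫ y) (by simp), ← Category.assoc h, comp_lift3]
  simp

include K in
theorem star_unique (hepi : Epi (CGrpSh.ptsMap K π)) (ψ' ψ'' : P ⊗ (M'' ⊗ Q) ⟶ N)
    (h' : Star π ψ ψ') (h'' : Star π ψ ψ'') : ψ'' = ψ' := by
  obtain ⟨R, hR, hlift⟩ := exists_sieve_lift K π hepi (snd P (M'' ⊗ Q) ≫ fst M'' Q)
  apply hom_ext_of_sieve K R hR
  intro T' f hf
  obtain ⟨y, hy⟩ := hlift f hf
  rw [eq_lift3 f, ← hy, h', h'']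

include K in
theorem star_add (hepi : Epi (CGrpSh.ptsMap K π))
    (hadd : ∀ (T : Over S) (p : T ⟶ P) (q : T ⟶ Q) (y z : T ⟶ M),
      lift p (lift (y * z) q) ≫ ψ = (lift p (lift y q) ≫ ψ) * (lift p (lift z q) ≫ ψ))
    (ψ' : P ⊗ (M'' ⊗ Q) ⟶ N) (h' : Star π ψ ψ')
    (T : Over S) (p : T ⟶ P) (q : T ⟶ Q) (y z : T ⟶ M'') :
    lift p (lift (y * z) q) ≫ ψ' = (lift p (lift y q) ≫ ψ') * (lift p (lift z q) ≫ ψ') := by
  obtain ⟨R₁, hR₁, hl₁⟩ := exists_sieve_lift K π hepi y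
  obtain ⟨R₂, hR₂, hl₂⟩ := exists_sieve_lift K π hepi z
  apply hom_ext_of_sieve K (R₁ ⊓ R₂) ((QuotSh.J K S).intersection_covering hR₁ hR₂)
  intro T' f hf
  obtain ⟨y₁, hy₁⟩ := hl₁ f hf.1
  obtain ⟨z₁, hz₁⟩ := hl₂ f hf.2
  rw [MonObj.comp_mul, ← Category.assoc, ← Category.assoc, ← Category.assoc, comp_lift3, comp_lift3,
    comp_lift3, MonObj.comp_mul, ← hy₁, ← hz₁, ← MonObj.mul_comp, h', h', h', hadd]

include K in
theorem star_lin {R : Type w} [CommRing R] (ρ : MultSch.RMod R M) (ρ'' : MultSch.RMod R M'')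
    (ρN : MultSch.RMod R N) (hπ : ∀ a : R, π ≫ ρ''.act a = ρ.act a ≫ π)
    (hepi : Epi (CGrpSh.ptsMap K π))
    (hlin : ∀ (T : Over S) (p : T ⟶ P) (q : T ⟶ Q) (y : T ⟶ M) (a : R),
      lift p (lift (y ≫ ρ.act a) q) ≫ ψ = (lift p (lift y q) ≫ ψ) ≫ ρN.act a)
    (ψ' : P ⊗ (M'' ⊗ Q) ⟶ N) (h' : Star π ψ ψ')
    (T : Over S) (p : T ⟶ P) (q : T ⟶ Q) (y : T ⟶ M'') (a : R) :
    lift p (lift (y ≫ ρ''.act a) q) ≫ ψ' = (lift p (lift y q) ≫ ψ') ≫ ρN.act a := by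
  obtain ⟨R₁, hR₁, hl₁⟩ := exists_sieve_lift K π hepi y
  apply hom_ext_of_sieve K R₁ hR₁
  intro T' f hf
  obtain ⟨y₁, hy₁⟩ := hl₁ f hf
  rw [← Category.assoc, ← Category.assoc, ← Category.assoc, comp_lift3, comp_lift3,
    ← Category.assoc, ← hy₁, Category.assoc, hπ, ← Category.assoc, h', h', hlin]

end Groth.Agent.Lib.Helper69.MultSlot
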