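import Mathlib
import Groth.Prelude.Def_P1
import Groth.Agent.Lib.Helper69.PnConn
import Groth.Agent.Lib.Helper17.ProjSpaceProper
import Groth.Agent.Lib.Helper69.ConnComp

set_option autoImplicit false
universe u
open AlgebraicGeometry CategoryTheory Limits

namespace Groth.Agent.Lib.Helper69.P1Fin
open Groth.Agent.Lib.Helper69.PnConn

theorem sect_toBase (S : Scheme.{u}) (i : Fin (1 + 1)) :
    P1.sect S i ≫ CohB1.ProjSpaceOver.toBase 1 S = 𝟙 S :=
  pullback.lift_snd _ _ _

/-- a clopen subset of `P^n_S` meeting a fibre contains the fibre. -/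
theorem fibre_subset_of_isClopen (n : ℕ) (S : Scheme.{u}) (C : Set ↥(CohB1.ProjSpaceOver n S))
    (hC : IsClopen C) (c : ↥(CohB1.ProjSpaceOver n S)) (hc : c ∈ C)
    (d : ↥(CohB1.ProjSpaceOver n S))
    (hd : CohB1.ProjSpaceOver.toBase n S d = CohB1.ProjSpaceOver.toBase n S c) : d ∈ C := by
  have := geometricallyConnected_toBase n S
  have hconn := (CohB1.ProjSpaceOver.toBase n S).isConnected_preimage_singleton
    (CohB1.ProjSpaceOver.toBase n S c)
  have hsub := hconn.isPreconnected.subset_isClopen hC ⟨c, rfl, hc⟩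
  exact hsub hd

/-- core of S13906. -/
theorem eq_univ_of_isClopen (S X : Scheme.{u})
    (g : X ⟶ CohB1.ProjSpaceOver 1 S) [IsFinite g] [Flat g] [LocallyOfFinitePresentation g]
    (W : Set X) (hW : IsClopen W)
    (h0 : ∀ x : X, g x ∈ Set.range (P1.sect S 0) → x ∈ W) : W = Set.univ := by
  have hop : IsOpenMap g := g.isOpenMap
  have hcl : IsClosedMap g := g.isClosedMap
  have hC : IsClopen (g '' Wᶜ) := ⟨hcl _ hW.compl.1, hop _ hW.compl.2⟩
  rw [Set.eq_univ_iff_forall]
  intro x
  by_contra hx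
  have hc : g x ∈ g '' Wᶜ := ⟨x, hx, rfl⟩
  set s := CohB1.ProjSpaceOver.toBase 1 S (g x) with hs
  have hd : CohB1.ProjSpaceOver.toBase 1 S (P1.sect S 0 s) =
      CohB1.ProjSpaceOver.toBase 1 S (g x) := by
    rw [← Scheme.Hom.comp_apply, sect_toBase]
    rfl
  obtain ⟨x', hx', hgx'⟩ := fibre_subset_of_isClopen 1 S _ hC (g x) hc _ hd
  exact hx' (h0 x' ⟨s, hgx'.symm⟩)

/-- core of S13902. -/
theorem finrank_eq_of_zeroSection (S X T : Scheme.{u})
    (g : X ⟶ CohB1.ProjSpaceOver 1 S) (f : T ⟶ X)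
    [IsFinite g] [Flat g] [LocallyOfFinitePresentation g]
    [IsFinite f] [Flat f] [LocallyOfFinitePresentation f] (r : ℕ)
    (h : ∀ x : X, g x ∈ Set.range (P1.sect S 0) → f.finrank x = r) (x : X) :
    f.finrank x = r := by
  have hW : IsClopen {x : X | f.finrank x = r} := f.isLocallyConstant_finrank.isClopen_fiber r
  have := eq_univ_of_isClopen S X g _ hW h
  have hx : x ∈ {x : X | f.finrank x = r} := this ▸ Set.mem_univ x
  exact hx

theorem preconnectedSpace_projSpaceOver (n : ℕ) (S : Scheme.{u}) [PreconnectedSpace S] :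
    PreconnectedSpace ↥(CohB1.ProjSpaceOver n S) := by
  by_cases hne : Nonempty ↥(CohB1.ProjSpaceOver n S)
  · obtain ⟨p⟩ := hne
    have := geometricallyConnected_toBase n S
    have hprop := Groth.Agent.Lib.Helper17.ProjSpaceProper.isProper_toBase n S
    have hS : ConnectedSpace S := { toNonempty := ⟨CohB1.ProjSpaceOver.toBase n S p⟩ }
    have hq : Topology.IsQuotientMap (CohB1.ProjSpaceOver.toBase n S) :=
      (CohB1.ProjSpaceOver.toBase n S).isClosedMap.isQuotientMap
        (CohB1.ProjSpaceOver.toBase n S).continuous (CohB1.ProjSpaceOver.toBase n S).surjective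
    have h1 := hq.isCoinducing.isConnected_preimage_of_isClosed
      (CohB1.ProjSpaceOver.toBase n S).isConnected_preimage_singleton isClosed_univ isConnected_univ
    rw [Set.preimage_univ] at h1
    exact ⟨h1.isPreconnected⟩
  · rw [not_nonempty_iff] at hne
    exact ⟨by rw [Set.univ_eq_empty_iff.mpr hne]; exact isPreconnected_empty⟩

/-- core of S13901. -/
theorem exists_mem_connectedComponent (S X : Scheme.{u}) [PreconnectedSpace S]
    (f : X ⟶ CohB1.ProjSpaceOver 1 S) [IsFinite f] [Flat f] [LocallyOfFinitePresentation f]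
    (x : X) (p : CohB1.ProjSpaceOver 1 S) : ∃ y ∈ connectedComponent x, f y = p := by
  have := preconnectedSpace_projSpaceOver 1 S
  exact Groth.Agent.Lib.Helper69.exists_mem_connectedComponent_of_isOpenMap_of_isClosedMap f
    f.isOpenMap f.isClosedMap p (f.finite_preimage_singleton p) x

end Groth.Agent.Lib.Helper69.P1Fin
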