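import Groth.Agent.Lib.Helper69.Quot
import Mathlib.RingTheory.Invariant.Galois
import Mathlib.AlgebraicGeometry.ResidueField
import Mathlib.RingTheory.LocalRing.ResidueField.Ideal

set_option autoImplicit false
universe u
open CategoryTheory AlgebraicGeometry
open scoped Pointwise

namespace Groth.Agent.Lib.Helper69

section Alg

open IsLocalRing

variable {R S : Type*} [CommRing R] [CommRing S] [IsLocalRing S] [Algebra R S]
  (P : Ideal R) [P.IsPrime] [IsLocalization.AtPrime S P]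

theorem isFractionRing_residueField_of_atPrime
    [Algebra (R ⧸ P) (ResidueField S)]
    (h : ∀ r, algebraMap (R ⧸ P) (ResidueField S) (Ideal.Quotient.mk P r) =
      residue S (algebraMap R S r)) :
    IsFractionRing (R ⧸ P) (ResidueField S) := by
  have hinj : Function.Injective (algebraMap (R ⧸ P) (ResidueField S)) := by
    rw [injective_iff_map_eq_zero]
    intro a ha
    obtain ⟨r, rfl⟩ := Ideal.Quotient.mk_surjective a
    rw [h, residue_eq_zero_iff, IsLocalization.AtPrime.to_map_mem_maximal_iff S P] at ha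
    exact Ideal.Quotient.eq_zero_iff_mem.mpr ha
  refine ⟨fun y => isUnit_iff_ne_zero.mpr
    (map_ne_zero_of_mem_nonZeroDivisors _ hinj y.2), fun x => ?_, fun {x y} e => ?_⟩
  · obtain ⟨x, rfl⟩ := residue_surjective x
    obtain ⟨x, ⟨s, hs⟩, rfl⟩ := IsLocalization.exists_mk'_eq P.primeCompl x
    refine ⟨⟨Ideal.Quotient.mk _ x, ⟨Ideal.Quotient.mk _ s, ?_⟩⟩, ?_⟩
    · rwa [mem_nonZeroDivisors_iff_ne_zero, ne_eq, Ideal.Quotient.eq_zero_iff_mem]
    · simp only [h, ← map_mul]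
      congr 1
      exact IsLocalization.mk'_spec S x ⟨s, hs⟩
  · exact ⟨1, by rw [hinj e]⟩

end Alg

section Sch

variable {X : Scheme.{u}} {U : X.Opens} (hU : IsAffineOpen U) (x : X) (hx : x ∈ U)

theorem evaluation_eq_zero_of_mem (b : Γ(X, U))
    (hb : b ∈ (hU.primeIdealOf ⟨x, hx⟩).asIdeal) : (X.evaluation U x hx).hom b = 0 := by
  let := X.presheaf.algebra_section_stalk ⟨x, hx⟩
  have := hU.isLocalization_stalk ⟨x, hx⟩
  change IsLocalRing.residue _ ((X.presheaf.germ U x hx).hom b) = 0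
  rw [IsLocalRing.residue_eq_zero_iff]
  exact (IsLocalization.AtPrime.to_map_mem_maximal_iff (X.presheaf.stalk x)
    (hU.primeIdealOf ⟨x, hx⟩).asIdeal b).mpr hb

/-- The map `Γ(X,U)/Q_x → κ(x)`. -/
noncomputable def evalQuot :
    Γ(X, U) ⧸ (hU.primeIdealOf ⟨x, hx⟩).asIdeal →+* X.residueField x :=
  Ideal.Quotient.lift _ (X.evaluation U x hx).hom (evaluation_eq_zero_of_mem hU x hx)

@[simp] theorem evalQuot_mk (b : Γ(X, U)) :
    evalQuot hU x hx (Ideal.Quotient.mk _ b) = (X.evaluation U x hx).hom b := rfl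

theorem isFractionRing_evalQuot :
    letI := (evalQuot hU x hx).toAlgebra
    IsFractionRing (Γ(X, U) ⧸ (hU.primeIdealOf ⟨x, hx⟩).asIdeal) (X.residueField x) := by
  let : Algebra (Γ(X, U) ⧸ (hU.primeIdealOf ⟨x, hx⟩).asIdeal)
      (IsLocalRing.ResidueField (X.presheaf.stalk x)) := (evalQuot hU x hx).toAlgebra
  let := X.presheaf.algebra_section_stalk ⟨x, hx⟩
  have := hU.isLocalization_stalk ⟨x, hx⟩
  exact isFractionRing_residueField_of_atPrime (S := X.presheaf.stalk x)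
    (hU.primeIdealOf ⟨x, hx⟩).asIdeal (fun r => rfl)

end Sch

section Quot

variable {X Y : Scheme.{u}} {G : Type u} [Group G] (ρ : G →* Aut X) (p : X ⟶ Y)
  (hp : SGA1.IsQuot ρ p) (U : Y.Opens)

/-- `Γ(X, p⁻¹U)` as an algebra over `Γ(Y, U)`. -/
@[reducible] noncomputable def sectionAlgebra : Algebra Γ(Y, U) Γ(X, p ⁻¹ᵁ U) :=
  (p.app U).hom.toAlgebra

include hp in
theorem sectionAct_app (g : G) (a : Γ(Y, U)) :
    sectionAct ρ p hp.inv U g ((p.app U).hom a) = (p.app U).hom a :=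
  (hp.range_iff U ((p.app U).hom a)).mp ⟨a, rfl⟩ g

theorem isInvariant :
    letI := sectionMulSemiringAction ρ p hp.inv U
    letI := sectionAlgebra p U
    Algebra.IsInvariant Γ(Y, U) Γ(X, p ⁻¹ᵁ U) G := by
  let := sectionMulSemiringAction ρ p hp.inv U
  let := sectionAlgebra p U
  exact ⟨fun b hb => (hp.range_iff U b).mpr (fun g => by
    have := hb g⁻¹
    change sectionAct ρ p hp.inv U g⁻¹⁻¹ b = b at this
    rwa [inv_inv] at this)⟩

theorem smulCommClass :
    letI := sectionMulSemiringAction ρ p hp.inv U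
    letI := sectionAlgebra p U
    SMulCommClass G Γ(Y, U) Γ(X, p ⁻¹ᵁ U) := by
  let := sectionMulSemiringAction ρ p hp.inv U
  let := sectionAlgebra p U
  exact ⟨fun g a b => by
    change sectionAct ρ p hp.inv U g⁻¹ ((p.app U).hom a * b) =
      (p.app U).hom a * sectionAct ρ p hp.inv U g⁻¹ b
    rw [map_mul, sectionAct_app ρ p hp]⟩

theorem smul_primeIdealOf (hV : IsAffineOpen (p ⁻¹ᵁ U)) (g : G) (x : X) (hx : x ∈ p ⁻¹ᵁ U) :
    letI := sectionMulSemiringAction ρ p hp.inv U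
    g • (hV.primeIdealOf ⟨x, hx⟩).asIdeal =
      (hV.primeIdealOf ⟨(ρ g).hom.base x,
        SGA1.preimage_le_of_inv ρ p hp.inv g U hx⟩).asIdeal := by
  let := sectionMulSemiringAction ρ p hp.inv U
  have e5 := IsAffineOpen.comap_primeIdealOf_appLE (f := (ρ g).hom) (p ⁻¹ᵁ U) hV (p ⁻¹ᵁ U) hV
    (SGA1.preimage_le_of_inv ρ p hp.inv g U) hx
  rw [← e5, Ideal.pointwise_smul_eq_comap]
  ext b
  change sectionAct ρ p hp.inv U g⁻¹⁻¹ b ∈ (hV.primeIdealOf ⟨x, hx⟩).asIdeal ↔
    sectionAct ρ p hp.inv U g b ∈ (hV.primeIdealOf ⟨x, hx⟩).asIdeal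
  rw [inv_inv]

theorem under_primeIdealOf (hU : IsAffineOpen U) (hV : IsAffineOpen (p ⁻¹ᵁ U)) (x : X)
    (hx : x ∈ p ⁻¹ᵁ U) :
    letI := sectionAlgebra p U
    (hV.primeIdealOf ⟨x, hx⟩).asIdeal.under Γ(Y, U) =
      (hU.primeIdealOf ⟨p.base x, hx⟩).asIdeal := by
  let := sectionAlgebra p U
  have e1 := IsAffineOpen.comap_primeIdealOf_appLE U hU (p ⁻¹ᵁ U) hV le_rfl hx
  have e4 := congrArg PrimeSpectrum.asIdeal e1
  rw [Scheme.Hom.appLE_eq_app] at e4
  exact e4

end Quot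

end Groth.Agent.Lib.Helper69
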