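import Groth.Agent.Lib.Helper69.Quot3

set_option autoImplicit false
universe u
open CategoryTheory AlgebraicGeometry Limits

namespace Groth.Agent.Lib.Helper69

/-- Two embeddings of a normal extension differ by an automorphism. -/
theorem exists_algEquiv_comp_eq {k N K : Type*} [Field k] [Field N] [Field K] [Algebra k N]
    [Algebra k K] [Normal k N] (φ₁ φ₂ : N →ₐ[k] K) : ∃ τ : N ≃ₐ[k] N, ∀ x, φ₁ (τ x) = φ₂ x := by
  let _ : Algebra N K := φ₁.toRingHom.toAlgebra
  have : IsScalarTower k N K := IsScalarTower.of_algebraMap_eq fun x => (φ₁.commutes x).symm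
  exact ⟨φ₂.restrictNormal' N, fun x => φ₂.restrictNormal_commutes N x⟩

/-- A field valued point through `x` factors through the residue field at `x`. -/
theorem exists_eq_specMap_comp {X : Scheme.{u}} {K : Type u} [Field K]
    (ξ : Spec (.of K) ⟶ X) (x : X) (hx : ξ (IsLocalRing.closedPoint K) = x) :
    ∃ φ : X.residueField x ⟶ .of K, ξ = Spec.map φ ≫ X.fromSpecResidueField x := by
  subst hx
  exact ⟨_, (Scheme.descResidueField_stalkClosedPointTo_fromSpecResidueField K X ξ).symm⟩

variable {X Y : Scheme.{u}} {G : Type u} [Group G] [Finite G] (ρ : G →* Aut X) (p : X ⟶ Y)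
  (hp : SGA1.IsQuot ρ p)

include hp in
theorem exists_comp_eq_of_residueFieldMap_comp_eq {K : Type u} [Field K] (x : X)
    (φ₁ φ₂ : X.residueField x ⟶ .of K)
    (h : p.residueFieldMap x ≫ φ₁ = p.residueFieldMap x ≫ φ₂) :
    ∃ g : G, (Spec.map φ₁ ≫ X.fromSpecResidueField x) ≫ (ρ g).hom =
      Spec.map φ₂ ≫ X.fromSpecResidueField x := by
  let a := p.residueFieldMap x
  let _ : Algebra (Y.residueField (p.base x)) (X.residueField x) := a.hom.toAlgebra
  let _ : Algebra (Y.residueField (p.base x)) K := (a ≫ φ₁).hom.toAlgebra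
  have : Normal (Y.residueField (p.base x)) (X.residueField x) :=
    (Groth.Agent.S13597.result ρ p hp x).1
  let ψ₁ : X.residueField x →ₐ[Y.residueField (p.base x)] K :=
    { φ₁.hom with commutes' := fun _ => rfl }
  let ψ₂ : X.residueField x →ₐ[Y.residueField (p.base x)] K :=
    { φ₂.hom with commutes' := fun t => (congrArg (fun f => f.hom t) h).symm }
  obtain ⟨τ, hτ⟩ := exists_algEquiv_comp_eq ψ₁ ψ₂
  let τc : X.residueField x ≅ X.residueField x := (τ : X.residueField x ≃+* X.residueField x).toCommRingCatIso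
  have hτφ : τc.hom ≫ φ₁ = φ₂ := by
    ext t
    exact hτ t
  have haτ : a ≫ τc.hom = a := by
    ext t
    exact τ.commutes t
  have hb : X.fromSpecResidueField x ≫ p = Spec.map a ≫ Y.fromSpecResidueField (p.base x) :=
    (Scheme.Hom.SpecMap_residueFieldMap_fromSpecResidueField p x).symm
  have hτ' : Spec.map τc.hom ≫ X.fromSpecResidueField x ≫ p = X.fromSpecResidueField x ≫ p := by
    rw [hb, ← Spec.map_comp_assoc, haτ]
  obtain ⟨g, hg⟩ := exists_specMap_comp_fromSpecResidueField ρ p hp x τc hτ'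
  refine ⟨g, ?_⟩
  rw [Category.assoc, ← hg, ← Spec.map_comp_assoc, hτφ]

include hp in
/-- **Transitivity on field valued points**: two `K`-points of `X` with the same image in the
quotient differ by an element of `G`. -/
theorem exists_comp_eq_of_comp_eq {K : Type u} [Field K] (ξ₁ ξ₂ : Spec (.of K) ⟶ X)
    (h : ξ₁ ≫ p = ξ₂ ≫ p) : ∃ g : G, ξ₁ ≫ (ρ g).hom = ξ₂ := by
  obtain ⟨-, horb, -⟩ := Groth.Agent.S2908.result ρ p hp
  set c := IsLocalRing.closedPoint K
  have hpt : p.base (ξ₁ c) = p.base (ξ₂ c) := by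
    have := congrArg (fun f => f.base c) h
    simpa using this
  obtain ⟨g₀, hg₀⟩ := (horb _ _).mp hpt
  have e1 : (ξ₁ ≫ (ρ g₀).hom) c = ξ₂ c := by
    rw [Scheme.Hom.comp_apply]; exact hg₀
  obtain ⟨φ₁, h1⟩ := exists_eq_specMap_comp (ξ₁ ≫ (ρ g₀).hom) (ξ₂ c) e1
  obtain ⟨φ₂, h2⟩ := exists_eq_specMap_comp ξ₂ (ξ₂ c) rfl
  have hb : X.fromSpecResidueField (ξ₂ c) ≫ p =
      Spec.map (p.residueFieldMap (ξ₂ c)) ≫ Y.fromSpecResidueField (p.base (ξ₂ c)) :=
    (Scheme.Hom.SpecMap_residueFieldMap_fromSpecResidueField p (ξ₂ c)).symm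
  have h3 : p.residueFieldMap (ξ₂ c) ≫ φ₁ = p.residueFieldMap (ξ₂ c) ≫ φ₂ := by
    apply Spec.map_injective
    rw [← cancel_mono (Y.fromSpecResidueField (p.base (ξ₂ c))), Spec.map_comp, Spec.map_comp,
      Category.assoc, Category.assoc, ← hb, ← Category.assoc, ← Category.assoc, ← h1, ← h2,
      Category.assoc, hp.inv g₀, h]
  obtain ⟨g, hg⟩ := exists_comp_eq_of_residueFieldMap_comp_eq ρ p hp (ξ₂ c) φ₁ φ₂ h3
  refine ⟨g * g₀, ?_⟩
  rw [map_mul, Aut.Aut_mul_def, Iso.trans_hom, ← Category.assoc, h1, hg, ← h2]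

/-- Field valued points lift along surjective morphisms after a field extension. -/
theorem exists_lift_of_surjective {X' Y' : Scheme.{u}} (r : X' ⟶ Y') [Surjective r]
    {K : Type u} [Field K] (η : Spec (.of K) ⟶ Y') :
    ∃ (K' : Type u) (_ : Field K') (j : CommRingCat.of K ⟶ CommRingCat.of K')
      (ξ : Spec (.of K') ⟶ X'), ξ ≫ r = Spec.map j ≫ η := by
  have hs : Surjective (pullback.snd r η) := inferInstance
  obtain ⟨z, -⟩ := hs.surj (IsLocalRing.closedPoint K)
  refine ⟨(pullback r η).residueField z, inferInstance,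
    Spec.preimage ((pullback r η).fromSpecResidueField z ≫ pullback.snd r η),
    (pullback r η).fromSpecResidueField z ≫ pullback.fst r η, ?_⟩
  rw [Spec.map_preimage, Category.assoc, Category.assoc, pullback.condition]

/-- `Spec` of a field extension is an epimorphism of schemes. -/
theorem epi_specMap_of_field {K K' : Type u} [Field K] [Field K']
    (j : CommRingCat.of K ⟶ CommRingCat.of K') : Epi (Spec.map j) := by
  have : Flat (Spec.map j) := by
    rw [HasRingHomProperty.Spec_iff (P := @Flat)]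
    let _ : Algebra K K' := j.hom.toAlgebra
    exact (inferInstance : Module.Flat K K')
  have : Surjective (Spec.map j) := by
    constructor
    intro y
    refine ⟨IsLocalRing.closedPoint K', ?_⟩
    exact Subsingleton.elim _ _
  exact Flat.epi_of_flat_of_surjective _

end Groth.Agent.Lib.Helper69
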