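import Groth.Agent.Lib.Helper69.Quot5
import Mathlib.CategoryTheory.Limits.Constructions.FiniteProductsOfBinaryProducts

/-!
# Graph translates cover `Y ×_S X` for geometrically transitive actions (helper69)
-/

set_option autoImplicit false
universe u
open CategoryTheory CategoryTheory.Limits AlgebraicGeometry

namespace Groth.Agent.Lib.Helper69

/-- (copied from helper51's `Lib/Helper51/FiniteCofan.lean`) A morphism out of a coproduct of schemes
indexed by `Fin n` is finite if it is so on every summand. -/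
theorem isFinite_of_cofan_fin : ∀ {n : ℕ} {X : Fin n → Scheme.{u}} {Y : Scheme.{u}}
    (c : Cofan X) (_ : IsColimit c) (d : c.pt ⟶ Y) (_ : ∀ i, IsFinite (c.inj i ≫ d)),
    IsFinite d := by
  intro n
  induction n with
  | zero =>
    intro X Y c hc d hd
    have hI : IsInitial c.pt :=
      IsInitial.ofUniqueHom (fun Z ↦ Cofan.IsColimit.desc hc (fun i ↦ i.elim0))
        (fun Z m ↦ Cofan.IsColimit.hom_ext hc _ _ (fun i ↦ i.elim0))
    have : IsEmpty c.pt := isInitial_iff_isEmpty.1 ⟨hI⟩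
    infer_instance
  | succ n ih =>
    intro X Y c hc d hd
    have hc₁ : IsColimit (Cofan.mk (∐ fun i : Fin n ↦ X i.succ) (Sigma.ι fun i : Fin n ↦ X i.succ)) :=
      coproductIsCoproduct _
    have hc₂ : IsColimit (BinaryCofan.mk (coprod.inl : X 0 ⟶ X 0 ⨿ (∐ fun i : Fin n ↦ X i.succ))
        coprod.inr) := coprodIsCoprod _ _
    have hE := extendCofanIsColimit X hc₁ hc₂
    let e : X 0 ⨿ (∐ fun i : Fin n ↦ X i.succ) ≅ c.pt := hE.coconePointUniqueUpToIso hc
    have he : ∀ i, (extendCofan (Cofan.mk (∐ fun i : Fin n ↦ X i.succ)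
        (Sigma.ι fun i : Fin n ↦ X i.succ)) (BinaryCofan.mk (coprod.inl :
          X 0 ⟶ X 0 ⨿ (∐ fun i : Fin n ↦ X i.succ)) coprod.inr)).inj i ≫ e.hom = c.inj i :=
      fun i ↦ IsColimit.comp_coconePointUniqueUpToIso_hom hE hc ⟨i⟩
    have he0 : (coprod.inl : X 0 ⟶ X 0 ⨿ (∐ fun i : Fin n ↦ X i.succ)) ≫ e.hom = c.inj 0 :=
      he 0
    have hes : ∀ i : Fin n, (Sigma.ι (fun i : Fin n ↦ X i.succ) i ≫
        (coprod.inr : _ ⟶ X 0 ⨿ (∐ fun i : Fin n ↦ X i.succ))) ≫ e.hom = c.inj i.succ := by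
      intro i
      have := he i.succ
      simp only [extendCofan, Cofan.inj, Cofan.mk_ι_app, Fin.cases_succ] at this
      exact this
    have h1 : IsFinite (Sigma.desc (fun i : Fin n ↦ c.inj i.succ ≫ d)) := by
      apply ih _ hc₁
      intro i
      have : (Cofan.mk (∐ fun i : Fin n ↦ X i.succ) (Sigma.ι fun i : Fin n ↦ X i.succ)).inj i ≫
          Sigma.desc (fun i : Fin n ↦ c.inj i.succ ≫ d) = c.inj i.succ ≫ d := by
        simp
      rw [this]
      exact hd _
    have h0 : IsFinite (c.inj 0 ≫ d) := hd 0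
    have h2 : e.hom ≫ d =
        coprod.desc (c.inj 0 ≫ d) (Sigma.desc (fun i : Fin n ↦ c.inj i.succ ≫ d)) := by
      apply coprod.hom_ext
      · rw [coprod.inl_desc, ← Category.assoc, he0]
      · rw [coprod.inr_desc]
        apply Sigma.hom_ext
        intro i
        rw [colimit.ι_desc, ← Category.assoc, ← Category.assoc, hes]
        rfl
    have h3 : IsFinite (e.hom ≫ d) := by
      rw [h2]
      infer_instance
    exact (MorphismProperty.cancel_left_of_respectsIso @IsFinite e.hom d).1 h3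

/-- (copied from helper51) A morphism out of a finite coproduct of schemes is finite if it is so on
every summand. -/
theorem isFinite_of_cofan {ι : Type*} [Finite ι] {X : ι → Scheme.{u}} {Y : Scheme.{u}}
    (c : Cofan X) (hc : IsColimit c) (d : c.pt ⟶ Y) (hd : ∀ i, IsFinite (c.inj i ≫ d)) :
    IsFinite d := by
  obtain ⟨n, ⟨e⟩⟩ := Finite.exists_equiv_fin ι
  have hc' := Cofan.isColimitEquivOfEquiv e.symm c hc
  exact isFinite_of_cofan_fin _ hc' d (fun i ↦ hd (e.symm i))


/-- A finite surjective morphism is universally submersive. -/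
theorem univSubmersive_of_isFinite_of_surjective {X Y : Scheme.{u}} (f : X ⟶ Y) [IsFinite f]
    [Surjective f] : SGA1.UnivSubmersive f := by
  intro X' Y' i₁ i₂ f' h
  have h1 : IsFinite f' := MorphismProperty.of_isPullback h.flip inferInstance
  have h2 : Surjective f' := MorphismProperty.of_isPullback h.flip inferInstance
  exact f'.isClosedMap.isQuotientMap f'.continuous f'.surjective

/-- The translates of the graph of `r : Y ⟶ X` cover `Y ×_S X` when `G` acts transitively on
geometric fibres of the finite morphism `q : X ⟶ S`. -/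
theorem isFinite_surjective_of_graph_translates {X S Y : Scheme.{u}} (q : X ⟶ S) [IsFinite q]
    {G : Type u} [Group G] [Finite G] (ρ : G →* Aut X)
    (htrans : ∀ (Ω : Type u) [Field Ω] [IsAlgClosed Ω] (τ₁ τ₂ : Spec (CommRingCat.of Ω) ⟶ X),
      τ₁ ≫ q = τ₂ ≫ q → ∃ g : G, τ₁ ≫ (ρ g).hom = τ₂)
    (r : Y ⟶ X) (υ : (∐ fun _ : G => Y) ⟶ pullback (r ≫ q) q)
    (hυ₁ : ∀ σ : G, Sigma.ι (fun _ : G => Y) σ ≫ υ ≫ pullback.fst (r ≫ q) q = 𝟙 Y)
    (hυ₂ : ∀ σ : G, Sigma.ι (fun _ : G => Y) σ ≫ υ ≫ pullback.snd (r ≫ q) q = r ≫ (ρ σ).hom) :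
    IsFinite υ ∧ Surjective υ := by
  refine ⟨?_, ?_⟩
  · refine isFinite_of_cofan (Cofan.mk (∐ fun _ : G => Y) (Sigma.ι fun _ : G => Y))
      (coproductIsCoproduct _) υ (fun σ => ?_)
    change IsFinite (Sigma.ι (fun _ : G => Y) σ ≫ υ)
    have h1 : IsClosedImmersion ((Sigma.ι (fun _ : G => Y) σ ≫ υ) ≫ pullback.fst (r ≫ q) q) := by
      rw [Category.assoc, hυ₁ σ]
      infer_instance
    have : IsClosedImmersion (Sigma.ι (fun _ : G => Y) σ ≫ υ) :=
      IsClosedImmersion.of_comp _ (pullback.fst (r ≫ q) q)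
    infer_instance
  · constructor
    intro z
    let P := pullback (r ≫ q) q
    let Ω := AlgebraicClosure (P.residueField z)
    let τ : Spec (CommRingCat.of Ω) ⟶ P :=
      Spec.map (CommRingCat.ofHom (algebraMap (P.residueField z) Ω)) ≫ P.fromSpecResidueField z
    have hτz : τ (IsLocalRing.closedPoint Ω) = z := by
      simp only [τ, Scheme.Hom.comp_apply]
      exact Scheme.fromSpecResidueField_apply _ _
    have h1 : ((τ ≫ pullback.fst (r ≫ q) q) ≫ r) ≫ q = (τ ≫ pullback.snd (r ≫ q) q) ≫ q := by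
      simp only [Category.assoc]
      congr 1
      exact pullback.condition
    obtain ⟨σ, hσ⟩ := htrans Ω _ _ h1
    have h2 : (τ ≫ pullback.fst (r ≫ q) q) ≫ Sigma.ι (fun _ : G => Y) σ ≫ υ = τ := by
      apply pullback.hom_ext
      · simp only [Category.assoc]
        rw [hυ₁ σ, Category.comp_id]
      · simp only [Category.assoc]
        rw [hυ₂ σ]
        simpa only [Category.assoc] using hσ
    refine ⟨((τ ≫ pullback.fst (r ≫ q) q) ≫ Sigma.ι (fun _ : G => Y) σ)
      (IsLocalRing.closedPoint Ω), ?_⟩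
    rw [← Scheme.Hom.comp_apply, Category.assoc, h2, hτz]

end Groth.Agent.Lib.Helper69
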