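import Groth.Agent.Lib.Helper69.QuotRestrict
import Groth.Agent.Lib.Helper63.SpecQuot

/-!
# Helper library (helper69): the affine quotient `X ⟶ Spec (Γ(X, ⊤)^G)`

For a scheme `X` with an action `ρ` of `G`, `affQuotMap ρ : X ⟶ affQuot ρ = Spec Γ(X,⊤)^G`.
It is a quotient (`SGA1.IsQuot`) when `X` is affine and `G` is finite, it is functorial for
equivariant morphisms, and equivariant open immersions of affine schemes induce open immersions.
-/

set_option autoImplicit false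
universe u
open CategoryTheory CategoryTheory.Limits AlgebraicGeometry TopologicalSpace Opposite

namespace Groth.Agent.Lib.Helper69

section Def

variable {X : Scheme.{u}} {G : Type u} [Group G] (ρ : G →* Aut X)

/-- The subring of invariant global sections. -/
noncomputable def invSubring : Subring Γ(X, ⊤) :=
  ⨅ g : G, RingHom.eqLocus ((ρ g).hom.appTop.hom) (RingHom.id _)

theorem mem_invSubring (a : Γ(X, ⊤)) :
    a ∈ invSubring ρ ↔ ∀ g : G, (ρ g).hom.appTop.hom a = a := by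
  simp only [invSubring, Subring.mem_iInf]
  exact Iff.rfl

/-- The ring of invariants as an object of `CommRingCat`. -/
noncomputable def invRing : CommRingCat.{u} := CommRingCat.of (invSubring ρ)

/-- The inclusion of the invariants. -/
noncomputable def invIncl : invRing ρ ⟶ Γ(X, ⊤) := CommRingCat.ofHom (invSubring ρ).subtype

theorem invIncl_injective : Function.Injective (invIncl ρ).hom := Subtype.val_injective

theorem invIncl_comp (g : G) : invIncl ρ ≫ (ρ g).hom.appTop = invIncl ρ := by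
  ext a
  exact (mem_invSubring ρ a.1).mp a.2 g

/-- The affine quotient. -/
noncomputable abbrev affQuot : Scheme.{u} := Spec (invRing ρ)

/-- The canonical map to the affine quotient. -/
noncomputable def affQuotMap : X ⟶ affQuot ρ := X.toSpecΓ ≫ Spec.map (invIncl ρ)

theorem affQuotMap_inv (g : G) : (ρ g).hom ≫ affQuotMap ρ = affQuotMap ρ := by
  rw [affQuotMap, Scheme.toSpecΓ_naturality_assoc, ← Spec.map_comp, invIncl_comp]

theorem affQuotMap_appTop :
    (affQuotMap ρ).appTop = (Scheme.ΓSpecIso (invRing ρ)).hom ≫ invIncl ρ := by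
  rw [affQuotMap, Scheme.Hom.comp_appTop, Scheme.toSpecΓ_appTop, Scheme.ΓSpecIso_naturality]

theorem isQuot_affQuotMap [Finite G] [IsAffine X] : SGA1.IsQuot ρ (affQuotMap ρ) := by
  have hinv := affQuotMap_inv ρ
  have hinj : Function.Injective (affQuotMap ρ).appTop.hom := by
    rw [affQuotMap_appTop]
    change Function.Injective ((invIncl ρ).hom ∘ (Scheme.ΓSpecIso (invRing ρ)).hom.hom)
    exact (invIncl_injective ρ).comp (ConcreteCategory.bijective_of_isIso _).1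
  have hfix : ∀ a : Γ(X, ⊤), (∀ g : G, (ρ g).hom.appTop.hom a = a) →
      ∃ b, (affQuotMap ρ).appTop.hom b = a := by
    intro a ha
    refine ⟨(Scheme.ΓSpecIso (invRing ρ)).inv.hom ⟨a, (mem_invSubring ρ a).mpr ha⟩, ?_⟩
    rw [affQuotMap_appTop]
    change (invIncl ρ).hom (((Scheme.ΓSpecIso (invRing ρ)).inv ≫
      (Scheme.ΓSpecIso (invRing ρ)).hom).hom _) = a
    rw [Iso.inv_hom_id]
    rfl
  have core := Groth.Agent.Lib.Helper63.SpecQuot.general_case (affQuotMap ρ)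
    (fun g => (ρ g).hom) hinv (fun g U => SGA1.preimage_le_of_inv ρ _ hinv g U) hinj hfix
  refine ⟨inferInstance, hinv, fun U => (core U).1, fun U s => ⟨?_, fun hs => (core U).2 s hs⟩⟩
  rintro ⟨a, rfl⟩ g
  exact sectionAct_app' ρ (affQuotMap ρ) hinv U g a

end Def

section Functorial

variable {X₁ X₂ X₃ : Scheme.{u}} {G : Type u} [Group G] (ρ₁ : G →* Aut X₁) (ρ₂ : G →* Aut X₂)
  (ρ₃ : G →* Aut X₃)

/-- The map induced on invariants by an equivariant morphism. -/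
noncomputable def invMap (f : X₁ ⟶ X₂) (heq : ∀ g : G, (ρ₁ g).hom ≫ f = f ≫ (ρ₂ g).hom) :
    invRing ρ₂ ⟶ invRing ρ₁ :=
  CommRingCat.ofHom (f.appTop.hom.restrict (invSubring ρ₂) (invSubring ρ₁) (by
    intro a ha
    rw [mem_invSubring] at ha ⊢
    intro g
    have h1 : f.appTop ≫ (ρ₁ g).hom.appTop = (ρ₂ g).hom.appTop ≫ f.appTop := by
      rw [← Scheme.Hom.comp_appTop, ← Scheme.Hom.comp_appTop, heq]
    have h2 := congrArg (fun k => k.hom a) h1
    simp only [CommRingCat.hom_comp, RingHom.comp_apply] at h2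
    rw [h2, ha g]))

theorem invMap_comp_invIncl (f : X₁ ⟶ X₂) (heq : ∀ g : G, (ρ₁ g).hom ≫ f = f ≫ (ρ₂ g).hom) :
    invMap ρ₁ ρ₂ f heq ≫ invIncl ρ₁ = invIncl ρ₂ ≫ f.appTop := by
  ext a
  rfl

/-- The morphism induced on affine quotients by an equivariant morphism. -/
noncomputable def affQuotHom (f : X₁ ⟶ X₂) (heq : ∀ g : G, (ρ₁ g).hom ≫ f = f ≫ (ρ₂ g).hom) :
    affQuot ρ₁ ⟶ affQuot ρ₂ :=
  Spec.map (invMap ρ₁ ρ₂ f heq)

theorem affQuotMap_naturality (f : X₁ ⟶ X₂)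
    (heq : ∀ g : G, (ρ₁ g).hom ≫ f = f ≫ (ρ₂ g).hom) :
    f ≫ affQuotMap ρ₂ = affQuotMap ρ₁ ≫ affQuotHom ρ₁ ρ₂ f heq := by
  rw [affQuotMap, affQuotMap, affQuotHom, Scheme.toSpecΓ_naturality_assoc, Category.assoc,
    ← Spec.map_comp, ← Spec.map_comp, invMap_comp_invIncl]

variable [Finite G]

theorem affQuotHom_id [IsAffine X₁] :
    affQuotHom ρ₁ ρ₁ (𝟙 X₁) (fun g => by rw [Category.comp_id, Category.id_comp]) = 𝟙 _ := by
  apply isQuot_hom_ext ρ₁ (affQuotMap ρ₁) (isQuot_affQuotMap ρ₁)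
  rw [← affQuotMap_naturality, Category.id_comp, Category.comp_id]

theorem affQuotHom_comp [IsAffine X₁] (f : X₁ ⟶ X₂) (f' : X₂ ⟶ X₃)
    (heq : ∀ g : G, (ρ₁ g).hom ≫ f = f ≫ (ρ₂ g).hom)
    (heq' : ∀ g : G, (ρ₂ g).hom ≫ f' = f' ≫ (ρ₃ g).hom)
    (heq'' : ∀ g : G, (ρ₁ g).hom ≫ f ≫ f' = (f ≫ f') ≫ (ρ₃ g).hom) :
    affQuotHom ρ₁ ρ₃ (f ≫ f') heq'' = affQuotHom ρ₁ ρ₂ f heq ≫ affQuotHom ρ₂ ρ₃ f' heq' := by
  apply isQuot_hom_ext ρ₁ (affQuotMap ρ₁) (isQuot_affQuotMap ρ₁)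
  rw [← affQuotMap_naturality, ← Category.assoc, ← affQuotMap_naturality, Category.assoc,
    Category.assoc, affQuotMap_naturality ρ₂ ρ₃ f' heq']

/-- An equivariant open immersion of affine schemes induces an open immersion on quotients,
whose range has preimage the range of the given open immersion. -/
theorem isOpenImmersion_affQuotHom [IsAffine X₁] [IsAffine X₂] (f : X₁ ⟶ X₂)
    [IsOpenImmersion f] (heq : ∀ g : G, (ρ₁ g).hom ≫ f = f ≫ (ρ₂ g).hom) :
    IsOpenImmersion (affQuotHom ρ₁ ρ₂ f heq) := by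
  have hq₂ := isQuot_affQuotMap ρ₂
  have hq₁ := isQuot_affQuotMap ρ₁
  have hO : ∀ (g : G) (x : X₂), x ∈ f.opensRange → (ρ₂ g).hom x ∈ f.opensRange := by
    rintro g _ ⟨x₁, rfl⟩
    refine ⟨(ρ₁ g).hom x₁, ?_⟩
    rw [← Scheme.Hom.comp_apply, ← Scheme.Hom.comp_apply, heq]
  obtain ⟨V, hV⟩ := exists_opens_preimage_eq ρ₂ (affQuotMap ρ₂) hq₂ f.opensRange hO
  have hrange : Set.range (f ≫ affQuotMap ρ₂) ⊆ Set.range V.ι := by
    rintro _ ⟨x₁, rfl⟩
    rw [Scheme.Opens.range_ι]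
    have : f x₁ ∈ (affQuotMap ρ₂) ⁻¹ᵁ V := by
      rw [hV]
      exact ⟨x₁, rfl⟩
    exact this
  let p₁' : X₁ ⟶ V.toScheme := IsOpenImmersion.lift V.ι (f ≫ affQuotMap ρ₂) hrange
  have hfac : p₁' ≫ V.ι = f ≫ affQuotMap ρ₂ := IsOpenImmersion.lift_fac _ _ _
  have hq' : SGA1.IsQuot ρ₁ p₁' := by
    refine isQuot_restrict_chart ρ₂ (affQuotMap ρ₂) hq₂ ρ₁ p₁' f V.ι hfac.symm ?_ heq
    rw [Scheme.Opens.opensRange_ι, hV]
  obtain ⟨e, he⟩ := isQuot_unique ρ₁ (affQuotMap ρ₁) p₁' hq₁ hq'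
  have : affQuotHom ρ₁ ρ₂ f heq = e.hom ≫ V.ι := by
    apply isQuot_hom_ext ρ₁ (affQuotMap ρ₁) hq₁
    rw [← affQuotMap_naturality, ← Category.assoc, he, hfac]
  rw [this]
  infer_instance

end Functorial

end Groth.Agent.Lib.Helper69
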