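import Groth.Agent.Lib.Helper69.QuotLocal

/-!
# Helper library (helper69): `SGA1.IsQuot` through charts

`sections_of_chart`: if `p' : X' ⟶ Y'` is a quotient and `jX : X' ⟶ X`, `jY : Y' ⟶ Y` are equivariant
open immersions forming a cartesian-like square with `p : X ⟶ Y`, then `p` has the section
properties of a quotient over every open `V ≤ range jY`.
`isQuot_of_charts`: `IsQuot` from a covering family of charts.
-/

set_option autoImplicit false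
universe u
open CategoryTheory AlgebraicGeometry TopologicalSpace Opposite

namespace Groth.Agent.Lib.Helper69

variable {X Y X' Y' : Scheme.{u}} {G : Type u} [Group G] (ρ : G →* Aut X) (p : X ⟶ Y)
  (hinv : ∀ g : G, (ρ g).hom ≫ p = p)

theorem appLE_congr_hom {Z₁ Z₂ : Scheme.{u}} {φ ψ : Z₁ ⟶ Z₂} (h : φ = ψ) (V : Z₂.Opens)
    (W : Z₁.Opens) (e₁ : W ≤ φ ⁻¹ᵁ V) (e₂ : W ≤ ψ ⁻¹ᵁ V) : φ.appLE V W e₁ = ψ.appLE V W e₂ := by
  subst h; rfl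

theorem sections_of_chart (ρ' : G →* Aut X') (p' : X' ⟶ Y') (hq : SGA1.IsQuot ρ' p')
    (jX : X' ⟶ X) (jY : Y' ⟶ Y) [IsOpenImmersion jX] [IsOpenImmersion jY]
    (hsq : jX ≫ p = p' ≫ jY) (hpre : p ⁻¹ᵁ jY.opensRange ≤ jX.opensRange)
    (heq : ∀ g : G, (ρ' g).hom ≫ jX = jX ≫ (ρ g).hom) (V : Y.Opens) (hV : V ≤ jY.opensRange) :
    Function.Injective (p.app V).hom ∧
      ∀ s : Γ(X, p ⁻¹ᵁ V), (∀ g : G, sectionAct ρ p hinv V g s = s) →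
        s ∈ Set.range (p.app V).hom := by
  have hpt : ∀ x' : X', p (jX x') = jY (p' x') := fun x' => by
    rw [← Scheme.Hom.comp_apply, hsq, Scheme.Hom.comp_apply]
  have e : p' ⁻¹ᵁ (jY ⁻¹ᵁ V) ≤ jX ⁻¹ᵁ (p ⁻¹ᵁ V) := by
    intro x' hx'
    change p (jX x') ∈ V
    rw [hpt]
    exact hx'
  have e' : jX ⁻¹ᵁ (p ⁻¹ᵁ V) ≤ p' ⁻¹ᵁ (jY ⁻¹ᵁ V) := by
    intro x' hx'
    change jY (p' x') ∈ V
    rw [← hpt]
    exact hx'
  have hUle : p ⁻¹ᵁ V ≤ jX.opensRange := le_trans (fun x hx => hV hx) hpre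
  have hα : IsIso (jY.app V) := jY.isIso_app V hV
  have hβ : IsIso (jX.appLE (p ⁻¹ᵁ V) (p' ⁻¹ᵁ (jY ⁻¹ᵁ V)) e) := by
    have h1 : IsIso (jX.app (p ⁻¹ᵁ V)) := jX.isIso_app _ hUle
    have h2 : IsIso (X'.presheaf.map (homOfLE e).op) := by
      have : IsIso (homOfLE e) := ⟨homOfLE e', rfl, rfl⟩
      infer_instance
    rw [Scheme.Hom.appLE]
    infer_instance
  -- the commutative square
  have hsquare : p.app V ≫ jX.appLE (p ⁻¹ᵁ V) (p' ⁻¹ᵁ (jY ⁻¹ᵁ V)) e =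
      jY.app V ≫ p'.app (jY ⁻¹ᵁ V) := by
    rw [← Scheme.Hom.comp_appLE, ← Scheme.Hom.appLE_eq_app (f := p'), ← Scheme.Hom.comp_appLE]
    exact appLE_congr_hom hsq _ _ _ _
  have hsq_apply : ∀ a : Γ(Y, V),
      (jX.appLE (p ⁻¹ᵁ V) (p' ⁻¹ᵁ (jY ⁻¹ᵁ V)) e).hom ((p.app V).hom a) =
        (p'.app (jY ⁻¹ᵁ V)).hom ((jY.app V).hom a) := fun a => by
    have := congrArg (fun f => f.hom a) hsquare
    simpa using this
  have hβinj : Function.Injective (jX.appLE (p ⁻¹ᵁ V) (p' ⁻¹ᵁ (jY ⁻¹ᵁ V)) e).hom :=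
    (ConcreteCategory.bijective_of_isIso _).1
  have hαbij : Function.Bijective (jY.app V).hom := ConcreteCategory.bijective_of_isIso _
  refine ⟨?_, ?_⟩
  · intro a b hab
    apply hαbij.1
    apply hq.injective (jY ⁻¹ᵁ V)
    rw [← hsq_apply, ← hsq_apply, hab]
  · intro s hs
    have hs' : ∀ g : G, sectionAct ρ' p' hq.inv (jY ⁻¹ᵁ V) g
        ((jX.appLE (p ⁻¹ᵁ V) (p' ⁻¹ᵁ (jY ⁻¹ᵁ V)) e).hom s) =
        (jX.appLE (p ⁻¹ᵁ V) (p' ⁻¹ᵁ (jY ⁻¹ᵁ V)) e).hom s := by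
      intro g
      have h1 : jX.appLE (p ⁻¹ᵁ V) (p' ⁻¹ᵁ (jY ⁻¹ᵁ V)) e ≫
          (ρ' g).hom.appLE (p' ⁻¹ᵁ (jY ⁻¹ᵁ V)) (p' ⁻¹ᵁ (jY ⁻¹ᵁ V))
            (SGA1.preimage_le_of_inv ρ' p' hq.inv g _) =
          (ρ g).hom.appLE (p ⁻¹ᵁ V) (p ⁻¹ᵁ V) (SGA1.preimage_le_of_inv ρ p hinv g V) ≫
            jX.appLE (p ⁻¹ᵁ V) (p' ⁻¹ᵁ (jY ⁻¹ᵁ V)) e := by
        rw [Scheme.Hom.appLE_comp_appLE, Scheme.Hom.appLE_comp_appLE]
        exact appLE_congr_hom (heq g) _ _ _ _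
      have h2 := congrArg (fun f => f.hom s) h1
      simp only [CommRingCat.hom_comp, RingHom.comp_apply] at h2
      change ((ρ' g).hom.appLE _ _ _).hom _ = _
      rw [h2]
      exact congrArg _ (hs g)
    obtain ⟨t', ht'⟩ := (hq.range_iff (jY ⁻¹ᵁ V) _).mpr hs'
    obtain ⟨t, rfl⟩ := hαbij.2 t'
    refine ⟨t, ?_⟩
    apply hβinj
    rw [hsq_apply, ht']

include hinv in
/-- `IsQuot` from a covering family of charts which are quotients. -/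
theorem isQuot_of_charts [IsAffineHom p] {ι : Type*} (X' Y' : ι → Scheme.{u})
    (ρ' : ∀ i, G →* Aut (X' i)) (p' : ∀ i, X' i ⟶ Y' i) (hq : ∀ i, SGA1.IsQuot (ρ' i) (p' i))
    (jX : ∀ i, X' i ⟶ X) (jY : ∀ i, Y' i ⟶ Y) [∀ i, IsOpenImmersion (jX i)]
    [∀ i, IsOpenImmersion (jY i)]
    (hsq : ∀ i, jX i ≫ p = p' i ≫ jY i)
    (hpre : ∀ i, p ⁻¹ᵁ (jY i).opensRange ≤ (jX i).opensRange)
    (heq : ∀ i (g : G), (ρ' i g).hom ≫ jX i = jX i ≫ (ρ g).hom)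
    (hcov : ∀ y : Y, ∃ i, y ∈ (jY i).opensRange) :
    SGA1.IsQuot ρ p := by
  refine isQuot_of_basis ρ p hinv {V : Y.Opens | ∃ i, V ≤ (jY i).opensRange} ?_ ?_ ?_
  · rw [Opens.isBasis_iff_nbhd]
    intro U y hy
    obtain ⟨i, hi⟩ := hcov y
    exact ⟨U ⊓ (jY i).opensRange, ⟨i, inf_le_right⟩, ⟨hy, hi⟩, inf_le_left⟩
  · rintro V ⟨i, hV⟩
    exact (sections_of_chart ρ p hinv (ρ' i) (p' i) (hq i) (jX i) (jY i) (hsq i) (hpre i)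
      (heq i) V hV).1
  · rintro V ⟨i, hV⟩
    exact (sections_of_chart ρ p hinv (ρ' i) (p' i) (hq i) (jX i) (jY i) (hsq i) (hpre i)
      (heq i) V hV).2

end Groth.Agent.Lib.Helper69
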