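import Groth.Agent.Lib.Helper69.QuotChart

/-!
# Helper library (helper69): composite of quotients (quotient in stages)

`isQuot_comp`: if `π₁ : W ⟶ M` is a quotient for the action of `G` (through `ι : G →* Γ`),
`π₂ : M ⟶ Q` is a quotient for an action `τ` of `H` on `M`, `κ : Γ →* H` is surjective and `π₁`
is equivariant along `κ`, then `π₁ ≫ π₂` is a quotient for the action of `Γ`.
-/

set_option autoImplicit false
universe u
open CategoryTheory AlgebraicGeometry TopologicalSpace Opposite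

namespace Groth.Agent.Lib.Helper69

theorem isQuot_comp {W M Q : Scheme.{u}} {Γ G H : Type u} [Group Γ] [Group G] [Group H]
    (θ : Γ →* Aut W) (ι : G →* Γ) (κ : Γ →* H) (hκ : Function.Surjective κ)
    (π₁ : W ⟶ M) (π₂ : M ⟶ Q) (τ : H →* Aut M)
    (h1 : SGA1.IsQuot (θ.comp ι) π₁) (h2 : SGA1.IsQuot τ π₂)
    (h3 : ∀ γ : Γ, (θ γ).hom ≫ π₁ = π₁ ≫ (τ (κ γ)).hom) :
    SGA1.IsQuot θ (π₁ ≫ π₂) := by
  haveI := h1.affine
  haveI := h2.affine
  have hinv : ∀ γ, (θ γ).hom ≫ π₁ ≫ π₂ = π₁ ≫ π₂ := fun γ => by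
    rw [← Category.assoc, h3, Category.assoc, h2.inv]
  refine ⟨inferInstance, hinv, ?_, ?_⟩
  · intro U
    rw [Scheme.Hom.comp_app]
    exact (h1.injective _).comp (h2.injective U)
  · intro U s
    constructor
    · rintro ⟨a, rfl⟩ γ
      exact sectionAct_app' θ (π₁ ≫ π₂) hinv U γ a
    · intro hs
      obtain ⟨t, ht⟩ := (h1.range_iff (π₂ ⁻¹ᵁ U) s).mpr (fun g => hs (ι g))
      have ht' : ∀ h, ((τ h).hom.appLE (π₂ ⁻¹ᵁ U) (π₂ ⁻¹ᵁ U)
          (SGA1.preimage_le_of_inv τ π₂ h2.inv h U)).hom t = t := by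
        intro h
        obtain ⟨γ, rfl⟩ := hκ h
        apply h1.injective (π₂ ⁻¹ᵁ U)
        have key : (τ (κ γ)).hom.appLE (π₂ ⁻¹ᵁ U) (π₂ ⁻¹ᵁ U)
            (SGA1.preimage_le_of_inv τ π₂ h2.inv (κ γ) U) ≫ π₁.app (π₂ ⁻¹ᵁ U) =
            π₁.app (π₂ ⁻¹ᵁ U) ≫ (θ γ).hom.appLE (π₁ ⁻¹ᵁ (π₂ ⁻¹ᵁ U)) (π₁ ⁻¹ᵁ (π₂ ⁻¹ᵁ U))
              (SGA1.preimage_le_of_inv θ (π₁ ≫ π₂) hinv γ U) := by
          rw [← Scheme.Hom.appLE_eq_app, Scheme.Hom.appLE_comp_appLE,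
            Scheme.Hom.appLE_comp_appLE]
          exact appLE_congr_hom (h3 γ).symm _ _ _ _
        have h4 := congrArg (fun f => f.hom t) key
        simp only [CommRingCat.hom_comp, RingHom.comp_apply] at h4
        rw [h4, ht]
        exact hs γ
      obtain ⟨u, hu⟩ := (h2.range_iff U t).mpr ht'
      refine ⟨u, ?_⟩
      rw [Scheme.Hom.comp_app]
      change (π₁.app (π₂ ⁻¹ᵁ U)).hom ((π₂.app U).hom u) = s
      rw [hu, ht]

end Groth.Agent.Lib.Helper69
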