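import Groth.Agent.Lib.Helper69.QuotChart

/-!
# Helper library (helper69): gluing sections along a disjoint family of open immersions
-/

set_option autoImplicit false
universe u
open CategoryTheory AlgebraicGeometry TopologicalSpace Opposite

namespace Groth.Agent.Lib.Helper69

theorem glue_disjoint {X Y : Scheme.{u}} {ι : Type*} (φ : ι → (Y ⟶ X))
    [∀ i, IsOpenImmersion (φ i)]
    (P : X.Opens) (YU : Y.Opens) (hle : ∀ i, YU ≤ (φ i) ⁻¹ᵁ P)
    (hdisj : ∀ i j, i ≠ j → Disjoint (Set.range (φ i)) (Set.range (φ j)))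
    (hcov : ∀ x ∈ P, ∃ i, ∃ y ∈ YU, φ i y = x) :
    (∀ b b' : Γ(X, P), (∀ i, ((φ i).appLE P YU (hle i)).hom b =
        ((φ i).appLE P YU (hle i)).hom b') → b = b') ∧
    (∀ c : ι → Γ(Y, YU), ∃ b : Γ(X, P), ∀ i, ((φ i).appLE P YU (hle i)).hom b = c i) := by
  classical
  let O : ι → X.Opens := fun i => (φ i) ''ᵁ YU
  have hO : ∀ i, O i ≤ P := by
    rintro i x ⟨y, hy, rfl⟩
    exact hle i hy
  have hcovO : P ≤ ⨆ i, O i := by
    intro x hx
    obtain ⟨i, y, hy, rfl⟩ := hcov x hx
    exact Opens.mem_iSup.mpr ⟨i, ⟨y, hy, rfl⟩⟩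
  have key : ∀ i, (φ i).appLE P YU (hle i) ≫ ((φ i).appIso YU).inv =
      X.presheaf.map (homOfLE (hO i)).op := fun i => Scheme.Hom.appLE_appIso_inv _ _
  have key' : ∀ i (b : Γ(X, P)), ((φ i).appIso YU).inv.hom (((φ i).appLE P YU (hle i)).hom b) =
      (X.presheaf.map (homOfLE (hO i)).op).hom b := by
    intro i b
    have := congrArg (fun f => f.hom b) (key i)
    simp only [CommRingCat.hom_comp, RingHom.comp_apply] at this
    exact this
  have key'' : ∀ i (b : Γ(X, P)), ((φ i).appLE P YU (hle i)).hom b =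
      ((φ i).appIso YU).hom.hom ((X.presheaf.map (homOfLE (hO i)).op).hom b) := by
    intro i b
    rw [← key']
    change _ = (((φ i).appIso YU).inv ≫ ((φ i).appIso YU).hom).hom _
    rw [Iso.inv_hom_id]
    rfl
  refine ⟨?_, ?_⟩
  · intro b b' h
    apply X.sheaf.eq_of_locally_eq' O P (fun i => homOfLE (hO i)) hcovO
    intro i
    change (X.presheaf.map (homOfLE (hO i)).op).hom b = (X.presheaf.map (homOfLE (hO i)).op).hom b'
    rw [← key', ← key', h i]
  · intro c
    let sf : ∀ i, Γ(X, O i) := fun i => ((φ i).appIso YU).inv.hom (c i)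
    have hcompat : TopCat.Presheaf.IsCompatible X.presheaf O sf := by
      intro i j
      by_cases hij : i = j
      · subst hij
        rfl
      · have hbot : O i ⊓ O j = ⊥ := by
          ext x
          simp only [Opens.coe_inf, Set.mem_inter_iff, SetLike.mem_coe, Opens.coe_bot,
            Set.mem_empty_iff_false, iff_false, not_and]
          rintro ⟨y, -, rfl⟩ ⟨y', -, h'⟩
          exact Set.disjoint_left.mp (hdisj i j hij) ⟨y, rfl⟩ ⟨y', h'⟩
        haveI : Subsingleton Γ(X, O i ⊓ O j) := by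
          rw [hbot]
          infer_instance
        exact Subsingleton.elim _ _
    obtain ⟨b, hb, -⟩ := X.sheaf.existsUnique_gluing' O P (fun i => homOfLE (hO i)) hcovO sf
      hcompat
    refine ⟨b, fun i => ?_⟩
    rw [key'']
    have : (X.presheaf.map (homOfLE (hO i)).op).hom b = sf i := hb i
    rw [this]
    change (((φ i).appIso YU).inv ≫ ((φ i).appIso YU).hom).hom (c i) = c i
    rw [Iso.inv_hom_id]
    rfl

end Groth.Agent.Lib.Helper69
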