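import Groth.Agent.Lib.Helper69.InertiaEtale
import Groth.Agent.Lib.Helper69.Quot2
import Groth.Agent.Lib.Helper69.Quot4
import Groth.Agent.S2909

/-!
# The quotient of an étale scheme by a finite group is étale (helper69)
-/

set_option autoImplicit false
set_option linter.style.haveILetI false
universe u
open CategoryTheory CategoryTheory.Limits AlgebraicGeometry TopologicalSpace Opposite

namespace Groth.Agent.Lib.Helper69.QuotEtale
open Groth.Agent.Lib.Helper69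

variable {X X' Y : Scheme.{u}} {G : Type u} [Group G] [Finite G] (ρ : G →* Aut X)
  (p : X ⟶ X') (hp : SGA1.IsQuot ρ p) (q : X' ⟶ Y)

include hp in
theorem etale_app_and_appLE [IsLocallyNoetherian Y] [Etale (p ≫ q)]
    (U : Y.Opens) (hU : IsAffineOpen U) (V' : X'.Opens) (hV' : IsAffineOpen V')
    (hle : V' ≤ q ⁻¹ᵁ U) :
    (p.app V').hom.Etale ∧ (q.appLE U V' hle).hom.Etale := by
  haveI := hp.affine
  have hV : IsAffineOpen (p ⁻¹ᵁ V') := hV'.preimage p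
  have hle' : p ⁻¹ᵁ V' ≤ (p ≫ q) ⁻¹ᵁ U := by
    rw [Scheme.Hom.comp_preimage]
    exact Scheme.Hom.preimage_mono p hle
  letI := sectionMulSemiringAction ρ p hp.inv V'
  letI := sectionAlgebra p V'
  haveI := isInvariant ρ p hp V'
  haveI := smulCommClass ρ p hp V'
  letI : Algebra Γ(Y, U) Γ(X', V') := (q.appLE U V' hle).hom.toAlgebra
  letI : Algebra Γ(Y, U) Γ(X, p ⁻¹ᵁ V') := ((p ≫ q).appLE U (p ⁻¹ᵁ V') hle').hom.toAlgebra
  haveI : IsScalarTower Γ(Y, U) Γ(X', V') Γ(X, p ⁻¹ᵁ V') := IsScalarTower.of_algebraMap_eq' (by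
    change ((p ≫ q).appLE U (p ⁻¹ᵁ V') hle').hom = (p.app V').hom.comp (q.appLE U V' hle).hom
    rw [← CommRingCat.hom_comp, Scheme.Hom.app_eq_appLE, Scheme.Hom.appLE_comp_appLE])
  haveI : IsNoetherianRing Γ(Y, U) := IsLocallyNoetherian.component_noetherian ⟨U, hU⟩
  haveI : Algebra.Etale Γ(Y, U) Γ(X, p ⁻¹ᵁ V') :=
    HasRingHomProperty.appLE (P := @Etale) (p ≫ q) inferInstance ⟨U, hU⟩ ⟨_, hV⟩ hle'
  exact GaloisRing.etale_invariants Γ(Y, U) Γ(X', V') (B := Γ(X, p ⁻¹ᵁ V')) (G := G)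
    (hp.injective V')

theorem etale_stableSource :
    RingHom.StableUnderCompositionWithLocalizationAwaySource RingHom.Etale :=
  (RingHom.Etale.stableUnderComposition.stableUnderCompositionWithLocalizationAway
    (fun _ _ _ _ _ r _ => RingHom.etale_algebraMap.mpr (Algebra.Etale.of_isLocalizationAway r))).1

include hp in
theorem etale_fst [IsLocallyNoetherian Y] [Etale (p ≫ q)] : Etale p := by
  rw [HasRingHomProperty.iff_exists_appLE (P := @Etale) etale_stableSource]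
  intro x
  obtain ⟨_, ⟨U, hU, rfl⟩, hxU, -⟩ := Y.isBasis_affineOpens.exists_subset_of_mem_open
    (Set.mem_univ (q (p x))) isOpen_univ
  obtain ⟨_, ⟨V', hV', rfl⟩, hxV', hle⟩ := X'.isBasis_affineOpens.exists_subset_of_mem_open
    (show p x ∈ (q ⁻¹ᵁ U : Set X') from hxU) (q ⁻¹ᵁ U).isOpen
  haveI := hp.affine
  refine ⟨⟨V', hV'⟩, ⟨p ⁻¹ᵁ V', hV'.preimage p⟩, hxV', le_rfl, ?_⟩
  rw [← Scheme.Hom.app_eq_appLE]
  exact (etale_app_and_appLE ρ p hp q U hU V' hV' hle).1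

include hp in
theorem etale_snd [IsLocallyNoetherian Y] [Etale (p ≫ q)] : Etale q := by
  rw [HasRingHomProperty.iff_exists_appLE (P := @Etale) etale_stableSource]
  intro x
  obtain ⟨_, ⟨U, hU, rfl⟩, hxU, -⟩ := Y.isBasis_affineOpens.exists_subset_of_mem_open
    (Set.mem_univ (q x)) isOpen_univ
  obtain ⟨_, ⟨V', hV', rfl⟩, hxV', hle⟩ := X'.isBasis_affineOpens.exists_subset_of_mem_open
    (show x ∈ (q ⁻¹ᵁ U : Set X') from hxU) (q ⁻¹ᵁ U).isOpen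
  exact ⟨⟨U, hU⟩, ⟨V', hV'⟩, hxV', hle, (etale_app_and_appLE ρ p hp q U hU V' hV' hle).2⟩

include hp in
theorem isFinite_snd [IsLocallyNoetherian Y] (hρ : ∀ g : G, (ρ g).hom ≫ (p ≫ q) = p ≫ q)
    [IsFinite (p ≫ q)] : IsFinite q := by
  have hS := Groth.Agent.S2909.result ρ p hp (p ≫ q) q rfl hρ
  haveI : IsAffineHom q := hS.1.mp inferInstance
  refine { finite_app := fun U hU => ?_ }
  letI : Algebra Γ(Y, U) Γ(X', q ⁻¹ᵁ U) := (q.app U).hom.toAlgebra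
  letI : Algebra Γ(X', q ⁻¹ᵁ U) Γ(X, p ⁻¹ᵁ (q ⁻¹ᵁ U)) := (p.app (q ⁻¹ᵁ U)).hom.toAlgebra
  letI : Algebra Γ(Y, U) Γ(X, p ⁻¹ᵁ (q ⁻¹ᵁ U)) := ((p ≫ q).app U).hom.toAlgebra
  haveI : IsScalarTower Γ(Y, U) Γ(X', q ⁻¹ᵁ U) Γ(X, p ⁻¹ᵁ (q ⁻¹ᵁ U)) :=
    IsScalarTower.of_algebraMap_eq' (by
      change ((p ≫ q).app U).hom = (p.app (q ⁻¹ᵁ U)).hom.comp (q.app U).hom
      rw [← CommRingCat.hom_comp, Scheme.Hom.comp_app]
      rfl)
  haveI : IsNoetherianRing Γ(Y, U) := IsLocallyNoetherian.component_noetherian ⟨U, hU⟩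
  haveI : Module.Finite Γ(Y, U) Γ(X, p ⁻¹ᵁ (q ⁻¹ᵁ U)) := (p ≫ q).finite_app U hU
  exact GaloisRing.finite_of_injective_of_noetherian Γ(Y, U) Γ(X', q ⁻¹ᵁ U)
    Γ(X, p ⁻¹ᵁ (q ⁻¹ᵁ U)) (hp.injective (q ⁻¹ᵁ U))

end Groth.Agent.Lib.Helper69.QuotEtale
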