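import Groth.Agent.Lib.Helper69.QuotAffine
import Groth.Agent.Lib.Helper69.Quot4
import Mathlib.AlgebraicGeometry.Cover.Directed
import Mathlib.AlgebraicGeometry.Gluing

/-!
# Helper library (helper69): existence of quotients by finite groups (SGA1 V 1.8)
-/

set_option autoImplicit false
universe u
open CategoryTheory CategoryTheory.Limits AlgebraicGeometry TopologicalSpace Opposite

namespace Groth.Agent.Lib.Helper69

section Nbhd

variable {X : Scheme.{u}} {G : Type u} [Group G] (ρ : G →* Aut X)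

theorem act_mul_apply (g h : G) (x : X) : (ρ (g * h)).hom x = (ρ g).hom ((ρ h).hom x) := by
  have : (ρ (g * h)).hom = (ρ h).hom ≫ (ρ g).hom := by rw [map_mul]; rfl
  rw [this, Scheme.Hom.comp_apply]

theorem act_one_apply (x : X) : (ρ 1).hom x = x := by
  have : (ρ 1).hom = 𝟙 X := by rw [map_one]; rfl
  rw [this]; rfl

variable [Finite G]

/-- Inside an affine open, a finite intersection of affine opens is affine. -/
theorem isAffineOpen_inf_finset_inf {ι : Type*} (U₁ : X.Opens) (hU₁ : IsAffineOpen U₁)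
    (V : ι → X.Opens) (hV : ∀ i, IsAffineOpen (V i)) (hVle : ∀ i, V i ≤ U₁) (s : Finset ι) :
    IsAffineOpen (U₁ ⊓ s.inf V) := by
  classical
  induction s using Finset.induction_on with
  | empty => simpa using hU₁
  | insert a s _ ih =>
    rw [Finset.inf_insert]
    have h := (isAffineHom_diagonal_iff (f := 𝟙 X)).mp inferInstance U₁ hU₁ (V a) (hVle a)
      (U₁ ⊓ s.inf V) inf_le_left (hV a) ih
    have e : U₁ ⊓ (V a ⊓ s.inf V) = V a ⊓ (U₁ ⊓ s.inf V) := by
      rw [← inf_assoc, ← inf_assoc, inf_comm U₁ (V a)]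
    rw [e]
    exact h

/-- Invariant affine neighbourhoods: inside an affine open `U₁`, every point of an invariant
open `U' ≤ U₁` has an invariant affine open neighbourhood contained in `U'`. -/
theorem exists_invariant_affine_nbhd (U₁ : X.Opens) (hU₁ : IsAffineOpen U₁) (U' : X.Opens)
    (hU'le : U' ≤ U₁) (hU'inv : ∀ (g : G) (x : X), x ∈ U' → (ρ g).hom x ∈ U') (x : X)
    (hx : x ∈ U') :
    ∃ W : X.Opens, IsAffineOpen W ∧ (∀ (g : G) (x : X), x ∈ W → (ρ g).hom x ∈ W) ∧ x ∈ W ∧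
      W ≤ U' := by
  classical
  cases nonempty_fintype G
  have hgx : ∀ g : G, (ρ g).hom x ∈ U' := fun g => hU'inv g x hx
  have hgx₁ : ∀ g : G, (ρ g).hom x ∈ U₁ := fun g => hU'le (hgx g)
  choose b hb1 hb2 using fun g : G => hU₁.exists_basicOpen_le ⟨(ρ g).hom x, hgx g⟩ (hgx₁ g)
  let Q : G → Ideal Γ(X, U₁) := fun g => (hU₁.primeIdealOf ⟨(ρ g).hom x, hgx₁ g⟩).asIdeal
  have hbQ : ∀ g, b g ∉ Q g := fun g =>
    (mem_basicOpen_iff_notMem_primeIdealOf hU₁ _ (hgx₁ g) (b g)).mp (hb2 g)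
  let I : Ideal Γ(X, U₁) := Ideal.span (Set.range b)
  have hI : ¬ ((I : Set Γ(X, U₁)) ⊆ ⋃ g ∈ ((Finset.univ : Finset G) : Set G), Q g) := by
    rw [Ideal.subset_union_prime 1 1 (fun g _ _ _ => (hU₁.primeIdealOf _).isPrime)]
    rintro ⟨g, -, hg⟩
    exact hbQ g (hg (Ideal.subset_span ⟨g, rfl⟩))
  obtain ⟨c, hcI, hcQ⟩ := Set.not_subset.mp hI
  have hcQ' : ∀ g, c ∉ Q g := fun g hcg =>
    hcQ (Set.mem_biUnion (Finset.mem_coe.mpr (Finset.mem_univ g)) hcg)
  have hDle₁ : X.basicOpen c ≤ U₁ := X.basicOpen_le c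
  have hDle : X.basicOpen c ≤ U' := by
    intro x' hx'
    have hx'₁ : x' ∈ U₁ := hDle₁ hx'
    have h2 : c ∉ (hU₁.primeIdealOf ⟨x', hx'₁⟩).asIdeal :=
      (mem_basicOpen_iff_notMem_primeIdealOf hU₁ x' hx'₁ c).mp hx'
    have h3 : ∃ g, b g ∉ (hU₁.primeIdealOf ⟨x', hx'₁⟩).asIdeal := by
      by_contra hall
      push Not at hall
      apply h2
      have : I ≤ (hU₁.primeIdealOf ⟨x', hx'₁⟩).asIdeal := by
        rw [Ideal.span_le]
        rintro _ ⟨g, rfl⟩
        exact hall g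
      exact this hcI
    obtain ⟨g, hg⟩ := h3
    exact hb1 g ((mem_basicOpen_iff_notMem_primeIdealOf hU₁ x' hx'₁ (b g)).mpr hg)
  have hgxD : ∀ g : G, (ρ g).hom x ∈ X.basicOpen c := fun g =>
    (mem_basicOpen_iff_notMem_primeIdealOf hU₁ _ (hgx₁ g) c).mpr (hcQ' g)
  let V : G → X.Opens := fun g => (ρ g).hom ⁻¹ᵁ X.basicOpen c
  have hVaff : ∀ g, IsAffineOpen (V g) := fun g =>
    (hU₁.basicOpen c).preimage_of_isIso (ρ g).hom
  have hVle' : ∀ g, V g ≤ U' := by
    intro g x' hx'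
    have h1 : (ρ g).hom x' ∈ U' := hDle hx'
    have h2 := hU'inv g⁻¹ _ h1
    rwa [← act_mul_apply, inv_mul_cancel, act_one_apply] at h2
  have hVle : ∀ g, V g ≤ U₁ := fun g => (hVle' g).trans hU'le
  have hWmem : ∀ x' : X, x' ∈ (Finset.univ : Finset G).inf V ↔
      ∀ g : G, (ρ g).hom x' ∈ X.basicOpen c := by
    intro x'
    rw [← SetLike.mem_coe, Opens.coe_finset_inf, Finset.inf_set_eq_iInter]
    simp only [Set.mem_iInter, Finset.mem_univ, true_implies, Function.comp_apply]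
    exact Iff.rfl
  have hWle₁ : (Finset.univ : Finset G).inf V ≤ U₁ :=
    (Finset.inf_le (Finset.mem_univ 1)).trans (hVle 1)
  refine ⟨(Finset.univ : Finset G).inf V, ?_, ?_, ?_, ?_⟩
  · have := isAffineOpen_inf_finset_inf U₁ hU₁ V hVaff hVle Finset.univ
    rwa [inf_eq_right.mpr hWle₁] at this
  · intro h x' hx'
    rw [hWmem] at hx' ⊢
    intro g
    rw [← act_mul_apply]
    exact hx' (g * h)
  · rw [hWmem]
    exact hgxD
  · exact (Finset.inf_le (Finset.mem_univ 1)).trans (hVle' 1)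

end Nbhd

section Restrict

variable {X : Scheme.{u}} {G : Type u} [Group G] (ρ : G →* Aut X)

/-- The action restricted to an invariant open, as endomorphisms. -/
noncomputable def restrictActEnd (W : X.Opens)
    (hW : ∀ (g : G) (x : X), x ∈ W → (ρ g).hom x ∈ W) : G →* End W.toScheme where
  toFun g := (ρ g).hom.resLE W W (fun x hx => hW g x hx)
  map_one' := by
    rw [← cancel_mono W.ι, Scheme.Hom.resLE_comp_ι]
    have : (ρ 1).hom = 𝟙 X := by rw [map_one]; rfl
    rw [this, End.one_def, Category.comp_id, Category.id_comp]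
  map_mul' g h := by
    rw [← cancel_mono W.ι, Scheme.Hom.resLE_comp_ι, End.mul_def, Category.assoc,
      Scheme.Hom.resLE_comp_ι, ← Category.assoc, Scheme.Hom.resLE_comp_ι, Category.assoc]
    have : (ρ (g * h)).hom = (ρ h).hom ≫ (ρ g).hom := by rw [map_mul]; rfl
    rw [this]

/-- The action restricted to an invariant open. -/
noncomputable def restrictAct (W : X.Opens)
    (hW : ∀ (g : G) (x : X), x ∈ W → (ρ g).hom x ∈ W) : G →* Aut W.toScheme :=
  (Aut.unitsEndEquivAut _).toMonoidHom.comp (restrictActEnd ρ W hW).toHomUnits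

theorem restrictAct_hom (W : X.Opens)
    (hW : ∀ (g : G) (x : X), x ∈ W → (ρ g).hom x ∈ W) (g : G) :
    (restrictAct ρ W hW g).hom = (ρ g).hom.resLE W W (fun x hx => hW g x hx) := rfl

theorem restrictAct_hom_ι (W : X.Opens)
    (hW : ∀ (g : G) (x : X), x ∈ W → (ρ g).hom x ∈ W) (g : G) :
    (restrictAct ρ W hW g).hom ≫ W.ι = W.ι ≫ (ρ g).hom := by
  rw [restrictAct_hom, Scheme.Hom.resLE_comp_ι]

theorem restrictAct_homOfLE (W₁ W₂ : X.Opens)
    (hW₁ : ∀ (g : G) (x : X), x ∈ W₁ → (ρ g).hom x ∈ W₁)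
    (hW₂ : ∀ (g : G) (x : X), x ∈ W₂ → (ρ g).hom x ∈ W₂) (h : W₁ ≤ W₂) (g : G) :
    (restrictAct ρ W₁ hW₁ g).hom ≫ X.homOfLE h = X.homOfLE h ≫ (restrictAct ρ W₂ hW₂ g).hom := by
  rw [← cancel_mono W₂.ι, Category.assoc, Category.assoc, Scheme.homOfLE_ι, restrictAct_hom_ι,
    restrictAct_hom_ι, Scheme.homOfLE_ι_assoc]

end Restrict

end Groth.Agent.Lib.Helper69
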