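import Groth.Agent.Lib.Helper69.QuotExist

/-!
# Helper library (helper69): existence of quotients by finite groups, the gluing
-/

set_option autoImplicit false
universe u
open CategoryTheory CategoryTheory.Limits AlgebraicGeometry TopologicalSpace Opposite

namespace Groth.Agent.Lib.Helper69

section Glue

variable {X : Scheme.{u}} {G : Type u} [Group G] [Finite G] (ρ : G →* Aut X)

/-- The invariant affine opens. -/
abbrev InvAff : Type u :=
  {W : X.Opens // IsAffineOpen W ∧ ∀ (g : G) (x : X), x ∈ W → (ρ g).hom x ∈ W}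

instance (W : InvAff ρ) : IsAffine (W.1 : Scheme.{u}) := W.2.1

/-- The action on a chart. -/
noncomputable def chartAct (W : InvAff ρ) : G →* Aut (W.1 : Scheme.{u}) :=
  restrictAct ρ W.1 W.2.2

theorem chartAct_hom_ι (W : InvAff ρ) (g : G) :
    (chartAct ρ W g).hom ≫ W.1.ι = W.1.ι ≫ (ρ g).hom := restrictAct_hom_ι ρ W.1 W.2.2 g

theorem chartAct_homOfLE {W₁ W₂ : InvAff ρ} (h : W₁.1 ≤ W₂.1) (g : G) :
    (chartAct ρ W₁ g).hom ≫ X.homOfLE h = X.homOfLE h ≫ (chartAct ρ W₂ g).hom :=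
  restrictAct_homOfLE ρ W₁.1 W₂.1 W₁.2.2 W₂.2.2 h g

/-- The chart quotient map. -/
noncomputable def chartMap (W : InvAff ρ) : (W.1 : Scheme.{u}) ⟶ affQuot (chartAct ρ W) :=
  affQuotMap (chartAct ρ W)

theorem isQuot_chartMap (W : InvAff ρ) : SGA1.IsQuot (chartAct ρ W) (chartMap ρ W) :=
  isQuot_affQuotMap _

/-- Transition maps between chart quotients. -/
noncomputable def chartTrans {W₁ W₂ : InvAff ρ} (h : W₁.1 ≤ W₂.1) :
    affQuot (chartAct ρ W₁) ⟶ affQuot (chartAct ρ W₂) :=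
  affQuotHom (chartAct ρ W₁) (chartAct ρ W₂) (X.homOfLE h) (chartAct_homOfLE ρ h)

theorem chartMap_trans {W₁ W₂ : InvAff ρ} (h : W₁.1 ≤ W₂.1) :
    X.homOfLE h ≫ chartMap ρ W₂ = chartMap ρ W₁ ≫ chartTrans ρ h :=
  affQuotMap_naturality _ _ _ _

instance {W₁ W₂ : InvAff ρ} (h : W₁.1 ≤ W₂.1) : IsOpenImmersion (chartTrans ρ h) :=
  isOpenImmersion_affQuotHom _ _ _ _

/-- The diagram of chart quotients. -/
noncomputable def quotFunctor : InvAff ρ ⥤ Scheme.{u} where
  obj W := affQuot (chartAct ρ W)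
  map {W₁ W₂} h := chartTrans ρ (leOfHom h)
  map_id W := by
    apply isQuot_hom_ext (chartAct ρ W) (chartMap ρ W) (isQuot_chartMap ρ W)
    rw [← chartMap_trans, Category.comp_id]
    have : X.homOfLE (leOfHom (𝟙 W)) = 𝟙 _ := X.homOfLE_rfl _
    rw [this, Category.id_comp]
  map_comp {W₁ W₂ W₃} h h' := by
    apply isQuot_hom_ext (chartAct ρ W₁) (chartMap ρ W₁) (isQuot_chartMap ρ W₁)
    rw [← chartMap_trans, ← Category.assoc, ← chartMap_trans, Category.assoc, ← chartMap_trans,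
      ← Category.assoc, Scheme.homOfLE_homOfLE]

instance {W₁ W₂ : InvAff ρ} (h : W₁ ⟶ W₂) : IsOpenImmersion ((quotFunctor ρ).map h) := by
  change IsOpenImmersion (chartTrans ρ (leOfHom h))
  infer_instance

omit [Finite G] in
theorem ι_homOfLE_apply {W₁ W₂ : X.Opens} (h : W₁ ≤ W₂) (x : (W₁ : Scheme.{u})) :
    W₂.ι (X.homOfLE h x) = W₁.ι x := by
  rw [← Scheme.Hom.comp_apply, Scheme.homOfLE_ι]

theorem ι_chartAct_apply (W : InvAff ρ) (g : G) (x : (W.1 : Scheme.{u})) :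
    W.1.ι ((chartAct ρ W g).hom x) = (ρ g).hom (W.1.ι x) := by
  rw [← Scheme.Hom.comp_apply, chartAct_hom_ι, Scheme.Hom.comp_apply]

theorem chartMap_trans_apply {W₁ W₂ : InvAff ρ} (h : W₁.1 ≤ W₂.1) (x : (W₁.1 : Scheme.{u})) :
    chartMap ρ W₂ (X.homOfLE h x) = chartTrans ρ h (chartMap ρ W₁ x) := by
  rw [← Scheme.Hom.comp_apply, chartMap_trans, Scheme.Hom.comp_apply]

theorem chartMap_act_apply (W : InvAff ρ) (g : G) (x : (W.1 : Scheme.{u})) :
    chartMap ρ W ((chartAct ρ W g).hom x) = chartMap ρ W x := by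
  rw [← Scheme.Hom.comp_apply]
  exact congrArg (fun f => f x) ((isQuot_chartMap ρ W).inv g)

theorem chartMap_surjective (W : InvAff ρ) : Function.Surjective (chartMap ρ W) :=
  (Groth.Agent.S2908.result (chartAct ρ W) (chartMap ρ W) (isQuot_chartMap ρ W)).1

theorem chartMap_eq_iff (W : InvAff ρ) (x x' : (W.1 : Scheme.{u})) :
    chartMap ρ W x = chartMap ρ W x' ↔ ∃ g : G, (chartAct ρ W g).hom x = x' :=
  (Groth.Agent.S2908.result (chartAct ρ W) (chartMap ρ W) (isQuot_chartMap ρ W)).2.1 x x'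

theorem chartTrans_directed {Wi Wj Wk : InvAff ρ} (hi : Wi.1 ≤ Wk.1) (hj : Wj.1 ≤ Wk.1)
    (yi : affQuot (chartAct ρ Wi)) (yj : affQuot (chartAct ρ Wj))
    (hy : chartTrans ρ hi yi = chartTrans ρ hj yj) :
    ∃ (Wl : InvAff ρ) (hli : Wl.1 ≤ Wi.1) (hlj : Wl.1 ≤ Wj.1) (y : affQuot (chartAct ρ Wl)),
      chartTrans ρ hli y = yi ∧ chartTrans ρ hlj y = yj := by
  obtain ⟨xi, rfl⟩ := chartMap_surjective ρ Wi yi
  obtain ⟨xj, rfl⟩ := chartMap_surjective ρ Wj yj
  rw [← chartMap_trans_apply, ← chartMap_trans_apply, chartMap_eq_iff] at hy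
  obtain ⟨g, hg⟩ := hy
  have hgX : (ρ g).hom (Wi.1.ι xi) = Wj.1.ι xj := by
    have := congrArg Wk.1.ι hg
    rwa [ι_chartAct_apply, ι_homOfLE_apply, ι_homOfLE_apply] at this
  have hxi : Wj.1.ι xj ∈ Wi.1 := by
    rw [← hgX]
    exact Wi.2.2 g _ xi.2
  have hxj : Wj.1.ι xj ∈ Wj.1 := xj.2
  obtain ⟨W, hWaff, hWinv, hxW, hWle⟩ := exists_invariant_affine_nbhd ρ Wi.1 Wi.2.1
    (Wi.1 ⊓ Wj.1) inf_le_left
    (fun g x hx => ⟨Wi.2.2 g x hx.1, Wj.2.2 g x hx.2⟩) (Wj.1.ι xj) ⟨hxi, hxj⟩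
  let Wl : InvAff ρ := ⟨W, hWaff, hWinv⟩
  let xl : (Wl.1 : Scheme.{u}) := ⟨Wj.1.ι xj, hxW⟩
  have hxl : Wl.1.ι xl = Wj.1.ι xj := rfl
  refine ⟨Wl, hWle.trans inf_le_left, hWle.trans inf_le_right, chartMap ρ Wl xl, ?_, ?_⟩
  · rw [← chartMap_trans_apply]
    have : X.homOfLE (hWle.trans inf_le_left) xl = (chartAct ρ Wi g).hom xi := by
      apply Wi.1.ι.isOpenEmbedding.injective
      rw [ι_homOfLE_apply, ι_chartAct_apply, hgX, hxl]
    rw [this, chartMap_act_apply]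
  · rw [← chartMap_trans_apply]
    have : X.homOfLE (hWle.trans inf_le_right) xl = xj := by
      apply Wj.1.ι.isOpenEmbedding.injective
      rw [ι_homOfLE_apply, hxl]
    rw [this]


instance : ((quotFunctor ρ) ⋙ Scheme.forget).IsLocallyDirected where
  cond {i j k} fi fj xi xj h := by
    obtain ⟨Wl, hli, hlj, y, h1, h2⟩ := chartTrans_directed ρ (leOfHom fi) (leOfHom fj) xi xj h
    exact ⟨Wl, homOfLE hli, homOfLE hlj, y, h1, h2⟩

/-- The quotient scheme. -/
noncomputable def quotScheme : Scheme.{u} := colimit (quotFunctor ρ)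

/-- The chart inclusions into the quotient scheme. -/
noncomputable def quotι (W : InvAff ρ) : affQuot (chartAct ρ W) ⟶ quotScheme ρ :=
  colimit.ι (quotFunctor ρ) W

instance (W : InvAff ρ) : IsOpenImmersion (quotι ρ W) :=
  inferInstanceAs (IsOpenImmersion (colimit.ι (quotFunctor ρ) W))

theorem chartTrans_quotι {W₁ W₂ : InvAff ρ} (h : W₁.1 ≤ W₂.1) :
    chartTrans ρ h ≫ quotι ρ W₂ = quotι ρ W₁ :=
  colimit.w (quotFunctor ρ) (homOfLE h)

theorem quotι_eq_iff {Wi Wj : InvAff ρ} (yi : affQuot (chartAct ρ Wi))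
    (yj : affQuot (chartAct ρ Wj)) :
    quotι ρ Wi yi = quotι ρ Wj yj ↔
      ∃ (Wl : InvAff ρ) (hli : Wl.1 ≤ Wi.1) (hlj : Wl.1 ≤ Wj.1) (y : affQuot (chartAct ρ Wl)),
        chartTrans ρ hli y = yi ∧ chartTrans ρ hlj y = yj := by
  constructor
  · intro h
    obtain ⟨k, fi, fj, y, h1, h2⟩ := (Scheme.IsLocallyDirected.ι_eq_ι_iff (quotFunctor ρ)).mp h
    exact ⟨k, leOfHom fi, leOfHom fj, y, h1, h2⟩
  · rintro ⟨Wl, hli, hlj, y, rfl, rfl⟩
    rw [← Scheme.Hom.comp_apply, ← Scheme.Hom.comp_apply, chartTrans_quotι, chartTrans_quotι]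

theorem quotι_jointly_surjective (y : quotScheme ρ) :
    ∃ (W : InvAff ρ) (y' : affQuot (chartAct ρ W)), quotι ρ W y' = y :=
  Scheme.IsLocallyDirected.ι_jointly_surjective (quotFunctor ρ) y


end Glue

section Glue4

variable {X : Scheme.{u}} {G : Type u} [Group G] [Finite G] (ρ : G →* Aut X)
  (hcov : ∀ x : X, ∃ W : InvAff ρ, x ∈ W.1)

/-- The cover of `X` by invariant affine opens. -/
noncomputable def invCover : X.OpenCover where
  I₀ := InvAff ρ
  X W := W.1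
  f W := W.1.ι
  mem₀ := by
    rw [Scheme.presieve₀_mem_precoverage_iff]
    refine ⟨fun x => ?_, inferInstance⟩
    obtain ⟨W, hW⟩ := hcov x
    exact ⟨W, ⟨x, hW⟩, rfl⟩

instance : Preorder (invCover ρ hcov).I₀ := inferInstanceAs <| Preorder (InvAff ρ)

noncomputable instance : Scheme.Cover.LocallyDirected (invCover ρ hcov) where
  trans {i j} hij := X.homOfLE (leOfHom hij)
  trans_id i := X.homOfLE_rfl _
  trans_comp hij hjk := (X.homOfLE_homOfLE _ _).symm
  w hij := X.homOfLE_ι _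
  property_trans hij := by
    change IsOpenImmersion (X.homOfLE _)
    infer_instance
  directed {i j} x := by
    let Wi : InvAff ρ := i
    let Wj : InvAff ρ := j
    let z : X := (invCover ρ hcov).f i
      (pullback.fst ((invCover ρ hcov).f i) ((invCover ρ hcov).f j) x)
    have hzi : z ∈ Wi.1 :=
      ((pullback.fst ((invCover ρ hcov).f i) ((invCover ρ hcov).f j)) x).2
    have hzj : z ∈ Wj.1 := by
      have : z = (invCover ρ hcov).f j
          (pullback.snd ((invCover ρ hcov).f i) ((invCover ρ hcov).f j) x) := by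
        change (invCover ρ hcov).f i
          (pullback.fst ((invCover ρ hcov).f i) ((invCover ρ hcov).f j) x) = _
        rw [← Scheme.Hom.comp_apply, pullback.condition, Scheme.Hom.comp_apply]
      rw [this]
      exact ((pullback.snd ((invCover ρ hcov).f i) ((invCover ρ hcov).f j)) x).2
    obtain ⟨W, hWaff, hWinv, hzW, hWle⟩ := exists_invariant_affine_nbhd ρ Wi.1 Wi.2.1
      (Wi.1 ⊓ Wj.1) inf_le_left
      (fun g x hx => ⟨Wi.2.2 g x hx.1, Wj.2.2 g x hx.2⟩) z ⟨hzi, hzj⟩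
    let Wk : InvAff ρ := ⟨W, hWaff, hWinv⟩
    refine ⟨Wk, homOfLE (hWle.trans inf_le_left), homOfLE (hWle.trans inf_le_right),
      (⟨z, hzW⟩ : (Wk.1 : Scheme.{u})), ?_⟩
    apply (pullback.fst ((invCover ρ hcov).f i) ((invCover ρ hcov).f j) ≫
      (invCover ρ hcov).f i).isOpenEmbedding.injective
    rw [← Scheme.Hom.comp_apply, pullback.lift_fst_assoc]
    change (X.homOfLE _ ≫ Wi.1.ι) _ = _
    rw [Scheme.homOfLE_ι, Scheme.Hom.comp_apply]
    rfl

theorem quotMap_compat {i j : (invCover ρ hcov).I₀} (hij : i ⟶ j) :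
    (invCover ρ hcov).trans hij ≫ (fun W : InvAff ρ => chartMap ρ W ≫ quotι ρ W) j =
      (fun W : InvAff ρ => chartMap ρ W ≫ quotι ρ W) i := by
  change X.homOfLE (leOfHom hij) ≫ chartMap ρ j ≫ quotι ρ j = chartMap ρ i ≫ quotι ρ i
  rw [← Category.assoc, chartMap_trans, Category.assoc, chartTrans_quotι]

/-- The quotient morphism. -/
noncomputable def quotMap : X ⟶ quotScheme ρ :=
  (invCover ρ hcov).glueMorphismsOfLocallyDirected
    (fun W : InvAff ρ => chartMap ρ W ≫ quotι ρ W) (quotMap_compat ρ hcov)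

theorem ι_quotMap (W : InvAff ρ) :
    W.1.ι ≫ quotMap ρ hcov = chartMap ρ W ≫ quotι ρ W :=
  (invCover ρ hcov).map_glueMorphismsOfLocallyDirected
    (fun W : InvAff ρ => chartMap ρ W ≫ quotι ρ W) (quotMap_compat ρ hcov) W

end Glue4

section Glue5

variable {X : Scheme.{u}} {G : Type u} [Group G] [Finite G] (ρ : G →* Aut X)
  (hcov : ∀ x : X, ∃ W : InvAff ρ, x ∈ W.1)

theorem quotMap_inv (g : G) : (ρ g).hom ≫ quotMap ρ hcov = quotMap ρ hcov := by
  apply (invCover ρ hcov).hom_ext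
  intro W
  change (W : InvAff ρ).1.ι ≫ (ρ g).hom ≫ _ = (W : InvAff ρ).1.ι ≫ _
  rw [← Category.assoc, ← chartAct_hom_ι, Category.assoc, ι_quotMap, ← Category.assoc]
  have := (isQuot_chartMap ρ W).inv g
  rw [this]

theorem quotMap_apply (W : InvAff ρ) (x : (W.1 : Scheme.{u})) :
    quotMap ρ hcov (W.1.ι x) = quotι ρ W (chartMap ρ W x) := by
  rw [← Scheme.Hom.comp_apply, ι_quotMap, Scheme.Hom.comp_apply]

theorem quotMap_preimage_opensRange (W : InvAff ρ) :
    (quotMap ρ hcov) ⁻¹ᵁ (quotι ρ W).opensRange = W.1 := by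
  apply le_antisymm
  · rintro x ⟨y, hy⟩
    obtain ⟨W', hxW'⟩ := hcov x
    let x' : (W'.1 : Scheme.{u}) := ⟨x, hxW'⟩
    have hx' : W'.1.ι x' = x := rfl
    have h1 : quotι ρ W y = quotι ρ W' (chartMap ρ W' x') := by
      rw [← quotMap_apply, hx']
      exact hy
    obtain ⟨Wl, hl, hl', z, hz, hz'⟩ := (quotι_eq_iff ρ y (chartMap ρ W' x')).mp h1
    obtain ⟨xl, rfl⟩ := chartMap_surjective ρ Wl z
    rw [← chartMap_trans_apply, chartMap_eq_iff] at hz'
    obtain ⟨g, hg⟩ := hz'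
    have h2 := congrArg W'.1.ι hg
    rw [ι_chartAct_apply, ι_homOfLE_apply, hx'] at h2
    rw [← h2]
    exact hl (Wl.2.2 g _ xl.2)
  · intro x hx
    exact ⟨chartMap ρ W ⟨x, hx⟩, (quotMap_apply ρ hcov W ⟨x, hx⟩).symm⟩

theorem isQuot_quotMap : SGA1.IsQuot ρ (quotMap ρ hcov) := by
  haveI : IsAffineHom (quotMap ρ hcov) := by
    apply isAffineHom_of_forall_exists_isAffineOpen
    intro y
    obtain ⟨W, y', rfl⟩ := quotι_jointly_surjective ρ y
    refine ⟨(quotι ρ W).opensRange, ⟨y', rfl⟩, isAffineOpen_opensRange _, ?_⟩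
    rw [quotMap_preimage_opensRange]
    exact W.2.1
  refine isQuot_of_charts ρ (quotMap ρ hcov) (quotMap_inv ρ hcov)
    (fun W : InvAff ρ => (W.1 : Scheme.{u})) (fun W : InvAff ρ => affQuot (chartAct ρ W))
    (chartAct ρ) (chartMap ρ) (isQuot_chartMap ρ) (fun W => W.1.ι) (quotι ρ)
    (ι_quotMap ρ hcov) ?_ (chartAct_hom_ι ρ) ?_
  · intro W
    rw [quotMap_preimage_opensRange, Scheme.Opens.opensRange_ι]
  · intro y
    obtain ⟨W, y', rfl⟩ := quotι_jointly_surjective ρ y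
    exact ⟨W, ⟨y', rfl⟩⟩

end Glue5

section Main

variable {X : Scheme.{u}} {G : Type u} [Group G] [Finite G] (ρ : G →* Aut X)

/-- SGA1 V 1.8: if every orbit is contained in an affine open, the quotient exists. -/
theorem exists_isQuot_of_orbits_in_affine
    (h : ∀ x : X, ∃ U : X.Opens, IsAffineOpen U ∧ ∀ g : G, (ρ g).hom x ∈ U) :
    ∃ (Y : Scheme.{u}) (p : X ⟶ Y), SGA1.IsQuot ρ p := by
  classical
  cases nonempty_fintype G
  have hcov : ∀ x : X, ∃ W : InvAff ρ, x ∈ W.1 := by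
    intro x
    obtain ⟨U, hU, hxU⟩ := h x
    let V : G → X.Opens := fun g => (ρ g).hom ⁻¹ᵁ U
    have hmem : ∀ x' : X, x' ∈ (Finset.univ : Finset G).inf V ↔ ∀ g : G, (ρ g).hom x' ∈ U := by
      intro x'
      rw [← SetLike.mem_coe, Opens.coe_finset_inf, Finset.inf_set_eq_iInter]
      simp only [Set.mem_iInter, Finset.mem_univ, true_implies, Function.comp_apply]
      exact Iff.rfl
    have hle : (Finset.univ : Finset G).inf V ≤ U := by
      intro x' hx'
      have := (hmem x').mp hx' 1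
      rwa [act_one_apply] at this
    have hinv : ∀ (g : G) (x' : X), x' ∈ (Finset.univ : Finset G).inf V →
        (ρ g).hom x' ∈ (Finset.univ : Finset G).inf V := by
      intro g x' hx'
      rw [hmem] at hx' ⊢
      intro g'
      rw [← act_mul_apply]
      exact hx' (g' * g)
    obtain ⟨W, hWaff, hWinv, hxW, -⟩ := exists_invariant_affine_nbhd ρ U hU _ hle hinv x
      ((hmem x).mpr hxU)
    exact ⟨⟨W, hWaff, hWinv⟩, hxW⟩
  exact ⟨quotScheme ρ, quotMap ρ hcov, isQuot_quotMap ρ hcov⟩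

end Main

end Groth.Agent.Lib.Helper69
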