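import Groth.Agent.Lib.Helper69.GaloisRing
import Groth.Agent.Lib.Helper69.Quot2
import Groth.Agent.Lib.Helper69.QuotFlat
import Groth.Agent.S2919

/-!
# Free actions of finite groups: the quotient map is a torsor (helper69)
-/

set_option autoImplicit false
set_option linter.style.haveILetI false
universe u
open CategoryTheory CategoryTheory.Limits AlgebraicGeometry TopologicalSpace Opposite

namespace Groth.Agent.Lib.Helper69.QuotFree
open Groth.Agent.Lib.Helper69

variable {X Y : Scheme.{u}} {G : Type u} [Group G] (ρ : G →* Aut X) (p : X ⟶ Y)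
  (hp : SGA1.IsQuot ρ p)

/-- the action is free on geometric points. -/
def FreeGeom : Prop :=
  ∀ (K : Type u) [Field K] [IsAlgClosed K] (ξ : Spec (CommRingCat.of K) ⟶ X) (g : G),
    ξ ≫ (ρ g).hom = ξ → g = 1

include hp in
theorem moveIdeal_eq_top (hfree : FreeGeom ρ) (U : Y.Opens) (hV : IsAffineOpen (p ⁻¹ᵁ U))
    (g : G) (hg : g ≠ 1) :
    letI := sectionMulSemiringAction ρ p hp.inv U
    GaloisRing.moveIdeal (B := Γ(X, p ⁻¹ᵁ U)) g = ⊤ := by
  letI := sectionMulSemiringAction ρ p hp.inv U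
  by_contra h
  obtain ⟨𝔪, hmax, hle⟩ := Ideal.exists_le_maximal _ h
  letI : Field (Γ(X, p ⁻¹ᵁ U) ⧸ 𝔪) := Ideal.Quotient.field 𝔪
  let K := AlgebraicClosure (Γ(X, p ⁻¹ᵁ U) ⧸ 𝔪)
  let φ : Γ(X, p ⁻¹ᵁ U) →+* K :=
    (algebraMap (Γ(X, p ⁻¹ᵁ U) ⧸ 𝔪) K).comp (Ideal.Quotient.mk 𝔪)
  have hφ : ∀ b : Γ(X, p ⁻¹ᵁ U), φ (sectionAct ρ p hp.inv U g⁻¹ b) = φ b := by
    intro b
    have hb : g • b - b ∈ 𝔪 := hle (Ideal.subset_span ⟨b, rfl⟩)
    have h0 : φ (g • b - b) = 0 := by
      change algebraMap _ K (Ideal.Quotient.mk 𝔪 (g • b - b)) = 0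
      rw [Ideal.Quotient.eq_zero_iff_mem.mpr hb, map_zero]
    rw [map_sub, sub_eq_zero] at h0
    exact h0
  apply hg
  rw [← inv_eq_one]
  apply hfree K (Spec.map (CommRingCat.ofHom φ) ≫ hV.fromSpec) g⁻¹
  rw [Category.assoc, ← IsAffineOpen.SpecMap_appLE_fromSpec (ρ g⁻¹).hom hV hV
    (SGA1.preimage_le_of_inv ρ p hp.inv g⁻¹ U), ← Category.assoc, ← Spec.map_comp]
  congr 2
  ext b
  exact hφ b

theorem flat_res {X : Scheme.{u}} (W V : X.Opens) (hW : IsAffineOpen W) (hV : IsAffineOpen V)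
    (e : V ≤ W) : (X.presheaf.map (homOfLE e).op).hom.Flat := by
  have h := HasRingHomProperty.appLE (P := @Flat) (𝟙 X) inferInstance ⟨W, hW⟩ ⟨V, hV⟩
    (by simpa using e)
  have h2 : (𝟙 X : X ⟶ X).appLE W V (by simpa using e) = X.presheaf.map (homOfLE e).op := by
    simp only [Scheme.Hom.appLE, Scheme.Hom.id_app]
    exact Category.id_comp _
  rw [h2] at h
  exact h

include hp in
theorem flat_app [Finite G] (hfree : FreeGeom ρ) (U : Y.Opens) (hU : IsAffineOpen U) :
    (p.app U).hom.Flat := by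
  haveI := hp.affine
  have hV : IsAffineOpen (p ⁻¹ᵁ U) := hU.preimage p
  letI := sectionMulSemiringAction ρ p hp.inv U
  letI := sectionAlgebra p U
  haveI := isInvariant ρ p hp U
  haveI := smulCommClass ρ p hp U
  have hmain := GaloisRing.main (C := Γ(Y, U)) (B := Γ(X, p ⁻¹ᵁ U)) (G := G) (hp.injective U)
    (fun g hg => moveIdeal_eq_top ρ p hp hfree U hV g hg)
  haveI := hmain.2.1
  change Module.Flat Γ(Y, U) Γ(X, p ⁻¹ᵁ U)
  infer_instance

include hp in
theorem flat_of_free [Finite G] (hfree : FreeGeom ρ) : Flat p := by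
  rw [HasRingHomProperty.iff_appLE (P := @Flat)]
  intro U V e
  haveI := hp.affine
  have h1 := flat_app ρ p hp hfree U.1 U.2
  have h2 := flat_res (p ⁻¹ᵁ U.1) V.1 (U.2.preimage p) V.2 e
  have : p.appLE U.1 V.1 e = p.app U.1 ≫ X.presheaf.map (homOfLE e).op := rfl
  rw [this, CommRingCat.hom_comp]
  exact RingHom.Flat.comp h1 h2

section torsor

/-- the action on `X ×_Y X` through the second factor, as endomorphisms. -/
noncomputable def sndActEnd (hinv : ∀ g : G, (ρ g).hom ≫ p = p) : G →* End (pullback p p) where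
  toFun g := pullback.map p p p p (𝟙 X) (ρ g).hom (𝟙 Y) (by simp)
    (by rw [Category.comp_id, hinv])
  map_one' := by
    have : (ρ 1).hom = 𝟙 X := by rw [map_one]; rfl
    apply pullback.hom_ext
    · rw [pullback.lift_fst, End.one_def, Category.id_comp, Category.comp_id]
    · rw [pullback.lift_snd, End.one_def, Category.id_comp, this, Category.comp_id]
  map_mul' g h := by
    have : (ρ (g * h)).hom = (ρ h).hom ≫ (ρ g).hom := by rw [map_mul]; rfl
    apply pullback.hom_ext
    · rw [pullback.lift_fst, End.mul_def, Category.assoc, pullback.lift_fst, Category.comp_id,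
        pullback.lift_fst, Category.comp_id]
    · rw [pullback.lift_snd, End.mul_def, Category.assoc, pullback.lift_snd,
        ← Category.assoc, pullback.lift_snd, Category.assoc, this]

/-- the action on `X ×_Y X` through the second factor. -/
noncomputable def sndAct (hinv : ∀ g : G, (ρ g).hom ≫ p = p) : G →* Aut (pullback p p) :=
  (Aut.unitsEndEquivAut _).toMonoidHom.comp (sndActEnd ρ p hinv).toHomUnits

theorem sndAct_hom (hinv : ∀ g : G, (ρ g).hom ≫ p = p) (g : G) :
    (sndAct ρ p hinv g).hom = pullback.map p p p p (𝟙 X) (ρ g).hom (𝟙 Y) (by simp)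
      (by rw [Category.comp_id, hinv]) := rfl

theorem sndAct_hom_fst (hinv : ∀ g : G, (ρ g).hom ≫ p = p) (g : G) :
    (sndAct ρ p hinv g).hom ≫ pullback.fst p p = pullback.fst p p := by
  rw [sndAct_hom, pullback.lift_fst, Category.comp_id]

theorem sndAct_hom_snd (hinv : ∀ g : G, (ρ g).hom ≫ p = p) (g : G) :
    (sndAct ρ p hinv g).hom ≫ pullback.snd p p = pullback.snd p p ≫ (ρ g).hom := by
  rw [sndAct_hom, pullback.lift_snd]

include hp in
theorem isIso_sigmaDesc [Finite G] [IsLocallyNoetherian Y] [IsFinite p] (hfree : FreeGeom ρ) :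
    IsIso (Sigma.desc (fun g : G => pullback.lift (𝟙 X) (ρ g).hom
      ((Category.id_comp p).trans (hp.inv g).symm)) : (∐ fun _ : G => X) ⟶ pullback p p) := by
  haveI : Flat p := flat_of_free ρ p hp hfree
  haveI : IsLocallyNoetherian X := LocallyOfFiniteType.isLocallyNoetherian p
  have hq : SGA1.IsQuot (sndAct ρ p hp.inv) (pullback.fst p p) :=
    isQuot_of_isPullback_of_flat ρ p hp p (pullback.snd p p) (pullback.fst p p)
      (IsPullback.of_hasPullback p p).flip (sndAct ρ p hp.inv)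
      (fun g => sndAct_hom_snd ρ p hp.inv g) (fun g => sndAct_hom_fst ρ p hp.inv g)
  have hfree' : ∀ (K : Type u) [Field K] [IsAlgClosed K]
      (ξ : Spec (CommRingCat.of K) ⟶ pullback p p) (g : G),
      ξ ≫ (sndAct ρ p hp.inv g).hom = ξ → g = 1 := by
    intro K _ _ ξ g hξ
    apply hfree K (ξ ≫ pullback.snd p p) g
    rw [Category.assoc, ← sndAct_hom_snd ρ p hp.inv g, ← Category.assoc, hξ]
  have h := Groth.Agent.S2919.result (sndAct ρ p hp.inv) (pullback.fst p p) hq hfree'
    (pullback.lift (𝟙 X) (𝟙 X) rfl) (pullback.lift_fst _ _ _)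
  have heq : (fun g : G => pullback.lift (𝟙 X) (𝟙 X) rfl ≫ (sndAct ρ p hp.inv g).hom) =
      (fun g : G => pullback.lift (𝟙 X) (ρ g).hom
        ((Category.id_comp p).trans (hp.inv g).symm)) := by
    funext g
    apply pullback.hom_ext
    · rw [Category.assoc, sndAct_hom_fst, pullback.lift_fst, pullback.lift_fst]
    · rw [Category.assoc, sndAct_hom_snd, pullback.lift_snd_assoc, pullback.lift_snd,
        Category.id_comp]
  rw [heq] at h
  exact h

end torsor

end Groth.Agent.Lib.Helper69.QuotFree
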