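import Mathlib
import Groth.Agent.Lib.Helper22.ChevMain
import Groth.Agent.Lib.Helper69.AffineNbhd
import Groth.Agent.S7662

set_option autoImplicit false
universe u
open CategoryTheory CategoryTheory.Limits AlgebraicGeometry TopologicalSpace Opposite

namespace Groth.Agent.Lib.Helper69.RedInd

open Scheme.IdealSheafData

variable {X : Scheme.{u}}

theorem vanishingIdeal_radical (C : Closeds X) : (vanishingIdeal C).radical = vanishingIdeal C := by
  have h := vanishingIdeal_support (I := vanishingIdeal C)
  have h2 : (vanishingIdeal C).support = C := rfl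
  rw [h2] at h
  exact h.symm

instance isReduced_vanishingIdeal (C : Closeds X) : IsReduced (vanishingIdeal C).subscheme := by
  rw [← vanishingIdeal_radical C]
  exact Groth.Agent.Lib.Helper22.Chev.isReduced_subscheme_radical _

theorem range_vι (C : Closeds X) : Set.range (vanishingIdeal C).subschemeι = (C : Set X) := by
  rw [range_subschemeι, coe_support_vanishingIdeal]

theorem isIntegral_vanishingIdeal (C : Closeds X) (hC : IsIrreducible (C : Set X)) :
    IsIntegral (vanishingIdeal C).subscheme := by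
  have : IrreducibleSpace (vanishingIdeal C).subscheme := Subtype.irreducibleSpace hC
  exact isIntegral_of_irreducibleSpace_of_isReduced _

/-- functoriality of reduced induced structures -/
theorem exists_lift {T : Scheme.{u}} (f : T ⟶ X) (CT : Closeds T) (CX : Closeds X)
    (h : f '' (CT : Set T) ⊆ (CX : Set X)) :
    ∃ g : (vanishingIdeal CT).subscheme ⟶ (vanishingIdeal CX).subscheme,
      g ≫ (vanishingIdeal CX).subschemeι = (vanishingIdeal CT).subschemeι ≫ f := by
  have H : (vanishingIdeal CX).subschemeι.ker ≤ ((vanishingIdeal CT).subschemeι ≫ f).ker := by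
    rw [ker_subschemeι, Scheme.Hom.ker_comp, ker_subschemeι, map_vanishingIdeal]
    apply vanishingIdeal_antimono
    exact closure_minimal h CX.isClosed
  exact ⟨IsClosedImmersion.lift _ _ H, IsClosedImmersion.lift_fac _ _ H⟩

/-- transfer of stalk isomorphisms to reduced induced closed subschemes -/
theorem isIso_stalkMap_of_square {T T' X' : Scheme.{u}} (f : T ⟶ X) (g : T' ⟶ X') (c : T' ⟶ T)
    (ι' : X' ⟶ X) [IsClosedImmersion c] (hsq : g ≫ ι' = c ≫ f)
    [IsIntegral T'] [IsIntegral X'] [IsDominant g] [QuasiCompact g]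
    (t' : T') (h : IsIso (f.stalkMap (c t'))) : IsIso (g.stalkMap t') := by
  have : IsSchemeTheoreticallyDominant g := .of_isDominant g
  have hsurj : Function.Surjective (g.stalkMap t') := by
    have h1 : Function.Surjective ((g ≫ ι').stalkMap t') := by
      rw [Scheme.Hom.stalkMap_congr_hom _ _ hsq, Scheme.Hom.stalkMap_comp]
      simp only [CommRingCat.hom_comp, RingHom.coe_comp]
      exact ((c.stalkMap_surjective t').comp
        (ConcreteCategory.bijective_of_isIso (f.stalkMap (c t'))).2).comp
        (ConcreteCategory.bijective_of_isIso _).2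
    rw [Scheme.Hom.stalkMap_comp] at h1
    exact Function.Surjective.of_comp h1
  have hinj : Function.Injective (g.stalkMap t') := by
    rw [injective_iff_map_eq_zero]
    intro γ hγ
    obtain ⟨V, hV, σ, rfl⟩ := X'.presheaf.exists_germ_eq γ
    rw [Scheme.Hom.germ_stalkMap_apply] at hγ
    have h1 : g.app V σ = 0 :=
      germ_injective_of_isIntegral T' t' (show t' ∈ g ⁻¹ᵁ V from hV) (hγ.trans (map_zero _).symm)
    have h2 : σ = 0 := g.app_injective V (h1.trans (map_zero _).symm)
    rw [h2, map_zero]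
  exact (ConcreteCategory.isIso_iff_bijective _).mpr ⟨hinj, hsurj⟩

/-- `f` is injective on generalizations of a point with bijective stalk map. -/
theorem eq_of_specializes_of_map_eq {T : Scheme.{u}} (f : T ⟶ X) (t : T) [IsIso (f.stalkMap t)]
    {τ τ' : T} (h : τ ⤳ t) (h' : τ' ⤳ t) (he : f τ = f τ') : τ = τ' := by
  have h1 : τ ∈ Set.range (T.fromSpecStalk t) := by rw [Scheme.range_fromSpecStalk]; exact h
  have h2 : τ' ∈ Set.range (T.fromSpecStalk t) := by rw [Scheme.range_fromSpecStalk]; exact h'
  obtain ⟨p, rfl⟩ := h1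
  obtain ⟨p', rfl⟩ := h2
  have key : ∀ q, f (T.fromSpecStalk t q) =
      X.fromSpecStalk (f t) ((Spec.map (f.stalkMap t)) q) := by
    intro q
    rw [← Scheme.Hom.comp_apply, ← Scheme.SpecMap_stalkMap_fromSpecStalk, Scheme.Hom.comp_apply]
  rw [key, key] at he
  have h3 := (X.fromSpecStalk (f t)).isEmbedding.injective he
  have h4 := (Spec.map (f.stalkMap t)).homeomorph.injective h3
  rw [h4]

/-- Lemma A: generic points of components through `f t` lift to generic points of components
through `t`. -/
theorem exists_generic_lift {T : Scheme.{u}} (f : T ⟶ X)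
    (hgen : ∀ η : T, closure ({η} : Set T) ∈ irreducibleComponents (T : Type u) →
      closure ({f η} : Set X) ∈ irreducibleComponents (X : Type u))
    (t : T) [IsIso (f.stalkMap t)] (ξ : X) (hξt : ξ ⤳ f t)
    (hξ : closure ({ξ} : Set X) ∈ irreducibleComponents (X : Type u)) :
    ∃ η : T, η ⤳ t ∧ f η = ξ ∧ closure ({η} : Set T) ∈ irreducibleComponents (T : Type u) := by
  obtain ⟨η, hηt, hfη⟩ := AffineNbhd.exists_of_specializes f t ξ hξt
  refine ⟨η, hηt, hfη, ?_⟩
  have hC := irreducibleComponent_mem_irreducibleComponents η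
  obtain ⟨η', hη'⟩ := QuasiSober.sober hC.1 (isClosed_of_mem_irreducibleComponents _ hC)
  have hη'η : η' ⤳ η := by
    rw [specializes_iff_mem_closure, hη'.def]; exact mem_irreducibleComponent
  have h1 : closure ({f η'} : Set X) ∈ irreducibleComponents (X : Type u) :=
    hgen η' (by rw [hη'.def]; exact hC)
  have h2 : f η' ⤳ ξ := hfη ▸ hη'η.map f.continuous
  have h3 : closure ({ξ} : Set X) ⊆ closure {f η'} := h2.closure_subset
  have h4 : closure ({f η'} : Set X) ⊆ closure {ξ} := hξ.2 h1.1 h3
  have h5 : f η' = ξ :=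
    IsGenericPoint.eq (S := closure ({ξ} : Set X)) (h4.antisymm h3) rfl
  have h6 : η' = η :=
    eq_of_specializes_of_map_eq f t (hη'η.trans hηt) hηt (h5.trans hfη.symm)
  rw [← h6, hη'.def]
  exact hC

/-- **Main theorem** (Stacks, "finding affine opens"). -/
theorem main {T : Scheme.{u}} (f : T ⟶ X) [IsAffine T] [QuasiSeparatedSpace X]
    (hX : (irreducibleComponents (X : Type u)).Finite)
    (hgen : ∀ η : T, closure ({η} : Set T) ∈ irreducibleComponents (T : Type u) →
      closure ({f η} : Set X) ∈ irreducibleComponents (X : Type u))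
    (hinj : ∀ η η' : T, closure ({η} : Set T) ∈ irreducibleComponents (T : Type u) →
      closure ({η'} : Set T) ∈ irreducibleComponents (T : Type u) → f η = f η' → η = η')
    (s : Finset T) (hs : ∀ t ∈ s, IsIso (f.stalkMap t)) :
    ∃ U : X.Opens, IsAffineOpen U ∧ ∀ t ∈ s, f t ∈ U := by
  classical
  suffices H : ∀ (Z : Set X) (hZ : Z ∈ irreducibleComponents (X : Type u)),
      ∃ V : (vanishingIdeal
          (⟨Z, isClosed_of_mem_irreducibleComponents Z hZ⟩ : Closeds X)).subscheme.Opens,
        IsAffineOpen V ∧ ∀ x ∈ s.image (fun t => f t), x ∈ Z → x ∈ (vanishingIdeal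
          (⟨Z, isClosed_of_mem_irreducibleComponents Z hZ⟩ : Closeds X)).subschemeι.base ''
            (V : Set _) by
    obtain ⟨U, hU, hTU⟩ := Groth.Agent.S7662.result X hX (s.image (fun t => f t)) H
    exact ⟨U, hU, fun t ht => hTU _ (Finset.mem_image_of_mem _ ht)⟩
  intro Z hZ
  by_cases hne : ∃ t ∈ s, f t ∈ Z
  swap
  · refine ⟨⊥, isAffineOpen_bot _, fun x hx hxZ => ?_⟩
    obtain ⟨t, ht, rfl⟩ := Finset.mem_image.mp hx
    exact absurd ⟨t, ht, hxZ⟩ hne
  obtain ⟨t₀, ht₀, ht₀Z⟩ := hne
  set CZ : Closeds X := ⟨Z, isClosed_of_mem_irreducibleComponents Z hZ⟩ with hCZ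
  obtain ⟨ξ, hξ⟩ := QuasiSober.sober hZ.1 CZ.isClosed
  have hξcl : closure ({ξ} : Set X) = Z := hξ.def
  have hξ' : closure ({ξ} : Set X) ∈ irreducibleComponents (X : Type u) := hξcl ▸ hZ
  have hlift : ∀ t ∈ s, f t ∈ Z → ∃ η : T, η ⤳ t ∧ f η = ξ ∧
      closure ({η} : Set T) ∈ irreducibleComponents (T : Type u) := by
    intro t ht htZ
    have := hs t ht
    exact exists_generic_lift f hgen t ξ (by rw [specializes_iff_mem_closure, hξcl]; exact htZ) hξ'
  obtain ⟨η, hηt₀, hfη, hηC⟩ := hlift t₀ ht₀ ht₀Z
  have hmem : ∀ t ∈ s, f t ∈ Z → t ∈ closure ({η} : Set T) := by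
    intro t ht htZ
    obtain ⟨η', hη't, hfη', hη'C⟩ := hlift t ht htZ
    have : η' = η := hinj η' η hη'C hηC (hfη'.trans hfη.symm)
    rw [← this, ← specializes_iff_mem_closure]
    exact hη't
  set CT : Closeds T := ⟨closure {η}, isClosed_closure⟩ with hCT
  have himg : f '' (CT : Set T) ⊆ (CZ : Set X) := by
    refine (image_closure_subset_closure_image f.continuous).trans ?_
    rw [Set.image_singleton, hfη, hξcl]
    rfl
  obtain ⟨g, hg⟩ := exists_lift f CT CZ himg
  have : IsIntegral (vanishingIdeal CT).subscheme :=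
    isIntegral_vanishingIdeal CT isIrreducible_singleton.closure
  have : IsIntegral (vanishingIdeal CZ).subscheme := isIntegral_vanishingIdeal CZ hZ.1
  have : IsAffine (vanishingIdeal CT).subscheme :=
    isAffine_of_isAffineHom (vanishingIdeal CT).subschemeι
  have : QuasiSeparatedSpace (vanishingIdeal CZ).subscheme :=
    quasiSeparatedSpace_of_quasiSeparated (vanishingIdeal CZ).subschemeι
  have hιT : Function.Injective (vanishingIdeal CT).subschemeι :=
    (vanishingIdeal CT).subschemeι.isClosedEmbedding.injective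
  have hg' : ∀ t', (vanishingIdeal CZ).subschemeι (g t') =
      f ((vanishingIdeal CT).subschemeι t') := fun t' => by
    rw [← Scheme.Hom.comp_apply, hg, Scheme.Hom.comp_apply]
  have : IsDominant g := by
    obtain ⟨η₁, hη₁⟩ : η ∈ Set.range (vanishingIdeal CT).subschemeι := by
      rw [range_vι]; exact subset_closure rfl
    refine ⟨?_⟩
    have h1 : closure ({g η₁} : Set (vanishingIdeal CZ).subscheme) = Set.univ := by
      rw [(vanishingIdeal CZ).subschemeι.isClosedEmbedding.isInducing.closure_eq_preimage_closure_image,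
        Set.image_singleton, hg', hη₁, hfη, hξcl, ← Set.preimage_range, range_vι]
      rfl
    exact Dense.mono (Set.singleton_subset_iff.mpr ⟨η₁, rfl⟩) (dense_iff_closure_eq.mpr h1)
  let s' : Finset (vanishingIdeal CT).subscheme := s.preimage _ hιT.injOn
  have hs' : ∀ t' ∈ s', IsIso (g.stalkMap t') := fun t' ht' =>
    isIso_stalkMap_of_square f g (vanishingIdeal CT).subschemeι (vanishingIdeal CZ).subschemeι hg t'
      (hs _ (Finset.mem_preimage.mp ht'))
  obtain ⟨V, hV, hVs⟩ := AffineNbhd.exists_affineOpen_of_isIntegral g s' hs'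
  refine ⟨V, hV, fun x hx hxZ => ?_⟩
  obtain ⟨t, ht, rfl⟩ := Finset.mem_image.mp hx
  obtain ⟨t', rfl⟩ : t ∈ Set.range (vanishingIdeal CT).subschemeι := by
    rw [range_vι]; exact hmem t ht hxZ
  exact ⟨g t', hVs t' (Finset.mem_preimage.mpr ht), hg' t'⟩

end Groth.Agent.Lib.Helper69.RedInd
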