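import Groth.Agent.Lib.Helper69.Quot4
import Mathlib.AlgebraicGeometry.Limits

set_option autoImplicit false
universe u
open CategoryTheory CategoryTheory.Limits AlgebraicGeometry TopologicalSpace Opposite Topology

namespace Groth.Agent.Lib.Helper69

namespace SpecLift

theorem exists_prime_le_notMem {B : Type*} [CommRing B] (q : Ideal B) [q.IsPrime] (s : B)
    (h : ∀ b ∉ q, ∀ n : ℕ, b * s ^ n ≠ 0) : ∃ q' : Ideal B, q'.IsPrime ∧ q' ≤ q ∧ s ∉ q' := by
  let S : Submonoid B := q.primeCompl ⊔ Submonoid.powers s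
  have hdisj : Disjoint ((⊥ : Ideal B) : Set B) (S : Set B) := by
    rw [Set.disjoint_left]
    intro x hx hxS
    have hx0 : x = 0 := hx
    subst hx0
    obtain ⟨b, hb, z, ⟨n, rfl⟩, hbz⟩ := Submonoid.mem_sup.mp hxS
    exact h b hb n hbz
  obtain ⟨p, hp, -, hpS⟩ := Ideal.exists_le_prime_disjoint ⊥ S hdisj
  refine ⟨p, hp, ?_, ?_⟩
  · intro x hx
    by_contra hxq
    exact Set.disjoint_left.mp hpS hx
      ((le_sup_left : q.primeCompl ≤ S) hxq)
  · intro hs
    exact Set.disjoint_left.mp hpS hs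
      ((le_sup_right : Submonoid.powers s ≤ S) (Submonoid.mem_powers s))

/-- If the complement of a basic open `D(s)` of a scheme is not a neighbourhood of one of its
points `w`, then some point of `D(s)` specializes to `w`. -/
theorem exists_specializes_of_not_nhds {P : Scheme.{u}} (s : Γ(P, ⊤)) (w : P)
    (hn : ((P.basicOpen s : Set P)ᶜ) ∉ 𝓝 w) : ∃ w' : P, w' ∈ P.basicOpen s ∧ w' ⤳ w := by
  obtain ⟨U, hU, hwU, -⟩ := Opens.isBasis_iff_nbhd.mp P.isBasis_affineOpens
    (show w ∈ (⊤ : P.Opens) from trivial)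
  let sU : Γ(P, U) := P.presheaf.map (homOfLE (le_top : U ≤ ⊤)).op s
  have hsU : P.basicOpen sU = U ⊓ P.basicOpen s := Scheme.basicOpen_res _ _ _
  let Q := hU.primeIdealOf ⟨w, hwU⟩
  have key : ∀ b ∉ Q.asIdeal, ∀ n : ℕ, b * sU ^ n ≠ 0 := by
    intro b hb n hbn
    apply hn
    have hwb : w ∈ P.basicOpen b := (mem_basicOpen_iff_notMem_primeIdealOf hU w hwU b).mpr hb
    refine Filter.mem_of_superset ((P.basicOpen b).isOpen.mem_nhds hwb) ?_
    intro z hzb hzs
    have hzU : z ∈ U := P.basicOpen_le b hzb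
    have hzsU : z ∈ P.basicOpen sU := by rw [hsU]; exact ⟨hzU, hzs⟩
    rcases Nat.eq_zero_or_pos n with rfl | hnpos
    · rw [pow_zero, mul_one] at hbn
      rw [hbn, Scheme.basicOpen_zero] at hzb
      exact hzb
    · have : z ∈ P.basicOpen (b * sU ^ n) := by
        rw [Scheme.basicOpen_mul, Scheme.basicOpen_pow (X := P) sU hnpos]
        exact ⟨hzb, hzsU⟩
      rw [hbn, Scheme.basicOpen_zero] at this
      exact this
  haveI := Q.isPrime
  obtain ⟨q', hq', hle, hs⟩ := exists_prime_le_notMem Q.asIdeal sU key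
  let Q' : PrimeSpectrum Γ(P, U) := ⟨q', hq'⟩
  refine ⟨hU.fromSpec Q', ?_, ?_⟩
  · have h1 : hU.fromSpec Q' ∈ P.basicOpen sU := (fromSpec_mem_basicOpen_iff hU Q' sU).mpr hs
    rw [hsU] at h1
    exact h1.2
  · have h1 : hU.fromSpec Q = w := hU.fromSpec_primeIdealOf ⟨w, hwU⟩
    rw [← h1]
    have h2 : Q' ⤳ Q := (PrimeSpectrum.le_iff_specializes Q' Q).mp hle
    exact h2.map hU.fromSpec.continuous

end SpecLift

end Groth.Agent.Lib.Helper69
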