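import Groth.Prelude.Def_SymProd
import Groth.Prelude.Def_SymTen
import Groth.Agent.Lib.Helper69.SymBox
import Groth.Agent.Lib.Helper69.QuotChart

/-!
# Helper library (helper69): affine charts of symmetric powers and tensor powers

For `f : X ⟶ S`, affine opens `V ⊆ S`, `U ⊆ f⁻¹V`, the box open `U^d_V` of the `d`-fold fibre power has
ring of sections the `d`-fold tensor power `⨂[Γ(S,V)] Γ(X,U)` (`Φ`, `Ψ`, `Ψ_Φ`, `Φ_Ψ`), compatibly with
the permutation actions (`act_Ψ`, `invariant_iff`). `flat_appLE_of_chart`: if `q⁻¹W' = U^d_V` for a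
symmetric power `(Y, q, g)` then `Γ(S,V) → Γ(Y,W')` is flat as soon as `Γ(S,V) → Γ(X,U)` is
(given flatness of symmetric tensors of flat modules as a hypothesis).
-/

set_option autoImplicit false
set_option linter.style.haveILetI false
set_option linter.unusedSimpArgs false
universe u
open CategoryTheory CategoryTheory.Limits AlgebraicGeometry TopologicalSpace Opposite
open scoped TensorProduct

namespace Groth.Agent.Lib.Helper69

namespace SymChart
open SymBox

section Ring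

variable {A B : Type u} [CommRing A] [CommRing B] [Algebra A B] (d : ℕ)

/-- ring homs out of a finite tensor power are determined by the structure map and the singles. -/
theorem ringHom_ext_tensor {R' : Type u} [CommRing R'] (φ ψ : (⨂[A] _ : Fin d, B) →+* R')
    (h0 : φ.comp (algebraMap A _) = ψ.comp (algebraMap A _))
    (h : ∀ (i : Fin d) (b : B), φ (PiTensorProduct.singleAlgHom (R := A) (A := fun _ : Fin d => B) i b) =
      ψ (PiTensorProduct.singleAlgHom (R := A) (A := fun _ : Fin d => B) i b)) : φ = ψ := by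
  letI : Algebra A R' := (φ.comp (algebraMap A _)).toAlgebra
  let φ' : (⨂[A] _ : Fin d, B) →ₐ[A] R' := { φ with commutes' := fun a => rfl }
  let ψ' : (⨂[A] _ : Fin d, B) →ₐ[A] R' :=
    { ψ with commutes' := fun a => (RingHom.congr_fun h0 a).symm }
  have : φ' = ψ' := by
    apply PiTensorProduct.algHom_ext
    intro i
    ext b
    exact h i b
  ext t
  exact DFunLike.congr_fun this t

/-- `reindex` moves singles. -/
theorem reindex_single (e : Equiv.Perm (Fin d)) (i : Fin d) (b : B) :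
    PiTensorProduct.reindex A (fun _ : Fin d => B) e
      (PiTensorProduct.singleAlgHom (R := A) (A := fun _ : Fin d => B) i b) =
      PiTensorProduct.singleAlgHom (R := A) (A := fun _ : Fin d => B) (e i) b := by
  rw [PiTensorProduct.singleAlgHom_apply, PiTensorProduct.singleAlgHom_apply,
    PiTensorProduct.reindex_tprod]
  congr 1
  ext j
  simp only [MonoidHom.mulSingle_apply]
  by_cases hj : j = e i
  · subst hj
    simp
  · have : e.symm j ≠ i := fun h => hj (by rw [← h]; simp)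
    simp [Pi.mulSingle_apply, hj, this]

end Ring

section Chart

variable {X S : Scheme.{u}} (f : X ⟶ S) (d : ℕ) {V : S.Opens} {U : X.Opens}

theorem box_le_π (i : Fin d) :
    boxOpen f d V U ≤ (WidePullback.π (fun _ : Fin d => f) i) ⁻¹ᵁ U :=
  fun x hx => ((mem_boxOpen f d V U x).mp hx).2 i

theorem box_le_base : boxOpen f d V U ≤ (WidePullback.base (fun _ : Fin d => f)) ⁻¹ᵁ V :=
  fun x hx => ((mem_boxOpen f d V U x).mp hx).1

/-- the `i`-th coordinate ring map `Γ(X, U) ⟶ Γ(P, box)`. -/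
noncomputable def πU (i : Fin d) : Γ(X, U) ⟶ Γ(SymProd.fibPow f d, boxOpen f d V U) :=
  (WidePullback.π (fun _ : Fin d => f) i).appLE U _ (box_le_π f d i)

/-- the structure ring map `Γ(S, V) ⟶ Γ(P, box)`. -/
noncomputable def βV : Γ(S, V) ⟶ Γ(SymProd.fibPow f d, boxOpen f d V U) :=
  (WidePullback.base (fun _ : Fin d => f)).appLE V _ (box_le_base f d)

theorem appLE_πU (hUV : U ≤ f ⁻¹ᵁ V) (i : Fin d) :
    f.appLE V U hUV ≫ πU f d i = βV f d (V := V) (U := U) := by
  unfold πU βV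
  rw [Scheme.Hom.appLE_comp_appLE]
  exact appLE_congr_hom (WidePullback.π_arrow _ i) _ _ _ _

/-- the action of a permutation on sections over the box. -/
noncomputable def act (σ : Equiv.Perm (Fin d)) :
    Γ(SymProd.fibPow f d, boxOpen f d V U) ⟶ Γ(SymProd.fibPow f d, boxOpen f d V U) :=
  (SymProd.permHom f d σ).appLE _ _ (permHom_preimage_boxOpen f d V U σ).ge

theorem πU_act (σ : Equiv.Perm (Fin d)) (i : Fin d) :
    πU f d i ≫ act f d σ = πU f d (V := V) (U := U) (σ.symm i) := by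
  unfold πU act
  rw [Scheme.Hom.appLE_comp_appLE]
  exact appLE_congr_hom (SymProd.permHom_π f d σ i) _ _ _ _

theorem βV_act (σ : Equiv.Perm (Fin d)) :
    βV f d ≫ act f d σ = βV f d (V := V) (U := U) := by
  unfold βV act
  rw [Scheme.Hom.appLE_comp_appLE]
  exact appLE_congr_hom (SymProd.permHom_base f d σ) _ _ _ _

variable (hV : IsAffineOpen V) (hU : IsAffineOpen U) (hUV : U ≤ f ⁻¹ᵁ V)
  [Algebra Γ(S, V) Γ(X, U)] (halg : algebraMap Γ(S, V) Γ(X, U) = (f.appLE V U hUV).hom)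

/-- the `d`-fold tensor power. -/
abbrev T : Type u := ⨂[Γ(S, V)] _ : Fin d, Γ(X, U)

/-- the single maps as morphisms of `CommRingCat`. -/
noncomputable def sgl (i : Fin d) : Γ(X, U) ⟶ CommRingCat.of (⨂[Γ(S, V)] _ : Fin d, Γ(X, U)) :=
  CommRingCat.ofHom (PiTensorProduct.singleAlgHom (R := Γ(S, V)) (A := fun _ : Fin d => Γ(X, U)) i).toRingHom

/-- the structure map as a morphism of `CommRingCat`. -/
noncomputable def stru : Γ(S, V) ⟶ CommRingCat.of (⨂[Γ(S, V)] _ : Fin d, Γ(X, U)) :=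
  CommRingCat.ofHom (algebraMap Γ(S, V) (⨂[Γ(S, V)] _ : Fin d, Γ(X, U)))

include halg in
theorem appLE_sgl (i : Fin d) : f.appLE V U hUV ≫ sgl d i = stru d (V := V) (U := U) := by
  ext a
  change (PiTensorProduct.singleAlgHom (R := Γ(S, V)) (A := fun _ : Fin d => Γ(X, U)) i)
    ((f.appLE V U hUV).hom a) = _
  rw [← halg]
  exact AlgHom.commutes _ a

include halg in
/-- the morphism `Spec T ⟶ P`. -/
noncomputable def k₀ : Spec (CommRingCat.of (⨂[Γ(S, V)] _ : Fin d, Γ(X, U))) ⟶ SymProd.fibPow f d :=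
  WidePullback.lift (Spec.map (stru d) ≫ hV.fromSpec) (fun i => Spec.map (sgl d i) ≫ hU.fromSpec)
    (fun i => by
      rw [Category.assoc, ← IsAffineOpen.SpecMap_appLE_fromSpec f hV hU hUV, ← Spec.map_comp_assoc,
        appLE_sgl f d hUV halg i])


theorem k₀_π (i : Fin d) :
    k₀ f d hV hU hUV halg ≫ WidePullback.π (fun _ : Fin d => f) i =
      Spec.map (sgl d i) ≫ hU.fromSpec := by
  unfold k₀; exact WidePullback.lift_π _ _ _ _ i

theorem k₀_base :
    k₀ f d hV hU hUV halg ≫ WidePullback.base (fun _ : Fin d => f) =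
      Spec.map (stru d) ≫ hV.fromSpec := by
  unfold k₀; exact WidePullback.lift_base _ _ _ _

theorem fromSpec_mem {Z : Scheme.{u}} {O : Z.Opens} (hO : IsAffineOpen O) (z : Spec Γ(Z, O)) :
    hO.fromSpec z ∈ O := by
  have : hO.fromSpec z ∈ hO.fromSpec.opensRange := ⟨z, rfl⟩
  rwa [hO.opensRange_fromSpec] at this

theorem k₀_mem (z : Spec (CommRingCat.of (⨂[Γ(S, V)] _ : Fin d, Γ(X, U)))) :
    k₀ f d hV hU hUV halg z ∈ boxOpen f d V U := by
  rw [mem_boxOpen]
  refine ⟨?_, fun i => ?_⟩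
  · rw [← Scheme.Hom.comp_apply, k₀_base, Scheme.Hom.comp_apply]
    exact fromSpec_mem hV _
  · rw [← Scheme.Hom.comp_apply, k₀_π, Scheme.Hom.comp_apply]
    exact fromSpec_mem hU _

theorem top_le_k₀ :
    (⊤ : (Spec (CommRingCat.of (⨂[Γ(S, V)] _ : Fin d, Γ(X, U)))).Opens) ≤
      k₀ f d hV hU hUV halg ⁻¹ᵁ boxOpen f d V U :=
  fun z _ => k₀_mem f d hV hU hUV halg z

/-- the ring map `Γ(P, box) ⟶ T`. -/
noncomputable def Φ : Γ(SymProd.fibPow f d, boxOpen f d V U) ⟶
    CommRingCat.of (⨂[Γ(S, V)] _ : Fin d, Γ(X, U)) :=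
  (k₀ f d hV hU hUV halg).appLE _ ⊤ (top_le_k₀ f d hV hU hUV halg) ≫
    (Scheme.ΓSpecIso (CommRingCat.of (⨂[Γ(S, V)] _ : Fin d, Γ(X, U)))).hom

theorem fromSpec_appLE_self {Z : Scheme.{u}} {O : Z.Opens} (hO : IsAffineOpen O)
    (e : (⊤ : (Spec Γ(Z, O)).Opens) ≤ hO.fromSpec ⁻¹ᵁ O) :
    hO.fromSpec.appLE O ⊤ e = (Scheme.ΓSpecIso Γ(Z, O)).inv := by
  rw [Scheme.Hom.appLE, hO.fromSpec_app_self, Category.assoc, ← Functor.map_comp]
  convert Category.comp_id _
  exact (Spec Γ(Z, O)).presheaf.map_id _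

theorem specMap_fromSpec_appLE {Z : Scheme.{u}} {O : Z.Opens} (hO : IsAffineOpen O)
    {R : CommRingCat.{u}} (φ : Γ(Z, O) ⟶ R)
    (e : (⊤ : (Spec R).Opens) ≤ (Spec.map φ ≫ hO.fromSpec) ⁻¹ᵁ O) :
    (Spec.map φ ≫ hO.fromSpec).appLE O ⊤ e ≫ (Scheme.ΓSpecIso R).hom = φ := by
  have e1 : (⊤ : (Spec Γ(Z, O)).Opens) ≤ hO.fromSpec ⁻¹ᵁ O := by
    rw [hO.fromSpec_preimage_self]
  have e2 : (⊤ : (Spec R).Opens) ≤ (Spec.map φ) ⁻¹ᵁ ⊤ := le_top
  have h1 : (Spec.map φ ≫ hO.fromSpec).appLE O ⊤ e =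
      hO.fromSpec.appLE O ⊤ e1 ≫ (Spec.map φ).appLE ⊤ ⊤ e2 := by
    rw [Scheme.Hom.appLE_comp_appLE]
  rw [h1, fromSpec_appLE_self, Category.assoc]
  have h2 : (Spec.map φ).appLE ⊤ ⊤ e2 = (Spec.map φ).appTop := by
    rw [Scheme.Hom.appTop, Scheme.Hom.app_eq_appLE]
    rfl
  rw [h2, Scheme.ΓSpecIso_naturality, Iso.inv_hom_id_assoc]

theorem πU_Φ (i : Fin d) : πU f d i ≫ Φ f d hV hU hUV halg = sgl d i := by
  unfold πU Φ
  rw [Scheme.Hom.appLE_comp_appLE_assoc]
  have e2 : (⊤ : (Spec (CommRingCat.of (⨂[Γ(S, V)] _ : Fin d, Γ(X, U)))).Opens) ≤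
      (Spec.map (sgl d i) ≫ hU.fromSpec) ⁻¹ᵁ U := fun z _ => by
    change (Spec.map (sgl d i) ≫ hU.fromSpec) z ∈ U
    rw [Scheme.Hom.comp_apply]
    exact fromSpec_mem hU _
  rw [appLE_congr_hom (k₀_π f d hV hU hUV halg i) U ⊤ _ e2]
  exact specMap_fromSpec_appLE hU _ _

theorem βV_Φ : βV f d ≫ Φ f d hV hU hUV halg = stru d := by
  unfold βV Φ
  rw [Scheme.Hom.appLE_comp_appLE_assoc]
  have e2 : (⊤ : (Spec (CommRingCat.of (⨂[Γ(S, V)] _ : Fin d, Γ(X, U)))).Opens) ≤
      (Spec.map (stru d) ≫ hV.fromSpec) ⁻¹ᵁ V := fun z _ => by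
    change (Spec.map (stru d) ≫ hV.fromSpec) z ∈ V
    rw [Scheme.Hom.comp_apply]
    exact fromSpec_mem hV _
  rw [appLE_congr_hom (k₀_base f d hV hU hUV halg) V ⊤ _ e2]
  exact specMap_fromSpec_appLE hV _ _


/-- the ring map `T ⟶ Γ(P, box)`, the product of the coordinate maps. -/
noncomputable def Ψr : (⨂[Γ(S, V)] _ : Fin d, Γ(X, U)) →+* Γ(SymProd.fibPow f d, boxOpen f d V U) :=
  letI : Algebra Γ(S, V) Γ(SymProd.fibPow f d, boxOpen f d V U) :=
    (βV f d (V := V) (U := U)).hom.toAlgebra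
  let πa : ∀ i : Fin d, Γ(X, U) →ₐ[Γ(S, V)] Γ(SymProd.fibPow f d, boxOpen f d V U) := fun i =>
    { (πU f d (V := V) (U := U) i).hom with
      commutes' := fun a => by
        have h1 := appLE_πU f d hUV i (V := V) (U := U)
        have h2 := congrArg (fun φ => φ.hom a) h1
        simp only [CommRingCat.hom_comp, RingHom.comp_apply] at h2
        change (πU f d i).hom (algebraMap Γ(S, V) Γ(X, U) a) = (βV f d).hom a
        rw [halg]
        exact h2 }
  (PiTensorProduct.liftAlgHom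
    ((MultilinearMap.mkPiAlgebra Γ(S, V) (Fin d) Γ(SymProd.fibPow f d, boxOpen f d V U)).compLinearMap
      (fun i => (πa i).toLinearMap))
    (by simp [MultilinearMap.compLinearMap_apply])
    (by
      intro x y
      simp [MultilinearMap.compLinearMap_apply, Finset.prod_mul_distrib])).toRingHom

theorem Ψr_tprod (b : Fin d → Γ(X, U)) :
    Ψr f d hUV halg (PiTensorProduct.tprod Γ(S, V) b) = ∏ i, (πU f d (V := V) (U := U) i).hom (b i) := by
  unfold Ψr
  simp [MultilinearMap.compLinearMap_apply]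


theorem Ψr_single (i : Fin d) (b : Γ(X, U)) :
    Ψr f d hUV halg (PiTensorProduct.singleAlgHom (R := Γ(S, V)) (A := fun _ : Fin d => Γ(X, U)) i b) =
      (πU f d (V := V) (U := U) i).hom b := by
  rw [PiTensorProduct.singleAlgHom_apply, Ψr_tprod]
  rw [Finset.prod_eq_single i]
  · simp
  · intro j _ hj
    simp [MonoidHom.mulSingle_apply, Pi.mulSingle_apply, hj]
  · intro h
    exact absurd (Finset.mem_univ i) h

theorem Ψr_algebraMap (a : Γ(S, V)) :
    Ψr f d hUV halg (algebraMap Γ(S, V) _ a) = (βV f d (V := V) (U := U)).hom a := by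
  unfold Ψr
  letI : Algebra Γ(S, V) Γ(SymProd.fibPow f d, boxOpen f d V U) :=
    (βV f d (V := V) (U := U)).hom.toAlgebra
  exact AlgHom.commutes _ a

/-- `Ψ` as a morphism of `CommRingCat`. -/
noncomputable def Ψ : CommRingCat.of (⨂[Γ(S, V)] _ : Fin d, Γ(X, U)) ⟶
    Γ(SymProd.fibPow f d, boxOpen f d V U) :=
  CommRingCat.ofHom (Ψr f d hUV halg)

theorem sgl_Ψ (i : Fin d) : sgl d i ≫ Ψ f d hUV halg = πU f d (V := V) (U := U) i := by
  ext b
  exact Ψr_single f d hUV halg i b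

theorem stru_Ψ : stru d ≫ Ψ f d hUV halg = βV f d (V := V) (U := U) := by
  ext a
  exact Ψr_algebraMap f d hUV halg a

theorem Ψ_Φ : Ψ f d hUV halg ≫ Φ f d hV hU hUV halg = 𝟙 _ := by
  apply CommRingCat.hom_ext
  apply ringHom_ext_tensor
  · have h1 : stru d ≫ Ψ f d hUV halg ≫ Φ f d hV hU hUV halg = stru d (V := V) (U := U) := by
      rw [← Category.assoc, stru_Ψ, βV_Φ]
    ext a
    exact congrArg (fun φ => φ.hom a) h1
  · intro i b
    have h1 : sgl d i ≫ Ψ f d hUV halg ≫ Φ f d hV hU hUV halg = sgl d i (V := V) (U := U) := by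
      rw [← Category.assoc, sgl_Ψ, πU_Φ]
    exact congrArg (fun φ => φ.hom b) h1


theorem specMap_Ψ_k₀ (hW : IsAffineOpen (boxOpen f d V U)) :
    Spec.map (Ψ f d hUV halg) ≫ k₀ f d hV hU hUV halg = hW.fromSpec := by
  apply WidePullback.hom_ext
  · intro i
    rw [Category.assoc, k₀_π, ← Spec.map_comp_assoc, sgl_Ψ]
    exact IsAffineOpen.SpecMap_appLE_fromSpec _ hU hW (box_le_π f d i)
  · rw [Category.assoc, k₀_base, ← Spec.map_comp_assoc, stru_Ψ]
    exact IsAffineOpen.SpecMap_appLE_fromSpec _ hV hW (box_le_base f d)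

theorem Φ_Ψ (hW : IsAffineOpen (boxOpen f d V U)) :
    Φ f d hV hU hUV halg ≫ Ψ f d hUV halg = 𝟙 _ := by
  have hC := specMap_Ψ_k₀ f d hV hU hUV halg hW
  have e1 : (⊤ : (Spec Γ(SymProd.fibPow f d, boxOpen f d V U)).Opens) ≤
      hW.fromSpec ⁻¹ᵁ boxOpen f d V U := by rw [hW.fromSpec_preimage_self]
  have e0 : (⊤ : (Spec Γ(SymProd.fibPow f d, boxOpen f d V U)).Opens) ≤
      (Spec.map (Ψ f d hUV halg) ≫ k₀ f d hV hU hUV halg) ⁻¹ᵁ boxOpen f d V U := by
    rw [hC]; exact e1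
  have h1 := appLE_congr_hom hC (boxOpen f d V U) ⊤ e0 e1
  rw [fromSpec_appLE_self hW e1] at h1
  have e2 : (⊤ : (Spec Γ(SymProd.fibPow f d, boxOpen f d V U)).Opens) ≤
      (Spec.map (Ψ f d hUV halg)) ⁻¹ᵁ ⊤ := le_top
  have h2 : (Spec.map (Ψ f d hUV halg) ≫ k₀ f d hV hU hUV halg).appLE (boxOpen f d V U) ⊤ e0 =
      (k₀ f d hV hU hUV halg).appLE _ ⊤ (top_le_k₀ f d hV hU hUV halg) ≫
        (Spec.map (Ψ f d hUV halg)).appLE ⊤ ⊤ e2 := by
    rw [Scheme.Hom.appLE_comp_appLE]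
  have h3 : (Spec.map (Ψ f d hUV halg)).appLE ⊤ ⊤ e2 = (Spec.map (Ψ f d hUV halg)).appTop := by
    rw [Scheme.Hom.appTop, Scheme.Hom.app_eq_appLE]
    rfl
  rw [h2, h3] at h1
  unfold Φ
  rw [Category.assoc, ← Scheme.ΓSpecIso_naturality, ← Category.assoc, h1, Iso.inv_hom_id]


theorem act_Ψ (σ : Equiv.Perm (Fin d)) (t : ⨂[Γ(S, V)] _ : Fin d, Γ(X, U)) :
    (act f d σ).hom (Ψr f d hUV halg t) =
      Ψr f d hUV halg (PiTensorProduct.reindex Γ(S, V) (fun _ : Fin d => Γ(X, U)) σ.symm t) := by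
  have h : ((act f d (V := V) (U := U) σ).hom.comp (Ψr f d hUV halg)) =
      (Ψr f d hUV halg).comp (SymTen.perm Γ(S, V) Γ(X, U) d σ.symm).toRingHom := by
    apply ringHom_ext_tensor
    · ext a
      simp only [RingHom.comp_apply]
      rw [Ψr_algebraMap]
      have h1 := congrArg (fun φ => φ.hom a) (βV_act f d (V := V) (U := U) σ)
      simp only [CommRingCat.hom_comp, RingHom.comp_apply] at h1
      rw [h1]
      change _ = Ψr f d hUV halg ((SymTen.perm Γ(S, V) Γ(X, U) d σ.symm) (algebraMap _ _ a))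
      rw [AlgHom.commutes, Ψr_algebraMap]
    · intro i b
      simp only [RingHom.comp_apply]
      rw [Ψr_single]
      have h1 := congrArg (fun φ => φ.hom b) (πU_act f d (V := V) (U := U) σ i)
      simp only [CommRingCat.hom_comp, RingHom.comp_apply] at h1
      rw [h1]
      change _ = Ψr f d hUV halg ((SymTen.perm Γ(S, V) Γ(X, U) d σ.symm) _)
      rw [SymTen.perm_apply, reindex_single, Ψr_single]
  have h2 := RingHom.congr_fun h t
  simp only [RingHom.comp_apply] at h2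
  rw [h2]
  change Ψr f d hUV halg ((SymTen.perm Γ(S, V) Γ(X, U) d σ.symm) t) = _
  rw [SymTen.perm_apply]

theorem Ψr_Φ_apply (hW : IsAffineOpen (boxOpen f d V U))
    (s : Γ(SymProd.fibPow f d, boxOpen f d V U)) :
    Ψr f d hUV halg ((Φ f d hV hU hUV halg).hom s) = s := by
  have h := congrArg (fun φ => φ.hom s) (Φ_Ψ f d hV hU hUV halg hW)
  simpa [Ψ] using h

theorem Φ_Ψr_apply (t : ⨂[Γ(S, V)] _ : Fin d, Γ(X, U)) :
    (Φ f d hV hU hUV halg).hom (Ψr f d hUV halg t) = t := by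
  have h := congrArg (fun φ => φ.hom t) (Ψ_Φ f d hV hU hUV halg)
  simpa [Ψ] using h

theorem invariant_iff (hW : IsAffineOpen (boxOpen f d V U))
    (s : Γ(SymProd.fibPow f d, boxOpen f d V U)) :
    (∀ σ : Equiv.Perm (Fin d), (act f d σ).hom s = s) ↔
      ∀ σ : Equiv.Perm (Fin d), PiTensorProduct.reindex Γ(S, V) (fun _ : Fin d => Γ(X, U)) σ
        ((Φ f d hV hU hUV halg).hom s) = (Φ f d hV hU hUV halg).hom s := by
  constructor
  · intro h σ
    have h1 := act_Ψ f d hUV halg σ.symm ((Φ f d hV hU hUV halg).hom s)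
    rw [Ψr_Φ_apply f d hV hU hUV halg hW, h σ.symm, Equiv.symm_symm] at h1
    have h2 := congrArg (Φ f d hV hU hUV halg).hom h1
    rw [Φ_Ψr_apply] at h2
    exact h2.symm
  · intro h σ
    have h1 := act_Ψ f d hUV halg σ ((Φ f d hV hU hUV halg).hom s)
    rw [Ψr_Φ_apply f d hV hU hUV halg hW, h σ.symm, Ψr_Φ_apply f d hV hU hUV halg hW] at h1
    exact h1


end Chart

section Final

variable {X S Y : Scheme.{u}} (f : X ⟶ S) (d : ℕ) {V : S.Opens} {U : X.Opens}
  (q : SymProd.fibPow f d ⟶ Y) (g : Y ⟶ S) (hq : SymProd.IsSymProd f d q g)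

include hq in
/-- section properties of the quotient over an open whose preimage is a given open. -/
theorem sections_of_preimage_eq (W' : Y.Opens) (W : (SymProd.fibPow f d).Opens)
    (hW' : q ⁻¹ᵁ W' = W) (hinv : ∀ σ : Equiv.Perm (Fin d), W ≤ (SymProd.permHom f d σ) ⁻¹ᵁ W) :
    Function.Injective (q.appLE W' W hW'.ge).hom ∧
      ∀ s : Γ(SymProd.fibPow f d, W), s ∈ Set.range (q.appLE W' W hW'.ge).hom ↔
        ∀ σ : Equiv.Perm (Fin d), ((SymProd.permHom f d σ).appLE W W (hinv σ)).hom s = s := by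
  subst hW'
  have hQ := hq.isQuot
  have h0 : q.appLE W' (q ⁻¹ᵁ W') le_rfl = q.app W' := (Scheme.Hom.app_eq_appLE _).symm
  refine ⟨?_, fun s => ?_⟩
  · rw [h0]; exact hQ.injective W'
  · rw [h0, hQ.range_iff W' s]
    constructor
    · intro h σ
      exact h ⟨σ⟩
    · intro h σ
      exact h σ.down



include hq in
/-- flatness of the structure map of the symmetric power on a chart. -/
theorem flat_appLE_of_chart (hV : IsAffineOpen V) (hU : IsAffineOpen U) (hUV : U ≤ f ⁻¹ᵁ V)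
    (W' : Y.Opens) (hW' : q ⁻¹ᵁ W' = boxOpen f d V U)
    (hflat : (f.appLE V U hUV).hom.Flat)
    (hTS : ∀ (R : Type u) [CommRing R] (M : Type u) [AddCommGroup M] [Module R M]
      [Module.Flat R M] (n : ℕ),
      Module.Flat R ↥(⨅ σ : Equiv.Perm (Fin n),
        LinearMap.eqLocus (PiTensorProduct.reindex R (fun _ : Fin n => M) σ).toLinearMap
          LinearMap.id))
    (e : W' ≤ g ⁻¹ᵁ V) : (g.appLE V W' e).hom.Flat := by
  letI alg : Algebra Γ(S, V) Γ(X, U) := (f.appLE V U hUV).hom.toAlgebra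
  have halg : algebraMap Γ(S, V) Γ(X, U) = (f.appLE V U hUV).hom := rfl
  have hW := isAffineOpen_boxOpen f d hV hU hUV
  haveI : Module.Flat Γ(S, V) Γ(X, U) := hflat
  obtain ⟨hinj, hrange⟩ := sections_of_preimage_eq f d q g hq W' _ hW'
    (fun σ => (permHom_preimage_boxOpen f d V U σ).ge)
  letI algY : Algebra Γ(S, V) Γ(Y, W') := (g.appLE V W' e).hom.toAlgebra
  change Module.Flat Γ(S, V) Γ(Y, W')
  have hqβ : g.appLE V W' e ≫ q.appLE W' (boxOpen f d V U) hW'.ge = βV f d := by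
    unfold βV
    rw [Scheme.Hom.appLE_comp_appLE]
    exact appLE_congr_hom hq.over _ _ _ _
  let θ : Γ(Y, W') →ₗ[Γ(S, V)] (⨂[Γ(S, V)] _ : Fin d, Γ(X, U)) :=
    { toFun := fun s => (Φ f d hV hU hUV halg).hom ((q.appLE W' (boxOpen f d V U) hW'.ge).hom s)
      map_add' := fun s t => by rw [map_add, map_add]
      map_smul' := fun a s => by
        rw [Algebra.smul_def, Algebra.smul_def, map_mul, map_mul]
        congr 1
        have h1 := congrArg (fun φ => φ.hom a) hqβ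
        simp only [CommRingCat.hom_comp, RingHom.comp_apply] at h1
        change (Φ f d hV hU hUV halg).hom ((q.appLE W' (boxOpen f d V U) hW'.ge).hom
          ((g.appLE V W' e).hom a)) = _
        rw [h1]
        have h2 := congrArg (fun φ => φ.hom a) (βV_Φ f d hV hU hUV halg)
        simp only [CommRingCat.hom_comp, RingHom.comp_apply] at h2
        exact h2 }
  have hθinj : Function.Injective θ := by
    intro s t hst
    apply hinj
    have h1 := congrArg (Ψr f d hUV halg) hst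
    change Ψr f d hUV halg ((Φ f d hV hU hUV halg).hom _) =
      Ψr f d hUV halg ((Φ f d hV hU hUV halg).hom _) at h1
    rwa [Ψr_Φ_apply f d hV hU hUV halg hW, Ψr_Φ_apply f d hV hU hUV halg hW] at h1
  have hθmem : ∀ s, θ s ∈ (⨅ σ : Equiv.Perm (Fin d),
      LinearMap.eqLocus (PiTensorProduct.reindex Γ(S, V) (fun _ : Fin d => Γ(X, U)) σ).toLinearMap
        LinearMap.id : Submodule Γ(S, V) (⨂[Γ(S, V)] _ : Fin d, Γ(X, U))) := by
    intro s
    rw [Submodule.mem_iInf]
    intro σ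
    rw [LinearMap.mem_eqLocus]
    have h1 := (hrange ((q.appLE W' (boxOpen f d V U) hW'.ge).hom s)).mp ⟨s, rfl⟩
    exact (invariant_iff f d hV hU hUV halg hW _).mp h1 σ
  let θ' := θ.codRestrict _ hθmem
  have hθ'bij : Function.Bijective θ' := by
    constructor
    · intro s t hst
      exact hθinj (congrArg Subtype.val hst)
    · rintro ⟨t, ht⟩
      rw [Submodule.mem_iInf] at ht
      have h1 : ∀ σ : Equiv.Perm (Fin d), PiTensorProduct.reindex Γ(S, V)
          (fun _ : Fin d => Γ(X, U)) σ t = t := fun σ => by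
        have := ht σ
        rwa [LinearMap.mem_eqLocus] at this
      have h2 : ∀ σ : Equiv.Perm (Fin d), (act f d σ).hom (Ψr f d hUV halg t) =
          Ψr f d hUV halg t := by
        apply (invariant_iff f d hV hU hUV halg hW _).mpr
        intro σ
        rw [Φ_Ψr_apply]
        exact h1 σ
      obtain ⟨s, hs⟩ := (hrange _).mpr h2
      refine ⟨s, Subtype.ext ?_⟩
      change (Φ f d hV hU hUV halg).hom ((q.appLE W' (boxOpen f d V U) hW'.ge).hom s) = t
      rw [hs, Φ_Ψr_apply]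
  haveI := hTS Γ(S, V) Γ(X, U) d
  exact Module.Flat.of_linearEquiv (LinearEquiv.ofBijective θ' hθ'bij)

end Final

end SymChart

end Groth.Agent.Lib.Helper69
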