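import Groth.Agent.Lib.Helper16.FlatTensor.TSFlat
import Mathlib.LinearAlgebra.TensorProduct.Vanishing
import Mathlib.RingTheory.Flat.EquationalCriterion

/-!
# Helper library (helper69): symmetric tensors of a flat module and base change

For a flat `R`-module `M`, the sequence `0 → TS^n(M) → T^n(M) → ∏_σ T^n(M)` is universally exact:
for every `R`-module `N`,
* `lTensor_subtype_injective`: `N ⊗ TS^n(M) → N ⊗ T^n(M)` is injective;
* `mem_range_lTensor_subtype`: every element of `N ⊗ T^n(M)` fixed by all `N ⊗ σ` comes from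
  `N ⊗ TS^n(M)`.
Proof: free case by an explicit retraction (`symProj`), general case by the Lazard-type
factorizations of helper16 (`exists_factorization_symmetric`) upgraded to coefficients in `N`
(`exists_factorization_lTensor`) using the equational criterion for vanishing of tensors.
Also `flat_piTensor`: tensor powers of a flat module are flat.
-/

set_option autoImplicit false
set_option linter.unusedSectionVars false
set_option linter.style.haveILetI false

namespace Groth.Agent.Lib.Helper69.TSBC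
open scoped TensorProduct
open Groth.Agent.Lib.Helper16.FlatTensor Groth.Agent.Lib.Helper25.PolLawCoeff
  Groth.Agent.Lib.Helper16.NormLaw
universe u

variable {R : Type u} [CommRing R]

section Basic

variable {M N : Type u} [AddCommGroup M] [Module R M] [AddCommGroup N] [Module R N]

theorem exists_fin_sum (x : N ⊗[R] M) :
    ∃ (l : ℕ) (m : Fin l → N) (t : Fin l → M), x = ∑ i, m i ⊗ₜ[R] t i := by
  induction x with
  | zero => exact ⟨0, Fin.elim0, Fin.elim0, by simp⟩
  | tmul a b => exact ⟨1, fun _ => a, fun _ => b, by simp⟩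
  | add x y hx hy =>
    obtain ⟨l₁, m₁, n₁, rfl⟩ := hx
    obtain ⟨l₂, m₂, n₂, rfl⟩ := hy
    refine ⟨l₁ + l₂, Fin.append m₁ m₂, Fin.append n₁ n₂, ?_⟩
    rw [Fin.sum_univ_add]
    simp [Fin.append_left, Fin.append_right]

/-- tensor powers of a flat module are flat -/
theorem flat_piTensor [Module.Flat R M] (n : ℕ) : Module.Flat R (⨂[R] _ : Fin n, M) := by
  classical
  apply Module.Flat.of_forall_isTrivialRelation
  intro l f x hfx
  obtain ⟨F₀, i1, i2, i3, i4, g, Xs, hXs⟩ :=
    exists_common_source (R := R) (ι := Fin n) l x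
  have hZ : PiTensorProduct.map (fun _ => g) (∑ i, f i • Xs i) = 0 := by
    rw [map_sum]
    simp_rw [map_smul, hXs]
    exact hfx
  obtain ⟨k, a, y, hg, hkill⟩ := exists_factorization_of_map_eq_zero g 1
    (fun _ => ∑ i, f i • Xs i) (fun _ => hZ)
  haveI hfree : Module.Free R (⨂[R] _ : Fin n, (Fin k →₀ R)) :=
    Module.Free.of_basis (Basis.piTensorProduct (fun _ : Fin n => Finsupp.basisSingleOne))
  haveI hflat : Module.Flat R (⨂[R] _ : Fin n, (Fin k →₀ R)) := inferInstance
  have hrel : ∑ i, f i • PiTensorProduct.map (fun _ => a) (Xs i) = 0 := by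
    have h1 := hkill 0
    rw [map_sum] at h1
    simp_rw [map_smul] at h1
    exact h1
  obtain ⟨k', a', Y, hY, ha'⟩ :=
    Module.Flat.isTrivialRelation_of_sum_smul_eq_zero (R := R)
      (M := ⨂[R] _ : Fin n, (Fin k →₀ R)) (f := f)
      (x := fun i => PiTensorProduct.map (fun _ => a) (Xs i)) hrel
  refine ⟨k', a', fun j => PiTensorProduct.map (fun _ => y) (Y j), fun i => ?_, ha'⟩
  have h1 : x i = PiTensorProduct.map (fun _ => y) (PiTensorProduct.map (fun _ => a) (Xs i)) := by
    rw [← LinearMap.comp_apply, ← PiTensorProduct.map_comp, ← hg]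
    exact (hXs i).symm
  have h2 : PiTensorProduct.map (fun _ => a) (Xs i) = ∑ j, a' i j • Y j := hY i
  rw [h1, h2, map_sum]
  refine Finset.sum_congr rfl fun j _ => ?_
  rw [map_smul]

end Basic

section Free

variable {F N : Type u} [AddCommGroup F] [Module R F] [AddCommGroup N] [Module R N] {n : ℕ}
  {J : Type*} [Fintype J] (bas : Module.Basis J R F)

/-- projection onto symmetric tensors of a free module: make the coordinates constant on the
orbits, with value the coordinate at the chosen representative. -/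
noncomputable def symProj : (⨂[R] _ : Fin n, F) →ₗ[R] (⨂[R] _ : Fin n, F) :=
  (Basis.piTensorProduct (fun _ : Fin n => bas)).equivFun.symm.toLinearMap ∘ₗ
    LinearMap.funLeft R R (rep (n := n) (J := J)) ∘ₗ
      (Basis.piTensorProduct (fun _ : Fin n => bas)).equivFun.toLinearMap

theorem repr_symProj (t : ⨂[R] _ : Fin n, F) (c : Fin n → J) :
    (Basis.piTensorProduct (fun _ : Fin n => bas)).repr (symProj bas t) c =
      (Basis.piTensorProduct (fun _ : Fin n => bas)).repr t (rep c) := by
  set bT := Basis.piTensorProduct (fun _ : Fin n => bas) with hbT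
  have h := congrFun (LinearEquiv.apply_symm_apply bT.equivFun
    (LinearMap.funLeft R R (rep (n := n) (J := J)) (bT.equivFun t))) c
  exact h

theorem symProj_mem (t : ⨂[R] _ : Fin n, F) : symProj bas t ∈ TSsub R F n := by
  rw [mem_TSsub]
  intro σ
  apply (Basis.piTensorProduct (fun _ : Fin n => bas)).repr.injective
  ext c
  rw [repr_reindex_module bas σ, repr_symProj, repr_symProj,
    rep_congr (ftype_comp_perm c σ)]

theorem repr_rep_of_mem {t : ⨂[R] _ : Fin n, F} (ht : t ∈ TSsub R F n) (c : Fin n → J) :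
    (Basis.piTensorProduct (fun _ : Fin n => bas)).repr t (rep c) =
      (Basis.piTensorProduct (fun _ : Fin n => bas)).repr t c := by
  obtain ⟨σ, hσ⟩ := exists_perm_of_ftype_eq c (rep c) (ftype_rep c).symm
  have h1 := repr_reindex_module bas σ t (rep c)
  rw [(mem_TSsub t).1 ht σ, hσ] at h1
  exact h1

theorem symProj_of_mem {t : ⨂[R] _ : Fin n, F} (ht : t ∈ TSsub R F n) : symProj bas t = t := by
  apply (Basis.piTensorProduct (fun _ : Fin n => bas)).repr.injective
  ext c
  rw [repr_symProj, repr_rep_of_mem bas ht]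

/-- the retraction onto symmetric tensors -/
noncomputable def symRetr : (⨂[R] _ : Fin n, F) →ₗ[R] TSsub R F n :=
  (symProj bas).codRestrict _ (symProj_mem bas)

theorem subtype_comp_symRetr :
    (TSsub R F n).subtype ∘ₗ symRetr (n := n) bas = symProj bas := by
  ext t
  rfl

theorem symRetr_comp_subtype :
    symRetr (n := n) bas ∘ₗ (TSsub R F n).subtype = LinearMap.id := by
  apply LinearMap.ext
  intro t
  apply Subtype.ext
  exact symProj_of_mem bas t.2

include bas in
/-- free case, injectivity -/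
theorem lTensor_subtype_injective_of_basis :
    Function.Injective ((TSsub R F n).subtype.lTensor N) := by
  have h : (symRetr (n := n) bas).lTensor N ∘ₗ (TSsub R F n).subtype.lTensor N = LinearMap.id := by
    rw [← LinearMap.lTensor_comp, symRetr_comp_subtype, LinearMap.lTensor_id]
  intro a b hab
  have := congrArg ((symRetr (n := n) bas).lTensor N) hab
  rw [← LinearMap.comp_apply, ← LinearMap.comp_apply, h] at this
  exact this

theorem coord_comp_symProj (c : Fin n → J) :
    (Basis.piTensorProduct (fun _ : Fin n => bas)).coord c ∘ₗ symProj bas =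
      (Basis.piTensorProduct (fun _ : Fin n => bas)).coord (rep c) := by
  ext t
  exact repr_symProj bas _ c

theorem coord_comp_reindex (c : Fin n → J) (σ : Equiv.Perm (Fin n)) :
    (Basis.piTensorProduct (fun _ : Fin n => bas)).coord c ∘ₗ
      (PiTensorProduct.reindex R (fun _ : Fin n => F) σ).toLinearMap =
      (Basis.piTensorProduct (fun _ : Fin n => bas)).coord (c ∘ σ) := by
  apply LinearMap.ext
  intro t
  exact repr_reindex_module bas σ t c

/-- decomposition of the identity along a basis -/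
theorem sum_single_comp_coord {ι P : Type*} [Fintype ι] [AddCommGroup P] [Module R P]
    (b : Module.Basis ι R P) :
    ∑ c, (LinearMap.toSpanSingleton R P (b c)) ∘ₗ b.coord c = LinearMap.id := by
  apply LinearMap.ext
  intro t
  rw [LinearMap.sum_apply]
  simp only [LinearMap.comp_apply, LinearMap.toSpanSingleton_apply, Module.Basis.coord_apply,
    LinearMap.id_apply]
  exact b.sum_repr t

/-- free case: an invariant element of `N ⊗ T(F)` is fixed by `N ⊗ symProj`. -/
theorem lTensor_symProj_of_invariant (z : N ⊗[R] (⨂[R] _ : Fin n, F))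
    (hz : ∀ σ : Equiv.Perm (Fin n),
      (PiTensorProduct.reindex R (fun _ : Fin n => F) σ).toLinearMap.lTensor N z = z) :
    (symProj bas).lTensor N z = z := by
  set bT := Basis.piTensorProduct (fun _ : Fin n => bas) with hbT
  have h1 : symProj bas = ∑ c, (LinearMap.toSpanSingleton R _ (bT c)) ∘ₗ bT.coord c ∘ₗ symProj bas := by
    apply LinearMap.ext
    intro t
    rw [LinearMap.sum_apply]
    simp only [LinearMap.comp_apply, LinearMap.toSpanSingleton_apply, Module.Basis.coord_apply]
    exact (bT.sum_repr (symProj bas t)).symm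
  have h2 : ∀ c : Fin n → J, ∃ τ : Equiv.Perm (Fin n), bT.coord c ∘ₗ symProj bas =
      bT.coord c ∘ₗ (PiTensorProduct.reindex R (fun _ : Fin n => F) τ).toLinearMap := by
    intro c
    obtain ⟨σ, hσ⟩ := exists_perm_of_ftype_eq c (rep c) (ftype_rep c).symm
    refine ⟨σ⁻¹, ?_⟩
    rw [coord_comp_symProj, coord_comp_reindex]
    congr 1
    funext i
    have := congrFun hσ (σ⁻¹ i)
    simpa using this
  have h3 : ∀ c : Fin n → J,
      ((LinearMap.toSpanSingleton R _ (bT c)) ∘ₗ bT.coord c ∘ₗ symProj bas).lTensor N z =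
        ((LinearMap.toSpanSingleton R _ (bT c)) ∘ₗ bT.coord c).lTensor N z := by
    intro c
    obtain ⟨τ, hτ⟩ := h2 c
    rw [hτ, ← LinearMap.comp_assoc, LinearMap.lTensor_comp, LinearMap.comp_apply, hz τ]
  have h4 : (symProj bas).lTensor N z =
      ∑ c, ((LinearMap.toSpanSingleton R _ (bT c)) ∘ₗ bT.coord c ∘ₗ symProj bas).lTensor N z := by
    conv_lhs => rw [h1]
    rw [← LinearMap.coe_lTensorHom, map_sum, LinearMap.sum_apply]
  rw [h4]
  simp_rw [h3]
  rw [← LinearMap.sum_apply]
  have h5 : ∑ c, ((LinearMap.toSpanSingleton R _ (bT c)) ∘ₗ bT.coord c).lTensor N =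
      (LinearMap.id : _ →ₗ[R] _).lTensor N := by
    rw [← sum_single_comp_coord bT, ← LinearMap.coe_lTensorHom, map_sum]
  rw [h5, LinearMap.lTensor_id, LinearMap.id_apply]

include bas in
/-- free case, invariants -/
theorem mem_range_lTensor_subtype_of_basis (z : N ⊗[R] (⨂[R] _ : Fin n, F))
    (hz : ∀ σ : Equiv.Perm (Fin n),
      (PiTensorProduct.reindex R (fun _ : Fin n => F) σ).toLinearMap.lTensor N z = z) :
    z ∈ LinearMap.range ((TSsub R F n).subtype.lTensor N) := by
  refine ⟨(symRetr (n := n) bas).lTensor N z, ?_⟩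
  rw [← LinearMap.comp_apply, ← LinearMap.lTensor_comp, subtype_comp_symRetr]
  exact lTensor_symProj_of_invariant bas z hz

end Free

section Flat

variable {M N : Type u} [AddCommGroup M] [Module R M] [AddCommGroup N] [Module R N] {n : ℕ}

theorem lTensor_map_map {F F' F'' : Type u} [AddCommGroup F] [Module R F] [AddCommGroup F']
    [Module R F'] [AddCommGroup F''] [Module R F''] (a : F →ₗ[R] F') (y : F' →ₗ[R] F'')
    (z : N ⊗[R] (⨂[R] _ : Fin n, F)) :
    (PiTensorProduct.map (fun _ : Fin n => y)).lTensor N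
      ((PiTensorProduct.map (fun _ : Fin n => a)).lTensor N z) =
      (PiTensorProduct.map (fun _ : Fin n => y ∘ₗ a)).lTensor N z := by
  rw [← LinearMap.comp_apply, ← LinearMap.lTensor_comp, ← PiTensorProduct.map_comp]

theorem lTensor_map_reindex {F F' : Type u} [AddCommGroup F] [Module R F] [AddCommGroup F']
    [Module R F'] (a : F →ₗ[R] F') (σ : Equiv.Perm (Fin n))
    (z : N ⊗[R] (⨂[R] _ : Fin n, F)) :
    (PiTensorProduct.map (fun _ : Fin n => a)).lTensor N
      ((PiTensorProduct.reindex R (fun _ : Fin n => F) σ).toLinearMap.lTensor N z) =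
      (PiTensorProduct.reindex R (fun _ : Fin n => F') σ).toLinearMap.lTensor N
        ((PiTensorProduct.map (fun _ : Fin n => a)).lTensor N z) := by
  rw [← LinearMap.comp_apply, ← LinearMap.comp_apply, ← LinearMap.lTensor_comp,
    ← LinearMap.lTensor_comp]
  congr 2
  apply LinearMap.ext
  intro x
  exact map_reindex_const a σ x

/-- factorization killing one element of `N ⊗ T(F)` and keeping finitely many tensors
symmetric. -/
theorem exists_factorization_lTensor [Module.Flat R M] {F : Type u} [AddCommGroup F] [Module R F]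
    [Module.Free R F] [Module.Finite R F] (g : F →ₗ[R] M)
    (W : N ⊗[R] (⨂[R] _ : Fin n, F))
    (hW : (PiTensorProduct.map (fun _ : Fin n => g)).lTensor N W = 0)
    (r : ℕ) (Xs : Fin r → ⨂[R] _ : Fin n, F)
    (hX : ∀ j (σ : Equiv.Perm (Fin n)), PiTensorProduct.reindex R (fun _ : Fin n => M) σ
      (PiTensorProduct.map (fun _ => g) (Xs j)) = PiTensorProduct.map (fun _ => g) (Xs j)) :
    ∃ (k : ℕ) (a : F →ₗ[R] (Fin k →₀ R)) (y : (Fin k →₀ R) →ₗ[R] M), g = y ∘ₗ a ∧
      (PiTensorProduct.map (fun _ : Fin n => a)).lTensor N W = 0 ∧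
      ∀ j (σ : Equiv.Perm (Fin n)), PiTensorProduct.reindex R (fun _ : Fin n => Fin k →₀ R) σ
        (PiTensorProduct.map (fun _ => a) (Xs j)) = PiTensorProduct.map (fun _ => a) (Xs j) := by
  classical
  obtain ⟨l, m, t, rfl⟩ := exists_fin_sum W
  have hW' : ∑ i, m i ⊗ₜ[R] PiTensorProduct.map (fun _ : Fin n => g) (t i) = 0 := by
    rw [map_sum] at hW
    simpa only [LinearMap.lTensor_tmul] using hW
  haveI := flat_piTensor (R := R) (M := M) n
  have hv : TensorProduct.VanishesTrivially R m
      (fun i => PiTensorProduct.map (fun _ : Fin n => g) (t i)) := by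
    apply TensorProduct.vanishesTrivially_of_sum_tmul_eq_zero_of_rTensor_injective
    · exact Module.Flat.rTensor_preserves_injective_linearMap _ (Submodule.injective_subtype _)
    · exact hW'
  obtain ⟨k', a', y', hy'₀, ha'⟩ := hv
  have hy' : ∀ i, PiTensorProduct.map (fun _ : Fin n => g) (t i) = ∑ j, a' i j • y' j := hy'₀
  obtain ⟨F₁, j1, j2, j3, j4, g₁, Ys, hYs⟩ :=
    exists_common_source (R := R) (ι := Fin n) k' y'
  have hinl : (g.coprod g₁) ∘ₗ LinearMap.inl R F F₁ = g := LinearMap.coprod_inl g g₁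
  have hinr : (g.coprod g₁) ∘ₗ LinearMap.inr R F F₁ = g₁ := LinearMap.coprod_inr g g₁
  have hmapinl : ∀ x : ⨂[R] _ : Fin n, F, PiTensorProduct.map (fun _ => g.coprod g₁)
      (PiTensorProduct.map (fun _ => LinearMap.inl R F F₁) x) =
        PiTensorProduct.map (fun _ => g) x := by
    intro x
    rw [← LinearMap.comp_apply, ← PiTensorProduct.map_comp]
    simp only [hinl]
  have hmapinr : ∀ x : ⨂[R] _ : Fin n, F₁, PiTensorProduct.map (fun _ => g.coprod g₁)
      (PiTensorProduct.map (fun _ => LinearMap.inr R F F₁) x) =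
        PiTensorProduct.map (fun _ => g₁) x := by
    intro x
    rw [← LinearMap.comp_apply, ← PiTensorProduct.map_comp]
    simp only [hinr]
  let E : Fin l → ⨂[R] _ : Fin n, (F × F₁) := fun i =>
    PiTensorProduct.map (fun _ => LinearMap.inl R F F₁) (t i) -
      ∑ j, a' i j • PiTensorProduct.map (fun _ => LinearMap.inr R F F₁) (Ys j)
  have hE : ∀ i, PiTensorProduct.map (fun _ => g.coprod g₁) (E i) = 0 := by
    intro i
    show PiTensorProduct.map (fun _ => g.coprod g₁)
      (PiTensorProduct.map (fun _ => LinearMap.inl R F F₁) (t i) -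
        ∑ j, a' i j • PiTensorProduct.map (fun _ => LinearMap.inr R F F₁) (Ys j)) = 0
    rw [map_sub, map_sum, hmapinl]
    simp_rw [map_smul, hmapinr, hYs]
    rw [hy' i, sub_self]
  obtain ⟨k, a₂, y, hg₂, hsym, hkill⟩ := exists_factorization_symmetric (g.coprod g₁) r l
    (fun j => PiTensorProduct.map (fun _ => LinearMap.inl R F F₁) (Xs j)) E
    (fun j σ => by rw [hmapinl]; exact hX j σ) hE
  have hmapa : ∀ x : ⨂[R] _ : Fin n, F,
      PiTensorProduct.map (fun _ => a₂ ∘ₗ LinearMap.inl R F F₁) x =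
        PiTensorProduct.map (fun _ => a₂) (PiTensorProduct.map (fun _ => LinearMap.inl R F F₁) x) := by
    intro x
    rw [← LinearMap.comp_apply, ← PiTensorProduct.map_comp]
  refine ⟨k, a₂ ∘ₗ LinearMap.inl R F F₁, y, ?_, ?_, ?_⟩
  · rw [← LinearMap.comp_assoc, ← hg₂, hinl]
  · rw [map_sum]
    simp only [LinearMap.lTensor_tmul]
    refine TensorProduct.sum_tmul_eq_zero_of_vanishesTrivially R (M := N)
      (N := ⨂[R] _ : Fin n, (Fin k →₀ R)) (m := m)
      (n := fun i => PiTensorProduct.map (fun _ => a₂ ∘ₗ LinearMap.inl R F F₁) (t i))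
      ⟨k', a', fun j => PiTensorProduct.map (fun _ => a₂)
      (PiTensorProduct.map (fun _ => LinearMap.inr R F F₁) (Ys j)), fun i => ?_, ha'⟩
    have h1 := hkill i
    change PiTensorProduct.map (fun _ => a₂)
      (PiTensorProduct.map (fun _ => LinearMap.inl R F F₁) (t i) -
        ∑ j, a' i j • PiTensorProduct.map (fun _ => LinearMap.inr R F F₁) (Ys j)) = 0 at h1
    rw [map_sub, map_sum, sub_eq_zero] at h1
    simp_rw [map_smul] at h1
    show PiTensorProduct.map (fun _ => a₂ ∘ₗ LinearMap.inl R F F₁) (t i) = _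
    rw [hmapa]
    exact h1
  · intro j σ
    rw [hmapa]
    exact hsym j σ

/-- factorization killing finitely many elements of `N ⊗ T(F)`. -/
theorem exists_factorization_lTensor_multi [Module.Flat R M] (p : ℕ) :
    ∀ {F : Type u} [AddCommGroup F] [Module R F] [Module.Free R F] [Module.Finite R F]
    (g : F →ₗ[R] M) (Ws : Fin p → N ⊗[R] (⨂[R] _ : Fin n, F))
    (_ : ∀ i, (PiTensorProduct.map (fun _ : Fin n => g)).lTensor N (Ws i) = 0),
    ∃ (k : ℕ) (a : F →ₗ[R] (Fin k →₀ R)) (y : (Fin k →₀ R) →ₗ[R] M), g = y ∘ₗ a ∧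
      ∀ i, (PiTensorProduct.map (fun _ : Fin n => a)).lTensor N (Ws i) = 0 := by
  induction p with
  | zero =>
    intro F _ _ _ _ g Ws hW
    obtain ⟨k, a, y, hg, -, -⟩ := exists_factorization_lTensor (N := N) (n := n) g 0
      (by simp) 0 Fin.elim0 (fun j => j.elim0)
    exact ⟨k, a, y, hg, fun i => i.elim0⟩
  | succ p ih =>
    intro F _ _ _ _ g Ws hW
    obtain ⟨k₁, a₁, y₁, hg₁, hk₁, -⟩ := exists_factorization_lTensor g (Ws 0) (hW 0) 0
      Fin.elim0 (fun j => j.elim0)
    obtain ⟨k, a, y, hg, hk⟩ := ih y₁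
      (fun i => (PiTensorProduct.map (fun _ : Fin n => a₁)).lTensor N (Ws i.succ))
      (fun i => by rw [lTensor_map_map, ← hg₁]; exact hW i.succ)
    refine ⟨k, a ∘ₗ a₁, y, by rw [← LinearMap.comp_assoc, ← hg, hg₁], fun i => ?_⟩
    rw [← lTensor_map_map]
    refine Fin.cases ?_ (fun i => ?_) i
    · rw [hk₁, map_zero]
    · exact hk i

/-- the restriction of `map y` to symmetric tensors -/
noncomputable def TSmap {F : Type u} [AddCommGroup F] [Module R F] (y : F →ₗ[R] M) (n : ℕ) :
    TSsub R F n →ₗ[R] TSsub R M n :=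
  ((PiTensorProduct.map (fun _ : Fin n => y)) ∘ₗ (TSsub R F n).subtype).codRestrict _ (fun t => by
    rw [mem_TSsub]
    intro σ
    show PiTensorProduct.reindex R (fun _ : Fin n => M) σ
      (PiTensorProduct.map (fun _ : Fin n => y) t.1) = PiTensorProduct.map (fun _ : Fin n => y) t.1
    rw [← map_reindex_const, (mem_TSsub _).1 t.2 σ])

theorem subtype_comp_TSmap {F : Type u} [AddCommGroup F] [Module R F] (y : F →ₗ[R] M) :
    (TSsub R M n).subtype ∘ₗ TSmap y n =
      (PiTensorProduct.map (fun _ : Fin n => y)) ∘ₗ (TSsub R F n).subtype := by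
  ext t
  rfl

/-- **Injectivity.** For a flat module `M`, `N ⊗ TS(M) → N ⊗ T(M)` is injective for every `N`. -/
theorem lTensor_subtype_injective [Module.Flat R M] :
    Function.Injective ((TSsub R M n).subtype.lTensor N) := by
  classical
  rw [injective_iff_map_eq_zero]
  intro w hw
  obtain ⟨l, m, s, rfl⟩ := exists_fin_sum w
  obtain ⟨F₀, i1, i2, i3, i4, g, Xs, hXs⟩ :=
    exists_common_source (R := R) (ι := Fin n) l (fun i => (s i).1)
  have hW : (PiTensorProduct.map (fun _ : Fin n => g)).lTensor N (∑ i, m i ⊗ₜ[R] Xs i) = 0 := by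
    rw [map_sum]
    simp only [LinearMap.lTensor_tmul, hXs]
    rw [map_sum] at hw
    simpa only [LinearMap.lTensor_tmul, Submodule.subtype_apply] using hw
  obtain ⟨k, a, y, hg, hkill, hsym⟩ := exists_factorization_lTensor (N := N) g _ hW l Xs
    (fun j σ => by rw [hXs j]; exact (mem_TSsub _).1 (s j).2 σ)
  let X' : Fin l → TSsub R (Fin k →₀ R) n := fun i =>
    ⟨PiTensorProduct.map (fun _ => a) (Xs i), (mem_TSsub _).2 (hsym i)⟩
  have h1 : ∑ i, m i ⊗ₜ[R] X' i = 0 := by
    apply lTensor_subtype_injective_of_basis (N := N) (n := n)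
      (Finsupp.basisSingleOne (R := R) (ι := Fin k))
    rw [map_sum, map_zero]
    simp only [LinearMap.lTensor_tmul]
    rw [map_sum] at hkill
    simp only [LinearMap.lTensor_tmul] at hkill
    exact hkill
  have h2 : ∀ i, TSmap y n (X' i) = s i := by
    intro i
    apply Subtype.ext
    show PiTensorProduct.map (fun _ => y) (PiTensorProduct.map (fun _ => a) (Xs i)) = (s i).1
    rw [← LinearMap.comp_apply, ← PiTensorProduct.map_comp, ← hg]
    exact hXs i
  have h3 := congrArg ((TSmap y n).lTensor N) h1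
  rw [map_sum, map_zero] at h3
  simp only [LinearMap.lTensor_tmul, h2] at h3
  exact h3

/-- **Invariants.** For a flat module `M`, the invariants of `N ⊗ T(M)` are the image of
`N ⊗ TS(M)`, for every `N`. -/
theorem mem_range_lTensor_subtype [Module.Flat R M] (z : N ⊗[R] (⨂[R] _ : Fin n, M))
    (hz : ∀ σ : Equiv.Perm (Fin n),
      (PiTensorProduct.reindex R (fun _ : Fin n => M) σ).toLinearMap.lTensor N z = z) :
    z ∈ LinearMap.range ((TSsub R M n).subtype.lTensor N) := by
  classical
  obtain ⟨l, m, t, rfl⟩ := exists_fin_sum z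
  obtain ⟨F₀, i1, i2, i3, i4, g, Xs, hXs⟩ := exists_common_source (R := R) (ι := Fin n) l t
  have hZ₀z : (PiTensorProduct.map (fun _ : Fin n => g)).lTensor N (∑ i, m i ⊗ₜ[R] Xs i) =
      ∑ i, m i ⊗ₜ[R] t i := by
    rw [map_sum]
    simp only [LinearMap.lTensor_tmul, hXs]
  let e := Fintype.equivFin (Equiv.Perm (Fin n))
  obtain ⟨k, a, y, hg, hkill⟩ := exists_factorization_lTensor_multi (N := N) (n := n)
    (Fintype.card (Equiv.Perm (Fin n))) g
    (fun i => (PiTensorProduct.reindex R (fun _ : Fin n => F₀) (e.symm i)).toLinearMap.lTensor N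
      (∑ i, m i ⊗ₜ[R] Xs i) - ∑ i, m i ⊗ₜ[R] Xs i) (fun i => by
      rw [map_sub, lTensor_map_reindex, hZ₀z, hz, sub_self])
  have hZ₁inv : ∀ σ : Equiv.Perm (Fin n),
      (PiTensorProduct.reindex R (fun _ : Fin n => Fin k →₀ R) σ).toLinearMap.lTensor N
        ((PiTensorProduct.map (fun _ : Fin n => a)).lTensor N (∑ i, m i ⊗ₜ[R] Xs i)) =
        (PiTensorProduct.map (fun _ : Fin n => a)).lTensor N (∑ i, m i ⊗ₜ[R] Xs i) := by
    intro σ
    have h1 := hkill (e σ)
    rw [Equiv.symm_apply_apply, map_sub, lTensor_map_reindex, sub_eq_zero] at h1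
    exact h1
  obtain ⟨Z₁', hZ₁'⟩ := mem_range_lTensor_subtype_of_basis
    (Finsupp.basisSingleOne (R := R) (ι := Fin k)) _ hZ₁inv
  refine ⟨(TSmap y n).lTensor N Z₁', ?_⟩
  rw [← LinearMap.comp_apply, ← LinearMap.lTensor_comp, subtype_comp_TSmap, LinearMap.lTensor_comp,
    LinearMap.comp_apply, hZ₁', lTensor_map_map, ← hg, hZ₀z]

end Flat

end Groth.Agent.Lib.Helper69.TSBC
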