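import Groth.Prelude.Def_SymTen
import Mathlib.Algebra.Colimit.Module
import Mathlib.Data.Fintype.Order

/-!
# Helper library (helper69): tensor powers commute with filtered direct limits

For a directed system of `A`-algebras `(B_i, t_ij)` with colimit `B` (given elementwise), the
comparison map from the direct limit of the tensor powers `⨂[A] (Fin d), B_i` to `⨂[A] (Fin d), B`
is bijective: `exists_tmap_eq` and `exists_tmap_eq_zero`.
-/

set_option autoImplicit false
universe u
open scoped TensorProduct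
open PiTensorProduct

namespace Groth.Agent.Lib.Helper69

namespace TSLim

section Functor

variable (A : Type u) [CommRing A] {B C D : Type u} [CommRing B] [Algebra A B] [CommRing C]
  [Algebra A C] [CommRing D] [Algebra A D] (d : ℕ)

theorem tmap_comp_apply (g : C →ₐ[A] D) (f : B →ₐ[A] C) (x : ⨂[A] _ : Fin d, B) :
    SymTen.tmap A d (g.comp f) x = SymTen.tmap A d g (SymTen.tmap A d f x) := by
  induction x using PiTensorProduct.induction_on with
  | smul_tprod r f => simp
  | add x y hx hy => simp [hx, hy]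

theorem tmap_id_apply (x : ⨂[A] _ : Fin d, B) :
    SymTen.tmap A d (AlgHom.id A B) x = x := by
  induction x using PiTensorProduct.induction_on with
  | smul_tprod r f => simp
  | add x y hx hy => simp [hx, hy]

end Functor

section Lim

variable {A : Type u} [CommRing A] {B : Type u} [CommRing B] [Algebra A B]
    {ι : Type u} [Preorder ι] [IsDirected ι (fun i j => i ≤ j)] [Nonempty ι]
    (Bi : ι → Type u) [∀ i, CommRing (Bi i)] [∀ i, Algebra A (Bi i)]
    (t : ∀ i j : ι, i ≤ j → (Bi i →ₐ[A] Bi j)) (φ : ∀ i : ι, Bi i →ₐ[A] B)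
    (hcomp : ∀ (i j : ι) (h : i ≤ j), (φ j).comp (t i j h) = φ i)
    (hsurj : ∀ b : B, ∃ (i : ι) (x : Bi i), φ i x = b)
    (hzero : ∀ (i : ι) (x : Bi i), φ i x = 0 → ∃ (j : ι) (h : i ≤ j), t i j h x = 0)
    (hid : ∀ (i : ι) (h : i ≤ i), t i i h = AlgHom.id A (Bi i))
    (htrans : ∀ (i j k : ι) (hij : i ≤ j) (hjk : j ≤ k),
      (t j k hjk).comp (t i j hij) = t i k (hij.trans hjk)) (d : ℕ)

omit [IsDirected ι fun i j => i ≤ j] [Nonempty ι] in
include hcomp in
theorem φ_t (i j : ι) (h : i ≤ j) (x : Bi i) : φ j (t i j h x) = φ i x := by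
  rw [← hcomp i j h]; rfl

omit [IsDirected ι fun i j => i ≤ j] [Nonempty ι] in
include htrans in
theorem t_t (i j k : ι) (hij : i ≤ j) (hjk : j ≤ k) (x : Bi i) :
    t j k hjk (t i j hij x) = t i k (hij.trans hjk) x := by
  rw [← htrans i j k hij hjk]; rfl

include hcomp hsurj in
theorem exists_lift_fun (b : Fin d → B) : ∃ (i : ι) (x : Fin d → Bi i), ∀ c, φ i (x c) = b c := by
  choose ic xc hc using fun c => hsurj (b c)
  obtain ⟨k, hk⟩ := Finite.exists_le ic
  exact ⟨k, fun c => t (ic c) k (hk c) (xc c), fun c => by rw [φ_t Bi t φ hcomp, hc]⟩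

include hcomp hzero htrans in
theorem exists_eq_of_φ_eq {i i' : ι} (x : Fin d → Bi i) (x' : Fin d → Bi i')
    (h : ∀ c, φ i (x c) = φ i' (x' c)) :
    ∃ (j : ι) (hi : i ≤ j) (hi' : i' ≤ j), ∀ c, t i j hi (x c) = t i' j hi' (x' c) := by
  obtain ⟨k, hik, hi'k⟩ := directed_of (fun i j : ι => i ≤ j) i i'
  have h0 : ∀ c, φ k (t i k hik (x c) - t i' k hi'k (x' c)) = 0 := by
    intro c
    rw [map_sub, φ_t Bi t φ hcomp, φ_t Bi t φ hcomp, h c, sub_self]
  choose jc hjc hjc0 using fun c => hzero k _ (h0 c)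
  obtain ⟨J₀, hJ₀⟩ := Finite.exists_le jc
  obtain ⟨J, hJ₀J, hkJ⟩ := directed_of (fun i j : ι => i ≤ j) J₀ k
  refine ⟨J, hik.trans hkJ, hi'k.trans hkJ, fun c => ?_⟩
  have h1 : t k J hkJ (t i k hik (x c) - t i' k hi'k (x' c)) = 0 := by
    rw [← t_t Bi t htrans k (jc c) J (hjc c) ((hJ₀ c).trans hJ₀J), hjc0 c, map_zero]
  rw [map_sub, t_t Bi t htrans, t_t Bi t htrans, sub_eq_zero] at h1
  exact h1

variable [DecidableEq ι]

/-- the transition maps of the system of tensor powers -/
noncomputable def tf (i j : ι) (h : i ≤ j) :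
    (⨂[A] _ : Fin d, Bi i) →ₗ[A] (⨂[A] _ : Fin d, Bi j) :=
  (SymTen.tmap A d (t i j h)).toLinearMap

/-- the direct limit of the tensor powers -/
abbrev DL : Type u := Module.DirectLimit (fun i => ⨂[A] _ : Fin d, Bi i) (tf Bi t d)

/-- inclusion into the direct limit -/
noncomputable abbrev ofDL (i : ι) : (⨂[A] _ : Fin d, Bi i) →ₗ[A] DL Bi t d :=
  Module.DirectLimit.of A ι (fun i => ⨂[A] _ : Fin d, Bi i) (tf Bi t d) i

include hcomp hzero htrans in
theorem of_tprod_eq {i i' : ι} (x : Fin d → Bi i) (x' : Fin d → Bi i')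
    (h : ∀ c, φ i (x c) = φ i' (x' c)) :
    ofDL Bi t d i (tprod A x) = ofDL Bi t d i' (tprod A x') := by
  obtain ⟨j, hi, hi', hj⟩ := exists_eq_of_φ_eq Bi t φ hcomp hzero htrans d x x' h
  have h1 : ofDL Bi t d i (tprod A x) = ofDL Bi t d j (tprod A (fun c => t i j hi (x c))) := by
    rw [← Module.DirectLimit.of_f (f := tf Bi t d) (hij := hi)]
    simp [tf]
  have h2 : ofDL Bi t d i' (tprod A x') =
      ofDL Bi t d j (tprod A (fun c => t i' j hi' (x' c))) := by
    rw [← Module.DirectLimit.of_f (f := tf Bi t d) (hij := hi')]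
    simp [tf]
  rw [h1, h2]
  congr 2
  funext c
  exact hj c

/-- the value of the inverse map on a pure tensor (by choice of lifts) -/
noncomputable def mfun (b : Fin d → B) : DL Bi t d :=
  ofDL Bi t d (exists_lift_fun Bi t φ hcomp hsurj d b).choose
    (tprod A (exists_lift_fun Bi t φ hcomp hsurj d b).choose_spec.choose)

include hzero htrans in
theorem mfun_eq (b : Fin d → B) (i : ι) (x : Fin d → Bi i) (hx : ∀ c, φ i (x c) = b c) :
    mfun Bi t φ hcomp hsurj d b = ofDL Bi t d i (tprod A x) :=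
  of_tprod_eq Bi t φ hcomp hzero htrans d _ _ (fun c => by
    rw [(exists_lift_fun Bi t φ hcomp hsurj d b).choose_spec.choose_spec c, hx c])

omit [DecidableEq ι] in
include hcomp hsurj in
/-- common lifts of a tuple and two elements -/
theorem exists_lift_three (b : Fin d → B) (u v : B) :
    ∃ (k : ι) (x : Fin d → Bi k) (u' v' : Bi k), (∀ c, φ k (x c) = b c) ∧ φ k u' = u ∧
      φ k v' = v := by
  obtain ⟨i, x, hx⟩ := exists_lift_fun Bi t φ hcomp hsurj d b
  obtain ⟨i₁, u₁, hu⟩ := hsurj u
  obtain ⟨i₂, v₁, hv⟩ := hsurj v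
  obtain ⟨k₁, h1, h2⟩ := directed_of (fun i j : ι => i ≤ j) i i₁
  obtain ⟨k, h3, h4⟩ := directed_of (fun i j : ι => i ≤ j) k₁ i₂
  refine ⟨k, fun c => t i k (h1.trans h3) (x c), t i₁ k (h2.trans h3) u₁, t i₂ k h4 v₁,
    fun c => ?_, ?_, ?_⟩
  · rw [φ_t Bi t φ hcomp, hx]
  · rw [φ_t Bi t φ hcomp, hu]
  · rw [φ_t Bi t φ hcomp, hv]

/-- the multilinear map inverse to the comparison map -/
noncomputable def mlin (hzero : ∀ (i : ι) (x : Bi i), φ i x = 0 → ∃ (j : ι) (h : i ≤ j), t i j h x = 0)
    (htrans : ∀ (i j k : ι) (hij : i ≤ j) (hjk : j ≤ k),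
      (t j k hjk).comp (t i j hij) = t i k (hij.trans hjk)) :
    MultilinearMap A (fun _ : Fin d => B) (DL Bi t d) where
  toFun := mfun Bi t φ hcomp hsurj d
  map_update_add' := by
    intro _ b c u v
    obtain ⟨k, x, u', v', hx, hu, hv⟩ := exists_lift_three Bi t φ hcomp hsurj d b u v
    have key : ∀ w : Bi k, ∀ c', φ k (Function.update x c w c') =
        Function.update b c (φ k w) c' := by
      intro w c'
      rw [Function.apply_update (fun _ => φ k) x c w c']
      congr 1
      funext c''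
      exact hx c''
    rw [mfun_eq Bi t φ hcomp hsurj hzero htrans d _ k (Function.update x c (u' + v'))
        (fun c' => by rw [key, map_add, hu, hv]),
      mfun_eq Bi t φ hcomp hsurj hzero htrans d _ k (Function.update x c u')
        (fun c' => by rw [key, hu]),
      mfun_eq Bi t φ hcomp hsurj hzero htrans d _ k (Function.update x c v')
        (fun c' => by rw [key, hv]),
      MultilinearMap.map_update_add, map_add]
  map_update_smul' := by
    intro _ b c r u
    obtain ⟨k, x, u', v', hx, hu, hv⟩ := exists_lift_three Bi t φ hcomp hsurj d b u u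
    have key : ∀ w : Bi k, ∀ c', φ k (Function.update x c w c') =
        Function.update b c (φ k w) c' := by
      intro w c'
      rw [Function.apply_update (fun _ => φ k) x c w c']
      congr 1
      funext c''
      exact hx c''
    rw [mfun_eq Bi t φ hcomp hsurj hzero htrans d _ k (Function.update x c (r • u'))
        (fun c' => by rw [key, map_smul, hu]),
      mfun_eq Bi t φ hcomp hsurj hzero htrans d _ k (Function.update x c u')
        (fun c' => by rw [key, hu]),
      MultilinearMap.map_update_smul, map_smul]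

/-- the map from the tensor power of the limit to the limit of the tensor powers -/
noncomputable def Ψ (hzero : ∀ (i : ι) (x : Bi i), φ i x = 0 → ∃ (j : ι) (h : i ≤ j), t i j h x = 0)
    (htrans : ∀ (i j k : ι) (hij : i ≤ j) (hjk : j ≤ k),
      (t j k hjk).comp (t i j hij) = t i k (hij.trans hjk)) :
    (⨂[A] _ : Fin d, B) →ₗ[A] DL Bi t d :=
  PiTensorProduct.lift (mlin Bi t φ hcomp hsurj d hzero htrans)

omit [IsDirected ι fun i j => i ≤ j] [Nonempty ι] [DecidableEq ι] in
include hcomp in
theorem tmap_φ_tf (i j : ι) (h : i ≤ j) (x : ⨂[A] _ : Fin d, Bi i) :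
    SymTen.tmap A d (φ j) (tf Bi t d i j h x) = SymTen.tmap A d (φ i) x := by
  change SymTen.tmap A d (φ j) (SymTen.tmap A d (t i j h) x) = _
  rw [← tmap_comp_apply, hcomp]

/-- the comparison map from the limit of tensor powers to the tensor power of the limit -/
noncomputable def Φ : DL Bi t d →ₗ[A] (⨂[A] _ : Fin d, B) :=
  Module.DirectLimit.lift A ι (fun i => ⨂[A] _ : Fin d, Bi i) (tf Bi t d)
    (fun i => (SymTen.tmap A d (φ i)).toLinearMap) (fun i j h x => tmap_φ_tf Bi t φ hcomp d i j h x)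

theorem Ψ_Φ (z : DL Bi t d) :
    Ψ Bi t φ hcomp hsurj d hzero htrans (Φ Bi t φ hcomp d z) = z := by
  have : (Ψ Bi t φ hcomp hsurj d hzero htrans).comp (Φ Bi t φ hcomp d) = LinearMap.id := by
    apply Module.DirectLimit.hom_ext
    intro i
    apply PiTensorProduct.ext
    apply MultilinearMap.ext
    intro x
    simp only [LinearMap.compMultilinearMap_apply, LinearMap.comp_apply, LinearMap.id_apply]
    change Ψ Bi t φ hcomp hsurj d hzero htrans (Φ Bi t φ hcomp d (ofDL Bi t d i (tprod A x))) = _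
    rw [Φ, Module.DirectLimit.lift_of]
    change Ψ Bi t φ hcomp hsurj d hzero htrans (SymTen.tmap A d (φ i) (tprod A x)) = _
    rw [SymTen.tmap_tprod, Ψ, PiTensorProduct.lift.tprod]
    exact mfun_eq Bi t φ hcomp hsurj hzero htrans d _ i x (fun c => rfl)
  exact LinearMap.congr_fun this z

theorem Φ_Ψ (z : ⨂[A] _ : Fin d, B) :
    Φ Bi t φ hcomp d (Ψ Bi t φ hcomp hsurj d hzero htrans z) = z := by
  have : (Φ Bi t φ hcomp d).comp (Ψ Bi t φ hcomp hsurj d hzero htrans) = LinearMap.id := by
    apply PiTensorProduct.ext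
    apply MultilinearMap.ext
    intro b
    simp only [LinearMap.compMultilinearMap_apply, LinearMap.comp_apply, LinearMap.id_apply]
    rw [Ψ, PiTensorProduct.lift.tprod]
    obtain ⟨i, x, hx⟩ := exists_lift_fun Bi t φ hcomp hsurj d b
    change Φ Bi t φ hcomp d (mfun Bi t φ hcomp hsurj d b) = _
    rw [mfun_eq Bi t φ hcomp hsurj hzero htrans d b i x hx, Φ, Module.DirectLimit.lift_of]
    change SymTen.tmap A d (φ i) (tprod A x) = _
    rw [SymTen.tmap_tprod]
    congr 1
    funext c
    exact hx c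
  exact LinearMap.congr_fun this z

include hcomp hsurj hzero htrans in
/-- every tensor comes from a finite stage -/
theorem exists_tmap_eq (z : ⨂[A] _ : Fin d, B) :
    ∃ (i : ι) (y : ⨂[A] _ : Fin d, Bi i), SymTen.tmap A d (φ i) y = z := by
  obtain ⟨i, y, hy⟩ := Module.DirectLimit.exists_of (Ψ Bi t φ hcomp hsurj d hzero htrans z)
  refine ⟨i, y, ?_⟩
  have := congrArg (Φ Bi t φ hcomp d) hy
  rw [Φ_Ψ, Φ, Module.DirectLimit.lift_of] at this
  exact this

include hcomp hsurj hzero hid htrans in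
/-- a tensor dying in the limit dies at a finite stage -/
theorem exists_tmap_eq_zero (i : ι) (y : ⨂[A] _ : Fin d, Bi i)
    (hy : SymTen.tmap A d (φ i) y = 0) :
    ∃ (j : ι) (h : i ≤ j), SymTen.tmap A d (t i j h) y = 0 := by
  haveI : DirectedSystem (fun i => ⨂[A] _ : Fin d, Bi i) (fun i j h => tf Bi t d i j h) := by
    constructor
    · intro i x
      change SymTen.tmap A d (t i i _) x = x
      rw [hid, tmap_id_apply]
    · intro k j i hij hjk x
      change SymTen.tmap A d (t j k hjk) (SymTen.tmap A d (t i j hij) x) =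
        SymTen.tmap A d (t i k _) x
      rw [← tmap_comp_apply, htrans]
  have h0 : ofDL Bi t d i y = 0 := by
    rw [← Ψ_Φ Bi t φ hcomp hsurj hzero htrans d (ofDL Bi t d i y), Φ, Module.DirectLimit.lift_of]
    change Ψ Bi t φ hcomp hsurj d hzero htrans (SymTen.tmap A d (φ i) y) = 0
    rw [hy, map_zero]
  exact Module.DirectLimit.of.zero_exact h0

end Lim

end TSLim

end Groth.Agent.Lib.Helper69
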