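import Mathlib
import Groth.Prelude.Def_CohB1

/-!
# Morphisms agreeing on all infinitesimal thickenings are equal (helper69)

`A` Noetherian and `I`-adically complete, `f : X ⟶ Spec A` proper, `h : Y ⟶ Spec A` locally of finite
type, `φ ψ : X ⟶ Y` over `Spec A` agreeing on every `X_n = X ×_A Spec (A/I^(n+1))`: then `φ = ψ`.

* `exists_mul_pow_eq_zero` (ring level, Krull intersection): two `A`-compatible ring maps `B → C`
  with `B` of finite type over `A` and `C` Noetherian which agree modulo all powers of `J` agree after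
  inverting some `s ≡ 1 mod J`.
* `exists_open_eq`: `φ` and `ψ` agree on an open neighbourhood of every point lying over `V(I)`
  (only `f`, `h` locally of finite type, `A` Noetherian).
* `main`: the open set where they agree locally contains the fibre over `V(I)`; its closed
  complement has closed image (properness) missing `V(I)`, hence is empty (`I ⊆ rad A`).
-/

set_option autoImplicit false
universe u
open CategoryTheory CategoryTheory.Limits AlgebraicGeometry

namespace Groth.Agent.Lib.Helper69.ThickEq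

/-- Ring-level: two `A`-algebra-compatible ring maps `B → C`, `B` of finite type over `A`, `C` Noetherian,
agreeing modulo all powers of `J`, agree after inverting some `s ≡ 1 mod J`. -/
theorem exists_mul_pow_eq_zero {A B C : Type u} [CommRing A] [CommRing B] [CommRing C]
    [IsNoetherianRing C] (a : A →+* C) (b : A →+* B) (hb : b.FiniteType)
    (α β : B →+* C) (hα : α.comp b = a) (hβ : β.comp b = a) (J : Ideal C)
    (hJ : ∀ (n : ℕ) (x : B), α x - β x ∈ J ^ n) :
    ∃ s : C, s - 1 ∈ J ∧ ∀ x : B, ∃ k : ℕ, s ^ k * (α x - β x) = 0 := by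
  classical
  algebraize [b]
  obtain ⟨T, hT⟩ := (Algebra.FiniteType.out : (⊤ : Subalgebra A B).FG)
  -- Krull for each generator
  have hK : ∀ x : B, ∃ r : C, r ∈ J ∧ (1 - r) * (α x - β x) = 0 := by
    intro x
    have hx : (α x - β x) ∈ (⨅ i : ℕ, J ^ i • ⊤ : Submodule C C) := by
      rw [Submodule.mem_iInf]
      intro i
      have := hJ i x
      simpa using this
    obtain ⟨r, hr⟩ := (J.mem_iInf_smul_pow_eq_bot_iff (α x - β x)).mp hx
    refine ⟨r, r.2, ?_⟩
    rw [sub_mul, one_mul, ← smul_eq_mul, hr, sub_self]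
  choose r hrJ hr using hK
  let s : C := ∏ t ∈ T, (1 - r t)
  have hs1 : s - 1 ∈ J := by
    have : Ideal.Quotient.mk J s = 1 := by
      simp only [s, map_prod, map_sub, map_one]
      apply Finset.prod_eq_one
      intro t _
      rw [Ideal.Quotient.eq_zero_iff_mem.mpr (hrJ t), sub_zero]
    rw [← Ideal.Quotient.eq_zero_iff_mem, map_sub, this, map_one, sub_self]
  refine ⟨s, hs1, ?_⟩
  -- the set of good `x` is a subalgebra containing `T`
  let G : Subalgebra A B :=
    { carrier := {x | ∃ k : ℕ, s ^ k * (α x - β x) = 0}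
      mul_mem' := by
        rintro x y ⟨k, hk⟩ ⟨l, hl⟩
        refine ⟨k + l, ?_⟩
        have : α (x * y) - β (x * y) = α x * (α y - β y) + (α x - β x) * β y := by
          rw [map_mul, map_mul]; ring
        rw [this, mul_add, pow_add]
        have h1 : s ^ k * s ^ l * (α x * (α y - β y)) = s ^ k * α x * (s ^ l * (α y - β y)) := by ring
        have h2 : s ^ k * s ^ l * ((α x - β x) * β y) = s ^ l * β y * (s ^ k * (α x - β x)) := by ring
        rw [h1, h2, hk, hl, mul_zero, mul_zero, add_zero]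
      add_mem' := by
        rintro x y ⟨k, hk⟩ ⟨l, hl⟩
        refine ⟨k + l, ?_⟩
        have : α (x + y) - β (x + y) = (α x - β x) + (α y - β y) := by
          rw [map_add, map_add]; ring
        rw [this, mul_add, pow_add]
        have h1 : s ^ k * s ^ l * (α x - β x) = s ^ l * (s ^ k * (α x - β x)) := by ring
        have h2 : s ^ k * s ^ l * (α y - β y) = s ^ k * (s ^ l * (α y - β y)) := by ring
        rw [h1, h2, hk, hl, mul_zero, mul_zero, add_zero]
      algebraMap_mem' := by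
        intro c
        refine ⟨0, ?_⟩
        have h1 : α (algebraMap A B c) = a c := by rw [← hα]; rfl
        have h2 : β (algebraMap A B c) = a c := by rw [← hβ]; rfl
        rw [h1, h2, sub_self, mul_zero] }
  have hTG : (T : Set B) ⊆ G := by
    intro t ht
    refine ⟨1, ?_⟩
    rw [pow_one]
    have : s = (∏ t' ∈ T.erase t, (1 - r t')) * (1 - r t) := by
      simp only [s]
      rw [Finset.prod_erase_mul _ _ ht]
    rw [this, mul_assoc, hr t, mul_zero]
  have hG : G = ⊤ := by
    rw [eq_top_iff, ← hT]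
    exact Algebra.adjoin_le hTG
  intro x
  have : x ∈ G := by rw [hG]; trivial
  exact this


variable {A : Type u} [CommRing A]

lemma range_specQuot (I : Ideal A) (n : ℕ) :
    Set.range (CohB1.specQuot I n) = PrimeSpectrum.zeroLocus (I : Set A) := by
  change Set.range (PrimeSpectrum.comap (Ideal.Quotient.mk (I ^ (n + 1)))) = _
  rw [range_comap_of_surjective _ _ Ideal.Quotient.mk_surjective, Ideal.mk_ker]
  exact PrimeSpectrum.zeroLocus_pow I (Nat.succ_ne_zero n)

/-- The range of `thickι f I 0` is the preimage of `V(I)`. -/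
lemma range_thickι {X : Scheme.{u}} (f : X ⟶ Spec (CommRingCat.of A)) (I : Ideal A) (n : ℕ) :
    Set.range (CohB1.thickι f I n) = f ⁻¹' (PrimeSpectrum.zeroLocus (I : Set A)) := by
  have := Scheme.Pullback.range_fst f (CohB1.specQuot I n)
  rw [range_specQuot] at this
  exact this


/-- Local agreement near a point over `V(I)`. -/
theorem exists_open_eq [IsNoetherianRing A] (I : Ideal A) {X Y : Scheme.{u}}
    (f : X ⟶ Spec (CommRingCat.of A)) (h : Y ⟶ Spec (CommRingCat.of A))
    [LocallyOfFiniteType f] [LocallyOfFiniteType h] (φ ψ : X ⟶ Y)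
    (hφ : φ ≫ h = f) (hψ : ψ ≫ h = f)
    (e : ∀ n : ℕ, CohB1.thickι f I n ≫ φ = CohB1.thickι f I n ≫ ψ)
    (x : X) (hx : f x ∈ PrimeSpectrum.zeroLocus (I : Set A)) :
    ∃ U : X.Opens, x ∈ U ∧ U.ι ≫ φ = U.ι ≫ ψ := by
  -- x comes from the zeroth thickening
  have hx0 : x ∈ Set.range (CohB1.thickι f I 0) := by
    rw [range_thickι]; exact hx
  obtain ⟨x₀, rfl⟩ := hx0
  have hxy : φ (CohB1.thickι f I 0 x₀) = ψ (CohB1.thickι f I 0 x₀) := by
    have := congrArg (fun g => g x₀) (e 0)
    simpa using this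
  set x := CohB1.thickι f I 0 x₀ with hxdef
  -- affine open V of Y around φ x
  obtain ⟨_, ⟨V, hV : IsAffineOpen V, rfl⟩, hyV, -⟩ :=
    Y.isBasis_affineOpens.exists_subset_of_mem_open (a := φ x) (Set.mem_univ _) isOpen_univ
  -- affine open U of X around x inside both preimages
  have hxW : x ∈ (φ ⁻¹ᵁ V ⊓ ψ ⁻¹ᵁ V : X.Opens) := by
    refine ⟨hyV, ?_⟩
    change ψ x ∈ V
    rw [← hxy]; exact hyV
  obtain ⟨_, ⟨U, hU : IsAffineOpen U, rfl⟩, hxU, hUW⟩ :=
    X.isBasis_affineOpens.exists_subset_of_mem_open hxW (φ ⁻¹ᵁ V ⊓ ψ ⁻¹ᵁ V).2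
  have hUφ : U ≤ φ ⁻¹ᵁ V := fun z hz => (hUW hz).1
  have hUψ : U ≤ ψ ⁻¹ᵁ V := fun z hz => (hUW hz).2
  -- ring maps
  let α : Γ(Y, V) ⟶ Γ(X, U) := φ.appLE V U hUφ
  let β : Γ(Y, V) ⟶ Γ(X, U) := ψ.appLE V U hUψ
  have hαs : Spec.map α ≫ hV.fromSpec = hU.fromSpec ≫ φ := hV.SpecMap_appLE_fromSpec φ hU hUφ
  have hβs : Spec.map β ≫ hV.fromSpec = hU.fromSpec ≫ ψ := hV.SpecMap_appLE_fromSpec ψ hU hUψ
  obtain ⟨a, ha⟩ := Spec.map_surjective (hU.fromSpec ≫ f)
  obtain ⟨b, hb⟩ := Spec.map_surjective (hV.fromSpec ≫ h)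
  have hbα : b ≫ α = a := by
    apply Spec.map_injective
    rw [Spec.map_comp, hb, ← Category.assoc, hαs, Category.assoc, hφ, ha]
  have hbβ : b ≫ β = a := by
    apply Spec.map_injective
    rw [Spec.map_comp, hb, ← Category.assoc, hβs, Category.assoc, hψ, ha]
  have hbft : b.hom.FiniteType := by
    rw [← HasRingHomProperty.Spec_iff (P := @LocallyOfFiniteType), hb]
    infer_instance
  have : IsLocallyNoetherian X := LocallyOfFiniteType.isLocallyNoetherian f
  have : IsNoetherianRing Γ(X, U) := IsLocallyNoetherian.component_noetherian ⟨U, hU⟩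
  -- congruence modulo all powers of `J = I Γ(X, U)`
  have hJ : ∀ (n : ℕ) (y : Γ(Y, V)), α.hom y - β.hom y ∈ (I.map a.hom) ^ n := by
    intro n y
    cases n with
    | zero => simp
    | succ n =>
      let qC : Γ(X, U) →+* Γ(X, U) ⧸ (I ^ (n + 1)).map a.hom := Ideal.Quotient.mk _
      let abar : A ⧸ I ^ (n + 1) →+* Γ(X, U) ⧸ (I ^ (n + 1)).map a.hom :=
        Ideal.quotientMap _ a.hom Ideal.le_comap_map
      have hcomp : a ≫ CommRingCat.ofHom qC =
          CommRingCat.ofHom (Ideal.Quotient.mk (I ^ (n + 1))) ≫ CommRingCat.ofHom abar := by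
        ext z
        change qC (a.hom z) = abar (Ideal.Quotient.mk _ z)
        rw [Ideal.quotientMap_mk]
      let g : Spec (CommRingCat.of (Γ(X, U) ⧸ (I ^ (n + 1)).map a.hom)) ⟶ CohB1.thick f I n :=
        pullback.lift (Spec.map (CommRingCat.ofHom qC) ≫ hU.fromSpec)
          (Spec.map (CommRingCat.ofHom abar)) (by
            rw [Category.assoc, ← ha, ← Spec.map_comp, hcomp, Spec.map_comp]
            rfl)
      have hg : g ≫ CohB1.thickι f I n = Spec.map (CommRingCat.ofHom qC) ≫ hU.fromSpec :=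
        pullback.lift_fst _ _ _
      have h1 := congrArg (fun t => g ≫ t) (e n)
      simp only [← Category.assoc, hg] at h1
      simp only [Category.assoc, ← hαs, ← hβs] at h1
      simp only [← Category.assoc] at h1
      rw [cancel_mono] at h1
      rw [← Spec.map_comp, ← Spec.map_comp] at h1
      have h2 := Spec.map_injective h1
      have h3 : qC (α.hom y) = qC (β.hom y) := by
        have := congrArg (fun t => t.hom y) h2
        exact this
      rw [← Ideal.map_pow]
      rw [← Ideal.Quotient.eq_zero_iff_mem, map_sub, h3, sub_self]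
  obtain ⟨s, hs1, hs⟩ := exists_mul_pow_eq_zero a.hom b.hom hbft α.hom β.hom
    (by rw [← hbα]; rfl) (by rw [← hbβ]; rfl) (I.map a.hom) hJ
  let D : X.Opens := X.basicOpen s
  have hD : IsAffineOpen D := hU.basicOpen s
  let ρ : Γ(X, U) ⟶ Γ(X, D) := X.presheaf.map (homOfLE (X.basicOpen_le s)).op
  have hρ : Spec.map ρ ≫ hU.fromSpec = hD.fromSpec := hU.map_fromSpec hD _
  have hunit : IsUnit (ρ.hom s) := X.toRingedSpace.isUnit_res_basicOpen s
  have hαβ : α ≫ ρ = β ≫ ρ := by
    ext y
    obtain ⟨k, hk⟩ := hs y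
    have h0 : ρ.hom (s ^ k * (α.hom y - β.hom y)) = 0 := by rw [hk, map_zero]
    rw [map_mul, map_pow] at h0
    have h1 := (hunit.pow k).mul_right_eq_zero.mp h0
    rw [map_sub, sub_eq_zero] at h1
    exact h1
  refine ⟨D, ?_, ?_⟩
  · -- `x ∈ D`
    have hxr : x ∈ Set.range hU.fromSpec := by rw [hU.range_fromSpec]; exact hxU
    obtain ⟨z, hz⟩ := hxr
    have hzD : z ∈ hU.fromSpec ⁻¹ᵁ X.basicOpen s := by
      rw [hU.fromSpec_preimage_basicOpen]
      change s ∉ z.asIdeal
      intro hsz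
      have hJz : I.map a.hom ≤ z.asIdeal := by
        rw [Ideal.map_le_iff_le_comap]
        have h1 : (Spec.map a) z = f x := by
          rw [ha, ← hz]; rfl
        have h2 := (PrimeSpectrum.mem_zeroLocus _ _).mp hx
        rw [← h1] at h2
        exact h2
      have : (1 : Γ(X, U)) ∈ z.asIdeal := by
        have h3 := z.asIdeal.sub_mem hsz (hJz hs1)
        simpa using h3
      exact z.isPrime.ne_top ((Ideal.eq_top_iff_one _).mpr this)
    have : hU.fromSpec z ∈ X.basicOpen s := hzD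
    rw [hz] at this
    exact this
  · have h1 : hD.fromSpec ≫ φ = hD.fromSpec ≫ ψ := by
      rw [← hρ, Category.assoc, Category.assoc, ← hαs, ← hβs, ← Spec.map_comp_assoc,
        ← Spec.map_comp_assoc, hαβ]
    have h2 : hD.fromSpec = hD.isoSpec.inv ≫ D.ι := rfl
    rw [h2, Category.assoc, Category.assoc] at h1
    exact (cancel_epi _).mp h1


theorem main (A : Type u) [CommRing A] [IsNoetherianRing A]
    (I : Ideal A) [IsAdicComplete I A] {X Y : Scheme.{u}} (f : X ⟶ Spec (CommRingCat.of A))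
    (h : Y ⟶ Spec (CommRingCat.of A)) [IsProper f] [LocallyOfFiniteType h] (φ ψ : X ⟶ Y)
    (hφ : φ ≫ h = f) (hψ : ψ ≫ h = f)
    (e : ∀ n : ℕ, CohB1.thickι f I n ≫ φ = CohB1.thickι f I n ≫ ψ) : φ = ψ := by
  apply Scheme.hom_ext_of_forall
  let W : Set X := {x | ∃ U : X.Opens, x ∈ U ∧ U.ι ≫ φ = U.ι ≫ ψ}
  have hWopen : IsOpen W := by
    rw [isOpen_iff_forall_mem_open]
    rintro x ⟨U, hxU, hU⟩
    exact ⟨U, fun y hy => ⟨U, hy, hU⟩, U.2, hxU⟩
  have hfib : f ⁻¹' (PrimeSpectrum.zeroLocus (I : Set A)) ⊆ W := fun x hx =>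
    exists_open_eq I f h φ ψ hφ hψ e x hx
  by_contra hcon
  push Not at hcon
  obtain ⟨x, hx⟩ := hcon
  have hxW : x ∈ Wᶜ := fun ⟨U, hxU, hU⟩ => hx U hxU hU
  have hcl : IsClosed (f '' Wᶜ) := f.isClosedMap _ hWopen.isClosed_compl
  obtain ⟨J, hJ⟩ := (PrimeSpectrum.isClosed_iff_zeroLocus_ideal _).mp hcl
  have hJne : J ≠ ⊤ := by
    rintro rfl
    have : f x ∈ f '' Wᶜ := ⟨x, hxW, rfl⟩
    rw [hJ] at this
    simp only [Submodule.top_coe, PrimeSpectrum.zeroLocus_univ] at this
    exact this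
  obtain ⟨m, hm, hJm⟩ := Ideal.exists_le_maximal J hJne
  have hmem : (⟨m, hm.isPrime⟩ : PrimeSpectrum A) ∈ f '' Wᶜ := by
    rw [hJ]
    exact hJm
  obtain ⟨z, hzW, hz⟩ := hmem
  apply hzW
  apply hfib
  change f z ∈ PrimeSpectrum.zeroLocus (I : Set A)
  rw [hz]
  intro i hi
  have h1 : I ≤ (⊥ : Ideal A).jacobson := IsAdicComplete.le_jacobson_bot I
  have h2 : (⊥ : Ideal A).jacobson ≤ m := sInf_le ⟨bot_le, hm⟩
  exact h2 (h1 hi)


end Groth.Agent.Lib.Helper69.ThickEq
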