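import Mathlib
import Groth.Agent.Lib.Helper69.LinEmb
import Groth.Agent.Lib.Helper69.PnChart
import Groth.Agent.Lib.Helper67.ZetaAffine
import Groth.Agent.Lib.Helper17.ProjSpaceProper
import Groth.Agent.S13052
import Groth.Agent.S13055

/-!
# The zeta function of projective space (helper69)
-/

set_option autoImplicit false
set_option linter.style.haveILetI false
universe u
open AlgebraicGeometry CategoryTheory Limits TopologicalSpace Opposite

namespace Groth.Agent.Lib.Helper69.ZetaPn

section range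
variable {A B σ τ : Type*} [CommRing A] [SetLike σ A] [AddSubgroupClass σ A]
  [CommRing B] [SetLike τ B] [AddSubgroupClass τ B]
  {𝒜 : ℕ → σ} {ℬ : ℕ → τ} [GradedRing 𝒜] [GradedRing ℬ]
  (f : 𝒜 →+*ᵍ ℬ) (hf : HomogeneousIdeal.irrelevant ℬ ≤ (HomogeneousIdeal.irrelevant 𝒜).map f)

theorem mem_range_projMap_of_surjective (hsurj : Function.Surjective f)
    (y : ProjectiveSpectrum 𝒜)
    (hy : RingHom.ker f ≤ y.asHomogeneousIdeal.toIdeal) :
    y ∈ Set.range (ProjectiveSpectrum.comap f hf) := by
  have hcm : (y.asHomogeneousIdeal.toIdeal.map f).comap f =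
      y.asHomogeneousIdeal.toIdeal := by
    rw [Ideal.comap_map_of_surjective' f hsurj]
    exact sup_eq_left.mpr hy
  have := y.isPrime
  have hprime : (y.asHomogeneousIdeal.toIdeal.map f).IsPrime :=
    Ideal.map_isPrime_of_surjective hsurj hy
  refine ⟨⟨y.asHomogeneousIdeal.map f, ?_, ?_⟩, ?_⟩
  · rw [HomogeneousIdeal.toIdeal_map]; exact hprime
  · intro hle
    apply y.not_irrelevant_le
    intro a ha
    have h1 : f a ∈ (HomogeneousIdeal.irrelevant ℬ) := by
      rw [HomogeneousIdeal.mem_irrelevant_iff, GradedRing.proj_apply] at ha ⊢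
      rw [← f.map_directSumDecompose, ha, map_zero]
    have h2 : f a ∈ (y.asHomogeneousIdeal.map f) := hle h1
    change f a ∈ (y.asHomogeneousIdeal.map f).toIdeal at h2
    rw [HomogeneousIdeal.toIdeal_map] at h2
    have h3 : a ∈ (y.asHomogeneousIdeal.toIdeal.map f).comap f := h2
    rw [hcm] at h3
    exact h3
  · apply ProjectiveSpectrum.ext
    apply HomogeneousIdeal.toIdeal_injective
    change ((y.asHomogeneousIdeal.map f).comap f).toIdeal = _
    rw [HomogeneousIdeal.toIdeal_comap, HomogeneousIdeal.toIdeal_map]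
    exact hcm

end range

section succ
open Groth.Agent.Lib.Helper69.LinEmb
variable (k : Type u) [CommRing k] (n : ℕ)

theorem sub_rename_coordHom_mem (J : Ideal (MvPolynomial (Fin (n + 2)) k))
    (h0 : (MvPolynomial.X 0 : MvPolynomial (Fin (n + 2)) k) ∈ J)
    (p : MvPolynomial (Fin (n + 2)) k) :
    p - MvPolynomial.rename (Fin.succ : Fin (n + 1) → Fin (n + 2))
      (coordHom k (Fin.succ : Fin (n + 1) → Fin (n + 2)) p) ∈ J := by
  induction p using MvPolynomial.induction_on with
  | C r =>
    rw [coordHom_C, MvPolynomial.rename_C, sub_self]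
    exact J.zero_mem
  | add p q hp hq =>
    rw [map_add, map_add]
    have : p + q - (MvPolynomial.rename Fin.succ (coordHom k Fin.succ p) +
        MvPolynomial.rename Fin.succ (coordHom k Fin.succ q)) =
      (p - MvPolynomial.rename Fin.succ (coordHom k Fin.succ p)) +
      (q - MvPolynomial.rename Fin.succ (coordHom k Fin.succ q)) := by ring
    rw [this]
    exact J.add_mem hp hq
  | mul_X p j hp =>
    rw [map_mul, map_mul]
    have hX : (MvPolynomial.X j : MvPolynomial (Fin (n + 2)) k) -
        MvPolynomial.rename Fin.succ (coordHom k Fin.succ (MvPolynomial.X j)) ∈ J := by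
      rw [coordHom_X]
      refine Fin.cases ?_ (fun i => ?_) j
      · rw [coordFun_of_not_mem k _ 0 (fun ⟨i, hi⟩ => Fin.succ_ne_zero i hi), map_zero, sub_zero]
        exact h0
      · rw [coordFun_apply k _ (Fin.succ_injective _), MvPolynomial.rename_X, sub_self]
        exact J.zero_mem
    have : p * MvPolynomial.X j - MvPolynomial.rename Fin.succ (coordHom k Fin.succ p) *
        MvPolynomial.rename Fin.succ (coordHom k Fin.succ (MvPolynomial.X j)) =
      (p - MvPolynomial.rename Fin.succ (coordHom k Fin.succ p)) * MvPolynomial.X j +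
      MvPolynomial.rename Fin.succ (coordHom k Fin.succ p) *
        (MvPolynomial.X j - MvPolynomial.rename Fin.succ (coordHom k Fin.succ (MvPolynomial.X j))) := by
      ring
    rw [this]
    exact J.add_mem (J.mul_mem_right _ hp) (J.mul_mem_left _ hX)

theorem range_linEmb_succ :
    Set.range (linEmb k (Fin.succ : Fin (n + 1) → Fin (n + 2)) (Fin.succ_injective _)).base =
      ((Proj.basicOpen (CohB1.polyGrading (n + 1) k) (MvPolynomial.X 0) :
        (Proj (CohB1.polyGrading (n + 1) k)).Opens) : Set (Proj (CohB1.polyGrading (n + 1) k)))ᶜ := by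
  apply Set.Subset.antisymm
  · rintro _ ⟨x, rfl⟩ hx
    have hbot := linEmb_preimage_basicOpen k (Fin.succ : Fin (n + 1) → Fin (n + 2))
      (Fin.succ_injective _) 0 (fun ⟨i, hi⟩ => Fin.succ_ne_zero i hi)
    have : x ∈ linEmb k (Fin.succ : Fin (n + 1) → Fin (n + 2)) (Fin.succ_injective _) ⁻¹ᵁ
        Proj.basicOpen (CohB1.polyGrading (n + 1) k) (MvPolynomial.X 0) := hx
    rw [hbot] at this
    exact this
  · intro y hy
    have hy0 : (MvPolynomial.X 0 : MvPolynomial (Fin (n + 2)) k) ∈
        (y : ProjectiveSpectrum (CohB1.polyGrading (n + 1) k)).asHomogeneousIdeal.toIdeal := by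
      by_contra hcon
      exact hy hcon
    exact mem_range_projMap_of_surjective (coordHom k Fin.succ)
      (irrelevant_le k Fin.succ (Fin.succ_injective _))
      (coordHom_surjective k Fin.succ (Fin.succ_injective _)) y (by
        intro p hp
        have hp0 : coordHom k (Fin.succ : Fin (n + 1) → Fin (n + 2)) p = 0 := hp
        have := sub_rename_coordHom_mem k n _ hy0 p
        rwa [hp0, map_zero, sub_zero] at this)

end succ

section affine
variable {k : Type u} [Field k] {X : Scheme.{u}} (f : X ⟶ Spec (CommRingCat.of k))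

/-- `k'`-points of an affine `k`-scheme `Spec A` are `k`-algebra maps `A → k'`. -/
noncomputable def pointsEquiv (A : Type u) [CommRing A] [Algebra k A]
    (e : X ≅ Spec (CommRingCat.of A))
    (he : e.hom ≫ Spec.map (CommRingCat.ofHom (algebraMap k A)) = f)
    (k' : Type u) [Field k'] [Algebra k k'] :
    { g : Spec (CommRingCat.of k') ⟶ X //
      g ≫ f = Spec.map (CommRingCat.ofHom (algebraMap k k')) } ≃ (A →ₐ[k] k') where
  toFun g :=
    { toRingHom := (Spec.preimage (g.1 ≫ e.hom)).hom
      commutes' := fun r => by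
        have h1 : Spec.map (CommRingCat.ofHom (algebraMap k A) ≫ Spec.preimage (g.1 ≫ e.hom)) =
            Spec.map (CommRingCat.ofHom (algebraMap k k')) := by
          rw [Spec.map_comp, Spec.map_preimage, Category.assoc, he]
          exact g.2
        have h2 := Spec.map_injective h1
        exact congrArg (fun φ => φ.hom r) h2 }
  invFun φ := ⟨Spec.map (CommRingCat.ofHom φ.toRingHom) ≫ e.inv, by
    rw [← he, Category.assoc, Iso.inv_hom_id_assoc, ← Spec.map_comp]
    congr 1
    ext r
    exact φ.commutes r⟩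
  left_inv g := by
    apply Subtype.ext
    change Spec.map (CommRingCat.ofHom (Spec.preimage (g.1 ≫ e.hom)).hom) ≫ e.inv = g.1
    rw [CommRingCat.ofHom_hom, Spec.map_preimage, Category.assoc, Iso.hom_inv_id, Category.comp_id]
  right_inv φ := by
    apply AlgHom.ext
    intro a
    change (Spec.preimage ((Spec.map (CommRingCat.ofHom φ.toRingHom) ≫ e.inv) ≫ e.hom)).hom a = φ a
    rw [Category.assoc, Iso.inv_hom_id, Category.comp_id, Spec.preimage_map]
    rfl

theorem pointCount_of_iso_spec (A : Type u) [CommRing A] [Algebra k A]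
    (e : X ≅ Spec (CommRingCat.of A))
    (he : e.hom ≫ Spec.map (CommRingCat.ofHom (algebraMap k A)) = f)
    (k' : Type u) [Field k'] [Algebra k k'] :
    SgaExt.pointCount f k' = Nat.card (A →ₐ[k] k') :=
  Nat.card_congr (pointsEquiv f A e he k')

/-- algebra maps out of a polynomial ring. -/
noncomputable def mvAlgHomEquiv (σ : Type*) (K : Type*) [CommRing K] [Algebra k K] :
    (MvPolynomial σ k →ₐ[k] K) ≃ (σ → K) where
  toFun φ i := φ (MvPolynomial.X i)
  invFun v := MvPolynomial.aeval v
  left_inv φ := by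
    apply MvPolynomial.algHom_ext
    intro i
    exact MvPolynomial.aeval_X _ i
  right_inv v := by
    funext i
    exact MvPolynomial.aeval_X v i

end affine

section chart
open Groth.Agent.Lib.Helper96.ProjSpaceGlobal Groth.Agent.Lib.Helper69.PnChart
variable (k : Type u) [Field k] (n : ℕ)

/-- the standard open `D₊(X₀)` of `P^n`. -/
noncomputable abbrev U0 : (Proj (CohB1.polyGrading n k)).Opens :=
  Proj.basicOpen (CohB1.polyGrading n k) (MvPolynomial.X 0)

/-- `D₊(X₀) ≅ 𝔸ⁿ`. -/
noncomputable def chartIso0 : (U0 k n : Scheme.{u}) ≅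
    Spec (CommRingCat.of (MvPolynomial {j : Fin (n + 1) // j ≠ 0} k)) where
  hom := (Proj.basicOpenIsoSpec (CohB1.polyGrading n k) (MvPolynomial.X 0) (X_mem 0) one_pos).hom ≫
    Spec.map (CommRingCat.ofHom (chartEquiv (R := k) (0 : Fin (n + 1))).symm.toRingHom)
  inv := Spec.map (CommRingCat.ofHom (chartEquiv (R := k) (0 : Fin (n + 1))).toRingHom) ≫
    (Proj.basicOpenIsoSpec (CohB1.polyGrading n k) (MvPolynomial.X 0) (X_mem 0) one_pos).inv
  hom_inv_id := by
    rw [Category.assoc, ← Category.assoc (Spec.map _), ← Spec.map_comp, ← CommRingCat.ofHom_comp]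
    have : (chartEquiv (R := k) (0 : Fin (n + 1))).symm.toRingHom.comp
        (chartEquiv (R := k) (0 : Fin (n + 1))).toRingHom = RingHom.id _ := by
      ext x; simp
    rw [this]
    simp
  inv_hom_id := by
    rw [Category.assoc, Iso.inv_hom_id_assoc, ← Spec.map_comp, ← CommRingCat.ofHom_comp]
    have : (chartEquiv (R := k) (0 : Fin (n + 1))).toRingHom.comp
        (chartEquiv (R := k) (0 : Fin (n + 1))).symm.toRingHom = RingHom.id _ := by
      ext x <;> simp
    rw [this]
    simp

theorem chartIso0_hom_comp :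
    (chartIso0 k n).hom ≫ Spec.map (CommRingCat.ofHom
      (algebraMap k (MvPolynomial {j : Fin (n + 1) // j ≠ 0} k))) =
    (U0 k n).ι ≫ toSpec' n k := by
  have h1 : (chartEquiv (R := k) (0 : Fin (n + 1))).symm.toRingHom.comp
      (algebraMap k (MvPolynomial {j : Fin (n + 1) // j ≠ 0} k)) = toAway 0 := by
    rw [MvPolynomial.algebraMap_eq, ← chartEquiv_comp_toAway (R := k) (0 : Fin (n + 1)),
      ← RingHom.comp_assoc]
    have : (chartEquiv (R := k) (0 : Fin (n + 1))).symm.toRingHom.comp
        (chartEquiv (R := k) (0 : Fin (n + 1))).toRingHom = RingHom.id _ := by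
      ext x; simp
    rw [this, RingHom.id_comp]
  have h2 := awayι_toSpec' (n := n) (R := k) 0
  change (_ ≫ _) ≫ _ = _
  rw [Category.assoc, ← Spec.map_comp, ← CommRingCat.ofHom_comp, h1, ← h2,
    ← Proj.basicOpenIsoSpec_inv_ι, Category.assoc, Iso.hom_inv_id_assoc]

instance locallyOfFiniteType_chart :
    LocallyOfFiniteType ((U0 k n).ι ≫ toSpec' n k) := by
  haveI : IsProper (toSpec' n k) := Groth.Agent.Lib.Helper17.ProjSpaceProper.isProper_toSpec n k
  infer_instance

instance quasiCompact_chart : QuasiCompact ((U0 k n).ι ≫ toSpec' n k) := by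
  rw [← chartIso0_hom_comp]
  infer_instance

theorem pointCount_chart (k' : Type u) [Field k'] [Algebra k k'] :
    SgaExt.pointCount ((U0 k n).ι ≫ toSpec' n k) k' = Nat.card k' ^ n := by
  rw [pointCount_of_iso_spec _ _ (chartIso0 k n) (chartIso0_hom_comp k n) k',
    Nat.card_congr (mvAlgHomEquiv (k := k) {j : Fin (n + 1) // j ≠ 0} k'), Nat.card_fun]
  congr 1
  rw [Nat.card_eq_fintype_card, Fintype.card_subtype_compl, Fintype.card_fin]
  simp

theorem nPts_chart [Finite k] (m : ℕ) (hm : 1 ≤ m) :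
    Zeta.nPts ((U0 k n).ι ≫ toSpec' n k) m = (Nat.card k ^ m) ^ n := by
  obtain ⟨k', _, _, _, hk'⟩ := Groth.Agent.Lib.Helper67.exists_extension_finrank_eq k m hm
  have h1 := Groth.Agent.Lib.Helper67.pointCount_eq_nPts ((U0 k n).ι ≫ toSpec' n k) k'
  rw [hk'] at h1
  rw [← h1, pointCount_chart, Module.natCard_eq_pow_finrank (K := k) (V := k'), hk']

end chart

section zeta
open Groth.Agent.Lib.Helper96.ProjSpaceGlobal Groth.Agent.Lib.Helper69.LinEmb
variable (k : Type u) [Field k] [Finite k] (n : ℕ)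

theorem zetaFun_chart :
    Zeta.zetaFun ((U0 k n).ι ≫ toSpec' n k) *
      (1 - PowerSeries.C ((Nat.card k : ℚ) ^ n) * PowerSeries.X) = 1 := by
  have hP : ∀ m : ℕ, 1 ≤ m → (Zeta.nPts ((U0 k n).ι ≫ toSpec' n k) m : ℤ) =
      ((Polynomial.X : Polynomial ℤ) ^ n).eval ((Nat.card k : ℤ) ^ m) := by
    intro m hm
    rw [nPts_chart k n m hm, Polynomial.eval_pow, Polynomial.eval_X]
    push_cast
    rfl
  have h := Groth.Agent.S13055.result ((U0 k n).ι ≫ toSpec' n k) ((Polynomial.X : Polynomial ℤ) ^ n) hP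
  rw [Polynomial.natDegree_X_pow] at h
  have hL : ∏ i ∈ Finset.range (n + 1),
      (1 - PowerSeries.C ((Nat.card k : ℚ) ^ i) * PowerSeries.X) ^
        (((Polynomial.X : Polynomial ℤ) ^ n).coeff i).toNat =
      (1 - PowerSeries.C ((Nat.card k : ℚ) ^ n) * PowerSeries.X) := by
    rw [Finset.prod_range_succ, Finset.prod_eq_one]
    · rw [Polynomial.coeff_X_pow_self]; simp
    · intro i hi
      rw [Polynomial.coeff_X_pow, if_neg (Finset.mem_range.mp hi).ne]
      simp
  have hR : ∏ i ∈ Finset.range (n + 1),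
      (1 - PowerSeries.C ((Nat.card k : ℚ) ^ i) * PowerSeries.X) ^
        (-((Polynomial.X : Polynomial ℤ) ^ n).coeff i).toNat = 1 := by
    apply Finset.prod_eq_one
    intro i _
    rw [Polynomial.coeff_X_pow]
    split_ifs <;> simp
  rw [hL, hR] at h
  exact h

omit [Finite k] in
theorem isProper_toSpec' : IsProper (toSpec' n k) :=
  Groth.Agent.Lib.Helper17.ProjSpaceProper.isProper_toSpec n k

theorem zetaFun_projSpace_zero :
    Zeta.zetaFun (toSpec' 0 k) = Zeta.zetaFun ((U0 k 0).ι ≫ toSpec' 0 k) := by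
  haveI := isProper_toSpec' k 0
  have h := Groth.Agent.Lib.Helper67.zetaFun_eq_prod (toSpec' 0 k) (ι := PUnit.{u + 1})
    (fun _ => ((U0 k 0 : (Proj (CohB1.polyGrading 0 k)).Opens) : Scheme.{u}))
    (fun _ => (U0 k 0).ι) (by
      intro x _
      refine ⟨PUnit.unit, ?_, fun _ _ => rfl⟩
      obtain ⟨j, hj⟩ := exists_mem_basicOpen k x
      have hj0 : j = 0 := Fin.ext (by have := j.2; omega)
      subst hj0
      change x ∈ Set.range (U0 k 0).ι.base
      rw [Scheme.Opens.range_ι]
      exact hj)
  rw [h]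
  simp

theorem zetaFun_projSpace_succ :
    Zeta.zetaFun (toSpec' (n + 1) k) =
      Zeta.zetaFun (toSpec' n k) * Zeta.zetaFun ((U0 k (n + 1)).ι ≫ toSpec' (n + 1) k) := by
  haveI := isProper_toSpec' k (n + 1)
  have h := Groth.Agent.S13052.result (toSpec' (n + 1) k) (U0 k (n + 1))
    (linEmb k (Fin.succ : Fin (n + 1) → Fin (n + 2)) (Fin.succ_injective _))
    (range_linEmb_succ k n)
  rw [linEmb_toSpec'] at h
  exact h

theorem zetaFun_projSpace_mul :
    Zeta.zetaFun (toSpec' n k) *
      ∏ i ∈ Finset.range (n + 1),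
        (1 - PowerSeries.C ((Nat.card k : ℚ) ^ i) * PowerSeries.X) = 1 := by
  induction n with
  | zero =>
    rw [zetaFun_projSpace_zero, Finset.prod_range_one]
    exact zetaFun_chart k 0
  | succ n ih =>
    rw [zetaFun_projSpace_succ, Finset.prod_range_succ]
    calc Zeta.zetaFun (toSpec' n k) * Zeta.zetaFun ((U0 k (n + 1)).ι ≫ toSpec' (n + 1) k) *
          ((∏ i ∈ Finset.range (n + 1),
            (1 - PowerSeries.C ((Nat.card k : ℚ) ^ i) * PowerSeries.X)) *
            (1 - PowerSeries.C ((Nat.card k : ℚ) ^ (n + 1)) * PowerSeries.X))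
        = (Zeta.zetaFun (toSpec' n k) * ∏ i ∈ Finset.range (n + 1),
            (1 - PowerSeries.C ((Nat.card k : ℚ) ^ i) * PowerSeries.X)) *
          (Zeta.zetaFun ((U0 k (n + 1)).ι ≫ toSpec' (n + 1) k) *
            (1 - PowerSeries.C ((Nat.card k : ℚ) ^ (n + 1)) * PowerSeries.X)) := by ring
      _ = 1 := by rw [ih, zetaFun_chart k (n + 1), one_mul]

end zeta

end Groth.Agent.Lib.Helper69.ZetaPn
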